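import Cfsg.Agent.Lib.Golay.LeechU11

/-!
Simplicity of the two-vector stabilisers.
-/

set_option autoImplicit false
set_option linter.style.haveILetI false

namespace Cfsg.Agent.Lib.Golay

open scoped Pointwise
open Cfsg Finset

theorem inf_equiv {v w v' w' : leechLattice} {g : Co0} (h1 : g • v = v') (h2 : g • w = w') :
    Nonempty ((MulAction.stabilizer Co0 v ⊓ MulAction.stabilizer Co0 w : Subgroup Co0) ≃*
      (MulAction.stabilizer Co0 v' ⊓ MulAction.stabilizer Co0 w' : Subgroup Co0)) := by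
  have e : (MulAction.stabilizer Co0 v ⊓ MulAction.stabilizer Co0 w : Subgroup Co0).map (MulAut.conj g).toMonoidHom =
      MulAction.stabilizer Co0 v' ⊓ MulAction.stabilizer Co0 w' := by
    ext x
    rw [Subgroup.mem_map]
    constructor
    · rintro ⟨y, ⟨hy1, hy2⟩, rfl⟩
      have hy1' : y • v = v := hy1
      have hy2' : y • w = w := hy2
      constructor
      · show (g * y * g⁻¹) • v' = v'
        rw [mul_smul, mul_smul, ← h1, inv_smul_smul, hy1']
      · show (g * y * g⁻¹) • w' = w'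
        rw [mul_smul, mul_smul, ← h2, inv_smul_smul, hy2']
    · rintro ⟨hx1, hx2⟩
      have hx1' : x • v' = v' := hx1
      have hx2' : x • w' = w' := hx2
      refine ⟨g⁻¹ * x * g, ⟨?_, ?_⟩, ?_⟩
      · show (g⁻¹ * x * g) • v = v
        rw [mul_smul, mul_smul, h1, hx1', ← h1, inv_smul_smul]
      · show (g⁻¹ * x * g) • w = w
        rw [mul_smul, mul_smul, h2, hx2', ← h2, inv_smul_smul]
      · show g * (g⁻¹ * x * g) * g⁻¹ = x
        group
  rw [← e]
  exact ⟨Subgroup.equivMapOfInjective _ _ (MulAut.conj g).injective⟩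

theorem fact11 : Fact (Nat.Prime 11) := ⟨by norm_num⟩

/-- elements of order 11 -/
theorem exists_C11 {H : Subgroup Co0} (hu : uEl ∈ H) (hc : ∀ g ∈ H, g * uEl = uEl * g → ∃ j : ℕ, g = uEl ^ j) :
    ∃ t : H, orderOf t = 11 ∧ ∀ g, g * t = t * g → g ∈ Subgroup.zpowers t := by
  haveI := fact11
  refine ⟨⟨uEl, hu⟩, ?_, ?_⟩
  · apply orderOf_eq_prime
    · exact Subtype.ext (uEl_pow.2 (dvd_refl _))
    · intro h
      have h1 : uEl = 1 := congrArg Subtype.val h
      have := uEl_pow.1 (show uEl ^ 1 = 1 by rw [pow_one]; exact h1)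
      omega
  · rintro ⟨g, hg⟩ h
    obtain ⟨j, hj⟩ := hc g hg (congrArg Subtype.val h)
    rw [Subgroup.mem_zpowers_iff]
    refine ⟨j, ?_⟩
    apply Subtype.ext
    rw [zpow_natCast]
    exact hj.symm

theorem uEl_v0 : app uEl v0 = v0 := by rw [uEl_app v0_mem, v0_fixU]
theorem uEl_x0 : app uEl x0 = x0 := by rw [uEl_app x0_mem, x0_fixU]
theorem sU_pa : sU pa = pa := by apply ix_inj; unfold sU; rw [ix_pm cU_ok]; decide +kernel
theorem sU_pb : sU pb = pb := by apply ix_inj; unfold sU; rw [ix_pm cU_ok]; decide +kernel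

/-- the standard pair for the group of order 44352000 -/
theorem isSimple_hs_std : IsSimpleGroup (MulAction.stabilizer Co0 (⟨r5 pb, r5_mem pb⟩ : leechLattice) ⊓
    MulAction.stabilizer Co0 (⟨v0, v0_mem⟩ : leechLattice) : Subgroup Co0) := by
  haveI := fact11
  haveI := finCo0
  have hc := card_hs ⟨r5 pb, r5_mem pb⟩ ⟨v0, v0_mem⟩ (norm_r5 pb) norm_v0 (by decide +kernel)
  obtain ⟨t, ht, hC⟩ := exists_C11 (H := MulAction.stabilizer Co0 (⟨r5 pb, r5_mem pb⟩ : leechLattice) ⊓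
    MulAction.stabilizer Co0 (⟨v0, v0_mem⟩ : leechLattice))
    ⟨smul_eq_iff_app.2 (by show app uEl (r5 pb) = r5 pb; rw [uEl_app (r5_mem pb), prm_r5, sU_pb]), smul_eq_iff_app.2 uEl_v0⟩
    (by
      rintro g ⟨h1, h2⟩ h
      have h1' : app g (r5 pb) = r5 pb := smul_eq_iff_app.1 h1
      have h2' : app g v0 = v0 := smul_eq_iff_app.1 h2
      exact comm_uEl h h2' (hs_fix h h1' h2') (r5_mem pb) h1' (by decide +kernel) (by
        intro σ _ hb; rw [prm_r5, hb]))
  refine FpfCrit.isSimple (p := 11) ht hC (by rw [hc]; norm_num) (by rw [hc]; norm_num) (by rw [hc]; norm_num) ?_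
  intro N hN hp
  by_contra hne
  have h1 : Nat.card N ≠ 1 := fun h => hne (Subgroup.card_eq_one.1 h)
  obtain ⟨q, hq, hqN⟩ := Nat.exists_prime_and_dvd h1
  obtain ⟨m, hm, hm1, hm2⟩ := FpfCrit.prime_pow ht hC hN hp hq hqN
  rw [hc] at hm1
  obtain ⟨rfl, rfl⟩ := num11 hq hm (hm1.trans (by norm_num)) hm2
  revert hm1; norm_num

/-- the 275 vectors -/
def X275 : SubMulAction (MulAction.stabilizer Co0 (⟨x0, x0_mem⟩ : leechLattice) ⊓
    MulAction.stabilizer Co0 (⟨r5 pb, r5_mem pb⟩ : leechLattice) : Subgroup Co0) leechLattice where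
  carrier := {y | sqNorm (y : Vec) = 32 ∧ dotInt x0 y = 16 ∧ dotInt (r5 pb) y = 24}
  smul_mem' := by
    rintro ⟨g, hg1, hg2⟩ y ⟨h1, h2, h3⟩
    have e : ((((⟨g, hg1, hg2⟩ : (MulAction.stabilizer Co0 (⟨x0, x0_mem⟩ : leechLattice) ⊓
      MulAction.stabilizer Co0 (⟨r5 pb, r5_mem pb⟩ : leechLattice) : Subgroup Co0)) • y : leechLattice)) : Vec) = app g y :=
      (app_coe g y).symm
    have g1 : app g x0 = x0 := smul_eq_iff_app.1 hg1
    have g2 : app g (r5 pb) = r5 pb := smul_eq_iff_app.1 hg2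
    refine ⟨?_, ?_, ?_⟩
    · rw [e, app_norm g y.2, h1]
    · rw [e]
      have := app_dot g x0_mem y.2
      rw [g1, h2] at this; exact this
    · rw [e]
      have := app_dot g (r5_mem pb) y.2
      rw [g2, h3] at this; exact this

theorem card_X275 : Nat.card X275 = 275 := by
  show {y : leechLattice | sqNorm (y : Vec) = 32 ∧ dotInt x0 y = 16 ∧ dotInt (r5 pb) y = 24}.ncard = 275
  rw [ncard_sub _ (fun y => sqNorm y = 32 ∧ dotInt x0 y = 16 ∧ dotInt (r5 pb) y = 24) (fun x => Iff.rfl), c_275]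

/-- an element fixing the 275 vectors is trivial -/
theorem eq_one_of_275 {g : Co0} (h1 : app g x0 = x0) (h2 : app g (r5 pb) = r5 pb)
    (h : ∀ y ∈ leechLattice, sqNorm y = 32 → dotInt x0 y = 16 → dotInt (r5 pb) y = 24 → app g y = y) : g = 1 := by
  have ha : ∀ j, j ≠ pb → app g (sg pb 4 + sg j 4) = sg pb 4 + sg j 4 := by
    intro j hj
    by_cases hja : j = pa
    · rw [hja]
      have : sg pb 4 + sg pa 4 = x0 := by unfold x0; exact add_comm _ _
      rw [this]; exact h1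
    · apply h _ (sg_add_mem (Ne.symm hj) (Or.inl rfl) (Or.inl rfl)) (sqNorm_sg_add (Ne.symm hj) (Or.inl rfl) (Or.inl rfl))
      · rw [dot_x0]; unfold sg; simp only [Pi.add_apply]
        rw [if_neg pa_ne_pb, if_neg (Ne.symm hja), if_neg (Ne.symm hj)]; norm_num
      · rw [dotInt_comm, dotInt_add_left, dot_sg, dot_sg, r5_self, r5_ne hj]; norm_num
  have hm : ∀ j, j ≠ pb → sg pb 4 + sg j 4 ∈ leechLattice := fun j hj => sg_add_mem (Ne.symm hj) (Or.inl rfl) (Or.inl rfl)
  have hb : app g (sg pb 8) = sg pb 8 := by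
    have e1 : (9 : ℤ) • sg pb 8 = ∑ j ∈ univ.erase pb, (sg pb 4 + sg j 4) - (4 : ℤ) • r5 pb := by decide +kernel
    have e2 : app g ((9 : ℤ) • sg pb 8) = (9 : ℤ) • sg pb 8 := by
      rw [e1, app_sub g (sum_mem (fun j hj => hm j (mem_erase.1 hj).1)) (zsmul_mem (r5_mem pb) _),
        app_sum g _ _ (fun j hj => hm j (mem_erase.1 hj).1), app_zsmul g (r5_mem pb), h2]
      congr 1
      exact sum_congr rfl (fun j hj => ha j (mem_erase.1 hj).1)
    rw [app_zsmul g (sg8_mem pb)] at e2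
    ext k
    have := congrFun e2 k
    simp only [Pi.smul_apply, smul_eq_mul] at this
    omega
  have hall : ∀ j, app g (sg j 8) = sg j 8 := by
    intro j
    by_cases hj : j = pb
    · rw [hj]; exact hb
    · have e1 : sg j 8 = (2 : ℤ) • (sg pb 4 + sg j 4) - sg pb 8 := by
        ext k; unfold sg; simp only [Pi.sub_apply, Pi.smul_apply, Pi.add_apply, smul_eq_mul]
        split_ifs <;> norm_num
      nth_rw 1 [e1]
      rw [app_sub g (zsmul_mem (hm j hj) _) (sg8_mem pb), app_zsmul g (hm j hj), ha j hj, hb, ← e1]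
  apply ext_app
  intro x hx
  rw [scalar_of_frame (e := 1) (fun i => by rw [hall i, one_smul]) hx, one_smul, app_one]

theorem isSimple_mcl_std : IsSimpleGroup (MulAction.stabilizer Co0 (⟨x0, x0_mem⟩ : leechLattice) ⊓
    MulAction.stabilizer Co0 (⟨r5 pb, r5_mem pb⟩ : leechLattice) : Subgroup Co0) := by
  haveI := fact11
  haveI : Fact (Nat.Prime 3) := ⟨by norm_num⟩
  haveI := finCo0
  have hrx : r5 pb = x0 + rO pa := by decide +kernel
  have hr : rO pa = r5 pb - x0 := by decide +kernel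
  have heq : (MulAction.stabilizer Co0 (⟨x0, x0_mem⟩ : leechLattice) ⊓
    MulAction.stabilizer Co0 (⟨r5 pb, r5_mem pb⟩ : leechLattice) : Subgroup Co0) =
    MulAction.stabilizer Co0 (⟨x0, x0_mem⟩ : leechLattice) ⊓ MulAction.stabilizer Co0 (⟨rO pa, rO_mem pa⟩ : leechLattice) := by
    ext g
    constructor
    · rintro ⟨g1, g2⟩
      refine ⟨g1, ?_⟩
      have g1' : app g x0 = x0 := smul_eq_iff_app.1 g1
      have g2' : app g (r5 pb) = r5 pb := smul_eq_iff_app.1 g2
      apply smul_eq_iff_app.2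
      show app g (rO pa) = rO pa
      rw [hr, app_sub g (r5_mem pb) x0_mem, g1', g2']
    · rintro ⟨g1, g2⟩
      refine ⟨g1, ?_⟩
      have g1' : app g x0 = x0 := smul_eq_iff_app.1 g1
      have g2' : app g (rO pa) = rO pa := smul_eq_iff_app.1 g2
      apply smul_eq_iff_app.2
      show app g (r5 pb) = r5 pb
      rw [hrx, app_add g x0_mem (rO_mem pa), g1', g2']
  have hc := card_mcl ⟨x0, x0_mem⟩ ⟨rO pa, rO_mem pa⟩ norm_x0 (by decide +kernel) (by decide +kernel)
  rw [← heq] at hc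
  obtain ⟨t, ht, hC⟩ := exists_C11 (H := MulAction.stabilizer Co0 (⟨x0, x0_mem⟩ : leechLattice) ⊓
    MulAction.stabilizer Co0 (⟨r5 pb, r5_mem pb⟩ : leechLattice))
    ⟨smul_eq_iff_app.2 uEl_x0, smul_eq_iff_app.2 (by show app uEl (r5 pb) = r5 pb; rw [uEl_app (r5_mem pb), prm_r5, sU_pb])⟩
    (by
      rintro g ⟨h1, h2⟩ h
      have h1' : app g x0 = x0 := smul_eq_iff_app.1 h1
      have h2' : app g (r5 pb) = r5 pb := smul_eq_iff_app.1 h2
      have h3' : app g (rO pa) = rO pa := by rw [hr, app_sub g (r5_mem pb) x0_mem, h1', h2']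
      exact comm_uEl h (mcl_fix h h3' h1') h1' (r5_mem pb) h2' (by decide +kernel) (by
        intro σ _ hb; rw [prm_r5, hb]))
  refine FpfCrit.isSimple (p := 11) ht hC (by rw [hc]; norm_num) (by rw [hc]; norm_num) (by rw [hc]; norm_num) ?_
  intro N hN hp
  have hpg : IsPGroup 3 N := by
    have h2 : ∀ q : ℕ, q.Prime → q ∣ Nat.card N → q = 3 := by
      intro q hq hqN
      obtain ⟨m, hm, hm1, hm2⟩ := FpfCrit.prime_pow ht hC hN hp hq hqN
      rw [hc] at hm1
      exact (num11 hq hm (hm1.trans (by norm_num)) hm2).1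
    refine IsPGroup.of_card (n := (Nat.card N).primeFactorsList.length) ?_
    exact Nat.eq_prime_pow_of_unique_prime_dvd Nat.card_pos.ne' (fun {d} hd hd' => h2 d hd hd')
  haveI : Finite X275 := Nat.finite_of_card_ne_zero (by rw [card_X275]; norm_num)
  have h1 := hpg.card_modEq_card_fixedPoints X275
  rw [card_X275] at h1
  have h2 : (MulAction.fixedPoints N X275).Nonempty := by
    rw [Set.nonempty_iff_ne_empty]
    intro he
    rw [he] at h1
    simp at h1
    revert h1; decide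
  obtain ⟨w, hw⟩ := h2
  have hwf : ∀ n ∈ N, app (n : Co0) (w : leechLattice) = (w : leechLattice) := by
    intro n hn
    have h3 := hw ⟨n, hn⟩
    have h4 := congrArg (fun z : X275 => ((z : leechLattice) : Vec)) h3
    rw [app_coe]
    exact h4
  rw [eq_bot_iff]
  intro n hn
  rw [Subgroup.mem_bot]
  apply Subtype.ext
  apply eq_one_of_275 (smul_eq_iff_app.1 n.2.1) (smul_eq_iff_app.1 n.2.2)
  intro y hy y1 y2 y3
  obtain ⟨g1, a1, a2, a3⟩ := T275 x0_mem (r5_mem pb) (w : leechLattice).2 norm_x0 (norm_r5 pb) w.2.1 (by decide +kernel) w.2.2.1 w.2.2.2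
  obtain ⟨g2, b1, b2, b3⟩ := T275 x0_mem (r5_mem pb) hy norm_x0 (norm_r5 pb) y1 (by decide +kernel) y2 y3
  set g := g2⁻¹ * g1 with hg
  have c1 : app g x0 = x0 := by rw [hg, app_mul, a1, ← app_eq_iff]; exact b1
  have c2 : app g (r5 pb) = r5 pb := by rw [hg, app_mul, a2, ← app_eq_iff]; exact b2
  have c3 : app g (w : leechLattice) = y := by rw [hg, app_mul, a3, ← app_eq_iff]; exact b3
  let gg : (MulAction.stabilizer Co0 (⟨x0, x0_mem⟩ : leechLattice) ⊓
    MulAction.stabilizer Co0 (⟨r5 pb, r5_mem pb⟩ : leechLattice) : Subgroup Co0) := ⟨g, smul_eq_iff_app.2 c1, smul_eq_iff_app.2 c2⟩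
  have h5 := hwf _ (hN.conj_mem n hn gg⁻¹)
  have h6 : app (g⁻¹ * (n : Co0) * g) (w : leechLattice) = (w : leechLattice) := by
    have e : ((gg⁻¹ * n * gg⁻¹⁻¹ : (MulAction.stabilizer Co0 (⟨x0, x0_mem⟩ : leechLattice) ⊓
      MulAction.stabilizer Co0 (⟨r5 pb, r5_mem pb⟩ : leechLattice) : Subgroup Co0)) : Co0) = g⁻¹ * (n : Co0) * g := by
      rw [inv_inv]; rfl
    rw [← e]; exact h5
  rw [← c3, ← app_mul]
  have e3 : (n : Co0) * g = g * (g⁻¹ * (n : Co0) * g) := by group
  rw [e3, app_mul, h6]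

end Cfsg.Agent.Lib.Golay
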