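import Cfsg.Agent.Lib.Golay.Normz
import Cfsg.Agent.Lib.Golay.SlpData
import Cfsg.Agent.Lib.SimpleCrit
import Cfsg.Agent.Lib.MultTrans

/-!
Simplicity of the group of the length-24 code and of the stabilisers of one and two points.
-/

set_option autoImplicit false

namespace Cfsg.Agent.Lib.Golay

open scoped Pointwise
open Cfsg

/-- codes of the powers of the translation -/
def pwTl : List ℕ := [0xbdab49ca307b9ac5a928398a418820, 0xb82d5a4e5183dcd62d4941cc520c41, 0xb8416ad2728c1ee6b16a4a0e629062, 0xb8820b56939460f7358b5250731483, 0xb8c4105ab49ca307b9ac5a928398a4, 0xb9062082d5a4e5183dcd62d4941cc5, 0xb948310416ad2728c1ee6b16a4a0e6, 0xb98a418820b56939460f7358b52507, 0xb9cc520c4105ab49ca307b9ac5a928, 0xba0e629062082d5a4e5183dcd62d49, 0xba5073148310416ad2728c1ee6b16a, 0xba928398a418820b56939460f7358b, 0xbad4941cc520c4105ab49ca307b9ac, 0xbb16a4a0e629062082d5a4e5183dcd, 0xbb58b525073148310416ad2728c1ee, 0xbb9ac5a928398a418820b56939460f, 0xbbdcd62d4941cc520c4105ab49ca30, 0xbc1ee6b16a4a0e629062082d5a4e51,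 0xbc60f7358b525073148310416ad272, 0xbca307b9ac5a928398a418820b5693, 0xbce5183dcd62d4941cc520c4105ab4, 0xbd2728c1ee6b16a4a0e629062082d5, 0xbd6939460f7358b525073148310416]

/-- codes of the powers of the multiplication by two -/
def pwUl : List ℕ := [0xbdab49ca307b9ac5a928398a418820, 0xbd6717b56939461b52507314831040, 0xbcdeb38ed2728c2ac5a92869062080, 0xbbcf671aad2d1849ac7250a290c100, 0xb9dd52b263544287d8cda117212600, 0xbb8b3505e6a2c503d5838a2cd24920, 0xb954fa08ec8d88974c265c2a343640, 0xbaa87891c15d5122bc4cb266680da0, 0xbd22e5a0a2b4e0d51c81ac9ec49860, 0xbc565b4144abd23a39029b4e1930c0, 0xbaecaaa68899e468960478dc268580]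

/-- cycle table of the translation -/
def tabT : List (ℕ × ℕ) := [(0, 0), (0, 1), (0, 2), (0, 3), (0, 4), (0, 5), (0, 6), (0, 7), (0, 8), (0, 9), (0, 10), (0, 11), (0, 12), (0, 13), (0, 14), (0, 15), (0, 16), (0, 17), (0, 18), (0, 19), (0, 20), (0, 21), (0, 22), (1, 0)]

/-- cycle table of the multiplication by two -/
def tabU : List (ℕ × ℕ) := [(1, 0), (2, 0), (2, 1), (2, 8), (2, 2), (3, 0), (2, 9), (3, 9), (2, 3), (2, 5), (3, 1), (3, 4), (2, 10), (2, 7), (3, 10), (3, 8), (2, 4), (3, 3), (2, 6), (3, 7), (3, 2), (3, 6), (3, 5), (0, 0)]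

/-- powers of the translation -/
def pwT (j : ℕ) : ℕ := pwTl.getD j 0

/-- powers of the multiplication by two -/
def pwU (j : ℕ) : ℕ := pwUl.getD j 0

theorem pwT_ok : pwOK 23 pwT = true := by decide +kernel
theorem pwU_ok : pwOK 11 pwU = true := by decide +kernel
theorem tabT_ok : tabOK pwT tabT [0, 23] = true := by decide +kernel
theorem tabU_ok : tabOK pwU tabU [23, 0, 1, 5] = true := by decide +kernel
theorem pwT_one : pwT 1 = cT := by decide +kernel
theorem pwU_one : pwU 1 = cU := by decide +kernel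

theorem orderOf_T : orderOf (pm cT) = 23 := by
  have h := (pwOK_spec (by norm_num) pwT_ok).2
  rw [pwT_one] at h
  have : Fact (Nat.Prime 23) := ⟨by norm_num⟩
  refine orderOf_eq_prime h ?_
  intro h1
  have h2 := congrArg (fun g => ix (g (pt 0))) h1
  simp only [Equiv.Perm.one_apply] at h2
  rw [ix_pm (by decide +kernel)] at h2
  exact absurd h2 (by decide +kernel)

theorem orderOf_U : orderOf (pm cU) = 11 := by
  have h := (pwOK_spec (by norm_num) pwU_ok).2
  rw [pwU_one] at h
  have : Fact (Nat.Prime 11) := ⟨by norm_num⟩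
  refine orderOf_eq_prime h ?_
  intro h1
  have h2 := congrArg (fun g => ix (g (pt 1))) h1
  simp only [Equiv.Perm.one_apply] at h2
  rw [ix_pm (by decide +kernel)] at h2
  exact absurd h2 (by decide +kernel)

/-- powers of `t` have the same fixed points as `t` -/
def fixOK (p : ℕ) (pw : ℕ → ℕ) : Bool :=
  (List.range p).all (fun k => k == 0 || (List.range 24).all (fun q => !(img (pw k) q == q) || img (pw 1) q == q))

theorem fixT_ok : fixOK 23 pwT = true := by decide +kernel
theorem fixU_ok : fixOK 11 pwU = true := by decide +kernel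

theorem fix_of_pow {p : ℕ} (hp : 1 < p) {pw : ℕ → ℕ} (hpw : pwOK p pw = true) (hfix : fixOK p pw = true)
    {k : ℕ} (hk : k < p) (hk0 : 0 < k) {x : GolayPt} (h : (pm (pw 1) ^ k) x = x) : pm (pw 1) x = x := by
  obtain ⟨h1, _⟩ := pwOK_spec hp hpw
  unfold fixOK at hfix
  rw [List.all_eq_true] at hfix
  have h2 := hfix k (List.mem_range.2 hk)
  rw [Bool.or_eq_true, List.all_eq_true] at h2
  rcases h2 with h2 | h2
  · rw [beq_iff_eq] at h2; omega
  · have h3 := h2 (ix x) (List.mem_range.2 (ix_lt x))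
    rw [← (h1 k hk).2] at h
    have h4 := congrArg ix h
    rw [ix_pm (h1 k hk).1] at h4
    rw [h4] at h3
    simp only [beq_self_eq_true, Bool.not_true, Bool.false_or, beq_iff_eq] at h3
    apply ix_inj
    rw [ix_pm (h1 1 hp).1, h3]

theorem fix_iff {p : ℕ} (hp : 1 < p) {pw : ℕ → ℕ} (hpw : pwOK p pw = true) (hfix : fixOK p pw = true)
    {k : ℕ} (hk : k < p) (hk0 : 0 < k) {g : Equiv.Perm GolayPt} (hg : g * pm (pw 1) = pm (pw 1) ^ k * g)
    (x : GolayPt) : pm (pw 1) (g x) = g x ↔ pm (pw 1) x = x := by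
  have h1 : g (pm (pw 1) x) = (pm (pw 1) ^ k) (g x) := by
    rw [← Equiv.Perm.mul_apply, hg, Equiv.Perm.mul_apply]
  constructor
  · intro h
    have h2 : ∀ n : ℕ, (pm (pw 1) ^ n) (g x) = g x := by
      intro n
      induction n with
      | zero => rfl
      | succ n ih => rw [pow_succ, Equiv.Perm.mul_apply, h, ih]
    rw [h2 k] at h1
    exact g.injective h1
  · intro h
    rw [h] at h1
    exact fix_of_pow hp hpw hfix hk hk0 h1.symm

/-! ### M24 -/

theorem M24_two {x y z : GolayPt} (hyx : y ≠ x) (hzx : z ≠ x) : ∃ g ∈ M24, g x = x ∧ g y = z := by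
  obtain ⟨g, hg, h1, h2⟩ := exists_map_fix (n := 1) (by norm_num) (fun _ => x) (by intro i hi j hj; omega)
    (a := y) (b := z) (fun _ _ => hyx.symm) (fun _ _ => hzx.symm)
  exact ⟨g, hg, h1 0 (by norm_num), h2⟩

theorem M24_three {x y z w : GolayPt} (hyx : y ≠ x) (hzx : z ≠ x) (hwx : w ≠ x) (hzy : z ≠ y) (hwy : w ≠ y) :
    ∃ g ∈ M24, g x = x ∧ g y = y ∧ g z = w := by
  obtain ⟨g, hg, h1, h2⟩ := exists_map_fix (n := 2) (by norm_num) (fun i => if i = 0 then x else y) (by
      intro i hi j hj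
      have : i = 1 ∧ j = 0 := by omega
      obtain ⟨rfl, rfl⟩ := this
      simpa using hyx.symm)
    (a := z) (b := w) (by
      intro i hi
      split_ifs
      · exact hzx.symm
      · exact hzy.symm) (by
      intro i hi
      split_ifs
      · exact hwx.symm
      · exact hwy.symm)
  exact ⟨g, hg, h1 0 (by norm_num), h1 1 (by norm_num), h2⟩

theorem M24_four {x y z v w : GolayPt} (hyx : y ≠ x) (hzx : z ≠ x) (hzy : z ≠ y)
    (hvx : v ≠ x) (hvy : v ≠ y) (hvz : v ≠ z) (hwx : w ≠ x) (hwy : w ≠ y) (hwz : w ≠ z) :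
    ∃ g ∈ M24, g x = x ∧ g y = y ∧ g z = z ∧ g v = w := by
  obtain ⟨g, hg, h1, h2⟩ := exists_map_fix (n := 3) (by norm_num)
    (fun i => if i = 0 then x else if i = 1 then y else z) (by
      intro i hi j hj
      have : (i = 1 ∧ j = 0) ∨ (i = 2 ∧ j = 0) ∨ (i = 2 ∧ j = 1) := by omega
      rcases this with ⟨rfl, rfl⟩ | ⟨rfl, rfl⟩ | ⟨rfl, rfl⟩
      · simpa using hyx.symm
      · simpa using hzx.symm
      · simpa using hzy.symm)
    (a := v) (b := w) (by
      intro i hi
      split_ifs
      · exact hvx.symm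
      · exact hvy.symm
      · exact hvz.symm) (by
      intro i hi
      split_ifs
      · exact hwx.symm
      · exact hwy.symm
      · exact hwz.symm)
  exact ⟨g, hg, h1 0 (by norm_num), h1 1 (by norm_num), h1 2 (by norm_num), h2⟩

theorem halT {H : Subgroup (Equiv.Perm GolayPt)} : ∀ g ∈ H, ∀ k < 23, 0 < k →
    g * pm (pwT 1) = pm (pwT 1) ^ k * g →
      List.Forall₂ (fun r l => ix (g (pt r)) ∈ l) [0, 23] [List.range 23, [23]] := by
  intro g _ k hk hk0 hg
  have h23 : pm (pwT 1) (pt 23) = pt 23 := by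
    rw [pm_pt (by decide +kernel) (by norm_num)]; decide +kernel
  have h1 := (fix_iff (by norm_num) pwT_ok fixT_ok hk hk0 hg (pt 23)).2 h23
  have h2 : ∀ p : GolayPt, img (pwT 1) (ix p) = ix p → ix p = 23 := by decide +kernel
  have h3 : ix (g (pt 23)) = 23 := by
    apply h2
    have := congrArg ix h1
    rwa [ix_pm (by decide +kernel)] at this
  refine List.Forall₂.cons ?_ (List.Forall₂.cons ?_ List.Forall₂.nil)
  · rw [List.mem_range]
    have h4 := ix_lt (g (pt 0))
    have h5 : ix (g (pt 0)) ≠ 23 := by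
      intro h
      have h6 : g (pt 0) = g (pt 23) := ix_inj (h.trans h3.symm)
      exact absurd (g.injective h6) (by decide)
    omega
  · rw [h3]; exact List.mem_singleton_self _

theorem normT_data : (normList pres 23 pwT tabT [List.range 23, [23]]).Nodup ∧
    (normList pres 23 pwT tabT [List.range 23, [23]]).length = 253 := by decide +kernel

theorem mem_M24_T : pm cT ∈ M24 := pm_mem_M24 (by decide +kernel)
theorem mem_M24_U : pm cU ∈ M24 := pm_mem_M24 (by decide +kernel)

theorem card_norm_T : {g | g ∈ M24 ∧ ∃ k, 0 < k ∧ k < 23 ∧ g * pm cT = pm cT ^ k * g}.ncard = 253 := by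
  have h := ncard_norm (H := M24) (inH := pres) (fun c hc => pres_iff hc) (by norm_num) pwT_ok tabT_ok
    (by decide) halT normT_data.1
  rw [normT_data.2, pwT_one] at h
  exact h

theorem isSimple_M24 : IsSimpleGroup M24 := by
  have : Fact (Nat.Prime 23) := ⟨by norm_num⟩
  refine SimpleCrit.isSimple_of_sylow 23 11 (by norm_num) (Subgroup.zpowers (⟨pm cT, mem_M24_T⟩ : M24)) ?_ ?_ ?_ ?_ ?_
  · rw [Nat.card_zpowers, Subgroup.orderOf_mk, orderOf_T]
  · rw [card_M24]; norm_num
  · rw [card_normalizer_zpowers M24 mem_M24_T (by norm_num) orderOf_T, card_norm_T]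
  · rw [card_M24]; norm_num
  · intro N hN hNb
    refine MultTrans.dvd_card_of_threeTrans (α := GolayPt) Set.univ (fun _ _ _ => Set.mem_univ _) ?_ ?_ ?_ 23 ?_
      (by norm_num) (by norm_num) N hNb
    · intro x _ y _ z _ w _ h1 h2 h3 h4 h5
      obtain ⟨g, hg, h⟩ := M24_three h1 h2 h3 h4 h5
      exact ⟨⟨g, hg⟩, h⟩
    · intro x _ y _ z _ h1 h2
      obtain ⟨g, hg, h⟩ := M24_two h1 h2
      exact ⟨⟨g, hg⟩, h⟩
    · intro g hg
      apply Subtype.ext
      ext x : 1
      exact hg x (Set.mem_univ _)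
    · rw [Set.ncard_univ, Nat.card_eq_fintype_card, card_golayPt]

/-! ### M23 -/

/-- stabiliser of the extra point -/
def m23 : Subgroup (Equiv.Perm GolayPt) := M24 ⊓ MulAction.stabilizer (Equiv.Perm GolayPt) (pt 23)

theorem pm_mem_stab {c : ℕ} (hc : valid c = true) {i : ℕ} (hi : i < 24) :
    (img c i == i) = true ↔ pm c ∈ MulAction.stabilizer (Equiv.Perm GolayPt) (pt i) := by
  rw [MulAction.mem_stabilizer_iff, beq_iff_eq]
  show _ ↔ pm c (pt i) = pt i
  rw [pm_pt hc hi]
  constructor
  · intro h; rw [h]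
  · intro h; exact pt_inj (valid_lt hc hi) hi h

theorem norm23_data : (normList (fun c => pres c && img c 23 == 23) 23 pwT tabT [List.range 23, [23]]).Nodup ∧
    (normList (fun c => pres c && img c 23 == 23) 23 pwT tabT [List.range 23, [23]]).length = 253 := by decide +kernel

theorem mem_m23_T : pm cT ∈ m23 :=
  ⟨mem_M24_T, (pm_mem_stab (by decide +kernel) (by norm_num)).1 (by decide +kernel)⟩

theorem card_m23 : Nat.card m23 = 10200960 := card_M24_stab1 _

theorem isSimple_m23 : IsSimpleGroup m23 := by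
  have : Fact (Nat.Prime 23) := ⟨by norm_num⟩
  refine SimpleCrit.isSimple_of_sylow 23 11 (by norm_num) (Subgroup.zpowers (⟨pm cT, mem_m23_T⟩ : m23)) ?_ ?_ ?_ ?_ ?_
  · rw [Nat.card_zpowers, Subgroup.orderOf_mk, orderOf_T]
  · rw [card_m23]; norm_num
  · rw [card_normalizer_zpowers m23 mem_m23_T (by norm_num) orderOf_T]
    have h := ncard_norm (H := m23) (inH := fun c => pres c && img c 23 == 23) (fun c hc => by
      rw [Bool.and_eq_true, pres_iff hc, pm_mem_stab hc (by norm_num)]; rfl) (by norm_num) pwT_ok tabT_ok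
      (by decide) halT norm23_data.1
    rw [norm23_data.2, pwT_one] at h
    exact h
  · rw [card_m23]; norm_num
  · intro N hN hNb
    have h := MultTrans.dvd_card_of_twoTrans (G := m23) (α := GolayPt) {pt 23}ᶜ ?_ ?_ ?_ N hNb
    · rw [Set.ncard_compl, Set.ncard_singleton, Nat.card_eq_fintype_card, card_golayPt] at h
      exact h
    · intro g x hx
      rw [Set.mem_compl_singleton_iff] at hx ⊢
      intro h
      have h1 : (g : Equiv.Perm GolayPt) x = pt 23 := h
      have h2 : (g : Equiv.Perm GolayPt) (pt 23) = pt 23 := g.2.2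
      exact hx ((g : Equiv.Perm GolayPt).injective (h1.trans h2.symm))
    · intro x hx y hy z hz h1 h2
      obtain ⟨g, hg, h3, h4, h5⟩ := M24_three hx hy hz h1 h2
      exact ⟨⟨g, hg, h3⟩, h4, h5⟩
    · intro g hg
      apply Subtype.ext
      ext x : 1
      by_cases hx : x = pt 23
      · rw [hx]; exact g.2.2
      · exact hg x hx

/-! ### M22 -/

/-- stabiliser of the extra point and of 0 -/
def m22 : Subgroup (Equiv.Perm GolayPt) := M24 ⊓ MulAction.stabilizer (Equiv.Perm GolayPt) (pt 23) ⊓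
  MulAction.stabilizer (Equiv.Perm GolayPt) (pt 0)

/-- test for membership in `m22` -/
def inM22 (c : ℕ) : Bool := pres c && img c 23 == 23 && img c 0 == 0

/-- the points moved by the multiplication by two -/
def mvU : List ℕ := (List.range 23).drop 1

theorem norm22_data : (normList inM22 11 pwU tabU [[23], [0], mvU, mvU]).Nodup ∧
    (normList inM22 11 pwU tabU [[23], [0], mvU, mvU]).length = 55 := by decide +kernel

theorem mem_m22_U : pm cU ∈ m22 :=
  ⟨⟨mem_M24_U, (pm_mem_stab (by decide +kernel) (by norm_num)).1 (by decide +kernel)⟩,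
    (pm_mem_stab (by decide +kernel) (by norm_num)).1 (by decide +kernel)⟩

theorem card_m22 : Nat.card m22 = 443520 := card_M24_stab2 (by decide)

theorem hal22 : ∀ g ∈ m22, ∀ k < 11, 0 < k →
    g * pm (pwU 1) = pm (pwU 1) ^ k * g →
      List.Forall₂ (fun r l => ix (g (pt r)) ∈ l) [23, 0, 1, 5] [[23], [0], mvU, mvU] := by
  intro g hg k hk hk0 hgk
  have h23 : g (pt 23) = pt 23 := hg.1.2
  have h0 : g (pt 0) = pt 0 := hg.2
  have hmv : ∀ i < 24, i ≠ 23 → i ≠ 0 → i ∈ mvU := by decide
  refine List.Forall₂.cons ?_ (List.Forall₂.cons ?_ (List.Forall₂.cons ?_ (List.Forall₂.cons ?_ List.Forall₂.nil)))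
  · rw [h23]; decide
  · rw [h0]; decide
  · refine hmv _ (ix_lt _) ?_ ?_
    · intro h
      have h6 : g (pt 1) = g (pt 23) := by rw [h23]; exact ix_inj (h.trans (by decide))
      exact absurd (g.injective h6) (by decide)
    · intro h
      have h6 : g (pt 1) = g (pt 0) := by rw [h0]; exact ix_inj (h.trans (by decide))
      exact absurd (g.injective h6) (by decide)
  · refine hmv _ (ix_lt _) ?_ ?_
    · intro h
      have h6 : g (pt 5) = g (pt 23) := by rw [h23]; exact ix_inj (h.trans (by decide))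
      exact absurd (g.injective h6) (by decide)
    · intro h
      have h6 : g (pt 5) = g (pt 0) := by rw [h0]; exact ix_inj (h.trans (by decide))
      exact absurd (g.injective h6) (by decide)

theorem isSimple_m22 : IsSimpleGroup m22 := by
  have : Fact (Nat.Prime 11) := ⟨by norm_num⟩
  refine SimpleCrit.isSimple_of_sylow 11 5 (by norm_num) (Subgroup.zpowers (⟨pm cU, mem_m22_U⟩ : m22)) ?_ ?_ ?_ ?_ ?_
  · rw [Nat.card_zpowers, Subgroup.orderOf_mk, orderOf_U]
  · rw [card_m22]; norm_num
  · rw [card_normalizer_zpowers m22 mem_m22_U (by norm_num) orderOf_U]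
    have h := ncard_norm (H := m22) (inH := inM22) (fun c hc => by
      unfold inM22
      rw [Bool.and_eq_true, Bool.and_eq_true, pres_iff hc, pm_mem_stab hc (by norm_num), pm_mem_stab hc (by norm_num)]; rfl) (by norm_num) pwU_ok tabU_ok
      (by decide) hal22 norm22_data.1
    rw [norm22_data.2, pwU_one] at h
    exact h
  · rw [card_m22]; norm_num
  · intro N hN hNb
    have h := MultTrans.dvd_card_of_twoTrans (G := m22) (α := GolayPt) {pt 23, pt 0}ᶜ ?_ ?_ ?_ N hNb
    · rw [Set.ncard_compl, Set.ncard_pair (by decide), Nat.card_eq_fintype_card, card_golayPt] at h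
      exact dvd_trans (by norm_num) h
    · intro g x hx
      simp only [Set.mem_compl_iff, Set.mem_insert_iff, Set.mem_singleton_iff, not_or] at hx ⊢
      have h2 : (g : Equiv.Perm GolayPt) (pt 23) = pt 23 := g.2.1.2
      have h3 : (g : Equiv.Perm GolayPt) (pt 0) = pt 0 := g.2.2
      exact ⟨fun h => hx.1 ((g : Equiv.Perm GolayPt).injective (Eq.trans h h2.symm)),
        fun h => hx.2 ((g : Equiv.Perm GolayPt).injective (Eq.trans h h3.symm))⟩
    · intro x hx y hy z hz h1 h2
      simp only [Set.mem_compl_iff, Set.mem_insert_iff, Set.mem_singleton_iff, not_or] at hx hy hz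
      obtain ⟨g, hg, h3, h4, h5, h6⟩ := M24_four (x := pt 23) (y := pt 0) (z := x) (v := y) (w := z)
        (by decide) hx.1 hx.2 hy.1 hy.2 h1 hz.1 hz.2 h2
      exact ⟨⟨g, ⟨hg, h3⟩, h4⟩, h5, h6⟩
    · intro g hg
      apply Subtype.ext
      ext x : 1
      by_cases hx : x = pt 23
      · rw [hx]; exact g.2.1.2
      · by_cases hx' : x = pt 0
        · rw [hx']; exact g.2.2
        · exact hg x (by simp [hx, hx'])

end Cfsg.Agent.Lib.Golay
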