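import Cfsg.Agent.Lib.Golay.LeechMod3
import Cfsg.Agent.Lib.Golay.SimpleM

/-!
Elements of order 23 in the automorphism group of the rank-24 lattice.
-/

set_option autoImplicit false

namespace Cfsg.Agent.Lib.Golay

open scoped Pointwise
open Cfsg Finset

/-- the translation -/
noncomputable def sT : Equiv.Perm GolayPt := pm cT

theorem sT_mem : sT ∈ M24 := mem_M24_T

theorem sT_pa : sT pa = pa := by
  apply ix_inj
  unfold sT
  rw [ix_pm (by decide +kernel)]
  decide +kernel

theorem sT_pow {j : ℕ} (hj : j < 23) : (sT ^ j) (pt 0) = pt j := by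
  have h := (pwOK_spec (by norm_num) pwT_ok).1 j hj
  rw [pwT_one] at h
  apply ix_inj
  unfold sT
  rw [← h.2, ix_pm h.1]
  have : ∀ j < 23, img (pwT j) (ix (pt 0)) = ix (pt j) := by decide +kernel
  exact this j hj

theorem pt_cases (p : GolayPt) : p = pa ∨ ∃ j < 23, p = pt j := by
  have h := ix_lt p
  by_cases h1 : ix p = 23
  · left; apply ix_inj; rw [h1]; decide
  · right; exact ⟨ix p, by omega, (pt_ix p).symm⟩

/-- the automorphism given by the translation -/
noncomputable def tEl : Co0 := monoEl ⟨⟨∅, isWord_empty⟩, ⟨sT, sT_mem⟩⟩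

theorem sgn_empty (x : Vec) : sgn ∅ x = x := by
  ext k; unfold Golay.sgn; simp

theorem tEl_app {x : Vec} (hx : x ∈ leechLattice) : app tEl x = prm sT x := by
  unfold tEl
  rw [monoEl_app _ hx, sgn_empty]

theorem fixed_const {x : Vec} (h : prm sT x = x) : ∀ j < 23, x (pt j) = x (pt 0) := by
  have h1 : ∀ p, x (sT p) = x p := by
    intro p
    have := congrFun h (sT p)
    have e : prm sT x (sT p) = x p := by
      show x (sT.symm (sT p)) = x p
      rw [Equiv.symm_apply_apply]
    rw [e] at this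
    exact this.symm
  have h2 : ∀ n : ℕ, ∀ p, x ((sT ^ n) p) = x p := by
    intro n
    induction n with
    | zero => intro p; rfl
    | succ n ih => intro p; rw [pow_succ', Equiv.Perm.mul_apply, h1, ih]
  intro j hj
  rw [← sT_pow hj, h2]

theorem fixed_norm {x : Vec} (h : prm sT x = x) : sqNorm x = x pa ^ 2 + 23 * x pb ^ 2 ∧ ∑ k, x k = x pa + 23 * x pb := by
  have h1 : ∀ k, k ≠ pa → x k = x pb := by
    intro k hk
    rcases pt_cases k with h2 | ⟨j, hj, rfl⟩
    · exact absurd h2 hk
    · exact fixed_const h j hj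
  have h3 : (univ.erase pa : Finset GolayPt).card = 23 := by
    rw [card_erase_of_mem (mem_univ _), card_univ, card_golayPt]
  constructor
  · unfold sqNorm
    rw [← add_sum_erase _ _ (mem_univ pa), sum_congr rfl (fun k hk => by rw [h1 k (mem_erase.1 hk).1]), sum_const, h3]
    norm_num
  · rw [← add_sum_erase _ _ (mem_univ pa), sum_congr rfl (fun k hk => by rw [h1 k (mem_erase.1 hk).1]), sum_const, h3]
    norm_num

theorem eq_of_two {x y : Vec} (hx : prm sT x = x) (hy : prm sT y = y) (h1 : x pa = y pa) (h2 : x pb = y pb) : x = y := by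
  ext k
  rcases pt_cases k with rfl | ⟨j, hj, rfl⟩
  · exact h1
  · rw [fixed_const hx j hj, fixed_const hy j hj]; exact h2

theorem sum_mod {x : Vec} (hx : x ∈ leechLattice) : (∑ k, x k) % 8 = 0 ∧ x pa % 2 = 0 ∨ (∑ k, x k) % 8 = 4 ∧ x pa % 2 = 1 := by
  rcases mem_leech'.1 hx with h | h
  · left; have := h.1 pa; have := h.2.1; omega
  · right; have := h.1 pa; have := h.2.1; omega

theorem rO_fix : prm sT (rO pa) = rO pa := by rw [prm_rO, sT_pa]
theorem r5_fix : prm sT (r5 pa) = r5 pa := by rw [prm_r5, sT_pa]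

/-- fixed vectors of norm 32 -/
theorem fixed32 {x : Vec} (hx : x ∈ leechLattice) (hn : sqNorm x = 32) (h : prm sT x = x) : x = rO pa ∨ x = -rO pa := by
  obtain ⟨e1, e2⟩ := fixed_norm h
  have hm := sum_mod hx
  rw [hn] at e1
  rw [e2] at hm
  have b1 := min_bd hx hn pa
  have b2 := min_bd hx hn pb
  rw [abs_le] at b1 b2
  obtain ⟨b1, b1'⟩ := b1
  obtain ⟨b2, b2'⟩ := b2
  have hb : x pb = 1 ∧ x pa = -3 ∨ x pb = -1 ∧ x pa = 3 := by
    generalize x pa = a at *
    generalize x pb = b at *
    interval_cases b <;> first | (exfalso; nlinarith) | (interval_cases a <;> omega)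
  have f1 : rO pa pa = -3 := by unfold rO; rw [if_pos rfl]
  have f2 : rO pa pb = 1 := by unfold rO; rw [if_neg pa_ne_pb.symm]
  rcases hb with ⟨h1, h2⟩ | ⟨h1, h2⟩
  · left; exact eq_of_two h rO_fix (by rw [h2, f1]) (by rw [h1, f2])
  · right
    apply eq_of_two h
    · have := rO_fix
      ext k
      have h3 := congrFun this k
      show -(rO pa) (sT.symm k) = -(rO pa) k
      have e : prm sT (rO pa) k = (rO pa) (sT.symm k) := rfl
      rw [← e, h3]
    · rw [h2, Pi.neg_apply, f1]; norm_num
    · rw [h1, Pi.neg_apply, f2]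

theorem fixed48 {x : Vec} (hx : x ∈ leechLattice) (hn : sqNorm x = 48) (h : prm sT x = x) : x = r5 pa ∨ x = -r5 pa := by
  obtain ⟨e1, e2⟩ := fixed_norm h
  have hm := sum_mod hx
  rw [hn] at e1
  rw [e2] at hm
  have b1 := bd (R := 6) hn (by norm_num) pa
  have b2 := bd (R := 6) hn (by norm_num) pb
  rw [abs_le] at b1 b2
  obtain ⟨b1, b1'⟩ := b1
  obtain ⟨b2, b2'⟩ := b2
  push_cast at b1 b1' b2 b2'
  have hb : x pb = 1 ∧ x pa = 5 ∨ x pb = -1 ∧ x pa = -5 := by
    generalize x pa = a at *
    generalize x pb = b at *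
    interval_cases b <;> first | (exfalso; nlinarith) | (interval_cases a <;> omega)
  have f1 : r5 pa pa = 5 := r5_self pa
  have f2 : r5 pa pb = 1 := r5_ne pa_ne_pb.symm
  rcases hb with ⟨h1, h2⟩ | ⟨h1, h2⟩
  · left; exact eq_of_two h r5_fix (by rw [h2, f1]) (by rw [h1, f2])
  · right
    apply eq_of_two h
    · have := r5_fix
      ext k
      have h3 := congrFun this k
      show -(r5 pa) (sT.symm k) = -(r5 pa) k
      have e : prm sT (r5 pa) k = (r5 pa) (sT.symm k) := rfl
      rw [← e, h3]
    · rw [h2, Pi.neg_apply, f1]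
    · rw [h1, Pi.neg_apply, f2]

theorem r5_sub_rO : r5 pa - rO pa = sg pa 8 := by
  ext k; unfold r5 rO sg; simp only [Pi.sub_apply]; split_ifs <;> norm_num

theorem dot_r5_rO : dotInt (r5 pa) (rO pa) = 8 := by
  rw [dot_r5]
  have f1 : rO pa pa = -3 := by unfold rO; rw [if_pos rfl]
  have : ∑ p, rO pa p = 20 := by decide +kernel
  rw [f1, this]; norm_num

/-- a permutation of the code commuting with the translation and fixing the base point is a power of it -/
theorem perm_comm {τ : Equiv.Perm GolayPt} (ha : τ pa = pa) (h : τ * sT = sT * τ) : ∃ j, τ = sT ^ j := by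
  have h0 : τ (pt 0) ≠ pa := by
    intro e
    have := τ.injective (e.trans ha.symm)
    exact absurd this (by decide)
  obtain ⟨j, hj, hjp⟩ := (pt_cases (τ (pt 0))).resolve_left h0
  refine ⟨j, ?_⟩
  have hc : ∀ n : ℕ, τ * sT ^ n = sT ^ n * τ := by
    intro n
    exact (Commute.pow_right (show Commute τ sT from h) n)
  ext1 p
  rcases pt_cases p with rfl | ⟨i, hi, rfl⟩
  · rw [ha]
    have : ∀ n : ℕ, (sT ^ n) pa = pa := by
      intro n
      induction n with
      | zero => rfl
      | succ n ih => rw [pow_succ, Equiv.Perm.mul_apply, sT_pa, ih]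
    rw [this]
  · rw [← sT_pow hi, ← Equiv.Perm.mul_apply, hc, Equiv.Perm.mul_apply, hjp, ← sT_pow hj, ← Equiv.Perm.mul_apply,
      ← Equiv.Perm.mul_apply, ← pow_add, ← pow_add, add_comm]

/-- the centraliser of the standard element of order 23 -/
theorem comm_tEl {g : Co0} (h : g * tEl = tEl * g) : ∃ j : ℕ, g = tEl ^ j ∨ g = negEl * tEl ^ j := by
  have key : ∀ {g : Co0}, g * tEl = tEl * g → app g (rO pa) = rO pa → ∃ j : ℕ, g = tEl ^ j := by
    intro g h h1
    have hfix : ∀ x ∈ leechLattice, prm sT x = x → prm sT (app g x) = app g x := by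
      intro x hx hxf
      rw [← tEl_app (app_mem g hx), ← app_mul, ← h, app_mul, tEl_app hx, hxf]
    have h2 : app g (r5 pa) = r5 pa := by
      rcases fixed48 (app_mem g (r5_mem pa)) (by rw [app_norm g (r5_mem pa), norm_r5]) (hfix _ (r5_mem pa) r5_fix) with h3 | h3
      · exact h3
      · exfalso
        have h4 := app_dot g (r5_mem pa) (rO_mem pa)
        rw [h3, h1, dotInt_neg_left, dot_r5_rO] at h4
        norm_num at h4
    have h3 : app g (sg pa 8) = sg pa 8 := by
      rw [← r5_sub_rO, app_sub g (r5_mem pa) (rO_mem pa), h1, h2]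
    have h4 : g ∈ monoN := stab_le_monoN (smul_eq_iff_app.2 h3)
    obtain ⟨c, σ, hc, hσ, hg⟩ := mono (mem_monoN.1 h4)
    have h5 : σ pa = pa ∧ pa ∉ c := by
      have e := hg _ (sg8_mem pa)
      rw [h3, prm_sg] at e
      have e1 := congrFun e pa
      unfold Golay.sgn sg at e1
      by_cases e2 : pa = σ pa
      · refine ⟨e2.symm, fun e3 => ?_⟩
        rw [if_pos e3, if_pos rfl, if_pos e2] at e1
        norm_num at e1
      · exfalso
        rw [if_pos rfl, if_neg e2] at e1
        split_ifs at e1 <;> norm_num at e1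
    have h6 : c = ∅ := by
      have e := hg _ (rO_mem pa)
      rw [h1, prm_rO, h5.1] at e
      ext k
      simp only [notMem_empty, iff_false]
      intro hk
      have e1 := congrFun e k
      unfold Golay.sgn rO at e1
      rw [if_pos hk] at e1
      split_ifs at e1 <;> norm_num at e1
    have h7 : ∀ x ∈ leechLattice, app g x = prm σ x := by
      intro x hx; rw [hg x hx, h6, sgn_empty]
    have h8 : σ * sT = sT * σ := by
      apply Equiv.ext
      intro p
      have e1 : app (g * tEl) (sg p 8) = app (tEl * g) (sg p 8) := by rw [h]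
      rw [app_mul, app_mul, tEl_app (sg8_mem p), h7 _ (sg8_mem p), prm_sg, prm_sg, h7 _ (sg8_mem _),
        tEl_app (sg8_mem _), prm_sg, prm_sg] at e1
      exact (sg_inj (by norm_num) e1).1
    obtain ⟨j, hj⟩ := perm_comm h5.1 h8
    refine ⟨j, ?_⟩
    apply ext_app
    intro x hx
    rw [h7 x hx, hj]
    have : ∀ n : ℕ, ∀ x ∈ leechLattice, app (tEl ^ n) x = prm (sT ^ n) x := by
      intro n
      induction n with
      | zero => intro x hx; rw [pow_zero, pow_zero, app_one]; rfl
      | succ n ih =>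
        intro x hx
        rw [pow_succ', app_mul, ih x hx, tEl_app (by rw [← ih x hx]; exact app_mem _ hx), pow_succ']
        rfl
    rw [this j x hx]
  have hfix : ∀ x ∈ leechLattice, prm sT x = x → prm sT (app g x) = app g x := by
    intro x hx hxf
    rw [← tEl_app (app_mem g hx), ← app_mul, ← h, app_mul, tEl_app hx, hxf]
  have hn : sqNorm (rO pa) = 32 := by decide +kernel
  rcases fixed32 (app_mem g (rO_mem pa)) (by rw [app_norm g (rO_mem pa), hn]) (hfix _ (rO_mem pa) rO_fix) with h1 | h1
  · obtain ⟨j, hj⟩ := key h h1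
    exact ⟨j, Or.inl hj⟩
  · have hcen := Subgroup.mem_center_iff.1 negEl_central
    have hnn : negEl * negEl = 1 := by
      apply ext_app
      intro x hx
      rw [app_mul, negEl_app hx, app_zsmul _ hx, negEl_app hx, app_one, neg_smul, one_smul, neg_smul, one_smul, neg_neg]
    have h2 : (negEl * g) * tEl = tEl * (negEl * g) := by
      rw [mul_assoc, h, ← mul_assoc, ← mul_assoc, hcen tEl]
    have h3 : app (negEl * g) (rO pa) = rO pa := by
      rw [app_mul, h1, negEl_app (neg_mem (rO_mem pa)), neg_smul, one_smul, neg_neg]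
    obtain ⟨j, hj⟩ := key h2 h3
    refine ⟨j, Or.inr ?_⟩
    rw [← hj, ← mul_assoc, hnn, one_mul]

end Cfsg.Agent.Lib.Golay
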