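import Cfsg.Agent.Lib.Golay.OutM2

/-! Outer automorphisms of the smaller groups of the length-24 code: final results. -/

set_option autoImplicit false

namespace Cfsg.Agent.Lib.Golay

open Cfsg
open Cfsg.Agent.Lib
open scoped Pointwise

/-! ### M23 -/

def opt23 (e j : ℕ) (k : ℕ) : ℕ := if k = 0 then pwT (if e = 0 then 1 else 22) else comp (pwU j) cD

theorem chk23 : ∀ e < 2, ∀ j < 11, ((e == 0 && j == 0) || moves (evc w23 (opt23 e j))) = true := by decide +kernel
theorem opt23_valid : ∀ e < 2, ∀ j < 11, ∀ k < 2, valid (opt23 e j k) = true := by decide +kernel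
theorem w23_triv : evc w23 (opt23 0 0) = idc := by decide +kernel

theorem out_m23 : Nat.card (Out ↥m23) = 1 := by
  apply OutCrit.card_out_one
  intro α
  have hDm : pm cD ∈ m23 := by rw [← closure23]; exact Subgroup.subset_closure (by simp)
  have hUm : pm cU ∈ m23 := ⟨mem_M24_U, (pm_mem_stab (by decide +kernel) (by norm_num)).1 (by decide +kernel)⟩
  set T : m23 := ⟨pm cT, mem_m23_T⟩ with hTd
  set U : m23 := ⟨pm cU, hUm⟩ with hUd
  set D : m23 := ⟨pm cD, hDm⟩ with hDd
  have hT23 : orderOf T = 23 := by rw [hTd, Subgroup.orderOf_mk, orderOf_T]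
  have hU11 : orderOf U = 11 := by rw [hUd, Subgroup.orderOf_mk, orderOf_U]
  obtain ⟨c, hcT, hcU⟩ := OutCrit.normalise (p := 23) (by norm_num) (u := T) (d := U) (m := 2)
    hT23
    (fun g hg => mem_zpowers_sub (cent_T (congrArg Subtype.val hg)))
    (by rw [card_m23]; norm_num) (Subtype.ext rel_UT) gen23 shift23 α
  refine ⟨c, ?_⟩
  set β : m23 →* m23 := (MulAut.conj c * α).toMonoidHom with hβ
  have hβa : ∀ x, β x = c * α x * c⁻¹ := fun x => rfl
  simp only [← hβa] at hcT hcU ⊢
  have hCU : ∀ g : m23, g * U = U * g → g ∈ Subgroup.zpowers U := fun g hg =>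
    mem_zpowers_sub (cent_U g.2.1 (congrArg Subtype.val hg))
  have hDU : D * U = U ^ 3 * D := Subtype.ext rel_DU
  obtain ⟨j, hj, hjD⟩ := OutCrit.eq_pow_mul (p := 11) (by norm_num) (u := U) (g := D) (e := β D) (m := 3)
    hU11 hCU hDU (by
      have := congrArg β hDU
      rwa [map_mul, map_mul, map_pow, hcU] at this)
  have he : ∃ e < 2, pm (pwT (if e = 0 then 1 else 22)) = (β T : Equiv.Perm GolayPt) := by
    rcases hcT with h | h
    · refine ⟨0, by norm_num, ?_⟩
      rw [if_pos rfl, h, pwT_one]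
    · refine ⟨1, by norm_num, ?_⟩
      rw [if_neg (by norm_num), h, pm_pwT22]; rfl
  obtain ⟨e, he, heT⟩ := he
  set g0 : ℕ → m23 := fun k => if k = 0 then T else D with hg0
  have h0 : ∀ k < 2, valid (opt23 0 0 k) = true ∧ pm (opt23 0 0 k) = (g0 k : Equiv.Perm GolayPt) := by
    intro k hk
    refine ⟨opt23_valid 0 (by norm_num) 0 (by norm_num) k hk, ?_⟩
    have hu0 := (pm_pwU (j := 0) (by norm_num))
    rw [pow_zero] at hu0
    interval_cases k
    · exact congrArg pm pwT_one
    · change pm (comp (pwU 0) cD) = pm cD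
      rw [pm_comp hu0.1 (pres_valid cD_pres), hu0.2, one_mul]
  have h1 : ∀ k < 2, valid (opt23 e j k) = true ∧ pm (opt23 e j k) = (β (g0 k) : Equiv.Perm GolayPt) := by
    intro k hk
    refine ⟨opt23_valid e he j hj k hk, ?_⟩
    interval_cases k
    · exact heT
    · change pm (comp (pwU j) cD) = (β D : Equiv.Perm GolayPt)
      rw [pm_comp (pm_pwU hj).1 (pres_valid cD_pres), (pm_pwU hj).2, hjD]; rfl
  have ha := rel_excl β g0 h0 h1 (w := w23) (by decide) w23_triv
  have hc := chk23 e he j hj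
  rw [ha] at hc
  simp only [Bool.or_false, Bool.and_eq_true, beq_iff_eq] at hc
  obtain ⟨rfl, rfl⟩ := hc
  have hT : β T = T := by
    rcases hcT with h | h
    · exact h
    · apply Subtype.ext
      rw [← heT, if_pos rfl, pwT_one]
  rw [pow_zero, one_mul] at hjD
  apply hom_eq_of_closure closure23 β (MonoidHom.id m23)
  rintro x hx (rfl | rfl)
  · exact hT
  · exact hjD

/-! ### M11 -/

def opt11 (e j : ℕ) (k : ℕ) : ℕ := if k = 0 then pwU (if e = 0 then 1 else 10) else if k = 1 then cD else comp (pwD j) cX11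

theorem chk11 : ∀ e < 2, ∀ j < 5, ((e == 0 && j == 0) || moves (evc w11 (opt11 e j))) = true := by decide +kernel
theorem opt11_valid : ∀ e < 2, ∀ j < 5, ∀ k < 3, valid (opt11 e j k) = true := by decide +kernel
theorem w11_triv : evc w11 (opt11 0 0) = idc := by decide +kernel

theorem orderOf_D : orderOf (pm cD) = 5 := by
  have h1 : pm cD ^ 5 = 1 := by
    have h4 := (pm_pwD (j := 4) (by norm_num)).2
    rw [pow_succ', ← h4, ← pm_comp (by decide +kernel) (by decide +kernel), ← pm_idc]
    congr 1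
  have := Fact.mk (show Nat.Prime 5 by norm_num)
  refine orderOf_eq_prime h1 ?_
  exact ne_one_of_moves (by decide +kernel) (by decide +kernel)

theorem rel_XD11 : pm cX11 * pm cD = pm cD ^ 2 * pm cX11 := by
  rw [pow_two, ← pm_comp (by decide +kernel) (by decide +kernel), ← pm_comp (by decide +kernel) (by decide +kernel),
    ← pm_comp (by decide +kernel) (by decide +kernel)]
  congr 1

theorem rel_XD22 : pm cX22 * pm cD = pm cD ^ 2 * pm cX22 := by
  rw [pow_two, ← pm_comp (by decide +kernel) (by decide +kernel), ← pm_comp (by decide +kernel) (by decide +kernel),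
    ← pm_comp (by decide +kernel) (by decide +kernel)]
  congr 1

theorem out_m11 : Nat.card (Out ↥m11) = 1 := by
  apply OutCrit.card_out_one
  intro α
  have hDm : pm cD ∈ m11 := by rw [← closure11]; exact Subgroup.subset_closure (by simp)
  have hXm : pm cX11 ∈ m11 := by rw [← closure11]; exact Subgroup.subset_closure (by simp)
  set U : m11 := ⟨pm cU, mem_m11_U⟩ with hUd
  set D : m11 := ⟨pm cD, hDm⟩ with hDd
  set X : m11 := ⟨pm cX11, hXm⟩ with hXd
  have hU11 : orderOf U = 11 := by rw [hUd, Subgroup.orderOf_mk, orderOf_U]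
  have hD5 : orderOf D = 5 := by rw [hDd, Subgroup.orderOf_mk, orderOf_D]
  have hCU : ∀ g : m11, g * U = U * g → g ∈ Subgroup.zpowers U := fun g hg =>
    mem_zpowers_sub (cent_U g.2.1.1 (congrArg Subtype.val hg))
  have hCD : ∀ g : m11, g * D = D * g → g ∈ Subgroup.zpowers D := fun g hg =>
    mem_zpowers_sub (cent_D11 g.2 (congrArg Subtype.val hg))
  have hDU : D * U = U ^ 3 * D := Subtype.ext rel_DU
  have hXD : X * D = D ^ 2 * X := Subtype.ext rel_XD11
  obtain ⟨c, hcU, hcD⟩ := OutCrit.normalise (p := 11) (by norm_num) (u := U) (d := D) (m := 3)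
    hU11 hCU (by rw [card_m11]; norm_num) hDU gen11 shift11 α
  refine ⟨c, ?_⟩
  set β : m11 →* m11 := (MulAut.conj c * α).toMonoidHom with hβ
  have hβa : ∀ x, β x = c * α x * c⁻¹ := fun x => rfl
  simp only [← hβa] at hcU hcD ⊢
  obtain ⟨j, hj, hjX⟩ := OutCrit.eq_pow_mul (p := 5) (by norm_num) (u := D) (g := X) (e := β X) (m := 2)
    hD5 hCD hXD (by
      have := congrArg β hXD
      rwa [map_mul, map_mul, map_pow, hcD] at this)
  have he : ∃ e < 2, pm (pwU (if e = 0 then 1 else 10)) = (β U : Equiv.Perm GolayPt) := by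
    rcases hcU with h | h
    · refine ⟨0, by norm_num, ?_⟩
      rw [if_pos rfl, h, pwU_one]
    · refine ⟨1, by norm_num, ?_⟩
      rw [if_neg (by norm_num), h, pm_pwU10]; rfl
  obtain ⟨e, he, heT⟩ := he
  set g0 : ℕ → m11 := fun k => if k = 0 then U else if k = 1 then D else X with hg0
  have h0 : ∀ k < 3, valid (opt11 0 0 k) = true ∧ pm (opt11 0 0 k) = (g0 k : Equiv.Perm GolayPt) := by
    intro k hk
    refine ⟨opt11_valid 0 (by norm_num) 0 (by norm_num) k hk, ?_⟩
    have hu0 := (pm_pwD (j := 0) (by norm_num))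
    rw [pow_zero] at hu0
    interval_cases k
    · exact congrArg pm pwU_one
    · rfl
    · change pm (comp (pwD 0) cX11) = pm cX11
      rw [pm_comp hu0.1 (by decide +kernel), hu0.2, one_mul]
  have h1 : ∀ k < 3, valid (opt11 e j k) = true ∧ pm (opt11 e j k) = (β (g0 k) : Equiv.Perm GolayPt) := by
    intro k hk
    refine ⟨opt11_valid e he j hj k hk, ?_⟩
    interval_cases k
    · exact heT
    · change pm cD = (β D : Equiv.Perm GolayPt)
      rw [hcD]
    · change pm (comp (pwD j) cX11) = (β X : Equiv.Perm GolayPt)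
      rw [pm_comp (pm_pwD hj).1 (by decide +kernel), (pm_pwD hj).2, hjX]; rfl
  have ha := rel_excl β g0 h0 h1 (w := w11) (by decide) w11_triv
  have hc := chk11 e he j hj
  rw [ha] at hc
  simp only [Bool.or_false, Bool.and_eq_true, beq_iff_eq] at hc
  obtain ⟨rfl, rfl⟩ := hc
  have hT : β U = U := by
    rcases hcU with h | h
    · exact h
    · apply Subtype.ext
      rw [← heT, if_pos rfl, pwU_one]
  rw [pow_zero, one_mul] at hjX
  apply hom_eq_of_closure closure11 β (MonoidHom.id m11)
  rintro x hx (rfl | rfl | rfl)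
  · exact hT
  · exact hcD
  · exact hjX

/-! ### The automorphism induced by an involution normalising a subgroup -/

/-- conjugation by a permutation of square one normalising `H` -/
noncomputable def conjAut {P : Type*} [Group P] (H : Subgroup P) (σ : P) (hσ : σ * σ = 1) (h : ∀ x ∈ H, σ * x * σ⁻¹ ∈ H) :
    MulAut H where
  toFun x := ⟨σ * x * σ⁻¹, h x x.2⟩
  invFun x := ⟨σ * x * σ⁻¹, h x x.2⟩
  left_inv x := by
    apply Subtype.ext
    have h1 : σ⁻¹ = σ := inv_eq_of_mul_eq_one_right hσ
    change σ * (σ * (x : P) * σ⁻¹) * σ⁻¹ = x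
    rw [h1]
    calc σ * (σ * (x : P) * σ) * σ = (σ * σ) * x * (σ * σ) := by group
      _ = x := by rw [hσ]; group
  right_inv x := by
    apply Subtype.ext
    have h1 : σ⁻¹ = σ := inv_eq_of_mul_eq_one_right hσ
    change σ * (σ * (x : P) * σ⁻¹) * σ⁻¹ = x
    rw [h1]
    calc σ * (σ * (x : P) * σ) * σ = (σ * σ) * x * (σ * σ) := by group
      _ = x := by rw [hσ]; group
  map_mul' x y := by
    apply Subtype.ext
    change σ * ((x : P) * y) * σ⁻¹ = σ * x * σ⁻¹ * (σ * y * σ⁻¹)
    group

theorem S_sq : pm cS * pm cS = 1 := by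
  rw [← pm_comp (by decide +kernel) (by decide +kernel), ← pm_idc]
  congr 1

theorem S_inv : (pm cS)⁻¹ = pm cS := inv_eq_of_mul_eq_one_right S_sq

theorem conjS_U : pm cS * pm cU * (pm cS)⁻¹ = (pm cU)⁻¹ := by
  rw [← pm_pwU10, (pm_pwU (by norm_num)).2, rel_SU]; group

theorem conjS_of {c : ℕ} (hc : valid c = true) (h : comp cS c = comp c cS) : pm cS * pm c * (pm cS)⁻¹ = pm c := by
  rw [← pm_comp (by decide +kernel) hc, h, pm_comp hc (by decide +kernel)]; group

/-! ### M12 -/

theorem S_dod : pm cS • st dodU = (st dodU)ᶜ := by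
  rw [pm_smul_st (by decide +kernel), ← st_compl]
  congr 1

theorem S_dodc : pm cS • (st dodU)ᶜ = st dodU := by
  rw [smul_compl', S_dod, compl_compl]

theorem norm12 : ∀ x ∈ m12, pm cS * x * (pm cS)⁻¹ ∈ m12 := by
  rintro x ⟨hx1, hx2⟩
  refine ⟨M24.mul_mem (M24.mul_mem (pm_mem_M24 cS_pres) hx1) (M24.inv_mem (pm_mem_M24 cS_pres)), ?_⟩
  have hx3 : x • st dodU = st dodU := hx2
  change (pm cS * x * (pm cS)⁻¹) • st dodU = st dodU
  rw [S_inv, mul_smul, mul_smul, S_dod, smul_compl', hx3, S_dodc]

theorem out_m12 : Nat.card (Out ↥m12) = 2 := by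
  have hDm : pm cD ∈ m12 := (inM12_iff (by decide +kernel)).1 (by decide +kernel)
  have hZm : pm cZ ∈ m12 := (inM12_iff (by decide +kernel)).1 (by decide +kernel)
  set U : m12 := ⟨pm cU, mem_m12_U⟩ with hUd
  set D : m12 := ⟨pm cD, hDm⟩ with hDd
  set Z : m12 := ⟨pm cZ, hZm⟩ with hZd
  have hU11 : orderOf U = 11 := by rw [hUd, Subgroup.orderOf_mk, orderOf_U]
  have hCU : ∀ g : m12, g * U = U * g → g ∈ Subgroup.zpowers U := fun g hg =>
    mem_zpowers_sub (cent_U g.2.1 (congrArg Subtype.val hg))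
  have hDU : D * U = U ^ 3 * D := Subtype.ext rel_DU
  set β := conjAut m12 (pm cS) S_sq norm12 with hβd
  have hβv : ∀ x : m12, ((β x : m12) : Equiv.Perm GolayPt) = pm cS * x * (pm cS)⁻¹ := fun x => rfl
  have hβU : β U = U⁻¹ := Subtype.ext conjS_U
  have hβZ : β Z = Z := Subtype.ext (conjS_of (by decide +kernel) (by decide +kernel))
  apply OutCrit.card_out_two β
  · rintro ⟨c, hc⟩
    have h1 := congrArg Subtype.val (hc U)
    change (c : Equiv.Perm GolayPt) * (pm cS * pm cU * (pm cS)⁻¹) * (c : Equiv.Perm GolayPt)⁻¹ = pm cU at h1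
    have h2 : ((c : Equiv.Perm GolayPt) * pm cS) * pm cU = pm cU * ((c : Equiv.Perm GolayPt) * pm cS) := by
      rw [mul_inv_eq_iff_eq_mul] at h1
      calc ((c : Equiv.Perm GolayPt) * pm cS) * pm cU
          = (c : Equiv.Perm GolayPt) * (pm cS * pm cU * (pm cS)⁻¹) * pm cS := by group
        _ = _ := by rw [h1]; group
    have h3 := cent_U (M24.mul_mem c.2.1 (pm_mem_M24 cS_pres)) h2
    have h4 : (c : Equiv.Perm GolayPt) * pm cS ∈ m12 := (Subgroup.zpowers_le.2 mem_m12_U) h3
    have h5 : pm cS ∈ m12 := by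
      have := m12.mul_mem (m12.inv_mem c.2) h4
      rwa [inv_mul_cancel_left] at this
    have h6 : pm cS • st dodU = st dodU := h5.2
    rw [S_dod] at h6
    exact absurd h6 (by decide +kernel)
  · intro α
    obtain ⟨c, hcU, hcD⟩ := OutCrit.normalise (p := 11) (by norm_num) (u := U) (d := D) (m := 3)
      hU11 hCU (by rw [card_m12]; norm_num) hDU gen11 shift11 α
    refine ⟨c, ?_⟩
    set γ : m12 →* m12 := (MulAut.conj c * α).toMonoidHom with hγ
    have hγa : ∀ x, γ x = c * α x * c⁻¹ := fun x => rfl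
    simp only [← hγa] at hcU hcD ⊢
    have hZD : Z * D = D * Z := Subtype.ext (by
      change pm cZ * pm cD = pm cD * pm cZ
      rw [← pm_comp (by decide +kernel) (by decide +kernel), ← pm_comp (by decide +kernel) (by decide +kernel)]
      congr 1)
    have hZZ : Z * Z = 1 := Subtype.ext (by
      change pm cZ * pm cZ = 1
      rw [← pm_comp (by decide +kernel) (by decide +kernel), ← pm_idc]
      congr 1)
    have hZ1 : Z ≠ 1 := by
      intro h
      exact ne_one_of_moves (c := cZ) (by decide +kernel) (by decide +kernel) (congrArg Subtype.val h)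
    have hγZ : γ Z = Z := by
      apply Subtype.ext
      apply cent_D12 (γ Z).2
      · have := congrArg γ hZD
        rw [map_mul, map_mul, hcD] at this
        exact congrArg Subtype.val this
      · have := congrArg γ hZZ
        rw [map_mul, map_one] at this
        exact congrArg Subtype.val this
      · intro h
        apply hZ1
        have h1 : γ Z = 1 := Subtype.ext h
        exact (MulAut.conj c * α).injective (h1.trans (map_one γ).symm)
    rcases hcU with h | h
    · left
      apply hom_eq_of_closure closure12 γ (MonoidHom.id m12)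
      rintro x hx (rfl | rfl)
      · exact h
      · exact hγZ
    · right
      apply hom_eq_of_closure closure12 γ β.toMonoidHom
      rintro x hx (rfl | rfl)
      · exact h.trans hβU.symm
      · exact hγZ.trans hβZ.symm

/-! ### M22 -/

def opt22 (e j : ℕ) (k : ℕ) : ℕ := if k = 0 then pwU (if e = 0 then 1 else 10) else if k = 1 then cD else comp (pwD j) cX22

theorem chk22 : ∀ e < 2, ∀ j < 5, ((j == 0) || moves (evc w22 (opt22 e j))) = true := by decide +kernel
theorem opt22_valid : ∀ e < 2, ∀ j < 5, ∀ k < 3, valid (opt22 e j k) = true := by decide +kernel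
theorem w22_triv : evc w22 (opt22 0 0) = idc := by decide +kernel

theorem S_pts : pm cS (pt 23) = pt 0 ∧ pm cS (pt 0) = pt 23 := by
  constructor
  · rw [pm_pt (by decide +kernel) (by norm_num)]; congr 1
  · rw [pm_pt (by decide +kernel) (by norm_num)]; congr 1

theorem norm22 : ∀ x ∈ m22, pm cS * x * (pm cS)⁻¹ ∈ m22 := by
  rintro x ⟨⟨hx1, hx2⟩, hx3⟩
  have h2 : x (pt 23) = pt 23 := hx2
  have h3 : x (pt 0) = pt 0 := hx3
  rw [S_inv]
  refine ⟨⟨M24.mul_mem (M24.mul_mem (pm_mem_M24 cS_pres) hx1) (pm_mem_M24 cS_pres), ?_⟩, ?_⟩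
  · change pm cS (x (pm cS (pt 23))) = pt 23
    rw [S_pts.1, h3, S_pts.2]
  · change pm cS (x (pm cS (pt 0))) = pt 0
    rw [S_pts.2, h2, S_pts.1]

theorem out_m22 : Nat.card (Out ↥m22) = 2 := by
  have hDm : pm cD ∈ m22 := by rw [← closure22]; exact Subgroup.subset_closure (by simp)
  have hXm : pm cX22 ∈ m22 := by rw [← closure22]; exact Subgroup.subset_closure (by simp)
  set U : m22 := ⟨pm cU, mem_m22_U⟩ with hUd
  set D : m22 := ⟨pm cD, hDm⟩ with hDd
  set X : m22 := ⟨pm cX22, hXm⟩ with hXd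
  have hU11 : orderOf U = 11 := by rw [hUd, Subgroup.orderOf_mk, orderOf_U]
  have hD5 : orderOf D = 5 := by rw [hDd, Subgroup.orderOf_mk, orderOf_D]
  have hCU : ∀ g : m22, g * U = U * g → g ∈ Subgroup.zpowers U := fun g hg =>
    mem_zpowers_sub (cent_U g.2.1.1 (congrArg Subtype.val hg))
  have hCD : ∀ g : m22, g * D = D * g → g ∈ Subgroup.zpowers D := fun g hg =>
    mem_zpowers_sub (cent_D22 g.2 (congrArg Subtype.val hg))
  have hDU : D * U = U ^ 3 * D := Subtype.ext rel_DU
  have hXD : X * D = D ^ 2 * X := Subtype.ext rel_XD22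
  set β := conjAut m22 (pm cS) S_sq norm22 with hβd
  have hβU : β U = U⁻¹ := Subtype.ext conjS_U
  have hβD : β D = D := Subtype.ext (conjS_of (by decide +kernel) (by decide +kernel))
  have hβX : β X = X := Subtype.ext (conjS_of (by decide +kernel) (by decide +kernel))
  apply OutCrit.card_out_two β
  · rintro ⟨c, hc⟩
    have h1 := congrArg Subtype.val (hc U)
    change (c : Equiv.Perm GolayPt) * (pm cS * pm cU * (pm cS)⁻¹) * (c : Equiv.Perm GolayPt)⁻¹ = pm cU at h1
    have h2 : ((c : Equiv.Perm GolayPt) * pm cS) * pm cU = pm cU * ((c : Equiv.Perm GolayPt) * pm cS) := by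
      rw [mul_inv_eq_iff_eq_mul] at h1
      calc ((c : Equiv.Perm GolayPt) * pm cS) * pm cU
          = (c : Equiv.Perm GolayPt) * (pm cS * pm cU * (pm cS)⁻¹) * pm cS := by group
        _ = _ := by rw [h1]; group
    have h3 := cent_U (M24.mul_mem c.2.1.1 (pm_mem_M24 cS_pres)) h2
    have h4 : (c : Equiv.Perm GolayPt) * pm cS ∈ m22 := (Subgroup.zpowers_le.2 mem_m22_U) h3
    have h5 : pm cS ∈ m22 := by
      have := m22.mul_mem (m22.inv_mem c.2) h4
      rwa [inv_mul_cancel_left] at this
    have h6 : pm cS (pt 23) = pt 23 := h5.1.2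
    rw [S_pts.1] at h6
    exact absurd h6 (by decide)
  · intro α
    obtain ⟨c, hcU, hcD⟩ := OutCrit.normalise (p := 11) (by norm_num) (u := U) (d := D) (m := 3)
      hU11 hCU (by rw [card_m22]; norm_num) hDU gen11 shift11 α
    refine ⟨c, ?_⟩
    set γ : m22 →* m22 := (MulAut.conj c * α).toMonoidHom with hγ
    have hγa : ∀ x, γ x = c * α x * c⁻¹ := fun x => rfl
    simp only [← hγa] at hcU hcD ⊢
    obtain ⟨j, hj, hjX⟩ := OutCrit.eq_pow_mul (p := 5) (by norm_num) (u := D) (g := X) (e := γ X) (m := 2)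
      hD5 hCD hXD (by
        have := congrArg γ hXD
        rwa [map_mul, map_mul, map_pow, hcD] at this)
    have he : ∃ e < 2, pm (pwU (if e = 0 then 1 else 10)) = (γ U : Equiv.Perm GolayPt) := by
      rcases hcU with h | h
      · refine ⟨0, by norm_num, ?_⟩
        rw [if_pos rfl, h, pwU_one]
      · refine ⟨1, by norm_num, ?_⟩
        rw [if_neg (by norm_num), h, pm_pwU10]; rfl
    obtain ⟨e, he, heT⟩ := he
    set g0 : ℕ → m22 := fun k => if k = 0 then U else if k = 1 then D else X with hg0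
    have h0 : ∀ k < 3, valid (opt22 0 0 k) = true ∧ pm (opt22 0 0 k) = (g0 k : Equiv.Perm GolayPt) := by
      intro k hk
      refine ⟨opt22_valid 0 (by norm_num) 0 (by norm_num) k hk, ?_⟩
      have hu0 := (pm_pwD (j := 0) (by norm_num))
      rw [pow_zero] at hu0
      interval_cases k
      · exact congrArg pm pwU_one
      · rfl
      · change pm (comp (pwD 0) cX22) = pm cX22
        rw [pm_comp hu0.1 (by decide +kernel), hu0.2, one_mul]
    have h1 : ∀ k < 3, valid (opt22 e j k) = true ∧ pm (opt22 e j k) = (γ (g0 k) : Equiv.Perm GolayPt) := by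
      intro k hk
      refine ⟨opt22_valid e he j hj k hk, ?_⟩
      interval_cases k
      · exact heT
      · change pm cD = (γ D : Equiv.Perm GolayPt)
        rw [hcD]
      · change pm (comp (pwD j) cX22) = (γ X : Equiv.Perm GolayPt)
        rw [pm_comp (pm_pwD hj).1 (by decide +kernel), (pm_pwD hj).2, hjX]; rfl
    have ha := rel_excl γ g0 h0 h1 (w := w22) (by decide) w22_triv
    have hc := chk22 e he j hj
    rw [ha] at hc
    simp only [Bool.or_false, beq_iff_eq] at hc
    subst hc
    rw [pow_zero, one_mul] at hjX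
    rcases hcU with h | h
    · left
      apply hom_eq_of_closure closure22 γ (MonoidHom.id m22)
      rintro x hx (rfl | rfl | rfl)
      · exact h
      · exact hcD
      · exact hjX
    · right
      apply hom_eq_of_closure closure22 γ β.toMonoidHom
      rintro x hx (rfl | rfl | rfl)
      · exact h.trans hβU.symm
      · exact hcD.trans hβD.symm
      · exact hjX.trans hβX.symm

end Cfsg.Agent.Lib.Golay
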