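import Cfsg.Agent.Lib.Golay.Leech

/-!
Self-duality of the length-24 code; prescribing the intersection of a word with a set.
-/

set_option autoImplicit false

namespace Cfsg.Agent.Lib.Golay

open scoped Pointwise
open Cfsg Finset

theorem dual_dat : allB (fun t => t == 0 || rows.any (fun r => pc ((t <<< 12) &&& r) % 2 == 1)) 0 12 = true := by
  decide +kernel

theorem rows_inCode : ∀ r ∈ rows, inCode r = true := by decide +kernel

theorem symmDiff_inter (A B C : Finset GolayPt) : symmDiff A B ∩ C = symmDiff (A ∩ C) (B ∩ C) := by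
  ext p
  simp only [mem_inter, mem_symmDiff]
  tauto

theorem low_dat : allB (fun c => comb c &&& 4095 == c) 0 12 = true := comb_low

theorem golay_dual {d : Finset GolayPt} (h : ∀ c, IsWord c → (d ∩ c).card % 2 = 0) : IsWord d := by
  have hn := mk_lt d
  have hlow : (mk d &&& 4095) < 4096 := Nat.lt_of_le_of_lt Nat.and_le_right (by norm_num)
  have hw : IsWord (st (comb (mk d &&& 4095))) := (isWord_st (comb_lt _)).2 (inCode_comb _)
  have e0 : comb (mk d &&& 4095) &&& 4095 = mk d &&& 4095 := by
    have := of_allB comb_low (i := mk d &&& 4095) (Nat.zero_le _) (by simpa using hlow)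
    simpa using this
  have hz : (mk d ^^^ comb (mk d &&& 4095)) &&& 4095 = 0 := by
    rw [Nat.and_xor_distrib_right, e0, Nat.xor_self]
  have hlt : (mk d ^^^ comb (mk d &&& 4095)) < 2 ^ 24 := Nat.xor_lt_two_pow hn (comb_lt _)
  have hshift : (mk d ^^^ comb (mk d &&& 4095)) = ((mk d ^^^ comb (mk d &&& 4095)) >>> 12) <<< 12 := by
    have h1 := Nat.and_two_pow_sub_one_eq_mod (mk d ^^^ comb (mk d &&& 4095)) 12
    rw [show 2 ^ 12 - 1 = 4095 by norm_num, hz] at h1
    rw [Nat.shiftRight_eq_div_pow, Nat.shiftLeft_eq]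
    omega
  have ht : ((mk d ^^^ comb (mk d &&& 4095)) >>> 12) < 4096 := by
    rw [Nat.shiftRight_eq_div_pow]
    apply Nat.div_lt_of_lt_mul
    calc _ < 2 ^ 24 := hlt
      _ = 2 ^ 12 * 4096 := by norm_num
  have h2 := of_allB dual_dat (i := (mk d ^^^ comb (mk d &&& 4095)) >>> 12) (Nat.zero_le _) (by simpa using ht)
  simp only [Bool.or_eq_true, beq_iff_eq, List.any_eq_true] at h2
  rcases h2 with h2 | ⟨r, hr, h2⟩
  · have h3 : mk d ^^^ comb (mk d &&& 4095) = 0 := by
      rw [hshift, h2]; rfl
    have h4 : mk d = comb (mk d &&& 4095) := Nat.xor_eq_zero_iff.1 h3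
    have h5 : d = st (mk d) := (st_mk d).symm
    rw [h5, h4]; exact hw
  · exfalso
    rw [← hshift, ← card_st, st_and, st_xor, symmDiff_inter, st_mk] at h2
    have hrw : IsWord (st r) := (isWord_st (inCode_lt (rows_inCode r hr))).2 (rows_inCode r hr)
    have h3 := h _ hrw
    have h4 := hw.inter_even hrw
    have h5 := card_symmDiff (d ∩ st r) (st (comb (mk d &&& 4095)) ∩ st r)
    omega

/-- indicator word -/
def ind2 (s : Finset GolayPt) : GolayPt → ZMod 2 := fun i => if i ∈ s then 1 else 0

theorem support_ind2 (s : Finset GolayPt) : support₂ (ind2 s) = s := by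
  ext i
  simp [support₂, ind2]

theorem ind2_support (w : GolayPt → ZMod 2) : ind2 (support₂ w) = w := by
  ext i
  simp only [support₂, ind2, mem_filter, mem_univ, true_and]
  generalize w i = a
  revert a; decide

theorem ind2_mem {s : Finset GolayPt} : ind2 s ∈ golayCode ↔ IsWord s := by
  rw [mem_golayCode_iff, support_ind2]; rfl

theorem exists_word_inter {A E : Finset GolayPt} (hE : E ⊆ A)
    (h : ∀ d, IsWord d → d ⊆ A → (E ∩ d).card % 2 = 0) : ∃ c, IsWord c ∧ c ∩ A = E := by
  let P : Submodule (ZMod 2) (GolayPt → ZMod 2) :=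
    { carrier := {w | ∃ c ∈ golayCode, ∀ i ∈ A, w i = c i}
      zero_mem' := ⟨0, zero_mem _, fun _ _ => rfl⟩
      add_mem' := by
        rintro a b ⟨c, hc, h1⟩ ⟨d, hd, h2⟩
        exact ⟨c + d, add_mem hc hd, fun i hi => by rw [Pi.add_apply, Pi.add_apply, h1 i hi, h2 i hi]⟩
      smul_mem' := by
        rintro r a ⟨c, hc, h1⟩
        exact ⟨r • c, Submodule.smul_mem _ r hc, fun i hi => by rw [Pi.smul_apply, Pi.smul_apply, h1 i hi]⟩ }
  by_cases hv : ind2 E ∈ P
  · obtain ⟨c, hc, h1⟩ := hv
    refine ⟨support₂ c, ?_, ?_⟩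
    · rw [← ind2_mem, ind2_support]; exact hc
    · ext i
      rw [mem_inter]
      constructor
      · rintro ⟨h2, h3⟩
        have h4 := h1 i h3
        rw [support₂, mem_filter] at h2
        unfold ind2 at h4
        by_contra h5
        rw [if_neg h5] at h4
        exact h2.2 h4.symm
      · intro h2
        have h3 := hE h2
        have h4 := h1 i h3
        unfold ind2 at h4
        rw [if_pos h2] at h4
        refine ⟨?_, h3⟩
        rw [support₂, mem_filter, ← h4]
        exact ⟨mem_univ _, one_ne_zero⟩
  · exfalso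
    obtain ⟨f, hf, hP⟩ := Submodule.exists_le_ker_of_notMem hv
    let d : Finset GolayPt := univ.filter (fun i => f (fun j => if i = j then 1 else 0) ≠ 0)
    have hfs : ∀ s : Finset GolayPt, f (ind2 s) = ((s ∩ d).card : ZMod 2) := by
      intro s
      rw [LinearMap.pi_apply_eq_sum_univ f (ind2 s)]
      have h1 : ∀ i, ind2 s i • f (fun j => if i = j then 1 else 0) = if i ∈ s ∩ d then (1 : ZMod 2) else 0 := by
        intro i
        have h2 : i ∈ d ↔ f (fun j => if i = j then 1 else 0) ≠ 0 := by
          show i ∈ univ.filter _ ↔ _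
          rw [mem_filter]; simp
        unfold ind2
        by_cases hi : i ∈ s
        · by_cases hd : i ∈ d
          · rw [if_pos hi, if_pos (mem_inter.2 ⟨hi, hd⟩)]
            have h3 := h2.1 hd
            revert h3
            generalize f (fun j => if i = j then 1 else 0) = a
            revert a; decide
          · rw [if_pos hi, if_neg (fun h => hd (mem_inter.1 h).2)]
            have h3 : f (fun j => if i = j then 1 else 0) = 0 := by
              by_contra h4; exact hd (h2.2 h4)
            rw [h3, smul_zero]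
        · rw [if_neg hi, if_neg (fun h => hi (mem_inter.1 h).1), zero_smul]
      rw [sum_congr rfl (fun i _ => h1 i), sum_boole]
      congr 2
      ext i
      simp
    have hdw : IsWord d := by
      apply golay_dual
      intro c hc
      have h1 : ind2 c ∈ P := ⟨ind2 c, ind2_mem.2 hc, fun _ _ => rfl⟩
      have h2 : f (ind2 c) = 0 := hP h1
      rw [hfs, inter_comm] at h2
      exact (Nat.dvd_iff_mod_eq_zero).1 ((ZMod.natCast_eq_zero_iff _ _).1 h2)
    have hdA : d ⊆ A := by
      intro i hi
      by_contra hiA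
      have h1 : (fun j => if i = j then (1 : ZMod 2) else 0) ∈ P := by
        refine ⟨0, zero_mem _, fun j hj => ?_⟩
        have : i ≠ j := fun h => hiA (h ▸ hj)
        simp [this]
      have h2 : f (fun j => if i = j then (1 : ZMod 2) else 0) = 0 := hP h1
      have h3 : i ∈ univ.filter (fun i => f (fun j => if i = j then 1 else 0) ≠ 0) := hi
      rw [mem_filter] at h3
      exact h3.2 h2
    apply hf
    rw [hfs, ZMod.natCast_eq_zero_iff]
    exact (Nat.dvd_iff_mod_eq_zero).2 (h d hdw hdA)

/-- prescribed intersection with at most seven points -/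
theorem exists_word_small {A E : Finset GolayPt} (hA : A.card < 8) (hE : E ⊆ A) : ∃ c, IsWord c ∧ c ∩ A = E := by
  apply exists_word_inter hE
  intro d hd hdA
  have h1 := card_le_card hdA
  have h2 : d.card = 0 := by
    have := hd.card; omega
  rw [card_eq_zero.1 h2, inter_empty]; rfl

/-- prescribed intersection with an octad and at most three further points -/
theorem exists_word_octad {O Z E : Finset GolayPt} (hO : O ∈ octads) (hZ : Z.card < 4) (hE : E ⊆ O ∪ Z)
    (hev : (E ∩ O).card % 2 = 0) : ∃ c, IsWord c ∧ c ∩ (O ∪ Z) = E := by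
  rw [mem_octads] at hO
  apply exists_word_inter hE
  intro d hd hdA
  by_cases hdO : d = O
  · rw [hdO]; exact hev
  have h1 : (symmDiff d O) ∩ O = O \ d := by
    ext p; simp only [mem_inter, mem_symmDiff, mem_sdiff]; tauto
  have h2 := card_symmDiff d O
  have h3 := (hd.symmDiff hO.1).card
  have h4 : (symmDiff d O).card ≠ 0 := by
    rw [card_ne_zero, symmDiff_nonempty]; exact hdO
  have h5 := hd.card
  have h6 : d.card ≤ (d ∩ O).card + 3 := by
    have h7 : d ⊆ (d ∩ O) ∪ Z := by
      intro p hp
      have := hdA hp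
      rw [mem_union] at this ⊢
      rw [mem_inter]; tauto
    have h8 := card_le_card h7
    have h9 := card_union_le (d ∩ O) Z
    omega
  have h10 : (d ∩ O).card ≤ 8 := by
    rw [← hO.2]; exact card_le_card inter_subset_right
  have h11 : d.card = 0 := by omega
  rw [card_eq_zero.1 h11, inter_empty]; rfl

end Cfsg.Agent.Lib.Golay
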