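import Cfsg.Agent.Lib.Golay.SimpleD

/-!
Further facts: octads determine the group; the pointwise stabiliser of an octad; intersections with a dodecad.
-/

set_option autoImplicit false

namespace Cfsg.Agent.Lib.Golay

open scoped Pointwise
open Cfsg

theorem rows_octads : ∀ i < 12, inCode (comb (2 ^ i)) = true ∧ pc (comb (2 ^ i)) = 8 := by decide +kernel

theorem mem_M24_of_octads {g : Equiv.Perm GolayPt} (h : ∀ o ∈ octads, g • o ∈ octads) : g ∈ M24 := by
  rw [mem_M24_iff]
  intro s hs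
  refine word_induction (P := fun s => IsWord (g • s)) ?_ ?_ ?_ hs
  · rw [Finset.smul_finset_empty, ← st_zero, isWord_st (by norm_num)]; exact inCode_zero
  · intro a b ha hb
    simp only [smul_symmDiff]
    exact ha.symmDiff hb
  · intro i hi
    exact (mem_octads.1 (h _ ((st_mem_octads (comb_lt _)).2 (rows_octads i hi)))).1

theorem M24_eq_aut_octads : M24 = setSystemAut octads := by
  ext g
  constructor
  · intro hg
    unfold setSystemAut
    rw [MulAction.mem_stabilizer_iff]
    apply Set.eq_of_subset_of_ncard_le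
    · rintro _ ⟨o, ho, rfl⟩
      exact smul_mem_octads hg ho
    · rw [Set.ncard_smul_set]
    · exact Set.toFinite _
  · intro hg
    unfold setSystemAut at hg
    rw [MulAction.mem_stabilizer_iff] at hg
    apply mem_M24_of_octads
    intro o ho
    rw [← hg]
    exact Set.smul_mem_smul_set ho

theorem compAux_eq_bldAux (c d n : ℕ) : compAux c d n = bldAux (fun i => img c (img d i)) n := by
  induction n with
  | zero => rfl
  | succ n ih => simp only [compAux, bldAux, ih]

theorem comp_eq_bld (c d : ℕ) : comp c d = bld (fun i => img c (img d i)) := compAux_eq_bldAux c d 24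

theorem codeOf_pm_comp {c d : ℕ} (hc : valid c = true) (hd : valid d = true) :
    codeOf (pm (comp c d)) = comp c d := by
  have h := valid_comp hc hd
  rw [comp_eq_bld] at h ⊢
  exact codeOf_pm_bld (fun i _ => img_lt _ _) h

/-! ### pointwise stabiliser of an octad -/

/-- test that a code fixes the points of a mask -/
def fixesB (c m : ℕ) : Bool := (List.range 24).all (fun i => !m.testBit i || img c i == i)

theorem fixesB_iff {c : ℕ} (hc : valid c = true) (m : ℕ) : fixesB c m = true ↔ Fixes (pm c) m := by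
  unfold fixesB
  rw [List.all_eq_true]
  constructor
  · intro h p hp
    apply ix_inj
    rw [ix_pm hc]
    have h2 := h (ix p) (List.mem_range.2 (ix_lt p))
    rw [mem_st] at hp
    simpa [hp] using h2
  · intro h i hi
    rw [List.mem_range] at hi
    by_cases hb : m.testBit i = true
    · have h1 := h (pt i) (by rw [mem_st, ix_pt hi]; exact hb)
      have h2 := congrArg ix h1
      rw [ix_pm hc, ix_pt hi] at h2
      simp [hb, h2]
    · simp [hb]

theorem fixOct_data : (list48.filter (fun c => fixesB c oct0)).Nodup ∧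
    (list48.filter (fun c => fixesB c oct0)).length = 16 ∧
    (∀ c ∈ list48.filter (fun c => fixesB c oct0), comp c c = idc) := by decide +kernel

theorem list48_spec : ∀ c ∈ list48, valid c = true ∧ codeOf (pm c) = c := by
  intro c hc
  unfold list48 at hc
  rw [List.mem_flatMap] at hc
  obtain ⟨a, ha, hc⟩ := hc
  rw [List.mem_map] at hc
  obtain ⟨b, hb, rfl⟩ := hc
  have hav := pres_valid (trOK_spec (tr_ok 5 (by norm_num)) ha).1
  have hbv := pres_valid (trOK_spec (tr_ok 6 (by norm_num)) hb).1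
  exact ⟨valid_comp hav hbv, codeOf_pm_comp hav hbv⟩

theorem list48_mem_chain : ∀ c ∈ list48, pm c ∈ chain 5 := by
  intro c hc
  unfold list48 at hc
  rw [List.mem_flatMap] at hc
  obtain ⟨a, ha, hc⟩ := hc
  rw [List.mem_map] at hc
  obtain ⟨b, hb, rfl⟩ := hc
  have hav := pres_valid (trOK_spec (tr_ok 5 (by norm_num)) ha).1
  have hbv := pres_valid (trOK_spec (tr_ok 6 (by norm_num)) hb).1
  have hbc : pm b ∈ chain 6 := pm_mem_chain (by norm_num) hb
  rw [chain_succ (by norm_num)] at hbc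
  rw [pm_comp hav hbv]
  exact Subgroup.mul_mem _ (pm_mem_chain (by norm_num) ha) hbc.1

theorem mem_fixOct_iff (g : Equiv.Perm GolayPt) : (g ∈ M24 ∧ Fixes g oct0) ↔
    codeOf g ∈ list48.filter (fun c => fixesB c oct0) := by
  rw [List.mem_filter]
  constructor
  · rintro ⟨h1, h2⟩
    have h5 : g ∈ chain 5 := by
      refine ⟨h1, fun p hp => h2 p ?_⟩
      revert hp; revert p; decide +kernel
    obtain ⟨c, hc, hcv, rfl⟩ := mem_chain5 h5
    rw [(list48_spec c hc).2]
    exact ⟨hc, (fixesB_iff hcv _).2 h2⟩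
  · rintro ⟨h1, h2⟩
    have h3 := (fixesB_iff (valid_codeOf g) _).1 h2
    have h4 := list48_mem_chain _ h1
    rw [pm_codeOf] at h3 h4
    exact ⟨h4.1, h3⟩

theorem ncard_fixOct : {g | g ∈ M24 ∧ Fixes g oct0}.ncard = 16 := by
  rw [ncard_eq_length (S := {g | g ∈ M24 ∧ Fixes g oct0}) (l := list48.filter (fun c => fixesB c oct0)) fixOct_data.1
    (fun c hc => (list48_spec c (List.mem_filter.1 hc).1).2) mem_fixOct_iff, fixOct_data.2.1]

theorem fixOct_sq {g : Equiv.Perm GolayPt} (hg : g ∈ M24) (h : Fixes g oct0) : g * g = 1 := by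
  have h1 := (mem_fixOct_iff g).1 ⟨hg, h⟩
  have h2 := fixOct_data.2.2 _ h1
  have h3 := pm_comp (valid_codeOf g) (valid_codeOf g)
  rw [h2, pm_idc, pm_codeOf] at h3
  exact h3.symm

theorem fixOct_general {o : Finset GolayPt} (ho : o ∈ octads) :
    {g | g ∈ M24 ∧ ∀ p ∈ o, g p = p}.ncard = 16 ∧ ∀ g ∈ M24, (∀ p ∈ o, g p = p) → g * g = 1 := by
  obtain ⟨k, hk, e⟩ := octads_transitive oct0_mem ho
  have hconj : ∀ g : Equiv.Perm GolayPt, (g ∈ M24 ∧ ∀ p ∈ o, g p = p) ↔
      (k⁻¹ * g * k ∈ M24 ∧ Fixes (k⁻¹ * g * k) oct0) := by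
    intro g
    have h1 : k⁻¹ * g * k ∈ M24 ↔ g ∈ M24 := by
      constructor
      · intro h
        have h2 := M24.mul_mem (M24.mul_mem hk h) (M24.inv_mem hk)
        have h3 : k * (k⁻¹ * g * k) * k⁻¹ = g := by group
        rwa [h3] at h2
      · intro h
        exact M24.mul_mem (M24.mul_mem (M24.inv_mem hk) h) hk
    rw [h1]
    apply and_congr_right
    intro _
    constructor
    · intro h p hp
      rw [Equiv.Perm.mul_apply, Equiv.Perm.mul_apply, h (k p) (by rw [← e, smul_mem_smul_iff']; exact hp)]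
      exact k.symm_apply_apply p
    · intro h p hp
      rw [← e, mem_smul_iff] at hp
      have h2 := h _ hp
      rw [Equiv.Perm.mul_apply, Equiv.Perm.mul_apply, Equiv.apply_symm_apply] at h2
      have h3 : k.symm (g p) = k.symm p := h2
      exact k.symm.injective h3
  constructor
  · rw [← ncard_fixOct]
    have : {g | g ∈ M24 ∧ ∀ p ∈ o, g p = p} = (fun g => k * g * k⁻¹) '' {g | g ∈ M24 ∧ Fixes g oct0} := by
      ext g
      rw [Set.mem_image]
      constructor
      · intro hg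
        exact ⟨k⁻¹ * g * k, (hconj g).1 hg, by group⟩
      · rintro ⟨h, hh, rfl⟩
        apply (hconj _).2
        have h3 : k⁻¹ * (k * h * k⁻¹) * k = h := by group
        rw [h3]; exact hh
    rw [this, Set.ncard_image_of_injective]
    intro a b hab
    exact mul_left_cancel (mul_right_cancel hab)
  · intro g hg h
    have h1 := (hconj g).1 ⟨hg, h⟩
    have h2 := fixOct_sq h1.1 h1.2
    have h3 : g * g = k * (k⁻¹ * g * k * (k⁻¹ * g * k)) * k⁻¹ := by group
    rw [h3, h2]; group

/-! ### counting words -/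

theorem ncard_words_pred {F : Finset GolayPt → Prop} {f : ℕ → Bool} (hF : ∀ s, F s ↔ f (mk s) = true) :
    {s : Finset GolayPt | IsWord s ∧ F s}.ncard = countB (fun c => f (comb c)) 0 12 := by
  rw [countB_eq, ← Set.ncard_coe_finset]
  symm
  refine Set.ncard_congr (fun c _ => st (comb c)) ?_ ?_ ?_
  · intro c hc
    rw [Finset.mem_coe, Finset.mem_filter] at hc
    exact ⟨isWord_comb c, by rw [hF, mk_st (comb_lt c)]; exact hc.2⟩
  · intro a b ha hb hab
    rw [Finset.mem_coe, Finset.mem_filter, Finset.mem_Ico] at ha hb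
    exact comb_injOn (by simpa using ha.1.2) (by simpa using hb.1.2) (st_inj (comb_lt a) (comb_lt b) hab)
  · rintro s ⟨h1, h2⟩
    obtain ⟨c, hc, e⟩ := inCode_iff_exists.1 h1
    refine ⟨c, ?_, by rw [← e, st_mk]⟩
    rw [Finset.mem_coe, Finset.mem_filter, Finset.mem_Ico]
    refine ⟨⟨Nat.zero_le _, by simpa using hc⟩, ?_⟩
    rw [hF, e] at h2; exact h2

theorem octads_meeting {i : ℕ} {d d' : Finset GolayPt} (hd : d ∈ dodecads) (hd' : d' ∈ dodecads) :
    {o : Finset GolayPt | o ∈ octads ∧ (o ∩ d).card = i}.ncard =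
      {o : Finset GolayPt | o ∈ octads ∧ (o ∩ d').card = i}.ncard := by
  obtain ⟨g, hg, rfl⟩ := dodecads_transitive hd hd'
  have : {o : Finset GolayPt | o ∈ octads ∧ (o ∩ g • d).card = i} =
      (fun o => g • o) '' {o : Finset GolayPt | o ∈ octads ∧ (o ∩ d).card = i} := by
    ext o
    rw [Set.mem_image]
    constructor
    · rintro ⟨h1, h2⟩
      refine ⟨g⁻¹ • o, ⟨smul_mem_octads (M24.inv_mem hg) h1, ?_⟩, smul_inv_smul g o⟩
      rw [← h2, ← Finset.card_smul_finset g (g⁻¹ • o ∩ d), smul_inter', smul_inv_smul]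
    · rintro ⟨o', ⟨h1, h2⟩, rfl⟩
      refine ⟨smul_mem_octads hg h1, ?_⟩
      show (g • o' ∩ g • d).card = i
      rw [← smul_inter', Finset.card_smul_finset, h2]
  rw [this, Set.ncard_image_of_injective _ (MulAction.injective g)]

theorem octads_meeting_dodU (i n : ℕ) (h : countB (fun c => pc (comb c) == 8 && pc (comb c &&& dodU) == i) 0 12 = n) :
    {o : Finset GolayPt | o ∈ octads ∧ (o ∩ st dodU).card = i}.ncard = n := by
  rw [← h, ← ncard_words_pred (F := fun s => s.card = 8 ∧ (s ∩ st dodU).card = i)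
    (f := fun m => pc m == 8 && pc (m &&& dodU) == i)]
  · congr 1
    ext s
    simp only [Set.mem_setOf_eq, mem_octads]
    tauto
  · intro s
    rw [Bool.and_eq_true, beq_iff_eq, beq_iff_eq, card_eq_pc, ← card_st (mk s &&& dodU), st_and, st_mk]

theorem octads_meeting_six {d : Finset GolayPt} (hd : d ∈ dodecads) :
    {o : Finset GolayPt | o ∈ octads ∧ (o ∩ d).card = 6}.ncard = 132 ∧
    {o : Finset GolayPt | o ∈ octads ∧ (o ∩ d).card = 2}.ncard = 132 ∧
    {o : Finset GolayPt | o ∈ octads ∧ (o ∩ d).card = 4}.ncard = 495 := by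
  refine ⟨?_, ?_, ?_⟩
  · rw [octads_meeting hd dodU_mem]
    exact octads_meeting_dodU 6 132 (by decide +kernel)
  · rw [octads_meeting hd dodU_mem]
    exact octads_meeting_dodU 2 132 (by decide +kernel)
  · rw [octads_meeting hd dodU_mem]
    exact octads_meeting_dodU 4 495 (by decide +kernel)

theorem octad_dodecad_inter {o d : Finset GolayPt} (ho : o ∈ octads) (hd : d ∈ dodecads) :
    (o ∩ d).card = 2 ∨ (o ∩ d).card = 4 ∨ (o ∩ d).card = 6 := by
  obtain ⟨ho1, ho2⟩ := mem_octads.1 ho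
  obtain ⟨hd1, hd2⟩ := mem_dodecads.1 hd
  have h := card_symmDiff o d
  have hw := (ho1.symmDiff hd1).card
  have hle := Finset.card_le_card (Finset.inter_subset_left (s₁ := o) (s₂ := d))
  rw [ho2] at hle
  rw [ho2, hd2] at h
  generalize (symmDiff o d).card = a at h hw
  generalize (o ∩ d).card = b at h hle ⊢
  omega

/-! ### M11 on twelve points -/

/-- elements fixing 23, 5, 7 and the dodecad, moving 0 everywhere in the dodecad -/
def tr389 : List ℕ := [0xbdab49ca307b9ac5a928398a418820, 0xbae71b41e053906ad06d390a24b241, 0xba9cfaa264b46015d1a038ca934982, 0xbbaaa7c9619d98d8d122398a402203, 0xbbe9653262ab8608ad093c0b2684c4, 0xbd5ee5222d5ce09b5083380a114986, 0xbd171519cd7d9309d58038ca114888, 0xbba74542b2b2cc87c46c390a20b409, 0xbaeb3512c2a440373cd03a4b26850c, 0xbc5769b142756407d0c9384a32410d, 0xbd14fb06209d4c872e443b4a24b070, 0xbd5d388e90559847ad223a0ad01832]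

theorem tr389_ok : tr389.all (fun c => pres c && act c dodU == dodU && img c 23 == 23 && img c 5 == 5 &&
    img c 7 == 7) = true := by decide +kernel

theorem tr389_covers : ∀ i < 24, dodU.testBit i = true → ∃ c ∈ tr389, img c 0 = i := by decide +kernel

/-- the points 23, 5, 7 -/
def s389 (i : ℕ) : GolayPt := if i = 0 then pt 23 else if i = 1 then pt 5 else pt 7

theorem std389 {q : GolayPt} (hq : q ∈ st dodU) :
    ∃ g ∈ M24, g • st dodU = st dodU ∧ (∀ i < 3, g (s389 i) = s389 i) ∧ g (pt 0) = q := by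
  rw [mem_st] at hq
  obtain ⟨c, hc, e⟩ := tr389_covers (ix q) (ix_lt q) hq
  have h1 := tr389_ok
  rw [List.all_eq_true] at h1
  have h2 := h1 c hc
  simp only [Bool.and_eq_true, beq_iff_eq] at h2
  obtain ⟨⟨⟨⟨h3, h4⟩, h5⟩, h6⟩, h7⟩ := h2
  have hv := pres_valid h3
  refine ⟨pm c, pm_mem_M24 h3, ?_, ?_, ?_⟩
  · rw [pm_smul_st hv, h4]
  · intro i hi
    unfold s389
    split_ifs
    · rw [pm_pt hv (by norm_num), h5]
    · rw [pm_pt hv (by norm_num), h6]
    · rw [pm_pt hv (by norm_num), h7]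
  · rw [pm_pt hv (by norm_num), e, pt_ix]

theorem compl_dodecad {d : Finset GolayPt} (hd : d ∈ dodecads) : dᶜ ∈ dodecads := by
  rw [mem_dodecads] at hd ⊢
  exact ⟨hd.1.compl, by rw [Finset.card_compl, card_golayPt, hd.2]⟩

theorem m11_threeTrans {d : Finset GolayPt} (hd : d ∈ dodecads) {p : GolayPt} (hp : p ∈ d) {x y : ℕ → GolayPt}
    (hx : ∀ i < 3, ∀ j < i, x j ≠ x i) (hxd : ∀ i < 3, x i ∉ d)
    (hy : ∀ i < 3, ∀ j < i, y j ≠ y i) (hyd : ∀ i < 3, y i ∉ d) :
    ∃ g ∈ M24, g • d = d ∧ g p = p ∧ ∀ i < 3, g (x i) = y i := by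
  have hdc := compl_dodecad hd
  have hstd : ∀ i < 3, ∀ j < i, s389 j ≠ s389 i := by decide +kernel
  have hstd' : ∀ i < 3, s389 i ∉ st dodU := by decide +kernel
  -- move to the standard situation
  have move : ∀ z : ℕ → GolayPt, (∀ i < 3, ∀ j < i, z j ≠ z i) → (∀ i < 3, z i ∉ d) →
      ∃ g ∈ M24, g • d = st dodU ∧ ∀ i < 3, g (z i) = s389 i := by
    intro z hz hzd
    obtain ⟨g, hg, e⟩ := dodecads_transitive hd dodU_mem
    obtain ⟨k, hk, e1, e2⟩ := dod_map (compl_dodecad dodU_mem) (n := 3) (by norm_num)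
      (x := fun i => g (z i)) (y := s389)
      (fun i hi j hj h => hz i hi j hj (g.injective h))
      (fun i hi => by
        rw [Finset.mem_compl, ← e, smul_mem_smul_iff']; exact hzd i hi)
      hstd (fun i hi => by rw [Finset.mem_compl]; exact hstd' i hi)
    refine ⟨k * g, M24.mul_mem hk hg, ?_, fun i hi => e2 i hi⟩
    rw [smul_compl'] at e1
    rw [mul_smul, e, compl_inj_iff.1 e1]
  obtain ⟨g, hg, g1, g2⟩ := move x hx hxd
  obtain ⟨h, hh, h1, h2⟩ := move y hy hyd
  have hgp : g p ∈ st dodU := by rw [← g1, smul_mem_smul_iff']; exact hp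
  have hhp : h p ∈ st dodU := by rw [← h1, smul_mem_smul_iff']; exact hp
  obtain ⟨a, ha, a1, a2, a3⟩ := std389 hgp
  obtain ⟨b, hb, b1, b2, b3⟩ := std389 hhp
  refine ⟨h⁻¹ * (b * (a⁻¹ * g)), M24.mul_mem (M24.inv_mem hh) (M24.mul_mem hb (M24.mul_mem (M24.inv_mem ha) hg)),
    ?_, ?_, ?_⟩
  · rw [mul_smul, mul_smul, mul_smul, g1, inv_smul_eq_iff, h1]
    have : a⁻¹ • st dodU = st dodU := by rw [inv_smul_eq_iff, a1]
    rw [this, b1]
  · rw [Equiv.Perm.mul_apply, Equiv.Perm.mul_apply, Equiv.Perm.mul_apply, ← a3]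
    have e1 : a⁻¹ (a (pt 0)) = pt 0 := a.symm_apply_apply _
    have e2 : h⁻¹ (h p) = p := h.symm_apply_apply _
    rw [e1, b3, e2]
  · intro i hi
    rw [Equiv.Perm.mul_apply, Equiv.Perm.mul_apply, Equiv.Perm.mul_apply, g2 i hi]
    have : a⁻¹ (s389 i) = s389 i := by rw [Equiv.Perm.inv_eq_iff_eq, a2 i hi]
    rw [this, b2 i hi, ← h2 i hi]
    exact h.symm_apply_apply _

end Cfsg.Agent.Lib.Golay
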