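import Cfsg.Agent.Lib.Golay.Misc

/-!
Engine for orbits on words of the length-24 code: each word carries a hint (a generator moving it closer to the root
of its class).
-/

set_option autoImplicit false

namespace Cfsg.Agent.Lib.Golay

open scoped Pointwise
open Cfsg

/-- entry `c` of a table with entries of `w` bits -/
def tabAt (T w c : ℕ) : ℕ := (T >>> (w * c)) &&& (2 ^ w - 1)

/-- checking one word -/
def descStep (gens : List ℕ) (G D : ℕ) (P : ℕ → Bool) (root : ℕ → ℕ) (c : ℕ) : Bool :=
  !P (comb c) || comb c == root (comb c) ||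
    (P (act (gens.getD (tabAt G 4 c) idc) (comb c)) &&
      (root (act (gens.getD (tabAt G 4 c) idc) (comb c)) == root (comb c) &&
        Nat.blt (tabAt D 5 (act (gens.getD (tabAt G 4 c) idc) (comb c) &&& 4095)) (tabAt D 5 c)))

/-- checking all words -/
def descOK (gens : List ℕ) (G D : ℕ) (P : ℕ → Bool) (root : ℕ → ℕ) : Bool :=
  allB (descStep gens G D P root) 0 12

theorem desc_spec {gens : List ℕ} {G D : ℕ} {P : ℕ → Bool} {root : ℕ → ℕ}
    (h : descOK gens G D P root = true) {H : Subgroup (Equiv.Perm GolayPt)} (hH : H ≤ M24)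
    (hgens : ∀ c ∈ gens, valid c = true ∧ pm c ∈ H) :
    ∀ s : Finset GolayPt, IsWord s → P (mk s) = true → ∃ g ∈ H, g • s = st (root (mk s)) := by
  have key : ∀ n : ℕ, ∀ s : Finset GolayPt, IsWord s → P (mk s) = true → tabAt D 5 (mk s &&& 4095) ≤ n →
      ∃ g ∈ H, g • s = st (root (mk s)) := by
    intro n
    induction n with
    | zero =>
      intro s hs hP hn
      obtain ⟨c, hc, e⟩ := inCode_iff_exists.1 hs
      have hstep := of_allB h (i := c) (Nat.zero_le _) (by simpa using hc)
      unfold descStep at hstep
      rw [← e] at hstep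
      simp only [Bool.or_eq_true, Bool.not_eq_true', beq_iff_eq, Bool.and_eq_true, Nat.blt_eq] at hstep
      have hidx : mk s &&& 4095 = c := by
        have := of_allB comb_low (i := c) (Nat.zero_le _) (by simpa using hc)
        rw [e]; exact beq_iff_eq.1 this
      rw [hidx] at hn
      rcases hstep with (h1 | h1) | ⟨_, _, h3⟩
      · rw [hP] at h1; exact absurd h1 (by decide)
      · exact ⟨1, H.one_mem, by rw [one_smul, ← h1, st_mk]⟩
      · omega
    | succ n ih =>
      intro s hs hP hn
      obtain ⟨c, hc, e⟩ := inCode_iff_exists.1 hs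
      have hstep := of_allB h (i := c) (Nat.zero_le _) (by simpa using hc)
      unfold descStep at hstep
      rw [← e] at hstep
      simp only [Bool.or_eq_true, Bool.not_eq_true', beq_iff_eq, Bool.and_eq_true, Nat.blt_eq] at hstep
      have hidx : mk s &&& 4095 = c := by
        have := of_allB comb_low (i := c) (Nat.zero_le _) (by simpa using hc)
        rw [e]; exact beq_iff_eq.1 this
      rw [hidx] at hn
      rcases hstep with (h1 | h1) | ⟨h1, h2, h3⟩
      · rw [hP] at h1; exact absurd h1 (by decide)
      · exact ⟨1, H.one_mem, by rw [one_smul, ← h1, st_mk]⟩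
      · set k := gens.getD (tabAt G 4 c) idc with hk
        obtain ⟨hv, hkH⟩ : valid k = true ∧ pm k ∈ H := by
          by_cases hlen : tabAt G 4 c < gens.length
          · apply hgens
            rw [hk, List.getD_eq_getElem _ _ hlen]; exact List.getElem_mem hlen
          · rw [hk, List.getD_eq_default _ _ (by omega), pm_idc]
            exact ⟨valid_idc, H.one_mem⟩
        have hsm : pm k • s = st (act k (mk s)) := by
          conv_lhs => rw [← st_mk s]
          exact pm_smul_st hv _
        have hmk : mk (st (act k (mk s))) = act k (mk s) := mk_st (act_lt hv _)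
        have hw : IsWord (st (act k (mk s))) := by rw [← hsm]; exact hs.smul (hH hkH)
        obtain ⟨g, hg, hg'⟩ := ih (st (act k (mk s))) hw (by rw [hmk]; exact h1) (by rw [hmk]; omega)
        refine ⟨g * pm k, H.mul_mem hg hkH, ?_⟩
        rw [mul_smul, hsm, hg', hmk, h2]
  intro s hs hP
  exact key _ s hs hP le_rfl

end Cfsg.Agent.Lib.Golay
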