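import Cfsg.Agent.Lib.Golay.Sets
import Cfsg.Agent.Lib.SteinerPar
import Cfsg.Prelude.Def_SporadicCombinatorics

/-!
Sextets and trios: existence, uniqueness, numbers.
-/

set_option autoImplicit false

namespace Cfsg.Agent.Lib.Golay

open scoped Pointwise
open Cfsg Finset Steiner

/-- the sextet of a tetrad -/
noncomputable def sext (t : Finset GolayPt) : Finset (Finset GolayPt) :=
  insert t (((blk octads).filter (fun o => t ⊆ o)).image (fun o => o \ t))

theorem card_oct_through {t : Finset GolayPt} (ht : t.card = 4) :
    ((blk octads).filter (fun o => t ⊆ o)).card = 5 := by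
  have h := card_through steiner (P := t) (by omega)
  rw [ht, card_golayPt] at h
  norm_num at h
  omega

theorem octad_card {o : Finset GolayPt} (ho : o ∈ octads) : o.card = 8 := (mem_octads.1 ho).2

theorem inter_of_tetrad {t o o' : Finset GolayPt} (ht : t.card = 4) (ho : o ∈ octads) (ho' : o' ∈ octads)
    (h : t ⊆ o) (h' : t ⊆ o') (hne : o ≠ o') : o ∩ o' = t := by
  have h1 : t ⊆ o ∩ o' := subset_inter h h'
  have h2 := octad_inter ho ho'
  have h3 := card_le_card h1
  have h4 : (o ∩ o').card ≠ 8 := fun h5 => hne (octad_eq ho ho' (by omega))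
  exact (eq_of_subset_of_card_le h1 (by omega)).symm

theorem octad_of_symmDiff {o o' : Finset GolayPt} (ho : o ∈ octads) (ho' : o' ∈ octads)
    (h : (o ∩ o').card = 4) : symmDiff o o' ∈ octads := by
  rw [mem_octads]
  refine ⟨(mem_octads.1 ho).1.symmDiff (mem_octads.1 ho').1, ?_⟩
  have := card_symmDiff o o'
  rw [octad_card ho, octad_card ho'] at this
  omega

theorem sdiff_injOn {t : Finset GolayPt} : Set.InjOn (fun o : Finset GolayPt => o \ t) {o | t ⊆ o} := by
  intro a ha b hb h
  have h' : a \ t = b \ t := h
  rw [← Finset.sdiff_union_of_subset (show t ⊆ a from ha), ← Finset.sdiff_union_of_subset (show t ⊆ b from hb), h']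

theorem sext_mem {t : Finset GolayPt} (ht : t.card = 4) : sext t ∈ sextets := by
  have hm : ∀ u ∈ sext t, u = t ∨ ∃ o ∈ octads, t ⊆ o ∧ u = o \ t := by
    intro u hu
    unfold sext at hu
    rw [mem_insert, mem_image] at hu
    rcases hu with rfl | ⟨o, ho, rfl⟩
    · exact Or.inl rfl
    · rw [mem_filter, mem_blk] at ho
      exact Or.inr ⟨o, ho.1, ho.2, rfl⟩
  refine ⟨?_, ?_, ?_⟩
  · unfold sext
    rw [card_insert_of_notMem, card_image_of_injOn, card_oct_through ht]
    · intro a ha b hb h
      rw [mem_coe, mem_filter] at ha hb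
      exact sdiff_injOn ha.2 hb.2 h
    · intro h
      rw [mem_image] at h
      obtain ⟨o, _, h⟩ := h
      have h1 : Disjoint t t := by
        conv_lhs => rw [← h]
        exact sdiff_disjoint
      rw [disjoint_self_iff_empty] at h1
      rw [h1, card_empty] at ht; omega
  · intro u hu
    rcases hm u hu with rfl | ⟨o, ho, h, rfl⟩
    · exact ht
    · rw [card_sdiff_of_subset h, octad_card ho, ht]
  · intro u hu v hv huv
    rcases hm u hu with rfl | ⟨o, ho, h, rfl⟩
    · rcases hm v hv with rfl | ⟨o', ho', h', rfl⟩
      · exact absurd rfl huv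
      · rw [union_sdiff_of_subset h']; exact ho'
    · rcases hm v hv with rfl | ⟨o', ho', h', rfl⟩
      · rw [sdiff_union_of_subset h]; exact ho
      · have hne : o ≠ o' := fun e => huv (by rw [e])
        have hi := inter_of_tetrad ht ho ho' h h' hne
        have : o \ t ∪ o' \ t = symmDiff o o' := by
          rw [← hi, symmDiff_def, sup_eq_union]
          congr 1
          · rw [sdiff_inter_self_left]
          · rw [inter_comm, sdiff_inter_self_left]
        rw [this]
        exact octad_of_symmDiff ho ho' (by rw [hi, ht])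

theorem mem_sext_self (t : Finset GolayPt) : t ∈ sext t := by
  unfold sext; exact mem_insert_self _ _

theorem sextet_disjoint {S : Finset (Finset GolayPt)} (hS : S ∈ sextets) {t u : Finset GolayPt} (ht : t ∈ S)
    (hu : u ∈ S) (htu : t ≠ u) : Disjoint t u := by
  obtain ⟨_, h2, h3⟩ := hS
  have h4 := octad_card (h3 t ht u hu htu)
  have h5 := card_union_add_card_inter t u
  rw [h4, h2 t ht, h2 u hu] at h5
  rw [disjoint_iff_inter_eq_empty, ← card_eq_zero]; omega

theorem sextet_eq {S : Finset (Finset GolayPt)} (hS : S ∈ sextets) {t : Finset GolayPt} (ht : t ∈ S) :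
    S = sext t := by
  have htc := hS.2.1 t ht
  apply eq_of_subset_of_card_le
  · intro u hu
    by_cases htu : t = u
    · subst htu; exact mem_sext_self t
    · have h1 := hS.2.2 t ht u hu htu
      have h2 := sextet_disjoint hS ht hu htu
      unfold sext
      rw [mem_insert, mem_image]
      right
      refine ⟨t ∪ u, ?_, ?_⟩
      · rw [mem_filter, mem_blk]; exact ⟨h1, subset_union_left⟩
      · rw [union_sdiff_cancel_left h2]
  · rw [hS.1, (sext_mem htc).1]

theorem exists_unique_sextet {t : Finset GolayPt} (ht : t.card = 4) :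
    ∃! S : Finset (Finset GolayPt), S ∈ sextets ∧ t ∈ S :=
  ⟨sext t, ⟨sext_mem ht, mem_sext_self t⟩, fun _ hS => sextet_eq hS.1 hS.2⟩

theorem ncard_sextets : sextets.ncard = 1771 := by
  classical
  have hfin : sextets.Finite := Set.toFinite _
  have h := Finset.card_mul_eq_card_mul (s := hfin.toFinset) (t := (univ : Finset GolayPt).powersetCard 4)
    (fun (S : Finset (Finset GolayPt)) (t : Finset GolayPt) => t ∈ S) (m := 6) (n := 1) ?_ ?_
  · have e : Nat.choose 24 4 = 10626 := by decide +kernel
    rw [card_powersetCard, card_univ, card_golayPt, e] at h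
    rw [Set.ncard_eq_toFinset_card _ hfin]
    omega
  · intro S hS
    rw [Set.Finite.mem_toFinset] at hS
    rw [← hS.1]
    congr 1
    ext t
    simp only [bipartiteAbove, mem_filter, mem_powersetCard_univ]
    exact ⟨fun h => h.2, fun h => ⟨hS.2.1 t h, h⟩⟩
  · intro t ht
    rw [mem_powersetCard_univ] at ht
    rw [card_eq_one]
    refine ⟨sext t, ?_⟩
    ext S
    simp only [bipartiteBelow, mem_filter, Set.Finite.mem_toFinset, mem_singleton]
    constructor
    · rintro ⟨h1, h2⟩; exact sextet_eq h1 h2
    · rintro rfl; exact ⟨sext_mem ht, mem_sext_self t⟩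

/-! ### trios -/

theorem third_octad {o o' : Finset GolayPt} (ho : o ∈ octads) (ho' : o' ∈ octads) (h : Disjoint o o') :
    (o ∪ o')ᶜ ∈ octads := by
  have h1 : o ∪ o' = symmDiff o o' := by
    rw [h.symmDiff_eq_sup]; rfl
  rw [mem_octads, h1]
  refine ⟨((mem_octads.1 ho).1.symmDiff (mem_octads.1 ho').1).compl, ?_⟩
  rw [← h1, card_compl, card_golayPt, card_union_of_disjoint h, octad_card ho, octad_card ho']

/-- the trio of two disjoint octads -/
def trio (o o' : Finset GolayPt) : Finset (Finset GolayPt) := {o, o', (o ∪ o')ᶜ}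

theorem trio_ne {o o' : Finset GolayPt} (ho : o ∈ octads) (ho' : o' ∈ octads) (h : Disjoint o o') :
    o ≠ o' ∧ o ≠ (o ∪ o')ᶜ ∧ o' ≠ (o ∪ o')ᶜ := by
  have hne : ∀ a ∈ octads, a ≠ (∅ : Finset GolayPt) := by
    intro a ha e
    have := octad_card ha
    rw [e, card_empty] at this; omega
  refine ⟨?_, ?_, ?_⟩
  · rintro rfl
    rw [disjoint_self_iff_empty] at h
    exact hne _ ho h
  · intro e
    have h1 : Disjoint o o := by
      conv_rhs => rw [e]
      exact disjoint_left.2 (fun x hx => by rw [mem_compl, not_not]; exact mem_union_left _ hx)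
    rw [disjoint_self_iff_empty] at h1
    exact hne _ ho h1
  · intro e
    have h1 : Disjoint o' o' := by
      conv_rhs => rw [e]
      exact disjoint_left.2 (fun x hx => by rw [mem_compl, not_not]; exact mem_union_right _ hx)
    rw [disjoint_self_iff_empty] at h1
    exact hne _ ho' h1

theorem trio_mem {o o' : Finset GolayPt} (ho : o ∈ octads) (ho' : o' ∈ octads) (h : Disjoint o o') :
    trio o o' ∈ trios := by
  obtain ⟨h1, h2, h3⟩ := trio_ne ho ho' h
  have d1 : Disjoint o (o ∪ o')ᶜ := disjoint_left.2 (fun x hx => by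
    rw [mem_compl, not_not]; exact mem_union_left _ hx)
  have d2 : Disjoint o' (o ∪ o')ᶜ := disjoint_left.2 (fun x hx => by
    rw [mem_compl, not_not]; exact mem_union_right _ hx)
  refine ⟨?_, ?_, ?_⟩
  · unfold trio
    rw [card_eq_three]
    exact ⟨o, o', (o ∪ o')ᶜ, h1, h2, h3, rfl⟩
  · intro a ha
    unfold trio at ha
    simp only [mem_insert, mem_singleton] at ha
    rcases ha with rfl | rfl | rfl
    · exact ho
    · exact ho'
    · exact third_octad ho ho' h
  · intro a ha b hb hab
    unfold trio at ha hb
    simp only [mem_insert, mem_singleton] at ha hb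
    rcases ha with rfl | rfl | rfl <;> rcases hb with rfl | rfl | rfl
    · exact absurd rfl hab
    · exact h
    · exact d1
    · exact h.symm
    · exact absurd rfl hab
    · exact d2
    · exact d1.symm
    · exact d2.symm
    · exact absurd rfl hab

theorem trio_eq {T : Finset (Finset GolayPt)} (hT : T ∈ trios) {o o' : Finset GolayPt} (ho : o ∈ T) (ho' : o' ∈ T)
    (hne : o ≠ o') : T = trio o o' := by
  obtain ⟨h1, h2, h3⟩ := hT
  have hd := h3 o ho o' ho' hne
  have hsub : T ⊆ trio o o' := by
    intro a ha
    unfold trio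
    simp only [mem_insert, mem_singleton]
    by_cases e1 : a = o
    · exact Or.inl e1
    · by_cases e2 : a = o'
      · exact Or.inr (Or.inl e2)
      · right; right
        apply eq_of_subset_of_card_le
        · intro x hx
          rw [mem_compl, mem_union, not_or]
          exact ⟨disjoint_left.1 (h3 a ha o ho e1) hx, disjoint_left.1 (h3 a ha o' ho' e2) hx⟩
        · rw [octad_card (h2 a ha), octad_card (third_octad (h2 o ho) (h2 o' ho') hd)]
  apply eq_of_subset_of_card_le hsub
  rw [h1, (trio_mem (h2 o ho) (h2 o' ho') hd).1]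

theorem card_disjoint_octads {o : Finset GolayPt} (ho : o ∈ octads) :
    ((blk octads).filter (fun a => Disjoint o a)).card = 30 := by
  have h := (ncard_oct_rel ho).2.2.2
  rw [← h, ← Set.ncard_coe_finset]
  congr 1
  ext a
  simp only [coe_filter, mem_blk, Set.mem_setOf_eq, card_eq_zero, ← disjoint_iff_inter_eq_empty]
  rw [disjoint_comm]

theorem card_trios_through {o : Finset GolayPt} (ho : o ∈ octads) (hfin : trios.Finite) :
    (hfin.toFinset.filter (fun T => o ∈ T)).card = 15 := by
  classical
  have h := Finset.card_mul_eq_card_mul (s := hfin.toFinset.filter (fun T => o ∈ T))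
    (t := (blk octads).filter (fun a => Disjoint o a))
    (fun (T : Finset (Finset GolayPt)) (a : Finset GolayPt) => a ∈ T) (m := 2) (n := 1) ?_ ?_
  · rw [card_disjoint_octads ho] at h; omega
  · intro T hT
    rw [mem_filter, Set.Finite.mem_toFinset] at hT
    obtain ⟨⟨h1, h2, h3⟩, hoT⟩ := hT
    have : bipartiteAbove (fun (T : Finset (Finset GolayPt)) (a : Finset GolayPt) => a ∈ T)
        ((blk octads).filter (fun a => Disjoint o a)) T = T.erase o := by
      ext a
      simp only [bipartiteAbove, mem_filter, mem_blk, mem_erase]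
      constructor
      · rintro ⟨⟨h4, h5⟩, h6⟩
        refine ⟨?_, h6⟩
        rintro rfl
        rw [disjoint_self_iff_empty] at h5
        have := octad_card h4
        rw [h5, card_empty] at this; omega
      · rintro ⟨h4, h5⟩
        exact ⟨⟨h2 a h5, h3 o hoT a h5 (Ne.symm h4)⟩, h5⟩
    rw [this, card_erase_of_mem hoT, h1]
  · intro a ha
    rw [mem_filter, mem_blk] at ha
    rw [card_eq_one]
    refine ⟨trio o a, ?_⟩
    ext T
    simp only [bipartiteBelow, mem_filter, Set.Finite.mem_toFinset, mem_singleton]
    constructor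
    · rintro ⟨⟨h1, h2⟩, h3⟩
      exact trio_eq h1 h2 h3 (trio_ne ho ha.1 ha.2).1
    · rintro rfl
      refine ⟨⟨trio_mem ho ha.1 ha.2, ?_⟩, ?_⟩
      · unfold trio; simp
      · unfold trio; simp

theorem ncard_trios : trios.ncard = 3795 := by
  classical
  have hfin : trios.Finite := Set.toFinite _
  have h := Finset.card_mul_eq_card_mul (s := hfin.toFinset) (t := blk octads)
    (fun (T : Finset (Finset GolayPt)) (o : Finset GolayPt) => o ∈ T) (m := 3) (n := 15) ?_ ?_
  · rw [card_blk, octads_ncard] at h
    rw [Set.ncard_eq_toFinset_card _ hfin]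
    omega
  · intro T hT
    rw [Set.Finite.mem_toFinset] at hT
    rw [← hT.1]
    congr 1
    ext o
    simp only [bipartiteAbove, mem_filter, mem_blk]
    exact ⟨fun h => h.2, fun h => ⟨hT.2.1 o h, h⟩⟩
  · intro o ho
    rw [mem_blk] at ho
    exact card_trios_through ho hfin

/-! ### octads with a given trace on an octad -/

theorem ncard_trace4 {o s : Finset GolayPt} (ho : o ∈ octads) (hs : s ⊆ o) (h4 : s.card = 4) :
    {o' : Finset GolayPt | o' ∈ octads ∧ o ∩ o' = s}.ncard = 4 := by
  classical
  have : {o' : Finset GolayPt | o' ∈ octads ∧ o ∩ o' = s} =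
      ((((blk octads).filter (fun a => s ⊆ a)).erase o : Finset (Finset GolayPt)) : Set (Finset GolayPt)) := by
    ext a
    simp only [coe_erase, coe_filter, mem_blk, Set.mem_sdiff, Set.mem_setOf_eq, Set.mem_singleton_iff]
    constructor
    · rintro ⟨h1, h2⟩
      refine ⟨⟨h1, by rw [← h2]; exact inter_subset_right⟩, ?_⟩
      rintro rfl
      rw [inter_self] at h2
      rw [← h2, octad_card h1] at h4; omega
    · rintro ⟨⟨h1, h2⟩, h3⟩
      exact ⟨h1, inter_of_tetrad h4 ho h1 hs h2 (Ne.symm h3)⟩
  rw [this, Set.ncard_coe_finset, card_erase_of_mem, card_oct_through h4]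
  rw [mem_filter, mem_blk]; exact ⟨ho, hs⟩

theorem ncard_trace2 {o s : Finset GolayPt} (ho : o ∈ octads) (hs : s ⊆ o) (h2 : s.card = 2) :
    {o' : Finset GolayPt | o' ∈ octads ∧ o ∩ o' = s}.ncard = 16 := by
  classical
  -- octads through s
  have h77 : ((blk octads).filter (fun a => s ⊆ a)).card = 77 := by
    have h := card_through steiner (P := s) (by omega)
    rw [h2, card_golayPt] at h
    norm_num [Nat.choose] at h
    omega
  -- decompose by the trace
  have hmaps : Set.MapsTo (fun a => o ∩ a) (((blk octads).filter (fun a => s ⊆ a) : Finset (Finset GolayPt)) : Set _)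
      ((o.powerset.filter (fun t => s ⊆ t) : Finset (Finset GolayPt)) : Set (Finset GolayPt)) := by
    intro a ha
    rw [mem_coe, mem_filter] at ha
    rw [mem_coe, mem_filter, mem_powerset]
    exact ⟨inter_subset_left, subset_inter hs ha.2⟩
  rw [card_eq_sum_card_fiberwise hmaps] at h77
  -- values of the fibres
  have hfib : ∀ t ∈ o.powerset.filter (fun t => s ⊆ t),
      (((blk octads).filter (fun a => s ⊆ a)).filter (fun a => o ∩ a = t)).card =
        (if t = s then {o' : Finset GolayPt | o' ∈ octads ∧ o ∩ o' = s}.ncard else 0) +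
        ((if t.card = 4 then 4 else 0) + (if t = o then 1 else 0)) := by
    intro t ht
    rw [mem_filter, mem_powerset] at ht
    have hset : (((blk octads).filter (fun a => s ⊆ a)).filter (fun a => o ∩ a = t)).card =
        {o' : Finset GolayPt | o' ∈ octads ∧ o ∩ o' = t}.ncard := by
      rw [← Set.ncard_coe_finset]
      congr 1
      ext a
      simp only [coe_filter, mem_filter, mem_blk, Set.mem_setOf_eq]
      constructor
      · rintro ⟨⟨h3, _⟩, h4⟩; exact ⟨h3, h4⟩
      · rintro ⟨h3, h4⟩; exact ⟨⟨h3, by rw [← h4] at ht; exact ht.2.trans inter_subset_right⟩, h4⟩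
    rw [hset]
    have htc := card_le_card ht.1
    rw [octad_card ho] at htc
    have hsc := card_le_card ht.2
    rw [h2] at hsc
    by_cases e1 : t = s
    · subst e1
      have e2 : t ≠ o := by rintro rfl; rw [octad_card ho] at h2; omega
      rw [if_pos rfl, if_neg (by omega), if_neg e2]
      rfl
    · by_cases e2 : t.card = 4
      · have e3 : t ≠ o := by rintro rfl; rw [octad_card ho] at e2; omega
        rw [if_neg e1, if_pos e2, if_neg e3, ncard_trace4 ho ht.1 e2]
      · by_cases e3 : t = o
        · subst e3
          rw [if_neg e1, if_neg e2, if_pos rfl]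
          have : {o' : Finset GolayPt | o' ∈ octads ∧ t ∩ o' = t} = {t} := by
            ext a
            simp only [Set.mem_setOf_eq, Set.mem_singleton_iff]
            constructor
            · rintro ⟨h3, h4⟩
              exact (octad_eq ho h3 (by rw [h4, octad_card ho]; norm_num)).symm
            · rintro rfl; exact ⟨ho, inter_self _⟩
          rw [this, Set.ncard_singleton]
        · rw [if_neg e1, if_neg e2, if_neg e3]
          rw [Set.ncard_eq_zero (Set.toFinite _)]
          ext a
          simp only [Set.mem_setOf_eq, Set.mem_empty_iff_false, iff_false, not_and]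
          intro h3 h4
          have h5 := octad_inter ho h3
          rw [h4] at h5
          rcases h5 with h5 | h5 | h5 | h5
          · omega
          · exact e1 (eq_of_subset_of_card_le ht.2 (by omega)).symm
          · exact e2 h5
          · exact e3 (eq_of_subset_of_card_le ht.1 (by rw [octad_card ho]; omega))
  rw [sum_congr rfl hfib, sum_add_distrib, sum_add_distrib, sum_ite_eq', sum_ite_eq'] at h77
  have hs1 : s ∈ o.powerset.filter (fun t => s ⊆ t) := by
    rw [mem_filter, mem_powerset]; exact ⟨hs, Subset.refl _⟩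
  have ho1 : o ∈ o.powerset.filter (fun t => s ⊆ t) := by
    rw [mem_filter, mem_powerset]; exact ⟨Subset.refl _, hs⟩
  rw [if_pos hs1, if_pos ho1, ← sum_filter, sum_const] at h77
  have h15 : ((o.powerset.filter (fun t => s ⊆ t)).filter (fun t => t.card = 4)).card = 15 := by
    have h16 := card_between hs (t := 4) (by omega)
    have e : (8 - 2).choose (4 - 2) = 15 := by decide
    rw [octad_card ho, h2, e] at h16
    rw [← h16]
    congr 1
    ext t
    simp only [mem_filter]; tauto
  rw [h15, smul_eq_mul] at h77
  omega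

end Cfsg.Agent.Lib.Golay
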