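import Cfsg.Agent.Lib.Golay.Sextet

/-!
A small complement on sextets.
-/

set_option autoImplicit false

namespace Cfsg.Agent.Lib.Golay

open Cfsg Finset

theorem sdiff_mem_sext {t u : Finset GolayPt} (hu : u ∈ octads) (h : t ⊆ u) : u \ t ∈ sext t := by
  unfold sext
  rw [mem_insert]
  right
  rw [mem_image]
  refine ⟨u, ?_, rfl⟩
  rw [mem_filter]
  refine ⟨?_, h⟩
  simpa [Lib.Steiner.blk] using hu

end Cfsg.Agent.Lib.Golay
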