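import Cfsg.Agent.Lib.Golay.CosetData
import Cfsg.Agent.Lib.Golay.Sextet
import Cfsg.Agent.Lib.Golay.Desc
import Cfsg.Agent.Lib.Golay.SteinerX

/-!
Cosets of the length-24 code.
-/

set_option autoImplicit false

namespace Cfsg.Agent.Lib.Golay

open Cfsg

theorem cosTab_ok : allB (fun r => Nat.ble (pc (tabAt cosTab 24 r)) 4 && inCode (tabAt cosTab 24 r ^^^ (r <<< 12))) 0 12 = true := by
  decide +kernel

theorem shift_eq {m : ℕ} (h : m &&& 4095 = 0) : (m >>> 12) <<< 12 = m := by
  apply Nat.eq_of_testBit_eq
  intro i
  rw [Nat.testBit_shiftLeft, Nat.testBit_shiftRight]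
  by_cases hi : 12 ≤ i
  · simp [hi]
  · have h1 := congrArg (fun x => x.testBit i) h
    simp only [Nat.testBit_and, Nat.zero_testBit] at h1
    have h2 : Nat.testBit 4095 i = true := by
      have : i < 12 := by omega
      interval_cases i <;> decide
    rw [h2, Bool.and_true] at h1
    simp [hi, h1]

theorem exists_leader (s : Finset GolayPt) : ∃ v : Finset GolayPt, v.card ≤ 4 ∧ IsWord (symmDiff s v) := by
  have hlow : (mk s ^^^ comb (mk s)) &&& 4095 = 0 := by
    have h1 := of_allB comb_low (i := mk s &&& 4095) (Nat.zero_le _) (by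
      have := Nat.and_le_right (n := mk s) (m := 4095)
      norm_num; omega)
    rw [beq_iff_eq, comb_and] at h1
    rw [Nat.and_xor_distrib_right, h1, Nat.xor_self]
  have hlt : mk s ^^^ comb (mk s) < 2 ^ 24 := Nat.xor_lt_two_pow (mk_lt s) (comb_lt _)
  have hr : (mk s ^^^ comb (mk s)) >>> 12 < 4096 := by
    rw [Nat.shiftRight_eq_div_pow]
    apply Nat.div_lt_of_lt_mul
    calc _ < 2 ^ 24 := hlt
      _ = _ := by norm_num
  have h := of_allB cosTab_ok (i := (mk s ^^^ comb (mk s)) >>> 12) (Nat.zero_le _) (by norm_num; exact hr)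
  rw [Bool.and_eq_true, Nat.ble_eq, shift_eq hlow] at h
  refine ⟨st (tabAt cosTab 24 ((mk s ^^^ comb (mk s)) >>> 12)), by rw [card_st]; exact h.1, ?_⟩
  have h2 : IsWord (st (tabAt cosTab 24 ((mk s ^^^ comb (mk s)) >>> 12) ^^^ (mk s ^^^ comb (mk s)))) :=
    (isWord_st (inCode_lt h.2)).2 h.2
  rw [st_xor, st_xor, st_mk] at h2
  have h3 := h2.symmDiff ((isWord_st (comb_lt _)).2 (inCode_comb (mk s)))
  have : symmDiff (symmDiff (st (tabAt cosTab 24 ((mk s ^^^ comb (mk s)) >>> 12))) (symmDiff s (st (comb (mk s)))))
      (st (comb (mk s))) = symmDiff s (st (tabAt cosTab 24 ((mk s ^^^ comb (mk s)) >>> 12))) := by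
    rw [symmDiff_assoc, symmDiff_symmDiff_cancel_right, symmDiff_comm]
  rw [this] at h3
  exact h3

theorem word_small {s : Finset GolayPt} (h : IsWord s) (hs : s.card < 8) : s = ∅ := by
  rw [← Finset.card_eq_zero]
  have := h.card
  omega

/-- the representatives of weight at most four of a coset -/
theorem leaders (s : Finset GolayPt) : (∃ v : Finset GolayPt, v.card ≤ 3 ∧ {t : Finset GolayPt | t.card ≤ 4 ∧ IsWord (symmDiff s t)} = {v}) ∨
    ∃ v : Finset GolayPt, v.card = 4 ∧ {t : Finset GolayPt | t.card ≤ 4 ∧ IsWord (symmDiff s t)} = (sext v : Set (Finset GolayPt)) := by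
  obtain ⟨v, hv, hw⟩ := exists_leader s
  have key : ∀ t : Finset GolayPt, IsWord (symmDiff s t) ↔ IsWord (symmDiff v t) := by
    intro t
    constructor
    · intro h
      have := hw.symmDiff h
      rwa [symmDiff_symmDiff_symmDiff_comm, symmDiff_self, bot_symmDiff] at this
    · intro h
      have := hw.symmDiff h
      rwa [symmDiff_assoc, symmDiff_symmDiff_cancel_left] at this
  by_cases h3 : v.card ≤ 3
  · left
    refine ⟨v, h3, ?_⟩
    ext t
    constructor
    · rintro ⟨h1, h2⟩
      rw [key] at h2
      have h4 := card_symmDiff v t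
      have h5 := word_small h2 (by omega)
      rw [← Finset.bot_eq_empty, symmDiff_eq_bot] at h5
      exact h5.symm
    · rintro rfl
      exact ⟨hv, hw⟩
  · right
    have h4 : v.card = 4 := by omega
    refine ⟨v, h4, ?_⟩
    ext t
    constructor
    · rintro ⟨h1, h2⟩
      rw [key] at h2
      have h5 := card_symmDiff v t
      by_cases h8 : (symmDiff v t).card = 8
      · have h6 : (v ∩ t).card = 0 := by omega
        have h7 : t.card = 4 := by omega
        rw [Finset.card_eq_zero] at h6
        have h9 : symmDiff v t = v ∪ t := by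
          rw [Finset.symmDiff_eq_union_iff]
          exact Finset.disjoint_iff_inter_eq_empty.2 h6
        have ho : v ∪ t ∈ octads := mem_octads.2 ⟨h9 ▸ h2, h9 ▸ h8⟩
        have : (v ∪ t) \ v = t := by
          rw [Finset.union_sdiff_left, Finset.sdiff_eq_self_iff_disjoint]
          exact (Finset.disjoint_iff_inter_eq_empty.2 h6).symm
        rw [Finset.mem_coe, ← this]
        exact sdiff_mem_sext ho Finset.subset_union_left
      · have h6 := word_small h2 (by omega)
        rw [← Finset.bot_eq_empty, symmDiff_eq_bot] at h6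
        rw [← h6]
        exact mem_sext_self _
    · intro ht
      have hS := sext_mem h4
      have ht4 := hS.2.1 t ht
      refine ⟨by omega, ?_⟩
      rw [key]
      by_cases htv : t = v
      · rw [htv, symmDiff_self]
        have := isWord_univ.symmDiff isWord_univ
        rwa [symmDiff_self] at this
      · have hd := sextet_disjoint hS (mem_sext_self v) ht (Ne.symm htv)
        have ho := hS.2.2 v (mem_sext_self v) t ht (Ne.symm htv)
        rw [(Finset.symmDiff_eq_union_iff _ _).2 hd]
        exact (mem_octads.1 ho).1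

/-! ### words as functions -/

theorem supp_sub (v w : GolayPt → ZMod 2) : support₂ (w - v) = symmDiff (support₂ w) (support₂ v) := by
  ext p
  simp only [support₂, Finset.mem_symmDiff, Finset.mem_filter, Finset.mem_univ, true_and, Pi.sub_apply]
  generalize w p = a
  generalize v p = b
  revert a b
  decide

theorem mem_golay_iff (w : GolayPt → ZMod 2) : w ∈ golayCode ↔ IsWord (support₂ w) := mem_golayCode_iff w

theorem hamming_eq (v : GolayPt → ZMod 2) : hammingNorm v = (support₂ v).card := rfl

/-- the word with a given support -/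
def ofSet (s : Finset GolayPt) : GolayPt → ZMod 2 := fun p => if p ∈ s then 1 else 0

theorem supp_ofSet (s : Finset GolayPt) : support₂ (ofSet s) = s := by
  ext p
  unfold support₂
  rw [Finset.mem_filter]
  unfold ofSet
  by_cases h : p ∈ s <;> simp [h]

theorem ofSet_supp (w : GolayPt → ZMod 2) : ofSet (support₂ w) = w := support_inj (supp_ofSet _)

theorem ncard_supp (P : Finset GolayPt → Prop) : {v : GolayPt → ZMod 2 | P (support₂ v)}.ncard = {s | P s}.ncard := by
  have : {s | P s} = support₂ '' {v : GolayPt → ZMod 2 | P (support₂ v)} := by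
    ext s
    constructor
    · intro h
      exact ⟨ofSet s, by rw [Set.mem_setOf_eq, supp_ofSet]; exact h, supp_ofSet s⟩
    · rintro ⟨v, h, rfl⟩; exact h
  rw [this, Set.ncard_image_of_injective _ (fun _ _ h => support_inj h)]

end Cfsg.Agent.Lib.Golay
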