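import Cfsg.Agent.Lib.Golay.OctOrb

/-!
Transitivity on families of small sets.
-/

set_option autoImplicit false

namespace Cfsg.Agent.Lib.Golay

open scoped Pointwise
open Cfsg

/-- six points, the sixth in the octad of the first five -/
theorem six_in {x y : ℕ → GolayPt} (hx : ∀ i < 5, ∀ j < i, x j ≠ x i) (hy : ∀ i < 5, ∀ j < i, y j ≠ y i)
    {o o' : Finset GolayPt} (ho : o ∈ octads) (ho' : o' ∈ octads) (hxo : ∀ i < 5, x i ∈ o)
    (hyo : ∀ i < 5, y i ∈ o') {a b : GolayPt} (ha : a ∈ o) (hb : b ∈ o') (hxa : ∀ i < 5, x i ≠ a)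
    (hyb : ∀ i < 5, y i ≠ b) : ∃ g ∈ M24, (∀ i < 5, g (x i) = y i) ∧ g a = b ∧ g • o = o' := by
  have hout : ∀ o ∈ octads, ∃ p : GolayPt, p ∉ o := by
    intro o ho
    by_contra hc
    push Not at hc
    have := Finset.card_le_card (show Finset.univ ⊆ o from fun p _ => hc p)
    rw [Finset.card_univ, card_golayPt, (mem_octads.1 ho).2] at this
    omega
  obtain ⟨p, hp⟩ := hout o ho
  obtain ⟨q, hq⟩ := hout o' ho'
  have e5 : ∀ (x : ℕ → GolayPt) (p a : GolayPt) (i : ℕ), i < 5 → (if i < 5 then x i else if i = 5 then p else a) = x i := by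
    intro x p a i hi; rw [if_pos hi]
  obtain ⟨g, hg, h1⟩ := exists_map7 (fun i => if i < 5 then x i else if i = 5 then p else a) (by
      intro i hi j hj; rw [if_pos hi, if_pos (by omega : j < 5)]; exact hx i hi j hj) ho (by
      intro i hi; rw [if_pos hi]; exact hxo i hi) (by simpa using hp) (by simpa using ha) (by
      intro i hi; rw [if_pos hi]; simpa using hxa i hi)
  obtain ⟨k, hk, h2⟩ := exists_map7 (fun i => if i < 5 then y i else if i = 5 then q else b) (by
      intro i hi j hj; rw [if_pos hi, if_pos (by omega : j < 5)]; exact hy i hi j hj) ho' (by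
      intro i hi; rw [if_pos hi]; exact hyo i hi) (by simpa using hq) (by simpa using hb) (by
      intro i hi; rw [if_pos hi]; simpa using hyb i hi)
  have hmap : ∀ i < 5, (k * g⁻¹) (x i) = y i := by
    intro i hi
    have a1 := h1 i (by omega)
    have a2 := h2 i (by omega)
    rw [e5 _ _ _ i hi] at a1 a2
    rw [Equiv.Perm.mul_apply, ← a1, ← a2]
    show k (g.symm (g _)) = _
    rw [Equiv.symm_apply_apply]
  refine ⟨k * g⁻¹, M24.mul_mem hk (M24.inv_mem hg), hmap, ?_, ?_⟩
  · have a1 := h1 6 (by omega)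
    have a2 := h2 6 (by omega)
    simp only [show ¬ (6 < 5) by norm_num, show ¬ (6 = 5) by norm_num, if_false] at a1 a2
    rw [Equiv.Perm.mul_apply, ← a1, ← a2]
    show k (g.symm (g _)) = _
    rw [Equiv.symm_apply_apply]
  · have b1 := smul_oct0 hg (x := x) (fun i hi => by
      have a1 := h1 i (by omega)
      rw [e5 _ _ _ i hi] at a1; exact a1) hx ho hxo
    have b2 := smul_oct0 hk (x := y) (fun i hi => by
      have a1 := h2 i (by omega)
      rw [e5 _ _ _ i hi] at a1; exact a1) hy ho' hyo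
    rw [mul_smul, ← b1, inv_smul_smul, b2]

/-- six points, the sixth outside the octad of the first five -/
theorem six_out {x y : ℕ → GolayPt} (hx : ∀ i < 5, ∀ j < i, x j ≠ x i) (hy : ∀ i < 5, ∀ j < i, y j ≠ y i)
    {o o' : Finset GolayPt} (ho : o ∈ octads) (ho' : o' ∈ octads) (hxo : ∀ i < 5, x i ∈ o)
    (hyo : ∀ i < 5, y i ∈ o') {a b : GolayPt} (ha : a ∉ o) (hb : b ∉ o') :
    ∃ g ∈ M24, (∀ i < 5, g (x i) = y i) ∧ g a = b ∧ g • o = o' := by
  obtain ⟨g, hg, h1⟩ := exists_map6 (fun i => if i < 5 then x i else a) (by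
      intro i hi j hj; rw [if_pos hi, if_pos (by omega : j < 5)]; exact hx i hi j hj) ho (by
      intro i hi; rw [if_pos hi]; exact hxo i hi) (by simpa using ha)
  obtain ⟨k, hk, h2⟩ := exists_map6 (fun i => if i < 5 then y i else b) (by
      intro i hi j hj; rw [if_pos hi, if_pos (by omega : j < 5)]; exact hy i hi j hj) ho' (by
      intro i hi; rw [if_pos hi]; exact hyo i hi) (by simpa using hb)
  have g1 : ∀ i < 5, g (pt (bpt i)) = x i := by
    intro i hi
    have := h1 i (by omega)
    rwa [if_pos hi] at this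
  have k1 : ∀ i < 5, k (pt (bpt i)) = y i := by
    intro i hi
    have := h2 i (by omega)
    rwa [if_pos hi] at this
  refine ⟨k * g⁻¹, M24.mul_mem hk (M24.inv_mem hg), ?_, ?_, ?_⟩
  · intro i hi
    rw [Equiv.Perm.mul_apply, ← g1 i hi, ← k1 i hi]
    show k (g.symm (g _)) = _
    rw [Equiv.symm_apply_apply]
  · have a1 := h1 5 (by omega)
    have a2 := h2 5 (by omega)
    simp only [show ¬ (5 < 5) by norm_num, if_false] at a1 a2
    rw [Equiv.Perm.mul_apply, ← a1, ← a2]
    show k (g.symm (g _)) = _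
    rw [Equiv.symm_apply_apply]
  · have b1 := smul_oct0 hg g1 hx ho hxo
    have b2 := smul_oct0 hk k1 hy ho' hyo
    rw [mul_smul, ← b1, inv_smul_smul, b2]

/-- the sequence of a list of points -/
def lseq (l : List GolayPt) (i : ℕ) : GolayPt := l.getD i none

theorem lseq_inj {l : List GolayPt} (hl : l.Nodup) : ∀ i < l.length, ∀ j < i, lseq l j ≠ lseq l i := by
  intro i hi j hj h
  unfold lseq at h
  rw [List.getD_eq_getElem _ _ hi, List.getD_eq_getElem _ _ (by omega)] at h
  have := (List.Nodup.getElem_inj_iff hl).1 h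
  omega

theorem lseq_mem {l : List GolayPt} {i : ℕ} (hi : i < l.length) : lseq l i ∈ l := by
  unfold lseq
  rw [List.getD_eq_getElem _ _ hi]
  exact List.getElem_mem hi

theorem exists_lseq {l : List GolayPt} {p : GolayPt} (hp : p ∈ l) : ∃ i < l.length, lseq l i = p := by
  obtain ⟨i, hi, e⟩ := List.getElem_of_mem hp
  exact ⟨i, hi, by unfold lseq; rw [List.getD_eq_getElem _ _ hi, e]⟩

/-- sequences of at most five distinct points -/
theorem exists_map_le5 {n : ℕ} (hn : n ≤ 5) {x y : ℕ → GolayPt} (hx : ∀ i < n, ∀ j < i, x j ≠ x i)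
    (hy : ∀ i < n, ∀ j < i, y j ≠ y i) : ∃ g ∈ M24, ∀ i < n, g (x i) = y i := by
  obtain ⟨x', hx1, _, hx3⟩ := extend_seq (s := Finset.univ) hn (by
    rw [Finset.card_univ, card_golayPt]; omega) (x := x) (fun _ _ => Finset.mem_univ _) hx
  obtain ⟨y', hy1, _, hy3⟩ := extend_seq (s := Finset.univ) hn (by
    rw [Finset.card_univ, card_golayPt]; omega) (x := y) (fun _ _ => Finset.mem_univ _) hy
  obtain ⟨g, hg, h⟩ := exists_map_seq5 x' y' hx3 hy3
  exact ⟨g, hg, fun i hi => by rw [← hx1 i hi, ← hy1 i hi]; exact h i (by omega)⟩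

/-- the list of three finsets -/
noncomputable def lst3 (A B C : Finset GolayPt) : List GolayPt := A.toList ++ (B.toList ++ C.toList)

theorem lst3_nodup {A B C : Finset GolayPt} (h1 : Disjoint A B) (h2 : Disjoint A C) (h3 : Disjoint B C) :
    (lst3 A B C).Nodup := by
  unfold lst3
  rw [List.nodup_append, List.nodup_append]
  refine ⟨Finset.nodup_toList _, ⟨Finset.nodup_toList _, Finset.nodup_toList _, ?_⟩, ?_⟩
  · intro a ha b hb hab
    rw [Finset.mem_toList] at ha hb
    subst hab
    exact (Finset.disjoint_left.1 h3) ha hb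
  · intro a ha b hb hab
    rw [Finset.mem_toList] at ha
    rw [List.mem_append, Finset.mem_toList, Finset.mem_toList] at hb
    subst hab
    rcases hb with hb | hb
    · exact (Finset.disjoint_left.1 h1) ha hb
    · exact (Finset.disjoint_left.1 h2) ha hb

theorem lst3_length (A B C : Finset GolayPt) : (lst3 A B C).length = A.card + (B.card + C.card) := by
  simp [lst3]

theorem smul_eq_of_seq {A A' : Finset GolayPt} (h : A.card = A'.card) {g : Equiv.Perm GolayPt}
    (hg : ∀ a ∈ A, g a ∈ A') : g • A = A' := by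
  apply Finset.eq_of_subset_of_card_le
  · intro p hp
    rw [mem_smul_iff] at hp
    have := hg _ hp
    rwa [Equiv.apply_symm_apply] at this
  · rw [Finset.card_smul_finset, h]

theorem lseq_lst3 {A B C : Finset GolayPt} {i : ℕ} :
    (i < A.card → lseq (lst3 A B C) i ∈ A) ∧
    (A.card ≤ i → i < A.card + B.card → lseq (lst3 A B C) i ∈ B) ∧
    (A.card + B.card ≤ i → i < A.card + (B.card + C.card) → lseq (lst3 A B C) i ∈ C) := by
  unfold lseq lst3
  refine ⟨?_, ?_, ?_⟩
  · intro h
    rw [List.getD_append _ _ _ _ (by rw [Finset.length_toList]; exact h),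
      List.getD_eq_getElem _ _ (by rw [Finset.length_toList]; exact h)]
    exact Finset.mem_toList.1 (List.getElem_mem _)
  · intro h h'
    rw [List.getD_append_right _ _ _ _ (by rw [Finset.length_toList]; exact h),
      List.getD_append _ _ _ _ (by rw [Finset.length_toList, Finset.length_toList]; omega),
      List.getD_eq_getElem _ _ (by rw [Finset.length_toList, Finset.length_toList]; omega)]
    exact Finset.mem_toList.1 (List.getElem_mem _)
  · intro h h'
    rw [List.getD_append_right _ _ _ _ (by rw [Finset.length_toList]; omega),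
      List.getD_append_right _ _ _ _ (by rw [Finset.length_toList, Finset.length_toList]; omega),
      List.getD_eq_getElem _ _ (by
        rw [Finset.length_toList, Finset.length_toList, Finset.length_toList]; omega)]
    exact Finset.mem_toList.1 (List.getElem_mem _)

theorem idx_lst3 {A B C : Finset GolayPt} (h1 : Disjoint A B) (h2 : Disjoint A C) (h3 : Disjoint B C)
    {p : GolayPt} :
    (p ∈ A → ∃ i < A.card, lseq (lst3 A B C) i = p) ∧
    (p ∈ B → ∃ i, A.card ≤ i ∧ i < A.card + B.card ∧ lseq (lst3 A B C) i = p) ∧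
    (p ∈ C → ∃ i, A.card + B.card ≤ i ∧ i < A.card + (B.card + C.card) ∧ lseq (lst3 A B C) i = p) := by
  have key : p ∈ lst3 A B C → ∃ i < A.card + (B.card + C.card), lseq (lst3 A B C) i = p := by
    intro h
    obtain ⟨i, hi, e⟩ := exists_lseq h
    rw [lst3_length] at hi
    exact ⟨i, hi, e⟩
  have hmem : ∀ p, p ∈ lst3 A B C ↔ p ∈ A ∨ p ∈ B ∨ p ∈ C := by
    intro p; simp [lst3]
  refine ⟨?_, ?_, ?_⟩
  · intro hp
    obtain ⟨i, hi, e⟩ := key ((hmem p).2 (Or.inl hp))
    refine ⟨i, ?_, e⟩
    by_contra hc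
    by_cases hb : i < A.card + B.card
    · have := (lseq_lst3 (A := A) (B := B) (C := C) (i := i)).2.1 (by omega) hb
      rw [e] at this
      exact Finset.disjoint_left.1 h1 hp this
    · have := (lseq_lst3 (A := A) (B := B) (C := C) (i := i)).2.2 (by omega) hi
      rw [e] at this
      exact Finset.disjoint_left.1 h2 hp this
  · intro hp
    obtain ⟨i, hi, e⟩ := key ((hmem p).2 (Or.inr (Or.inl hp)))
    refine ⟨i, ?_, ?_, e⟩
    · by_contra hc
      have := (lseq_lst3 (A := A) (B := B) (C := C) (i := i)).1 (by omega)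
      rw [e] at this
      exact Finset.disjoint_left.1 h1 this hp
    · by_contra hc
      have := (lseq_lst3 (A := A) (B := B) (C := C) (i := i)).2.2 (by omega) hi
      rw [e] at this
      exact Finset.disjoint_left.1 h3 hp this
  · intro hp
    obtain ⟨i, hi, e⟩ := key ((hmem p).2 (Or.inr (Or.inr hp)))
    refine ⟨i, ?_, hi, e⟩
    by_contra hc
    by_cases hb : i < A.card
    · have := (lseq_lst3 (A := A) (B := B) (C := C) (i := i)).1 hb
      rw [e] at this
      exact Finset.disjoint_left.1 h2 this hp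
    · have := (lseq_lst3 (A := A) (B := B) (C := C) (i := i)).2.1 (by omega) (by omega)
      rw [e] at this
      exact Finset.disjoint_left.1 h3 this hp

/-- transitivity on triples of pairwise disjoint sets with at most five points -/
theorem exists_map_sets {A B C A' B' C' : Finset GolayPt} (h1 : Disjoint A B) (h2 : Disjoint A C)
    (h3 : Disjoint B C) (h1' : Disjoint A' B') (h2' : Disjoint A' C') (h3' : Disjoint B' C')
    (hA : A.card = A'.card) (hB : B.card = B'.card) (hC : C.card = C'.card)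
    (h5 : A.card + (B.card + C.card) ≤ 5) :
    ∃ g ∈ M24, g • A = A' ∧ g • B = B' ∧ g • C = C' := by
  obtain ⟨g, hg, h⟩ := exists_map_le5 h5 (x := lseq (lst3 A B C)) (y := lseq (lst3 A' B' C'))
    (by have := lseq_inj (lst3_nodup h1 h2 h3); rw [lst3_length] at this; exact this)
    (by have := lseq_inj (lst3_nodup h1' h2' h3'); rw [lst3_length, ← hA, ← hB, ← hC] at this; exact this)
  refine ⟨g, hg, ?_, ?_, ?_⟩
  · apply smul_eq_of_seq hA
    intro a ha
    obtain ⟨i, hi, e⟩ := (idx_lst3 h1 h2 h3).1 ha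
    rw [← e, h i (by omega)]
    exact lseq_lst3.1 (by omega)
  · apply smul_eq_of_seq hB
    intro a ha
    obtain ⟨i, hi, hi', e⟩ := (idx_lst3 h1 h2 h3).2.1 ha
    rw [← e, h i (by omega)]
    exact lseq_lst3.2.1 (by omega) (by omega)
  · apply smul_eq_of_seq hC
    intro a ha
    obtain ⟨i, hi, hi', e⟩ := (idx_lst3 h1 h2 h3).2.2 ha
    rw [← e, h i (by omega)]
    exact lseq_lst3.2.2 (by omega) (by omega)

/-- five points in three sets and a sixth point inside their octad -/
theorem exists_map_sets_in {A B C A' B' C' : Finset GolayPt} (h1 : Disjoint A B) (h2 : Disjoint A C)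
    (h3 : Disjoint B C) (h1' : Disjoint A' B') (h2' : Disjoint A' C') (h3' : Disjoint B' C')
    (hA : A.card = A'.card) (hB : B.card = B'.card) (hC : C.card = C'.card)
    (h5 : A.card + (B.card + C.card) = 5) {o o' : Finset GolayPt} (ho : o ∈ octads) (ho' : o' ∈ octads)
    (hAo : A ⊆ o) (hBo : B ⊆ o) (hCo : C ⊆ o) (hAo' : A' ⊆ o') (hBo' : B' ⊆ o') (hCo' : C' ⊆ o')
    {a b : GolayPt} (ha : a ∈ o) (hb : b ∈ o') (haA : a ∉ A) (haB : a ∉ B) (haC : a ∉ C)
    (hbA : b ∉ A') (hbB : b ∉ B') (hbC : b ∉ C') :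
    ∃ g ∈ M24, g • A = A' ∧ g • B = B' ∧ g • C = C' ∧ g a = b ∧ g • o = o' := by
  have hm : ∀ (A B C : Finset GolayPt) (i : ℕ), i < A.card + (B.card + C.card) →
      (lseq (lst3 A B C) i ∈ A ∨ lseq (lst3 A B C) i ∈ B ∨ lseq (lst3 A B C) i ∈ C) := by
    intro A B C i hi
    by_cases ha : i < A.card
    · exact Or.inl (lseq_lst3.1 ha)
    · by_cases hb : i < A.card + B.card
      · exact Or.inr (Or.inl (lseq_lst3.2.1 (by omega) hb))
      · exact Or.inr (Or.inr (lseq_lst3.2.2 (by omega) hi))
  obtain ⟨g, hg, h, hab, hgo⟩ := six_in (x := lseq (lst3 A B C)) (y := lseq (lst3 A' B' C'))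
    (by have := lseq_inj (lst3_nodup h1 h2 h3); rw [lst3_length, h5] at this; exact this)
    (by have := lseq_inj (lst3_nodup h1' h2' h3'); rw [lst3_length, ← hA, ← hB, ← hC, h5] at this; exact this)
    ho ho'
    (by intro i hi; rcases hm A B C i (by omega) with k | k | k
        · exact hAo k
        · exact hBo k
        · exact hCo k)
    (by intro i hi; rcases hm A' B' C' i (by omega) with k | k | k
        · exact hAo' k
        · exact hBo' k
        · exact hCo' k) ha hb
    (by intro i hi e; rcases hm A B C i (by omega) with k | k | k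
        · rw [e] at k; exact haA k
        · rw [e] at k; exact haB k
        · rw [e] at k; exact haC k)
    (by intro i hi e; rcases hm A' B' C' i (by omega) with k | k | k
        · rw [e] at k; exact hbA k
        · rw [e] at k; exact hbB k
        · rw [e] at k; exact hbC k)
  refine ⟨g, hg, ?_, ?_, ?_, hab, hgo⟩
  · apply smul_eq_of_seq hA
    intro a ha
    obtain ⟨i, hi, e⟩ := (idx_lst3 h1 h2 h3).1 ha
    rw [← e, h i (by omega)]
    exact lseq_lst3.1 (by omega)
  · apply smul_eq_of_seq hB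
    intro a ha
    obtain ⟨i, hi, hi', e⟩ := (idx_lst3 h1 h2 h3).2.1 ha
    rw [← e, h i (by omega)]
    exact lseq_lst3.2.1 (by omega) (by omega)
  · apply smul_eq_of_seq hC
    intro a ha
    obtain ⟨i, hi, hi', e⟩ := (idx_lst3 h1 h2 h3).2.2 ha
    rw [← e, h i (by omega)]
    exact lseq_lst3.2.2 (by omega) (by omega)

/-- five points in three sets and a sixth point outside their octad -/
theorem exists_map_sets_out {A B C A' B' C' : Finset GolayPt} (h1 : Disjoint A B) (h2 : Disjoint A C)
    (h3 : Disjoint B C) (h1' : Disjoint A' B') (h2' : Disjoint A' C') (h3' : Disjoint B' C')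
    (hA : A.card = A'.card) (hB : B.card = B'.card) (hC : C.card = C'.card)
    (h5 : A.card + (B.card + C.card) = 5) {o o' : Finset GolayPt} (ho : o ∈ octads) (ho' : o' ∈ octads)
    (hAo : A ⊆ o) (hBo : B ⊆ o) (hCo : C ⊆ o) (hAo' : A' ⊆ o') (hBo' : B' ⊆ o') (hCo' : C' ⊆ o')
    {a b : GolayPt} (ha : a ∉ o) (hb : b ∉ o') :
    ∃ g ∈ M24, g • A = A' ∧ g • B = B' ∧ g • C = C' ∧ g a = b ∧ g • o = o' := by
  have hm : ∀ (A B C : Finset GolayPt) (i : ℕ), i < A.card + (B.card + C.card) →
      (lseq (lst3 A B C) i ∈ A ∨ lseq (lst3 A B C) i ∈ B ∨ lseq (lst3 A B C) i ∈ C) := by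
    intro A B C i hi
    by_cases ha : i < A.card
    · exact Or.inl (lseq_lst3.1 ha)
    · by_cases hb : i < A.card + B.card
      · exact Or.inr (Or.inl (lseq_lst3.2.1 (by omega) hb))
      · exact Or.inr (Or.inr (lseq_lst3.2.2 (by omega) hi))
  obtain ⟨g, hg, h, hab, hgo⟩ := six_out (x := lseq (lst3 A B C)) (y := lseq (lst3 A' B' C'))
    (by have := lseq_inj (lst3_nodup h1 h2 h3); rw [lst3_length, h5] at this; exact this)
    (by have := lseq_inj (lst3_nodup h1' h2' h3'); rw [lst3_length, ← hA, ← hB, ← hC, h5] at this; exact this)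
    ho ho'
    (by intro i hi; rcases hm A B C i (by omega) with k | k | k
        · exact hAo k
        · exact hBo k
        · exact hCo k)
    (by intro i hi; rcases hm A' B' C' i (by omega) with k | k | k
        · exact hAo' k
        · exact hBo' k
        · exact hCo' k) ha hb
  refine ⟨g, hg, ?_, ?_, ?_, hab, hgo⟩
  · apply smul_eq_of_seq hA
    intro a ha
    obtain ⟨i, hi, e⟩ := (idx_lst3 h1 h2 h3).1 ha
    rw [← e, h i (by omega)]
    exact lseq_lst3.1 (by omega)
  · apply smul_eq_of_seq hB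
    intro a ha
    obtain ⟨i, hi, hi', e⟩ := (idx_lst3 h1 h2 h3).2.1 ha
    rw [← e, h i (by omega)]
    exact lseq_lst3.2.1 (by omega) (by omega)
  · apply smul_eq_of_seq hC
    intro a ha
    obtain ⟨i, hi, hi', e⟩ := (idx_lst3 h1 h2 h3).2.2 ha
    rw [← e, h i (by omega)]
    exact lseq_lst3.2.2 (by omega) (by omega)

end Cfsg.Agent.Lib.Golay
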