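import Cfsg.Agent.Lib.Golay.SimpleM

/-!
Transport of statements on stabilisers along elements of the group.
-/

set_option autoImplicit false

namespace Cfsg.Agent.Lib.Golay

open scoped Pointwise
open Cfsg

section
variable {G : Type*} [Group G] {X Y Z : Type*} [MulAction G X] [MulAction G Y] [MulAction G Z]

theorem stabilizer_pair (x : X) (y : Y) :
    MulAction.stabilizer G (x, y) = MulAction.stabilizer G x ⊓ MulAction.stabilizer G y := by
  ext g
  rw [Subgroup.mem_inf, MulAction.mem_stabilizer_iff, MulAction.mem_stabilizer_iff,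
    MulAction.mem_stabilizer_iff, Prod.smul_mk, Prod.mk.injEq]

/-- conjugate stabilisers of pairs -/
noncomputable def stabPairEquiv {x x' : X} {y y' : Y} (g : G) (hx : g • x = x') (hy : g • y = y') :
    ↥(MulAction.stabilizer G x ⊓ MulAction.stabilizer G y) ≃*
      ↥(MulAction.stabilizer G x' ⊓ MulAction.stabilizer G y') :=
  ((MulEquiv.subgroupCongr (stabilizer_pair x y)).symm.trans
    (MulAction.stabilizerEquivStabilizer (g := g) (a := (x, y)) (b := (x', y'))
      (by rw [Prod.smul_mk, hx, hy]))).trans (MulEquiv.subgroupCongr (stabilizer_pair x' y'))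

/-- conjugate stabilisers of triples -/
noncomputable def stabTripleEquiv {x x' : X} {y y' : Y} {z z' : Z} (g : G) (hx : g • x = x') (hy : g • y = y')
    (hz : g • z = z') :
    ↥(MulAction.stabilizer G x ⊓ MulAction.stabilizer G y ⊓ MulAction.stabilizer G z) ≃*
      ↥(MulAction.stabilizer G x' ⊓ MulAction.stabilizer G y' ⊓ MulAction.stabilizer G z') := by
  refine ((MulEquiv.subgroupCongr ?_).symm.trans
    (MulAction.stabilizerEquivStabilizer (g := g) (a := (x, y, z)) (b := (x', y', z')) ?_)).trans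
      (MulEquiv.subgroupCongr ?_)
  · rw [stabilizer_pair, stabilizer_pair, inf_assoc]
  · rw [Prod.smul_mk, Prod.smul_mk, hx, hy, hz]
  · rw [stabilizer_pair, stabilizer_pair, inf_assoc]

end

/-- a sequence of two points -/
def seq2 (p q : GolayPt) (i : ℕ) : GolayPt := if i = 0 then p else q

theorem exists_map_pair {p q p' q' : GolayPt} (h : p ≠ q) (h' : p' ≠ q') :
    ∃ g ∈ M24, g p = p' ∧ g q = q' := by
  obtain ⟨g, hg, _, h1⟩ := exists_map_fix (n := 0) (by norm_num) (fun _ => p) (by simp) (a := p) (b := p')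
      (by simp) (by simp)
  have h2 : g q ≠ p' := by
    rw [← h1]; exact fun h3 => h (g.injective h3).symm
  obtain ⟨k, hk, h3, h4⟩ := M24_two h2 h'.symm
  refine ⟨k * g, M24.mul_mem hk hg, ?_, ?_⟩
  · rw [Equiv.Perm.mul_apply, h1, h3]
  · rw [Equiv.Perm.mul_apply, h4]

theorem exists_map_triple {p q r p' q' r' : GolayPt} (h1 : p ≠ q) (h2 : p ≠ r) (h3 : q ≠ r)
    (h1' : p' ≠ q') (h2' : p' ≠ r') (h3' : q' ≠ r') :
    ∃ g ∈ M24, g p = p' ∧ g q = q' ∧ g r = r' := by
  obtain ⟨g, hg, e1, e2⟩ := exists_map_pair h1 h1'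
  have h4 : g r ≠ p' := by
    rw [← e1]; exact fun h => h2 (g.injective h).symm
  have h5 : g r ≠ q' := by
    rw [← e2]; exact fun h => h3 (g.injective h).symm
  obtain ⟨k, hk, e3, e4, e5⟩ := M24_three (x := p') (y := q') (z := g r) (w := r') h1'.symm h4 h2'.symm h5 h3'.symm
  refine ⟨k * g, M24.mul_mem hk hg, ?_, ?_, ?_⟩
  · rw [Equiv.Perm.mul_apply, e1, e3]
  · rw [Equiv.Perm.mul_apply, e2, e4]
  · rw [Equiv.Perm.mul_apply, e5]

/-- the stabiliser of a point is isomorphic to the standard one -/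
theorem stab1Equiv (p : GolayPt) : Nonempty (↥(MulAction.stabilizer M24 p) ≃* m23) := by
  obtain ⟨g, hg, _, h⟩ := exists_map_fix (n := 0) (by norm_num) (fun _ => p) (by simp) (a := p) (b := pt 23)
      (by simp) (by simp)
  have e1 : MulAction.stabilizer M24 p ≃* MulAction.stabilizer M24 (pt 23) :=
    MulAction.stabilizerEquivStabilizer (g := (⟨g, hg⟩ : M24)) h.symm
  have e2 : MulAction.stabilizer M24 (pt 23) ≃* m23 := subgroupOfEquivInf M24 (MulAction.stabilizer _ (pt 23))
  exact ⟨e1.trans e2⟩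

theorem stab2Equiv {p q : GolayPt} (h : p ≠ q) :
    Nonempty (↥(MulAction.stabilizer M24 p ⊓ MulAction.stabilizer M24 q) ≃* m22) := by
  obtain ⟨g, hg, h1, h2⟩ := exists_map_pair h (show pt 23 ≠ pt 0 by decide)
  have e1 := stabPairEquiv (x := p) (y := q) (x' := pt 23) (y' := pt 0) (⟨g, hg⟩ : M24) h1 h2
  have e2 : ↥(MulAction.stabilizer M24 (pt 23) ⊓ MulAction.stabilizer M24 (pt 0)) ≃* m22 :=
    (subgroupOfEquivInf M24 (MulAction.stabilizer _ (pt 23) ⊓ MulAction.stabilizer _ (pt 0))).trans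
      (MulEquiv.subgroupCongr (by rw [m22, inf_assoc]))
  exact ⟨e1.trans e2⟩

theorem isSimple_stab1 (p : GolayPt) : IsSimpleGroup (MulAction.stabilizer M24 p) := by
  obtain ⟨e⟩ := stab1Equiv p
  have := isSimple_m23
  exact e.isSimpleGroup

theorem isSimple_stab2 {p q : GolayPt} (hpq : p ≠ q) :
    IsSimpleGroup ↥(MulAction.stabilizer M24 p ⊓ MulAction.stabilizer M24 q) := by
  obtain ⟨e⟩ := stab2Equiv hpq
  have := isSimple_m22
  exact e.isSimpleGroup

end Cfsg.Agent.Lib.Golay
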