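import Cfsg.Agent.Lib.Golay.Code

/-!
Weights of the length-24 code; octads and dodecads; the Steiner system S(5,8,24).
-/

set_option autoImplicit false

namespace Cfsg.Agent.Lib.Golay

open scoped Pointwise
open Cfsg

/-- number of successes of a Boolean property on `2 ^ n` consecutive numbers, by bisection -/
def countB (f : ℕ → Bool) (lo : ℕ) : ℕ → ℕ
  | 0 => if f lo then 1 else 0
  | n + 1 => countB f lo n + countB f (lo + 2 ^ n) n

theorem countB_eq (f : ℕ → Bool) (lo n : ℕ) :
    countB f lo n = ((Finset.Ico lo (lo + 2 ^ n)).filter (fun i => f i = true)).card := by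
  induction n generalizing lo with
  | zero =>
    simp only [countB, pow_zero]
    rw [Nat.Ico_succ_singleton, Finset.filter_singleton]
    split_ifs <;> simp
  | succ n ih =>
    simp only [countB, ih]
    rw [← Finset.card_union_of_disjoint]
    · congr 1
      have h0 : 0 ≤ 2 ^ n := Nat.zero_le _
      rw [← Finset.filter_union, Finset.Ico_union_Ico_eq_Ico (Nat.le_add_right _ _) (Nat.le_add_right _ _)]
      congr 2
      rw [pow_succ]; omega
    · apply Finset.disjoint_filter_filter
      exact Finset.Ico_disjoint_Ico_consecutive _ _ _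

theorem inCode_iff_exists {m : ℕ} : inCode m = true ↔ ∃ c < 4096, m = comb c := by
  constructor
  · intro h
    refine ⟨m &&& 4095, Nat.lt_of_le_of_lt Nat.and_le_right (by norm_num), ?_⟩
    rw [comb_and]
    simp only [inCode, beq_iff_eq] at h
    exact h.symm
  · rintro ⟨c, _, rfl⟩
    exact inCode_comb c

theorem comb_low : allB (fun c => comb c &&& 4095 == c) 0 12 = true := by decide +kernel

theorem comb_injOn {a b : ℕ} (ha : a < 4096) (hb : b < 4096) (h : comb a = comb b) : a = b := by
  have h1 := of_allB comb_low (i := a) (Nat.zero_le _) (by simpa using ha)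
  have h2 := of_allB comb_low (i := b) (Nat.zero_le _) (by simpa using hb)
  simp only [beq_iff_eq] at h1 h2
  rw [← h1, ← h2, h]

theorem weights_comb : allB (fun c => pc (comb c) == 0 || pc (comb c) == 8 || pc (comb c) == 12 ||
    pc (comb c) == 16 || pc (comb c) == 24) 0 12 = true := by decide +kernel

theorem weight_of_inCode {m : ℕ} (h : inCode m = true) :
    pc m = 0 ∨ pc m = 8 ∨ pc m = 12 ∨ pc m = 16 ∨ pc m = 24 := by
  obtain ⟨c, hc, rfl⟩ := inCode_iff_exists.1 h
  have := of_allB weights_comb (i := c) (Nat.zero_le _) (by simpa using hc)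
  simp only [Bool.or_eq_true, beq_iff_eq] at this
  tauto

/-- supports of code words, as sets -/
def IsWord (s : Finset GolayPt) : Prop := inCode (mk s) = true

theorem isWord_iff {s : Finset GolayPt} :
    IsWord s ↔ s ∈ supports (golayCode : Set (GolayPt → ZMod 2)) := (mem_supports_iff s).symm

theorem isWord_st {m : ℕ} (hm : m < 2 ^ 24) : IsWord (st m) ↔ inCode m = true := by
  unfold IsWord; rw [mk_st hm]

theorem IsWord.symmDiff {s t : Finset GolayPt} (hs : IsWord s) (ht : IsWord t) :
    IsWord (_root_.symmDiff s t) := by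
  unfold IsWord at *
  have h : mk (_root_.symmDiff s t) = mk s ^^^ mk t := by
    apply st_inj (mk_lt _) (Nat.xor_lt_two_pow (mk_lt _) (mk_lt _))
    rw [st_mk, st_xor, st_mk, st_mk]
  rw [h]; exact inCode_xor hs ht

theorem isWord_univ : IsWord Finset.univ := by
  rw [← st_full, isWord_st (by norm_num)]; decide +kernel

theorem IsWord.compl {s : Finset GolayPt} (hs : IsWord s) : IsWord sᶜ := by
  have h := hs.symmDiff isWord_univ
  have e : _root_.symmDiff s Finset.univ = sᶜ := by
    ext p; simp [Finset.mem_symmDiff]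
  rwa [e] at h

theorem card_eq_pc (s : Finset GolayPt) : s.card = pc (mk s) := by
  conv_lhs => rw [← st_mk s]
  exact card_st _

theorem IsWord.card {s : Finset GolayPt} (hs : IsWord s) :
    s.card = 0 ∨ s.card = 8 ∨ s.card = 12 ∨ s.card = 16 ∨ s.card = 24 := by
  rw [card_eq_pc]; exact weight_of_inCode hs

theorem mem_octads {s : Finset GolayPt} : s ∈ octads ↔ IsWord s ∧ s.card = 8 := by
  unfold octads wordsOfWeight
  rw [Set.mem_setOf_eq, isWord_iff]

theorem mem_dodecads {s : Finset GolayPt} : s ∈ dodecads ↔ IsWord s ∧ s.card = 12 := by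
  unfold dodecads wordsOfWeight
  rw [Set.mem_setOf_eq, isWord_iff]

theorem st_mem_octads {m : ℕ} (hm : m < 2 ^ 24) : st m ∈ octads ↔ inCode m = true ∧ pc m = 8 := by
  rw [mem_octads, isWord_st hm, card_st]

theorem st_mem_dodecads {m : ℕ} (hm : m < 2 ^ 24) :
    st m ∈ dodecads ↔ inCode m = true ∧ pc m = 12 := by
  rw [mem_dodecads, isWord_st hm, card_st]

theorem card_symmDiff (s t : Finset GolayPt) :
    (symmDiff s t).card + 2 * (s ∩ t).card = s.card + t.card := by
  have h1 : (symmDiff s t).card = (s \ t).card + (t \ s).card := by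
    rw [symmDiff_def, Finset.sup_eq_union, Finset.card_union_of_disjoint]
    exact disjoint_sdiff_sdiff
  have h2 := Finset.card_sdiff_add_card_inter s t
  have h3 := Finset.card_sdiff_add_card_inter t s
  rw [Finset.inter_comm t s] at h3
  omega

theorem octad_inter {s t : Finset GolayPt} (hs : s ∈ octads) (ht : t ∈ octads) :
    (s ∩ t).card = 0 ∨ (s ∩ t).card = 2 ∨ (s ∩ t).card = 4 ∨ (s ∩ t).card = 8 := by
  rw [mem_octads] at hs ht
  have h := card_symmDiff s t
  have hw := (hs.1.symmDiff ht.1).card
  omega

theorem octad_eq {s t : Finset GolayPt} (hs : s ∈ octads) (ht : t ∈ octads)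
    (h : 5 ≤ (s ∩ t).card) : s = t := by
  have h1 : (s ∩ t).card = 8 := by
    have := octad_inter hs ht; omega
  have e1 : s ∩ t = s := Finset.eq_of_subset_of_card_le Finset.inter_subset_left
    (by rw [h1, (mem_octads.1 hs).2])
  have e2 : s ∩ t = t := Finset.eq_of_subset_of_card_le Finset.inter_subset_right
    (by rw [h1, (mem_octads.1 ht).2])
  rw [← e1, e2]

theorem ncard_words (k : ℕ) :
    {s : Finset GolayPt | IsWord s ∧ s.card = k}.ncard = countB (fun c => pc (comb c) == k) 0 12 := by
  rw [countB_eq, ← Set.ncard_coe_finset]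
  symm
  refine Set.ncard_congr (fun c _ => st (comb c)) ?_ ?_ ?_
  · intro c hc
    simp only [Finset.coe_filter, Finset.mem_Ico, beq_iff_eq, Set.mem_setOf_eq] at hc
    refine ⟨(isWord_st (comb_lt c)).2 (inCode_comb c), ?_⟩
    rw [card_st]; exact hc.2
  · intro a b ha hb h
    simp only [Finset.coe_filter, Finset.mem_Ico, beq_iff_eq, Set.mem_setOf_eq] at ha hb
    exact comb_injOn (by omega) (by omega) (st_inj (comb_lt a) (comb_lt b) h)
  · rintro s ⟨h1, h2⟩
    obtain ⟨c, hc, e⟩ := inCode_iff_exists.1 h1
    refine ⟨c, ?_, ?_⟩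
    · simp only [Finset.coe_filter, Finset.mem_Ico, beq_iff_eq, Set.mem_setOf_eq]
      rw [← e, ← card_eq_pc]
      exact ⟨⟨Nat.zero_le _, by simpa using hc⟩, h2⟩
    · rw [← e, st_mk]

theorem octads_eq : octads = {s | IsWord s ∧ s.card = 8} := by
  ext s; exact mem_octads

theorem dodecads_eq : dodecads = {s | IsWord s ∧ s.card = 12} := by
  ext s; exact mem_dodecads

theorem octads_ncard : octads.ncard = 759 := by
  rw [octads_eq, ncard_words]; decide +kernel

theorem dodecads_ncard : dodecads.ncard = 2576 := by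
  rw [dodecads_eq, ncard_words]; decide +kernel

theorem octads_finite : octads.Finite := Set.toFinite _

theorem card_golayPt : Fintype.card GolayPt = 24 := by decide

theorem steiner : IsSteinerSystem 5 8 octads := by
  classical
  refine ⟨fun b hb => (mem_octads.1 hb).2, ?_⟩
  -- count the 5-subsets covered
  let O : Finset (Finset GolayPt) := octads_finite.toFinset
  have hO : O.card = 759 := by
    rw [← octads_ncard, Set.ncard_eq_toFinset_card _ octads_finite]
  have hmem : ∀ o, o ∈ O ↔ o ∈ octads := fun o => Set.Finite.mem_toFinset _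
  have hdis : ∀ a ∈ O, ∀ b ∈ O, a ≠ b →
      Disjoint (Finset.powersetCard 5 a) (Finset.powersetCard 5 b) := by
    intro a ha b hb hab
    rw [Finset.disjoint_left]
    intro s hs hs'
    rw [Finset.mem_powersetCard] at hs hs'
    apply hab
    apply octad_eq ((hmem a).1 ha) ((hmem b).1 hb)
    calc 5 = s.card := hs.2.symm
      _ ≤ (a ∩ b).card := Finset.card_le_card (Finset.subset_inter hs.1 hs'.1)
  have hcard : (O.biUnion (fun o => Finset.powersetCard 5 o)).card = 42504 := by
    rw [Finset.card_biUnion hdis, Finset.sum_congr rfl (g := fun _ => 56)]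
    · rw [Finset.sum_const, hO]; rfl
    · intro o ho
      rw [Finset.card_powersetCard, (mem_octads.1 ((hmem o).1 ho)).2]; rfl
  have huniv : O.biUnion (fun o => Finset.powersetCard 5 o) = Finset.powersetCard 5 Finset.univ := by
    apply Finset.eq_of_subset_of_card_le
    · intro s hs
      rw [Finset.mem_biUnion] at hs
      obtain ⟨o, _, h⟩ := hs
      rw [Finset.mem_powersetCard] at h ⊢
      exact ⟨Finset.subset_univ _, h.2⟩
    · rw [hcard, Finset.card_powersetCard, Finset.card_univ, card_golayPt]
      decide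
  intro s hs
  have : s ∈ O.biUnion (fun o => Finset.powersetCard 5 o) := by
    rw [huniv, Finset.mem_powersetCard]; exact ⟨Finset.subset_univ _, hs⟩
  rw [Finset.mem_biUnion] at this
  obtain ⟨o, ho, h⟩ := this
  rw [Finset.mem_powersetCard] at h
  refine ⟨o, ⟨(hmem o).1 ho, h.1⟩, ?_⟩
  rintro o' ⟨ho', h'⟩
  apply octad_eq ho' ((hmem o).1 ho)
  calc 5 = s.card := hs.symm
    _ ≤ (o' ∩ o).card := Finset.card_le_card (Finset.subset_inter h' h.1)

end Cfsg.Agent.Lib.Golay
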