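import Cfsg.Agent.Lib.Golay.OrbSRes
import Cfsg.Agent.Lib.Coatom

/-!
Orbit lengths and primitivity for sextets, trios and octads.
-/

set_option autoImplicit false

namespace Cfsg.Agent.Lib.Golay

open scoped Pointwise
open Cfsg Finset

theorem sextets_std {S : Finset (Finset GolayPt)} (hS : S ∈ sextets) : ∃ g ∈ M24, g • fs sx0 = S := by
  obtain ⟨t, ht⟩ : S.Nonempty := by
    rw [← Finset.card_pos]
    have := hS.1
    omega
  have htc : t.card = 4 := hS.2.1 t ht
  have h0 : sx0.getD 0 0 ∈ sx0 := by decide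
  have hc : (st (sx0.getD 0 0)).card = 4 := by rw [card_st]; decide +kernel
  obtain ⟨g, hg, e, -, -⟩ := exists_map_sets (A := st (sx0.getD 0 0)) (B := ∅) (C := ∅) (A' := t) (B' := ∅) (C' := ∅)
    (disjoint_empty_right _) (disjoint_empty_right _) (disjoint_empty_right _) (disjoint_empty_right _)
    (disjoint_empty_right _) (disjoint_empty_right _) (by rw [hc, htc]) rfl rfl (by rw [hc]; decide)
  refine ⟨g, hg, ?_⟩
  rw [← decS_eq_fs sx0_ok h0, decS, smul_sext hg hc, e, ← sextet_eq hS ht]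

theorem fs_sx0_mem : fs sx0 ∈ sextets := fs_sextet sx0_ok

theorem sextets_transitive {S S' : Finset (Finset GolayPt)} (hS : S ∈ sextets) (hS' : S' ∈ sextets) :
    ∃ g ∈ M24, g • S = S' := by
  obtain ⟨g, hg, rfl⟩ := sextets_std hS
  obtain ⟨k, hk, rfl⟩ := sextets_std hS'
  exact ⟨k * g⁻¹, M24.mul_mem hk (M24.inv_mem hg), by rw [mul_smul, inv_smul_smul]⟩

theorem tr00_mem : fs (trioL tr00) ∈ trios := by
  rw [← decT_eq_fs tr00_ok]
  obtain ⟨h1, h2, h3, -⟩ := okT_spec tr00_ok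
  exact trio_mem h1 h2 h3

/-- an invariant subset of the size of the smallest orbit is an orbit -/
theorem OrbRes.trans_of {Y : Type} [MulAction (Equiv.Perm GolayPt) Y] {H : Subgroup (Equiv.Perm GolayPt)} {X : Set Y}
    {r : ℕ} {cnt : ℕ → ℕ} (h : OrbRes H X r cnt) (A : Set Y) (hAX : A ⊆ X) (hA : ∀ g ∈ H, ∀ y ∈ A, g • y ∈ A)
    (hfin : A.Finite) (hsz : ∀ k < r, cnt k ≤ A.ncard → cnt k = A.ncard) :
    ∀ y ∈ A, ∀ z ∈ A, ∃ g ∈ H, g • y = z := by
  obtain ⟨hX, f, f1, f2, f3, f4⟩ := h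
  intro y hy z hz
  have hsub : {w | w ∈ X ∧ f w = f y} ⊆ A := by
    rintro w ⟨hw, hwy⟩
    obtain ⟨g, hg, e⟩ := f3 y (hAX hy) w hw hwy.symm
    rw [← e]; exact hA g hg y hy
  have hk := f2 y (hAX hy)
  have h1 := Set.ncard_le_ncard hsub hfin
  rw [f4 _ hk] at h1
  have h2 := hsz _ hk h1
  have h3 : {w | w ∈ X ∧ f w = f y} = A := by
    apply Set.eq_of_subset_of_ncard_le hsub _ hfin
    rw [f4 _ hk, h2]
  have h4 : z ∈ {w | w ∈ X ∧ f w = f y} := by rw [h3]; exact hz
  exact f3 y (hAX hy) z h4.1 h4.2.symm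

theorem trios_finite : trios.Finite := by
  apply Set.finite_of_ncard_ne_zero
  rw [ncard_trios]; norm_num

theorem sextets_finite : sextets.Finite := by
  apply Set.finite_of_ncard_ne_zero
  rw [ncard_sextets]; norm_num

theorem ncard_trios_through {o : Finset GolayPt} (ho : o ∈ octads) :
    {T : Finset (Finset GolayPt) | T ∈ trios ∧ o ∈ T}.ncard = 15 := by
  have h := card_trios_through ho trios_finite
  rw [← Set.ncard_coe_finset] at h
  rw [← h]
  congr 1
  ext T
  simp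

/-- the octad stabiliser is transitive on the trios through the octad -/
theorem trios_through_std : ∀ T ∈ {T : Finset (Finset GolayPt) | T ∈ trios ∧ st oct0 ∈ T},
    ∀ T' ∈ {T : Finset (Finset GolayPt) | T ∈ trios ∧ st oct0 ∈ T}, ∃ g ∈ hOct, g • T = T' := by
  apply resOT.trans_of _ (fun T hT => hT.1)
  · rintro g hg T ⟨h1, h2⟩
    refine ⟨smul_mem_trios hg.1 h1, ?_⟩
    have h3 : g • st oct0 = st oct0 := hg.2
    rw [← h3]
    exact Finset.smul_mem_smul_finset h2
  · exact trios_finite.subset (fun T hT => hT.1)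
  · rw [ncard_trios_through oct0_mem]
    decide

theorem trios_transitive {T T' : Finset (Finset GolayPt)} (hT : T ∈ trios) (hT' : T' ∈ trios) :
    ∃ g ∈ M24, g • T = T' := by
  have key : ∀ T ∈ trios, ∃ g ∈ M24, st oct0 ∈ g • T := by
    intro T hT
    obtain ⟨o, ho⟩ : T.Nonempty := by
      rw [← Finset.card_pos]
      have := hT.1
      omega
    obtain ⟨g, hg, e⟩ := octads_transitive (hT.2.1 o ho) oct0_mem
    exact ⟨g, hg, by rw [← e]; exact Finset.smul_mem_smul_finset ho⟩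
  obtain ⟨g, hg, e⟩ := key T hT
  obtain ⟨k, hk, e'⟩ := key T' hT'
  obtain ⟨u, hu, e2⟩ := trios_through_std _ ⟨smul_mem_trios hg hT, e⟩ _ ⟨smul_mem_trios hk hT', e'⟩
  refine ⟨k⁻¹ * (u * g), M24.mul_mem (M24.inv_mem hk) (M24.mul_mem hu.1 hg), ?_⟩
  rw [mul_smul, mul_smul, e2, inv_smul_smul]

theorem resS {S : Finset (Finset GolayPt)} (hS : S ∈ sextets) :
    OrbRes (M24 ⊓ MulAction.stabilizer (Equiv.Perm GolayPt) S) sextets 4 (fun k => [1, 90, 240, 1440].getD k 0) ∧
    OrbRes (M24 ⊓ MulAction.stabilizer (Equiv.Perm GolayPt) S) trios 4 (fun k => [15, 180, 720, 2880].getD k 0) ∧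
    OrbRes (M24 ⊓ MulAction.stabilizer (Equiv.Perm GolayPt) S) octads 3 (fun k => [15, 360, 384].getD k 0) := by
  obtain ⟨g, hg, rfl⟩ := sextets_std hS
  exact ⟨resSS.conj (fun g hg _ h => smul_mem_sextets hg h) hg, resST.conj (fun g hg _ h => smul_mem_trios hg h) hg,
    resSO.conj (fun g hg _ h => smul_mem_octads hg h) hg⟩

theorem resT {T : Finset (Finset GolayPt)} (hT : T ∈ trios) :
    OrbRes (M24 ⊓ MulAction.stabilizer (Equiv.Perm GolayPt) T) trios 5 (fun k => [1, 42, 56, 1008, 2688].getD k 0) ∧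
    OrbRes (M24 ⊓ MulAction.stabilizer (Equiv.Perm GolayPt) T) sextets 4 (fun k => [7, 84, 336, 1344].getD k 0) ∧
    OrbRes (M24 ⊓ MulAction.stabilizer (Equiv.Perm GolayPt) T) octads 3 (fun k => [3, 84, 672].getD k 0) := by
  obtain ⟨g, hg, rfl⟩ := trios_transitive tr00_mem hT
  exact ⟨resTT.conj (fun g hg _ h => smul_mem_trios hg h) hg, resTS.conj (fun g hg _ h => smul_mem_sextets hg h) hg,
    resTO.conj (fun g hg _ h => smul_mem_octads hg h) hg⟩

theorem resO {o : Finset GolayPt} (ho : o ∈ octads) :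
    OrbRes (M24 ⊓ MulAction.stabilizer (Equiv.Perm GolayPt) o) trios 3 (fun k => [15, 420, 3360].getD k 0) ∧
    OrbRes (M24 ⊓ MulAction.stabilizer (Equiv.Perm GolayPt) o) sextets 3 (fun k => [35, 840, 896].getD k 0) := by
  obtain ⟨g, hg, rfl⟩ := octads_transitive oct0_mem ho
  exact ⟨resOT.conj (fun g hg _ h => smul_mem_trios hg h) hg, resOS.conj (fun g hg _ h => smul_mem_sextets hg h) hg⟩

theorem orbit_sextet {S : Finset (Finset GolayPt)} (hS : S ∈ sextets) : MulAction.orbit M24 S = sextets := by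
  ext y
  constructor
  · rintro ⟨g, rfl⟩; exact smul_mem_sextets g.2 hS
  · intro hy
    obtain ⟨g, hg, e⟩ := sextets_transitive hS hy
    exact ⟨⟨g, hg⟩, e⟩

theorem orbit_trio {S : Finset (Finset GolayPt)} (hS : S ∈ trios) : MulAction.orbit M24 S = trios := by
  ext y
  constructor
  · rintro ⟨g, rfl⟩; exact smul_mem_trios g.2 hS
  · intro hy
    obtain ⟨g, hg, e⟩ := trios_transitive hS hy
    exact ⟨⟨g, hg⟩, e⟩

theorem OrbRes.coatom {Y : Type} [MulAction (Equiv.Perm GolayPt) Y] {s : Y} {X : Set Y}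
    {r : ℕ} {cnt : ℕ → ℕ} (h : OrbRes (M24 ⊓ MulAction.stabilizer (Equiv.Perm GolayPt) s) X r cnt)
    (hX : MulAction.orbit M24 s = X) (h1 : ∀ k < r, cnt k = 1 → k = 0)
    (har : ∀ S ∈ (range r).powerset, 0 ∈ S → (∑ i ∈ S, cnt i) ∣ (∑ i ∈ range r, cnt i) → S = {0} ∨ S = range r)
    (hr : 1 < ∑ i ∈ range r, cnt i) : IsCoatom (MulAction.stabilizer M24 s) := by
  obtain ⟨-, f, f1, f2, f3, f4⟩ := h
  have hs : s ∈ X := by rw [← hX]; exact MulAction.mem_orbit_self s
  have hcls : {y | y ∈ X ∧ f y = f s} = {s} := by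
    ext y
    constructor
    · rintro ⟨hy, e⟩
      obtain ⟨g, hg, e'⟩ := f3 s hs y hy e.symm
      have : g • s = s := hg.2
      exact (e'.symm.trans this)
    · rintro rfl; exact ⟨hs, rfl⟩
  have hfs : f s = 0 := by
    apply h1 _ (f2 s hs)
    rw [← f4 _ (f2 s hs), hcls, Set.ncard_singleton]
  refine Coatom.isCoatom_stabilizer s f r cnt hfs ?_ ?_ ?_ ?_ har hr
  · intro y hy h
    rw [hX] at hy
    have : y ∈ {y | y ∈ X ∧ f y = f s} := ⟨hy, by rw [h, hfs]⟩
    rw [hcls] at this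
    exact this
  · intro y hy z hz h
    rw [hX] at hy hz
    obtain ⟨g, hg, e⟩ := f3 y hy z hz h
    exact ⟨⟨g, hg.1⟩, hg.2, e⟩
  · intro y hy
    rw [hX] at hy
    exact f2 y hy
  · intro i hi
    rw [hX]; exact f4 i hi

theorem isCoatom_sextet {S : Finset (Finset GolayPt)} (hS : S ∈ sextets) : IsCoatom (MulAction.stabilizer M24 S) :=
  (resS hS).1.coatom (orbit_sextet hS) (by decide) (by decide) (by decide)

theorem isCoatom_trio {S : Finset (Finset GolayPt)} (hS : S ∈ trios) : IsCoatom (MulAction.stabilizer M24 S) :=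
  (resT hS).1.coatom (orbit_trio hS) (by decide) (by decide) (by decide)

theorem orbit_self_singleton {Y : Type} [MulAction (Equiv.Perm GolayPt) Y] (s : Y) :
    MulAction.orbit ↥(MulAction.stabilizer M24 s) s = {s} := by
  ext z
  constructor
  · rintro ⟨g, rfl⟩; exact g.2
  · rintro rfl; exact MulAction.mem_orbit_self _

end Cfsg.Agent.Lib.Golay
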