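import Cfsg.Agent.Lib.Golay.Elem
import Cfsg.Agent.Lib.Golay.OrbUse

/-!
Numbers of octads, dodecads, trios and sextets fixed by elements of small order.
-/

set_option autoImplicit false

namespace Cfsg.Agent.Lib.Golay

open scoped Pointwise
open Cfsg Finset

theorem ncard_fixed_conj {Y : Type} [MulAction (Equiv.Perm GolayPt) Y] {X : Set Y}
    (hX : ∀ g ∈ M24, ∀ y ∈ X, g • y ∈ X) {k g h : Equiv.Perm GolayPt} (hk : k ∈ M24) (e : k * g * k⁻¹ = h) :
    {y | y ∈ X ∧ g • y = y}.ncard = {y | y ∈ X ∧ h • y = y}.ncard := by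
  have : {y | y ∈ X ∧ h • y = y} = (fun y => k • y) '' {y | y ∈ X ∧ g • y = y} := by
    ext y
    constructor
    · rintro ⟨h1, h2⟩
      refine ⟨k⁻¹ • y, ⟨hX _ (M24.inv_mem hk) _ h1, ?_⟩, smul_inv_smul k y⟩
      rw [← e, mul_smul, mul_smul] at h2
      rw [eq_inv_smul_iff]; exact h2
    · rintro ⟨z, ⟨h1, h2⟩, rfl⟩
      refine ⟨hX _ hk _ h1, ?_⟩
      show h • k • z = k • z
      rw [← e, mul_smul, mul_smul, inv_smul_smul, h2]
  rw [this, Set.ncard_image_of_injective _ (MulAction.injective k)]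

theorem fixW_iff {c : ℕ} (hc : pres c = true) {a : ℕ} : pm c • decW a = decW a ↔ sameW c a a = true := by
  constructor
  · intro h
    unfold sameW
    rw [beq_iff_eq]
    unfold decW at h
    rw [pm_smul_st (pres_valid hc)] at h
    exact st_inj (act_lt (pres_valid hc) _) (comb_lt a) h
  · exact sameW_spec hc

theorem fixS_iff {c : ℕ} (hc : pres c = true) {a : ℕ} (ha : okS a = true) :
    pm c • decS a = decS a ↔ sameS c a a = true := by
  constructor
  · intro h
    obtain ⟨a1, a2, a3⟩ := okS_spec ha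
    have h1 : pm c • st a ∈ decS a := by
      rw [← h]; exact smul_mem_smul_finset (mem_sext_self _)
    have h2 : st a ∈ decS a := mem_sext_self _
    rw [pm_smul_st (pres_valid hc)] at h1
    unfold sameS
    rw [Bool.or_eq_true, Bool.and_eq_true, beq_iff_eq, beq_iff_eq]
    by_cases he : st (act c a) = st a
    · left; exact st_inj (act_lt (pres_valid hc) _) a3 he
    · right
      have h3 := (sext_mem a2).2.2 _ h1 _ h2 he
      rw [← st_or, mem_octads, IsWord, card_st] at h3
      refine ⟨?_, h3.2⟩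
      have h4 := h3.1
      rwa [mk_st] at h4
      exact Nat.or_lt_two_pow (act_lt (pres_valid hc) _) a3
  · exact sameS_spec hc ha ha

theorem fixT_iff {c : ℕ} (hc : pres c = true) {a : ℕ} (ha : okT a = true) :
    pm c • decT a = decT a ↔ sameT c a a = true := by
  constructor
  · intro h
    obtain ⟨a1, a2, a3, _⟩ := okT_spec ha
    have key : ∀ u, pm c • st (comb u) ∈ decT a → inTrio (act c (comb u)) a = true := by
      intro u hu
      rw [pm_smul_st (pres_valid hc)] at hu
      unfold decT trio at hu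
      rw [third_eq a3] at hu
      simp only [mem_insert, mem_singleton] at hu
      unfold inTrio
      simp only [Bool.or_eq_true, beq_iff_eq]
      unfold decW at hu
      have hl := act_lt (pres_valid hc) (comb u)
      rcases hu with h | h | h
      · left; left; exact st_inj hl (comb_lt _) h
      · left; right; exact st_inj hl (comb_lt _) h
      · right; exact st_inj hl (comb_lt _) h
    unfold sameT
    rw [Bool.and_eq_true]
    refine ⟨key _ ?_, key _ ?_⟩
    · rw [← h]
      apply smul_mem_smul_finset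
      unfold decT trio
      simp [decW]
    · rw [← h]
      apply smul_mem_smul_finset
      unfold decT trio
      simp [decW]
  · exact sameT_spec hc ha ha

theorem fix_oct {c n : ℕ} (hc : pres c = true)
    (h : countB (fun e => Nat.blt e 759 && sameW c (tabAt octTab 12 e) (tabAt octTab 12 e)) 0 10 = n) :
    {y | y ∈ octads ∧ pm c • y = y}.ncard = n := by
  rw [← h]
  exact ncard_enum octE (n := 10) (by show 759 ≤ 2 ^ 10; norm_num) (fun e _ => fixW_iff hc)

theorem fix_dod {c n : ℕ} (hc : pres c = true)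
    (h : countB (fun e => Nat.blt e 2576 && sameW c (tabAt dodTab 12 e) (tabAt dodTab 12 e)) 0 12 = n) :
    {y | y ∈ dodecads ∧ pm c • y = y}.ncard = n := by
  rw [← h]
  exact ncard_enum dodE (n := 12) (by show 2576 ≤ 2 ^ 12; norm_num) (fun e _ => fixW_iff hc)

theorem fix_sext {c n : ℕ} (hc : pres c = true)
    (h : countB (fun e => Nat.blt e 1771 && sameS c (tabAt sextTab 24 e) (tabAt sextTab 24 e)) 0 11 = n) :
    {y | y ∈ sextets ∧ pm c • y = y}.ncard = n := by
  rw [← h]
  exact ncard_enum sextE (n := 11) (by show 1771 ≤ 2 ^ 11; norm_num) (fun e he => fixS_iff hc (okS_of he))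

theorem fix_trio {c n : ℕ} (hc : pres c = true)
    (h : countB (fun e => Nat.blt e 3795 && sameT c (tabAt trioTab 24 e) (tabAt trioTab 24 e)) 0 12 = n) :
    {y | y ∈ trios ∧ pm c • y = y}.ncard = n := by
  rw [← h]
  exact ncard_enum trioE (n := 12) (by show 3795 ≤ 2 ^ 12; norm_num) (fun e he => fixT_iff hc (okT_of he))

theorem reps_pres : pres cI1 = true ∧ pres cI2 = true ∧ pres cW1 = true ∧ pres cW2 = true := by decide +kernel

/-- an involution with eight fixed points -/
theorem inv_eight {g : Equiv.Perm GolayPt} (hg : g ∈ M24) (h2 : orderOf g = 2) (h8 : nfix g = 8) :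
    ∃ k ∈ M24, k * g * k⁻¹ = pm cI1 := by
  have := orderOf_eq_prime_iff.1 h2
  obtain ⟨k, hk, e | e⟩ := inv_class hg (by rw [← sq]; exact this.1) this.2
  · exact ⟨k, hk, e⟩
  · exfalso
    have h := nfix_conj k g
    rw [e, nfix_reps.2.1, h8] at h
    exact absurd h (by norm_num)

theorem fixset_conj (k g : Equiv.Perm GolayPt) :
    (Finset.univ.filter fun p => (k * g * k⁻¹) p = p) = k • (Finset.univ.filter fun p => g p = p) := by
  ext p
  rw [mem_smul_iff, Finset.mem_filter, Finset.mem_filter]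
  simp only [Finset.mem_univ, true_and]
  rw [Equiv.eq_symm_apply]
  exact Iff.rfl

theorem nfix_zero {g : Equiv.Perm GolayPt} : nfix g = 0 ↔ ∀ p, g p ≠ p := by
  unfold nfix
  rw [card_eq_zero, filter_eq_empty_iff]
  simp

theorem inv_zero {g : Equiv.Perm GolayPt} (hg : g ∈ M24) (h2 : orderOf g = 2) (h8 : ∀ p, g p ≠ p) :
    ∃ k ∈ M24, k * g * k⁻¹ = pm cI2 := by
  have := orderOf_eq_prime_iff.1 h2
  obtain ⟨k, hk, e | e⟩ := inv_class hg (by rw [← sq]; exact this.1) this.2
  · exfalso
    have h := nfix_conj k g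
    rw [e, nfix_reps.1, nfix_zero.2 h8] at h
    exact absurd h (by norm_num)
  · exact ⟨k, hk, e⟩

theorem three_six {g : Equiv.Perm GolayPt} (hg : g ∈ M24) (h2 : orderOf g = 3) (h8 : nfix g = 6) :
    ∃ k ∈ M24, k * g * k⁻¹ = pm cW1 := by
  have := orderOf_eq_prime_iff.1 h2
  obtain ⟨k, hk, e | e⟩ := three_class hg (by rw [← this.1, pow_succ, sq]) this.2
  · exact ⟨k, hk, e⟩
  · exfalso
    have h := nfix_conj k g
    rw [e, nfix_reps.2.2.2, h8] at h
    exact absurd h (by norm_num)

theorem three_zero {g : Equiv.Perm GolayPt} (hg : g ∈ M24) (h2 : orderOf g = 3) (h8 : ∀ p, g p ≠ p) :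
    ∃ k ∈ M24, k * g * k⁻¹ = pm cW2 := by
  have := orderOf_eq_prime_iff.1 h2
  obtain ⟨k, hk, e | e⟩ := three_class hg (by rw [← this.1, pow_succ, sq]) this.2
  · exfalso
    have h := nfix_conj k g
    rw [e, nfix_reps.2.2.1, nfix_zero.2 h8] at h
    exact absurd h (by norm_num)
  · exact ⟨k, hk, e⟩

theorem fixcounts : ({y | y ∈ octads ∧ pm cI1 • y = y}.ncard = 71 ∧ {y | y ∈ trios ∧ pm cI1 • y = y}.ncard = 99 ∧
      {y | y ∈ sextets ∧ pm cI1 • y = y}.ncard = 91) ∧
    ({y | y ∈ octads ∧ pm cI2 • y = y}.ncard = 15 ∧ {y | y ∈ trios ∧ pm cI2 • y = y}.ncard = 75 ∧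
      {y | y ∈ sextets ∧ pm cI2 • y = y}.ncard = 51) ∧
    ({y | y ∈ octads ∧ pm cW1 • y = y}.ncard = 21 ∧ {y | y ∈ trios ∧ pm cW1 • y = y}.ncard = 15 ∧
      {y | y ∈ sextets ∧ pm cW1 • y = y}.ncard = 16 ∧ {y | y ∈ dodecads ∧ pm cW1 • y = y}.ncard = 20) ∧
    ({y | y ∈ trios ∧ pm cW2 • y = y}.ncard = 15 ∧
      {y | y ∈ sextets ∧ pm cW2 • y = y}.ncard = 7) := by
  obtain ⟨p1, p2, p3, p4⟩ := reps_pres
  exact ⟨⟨fix_oct p1 (by decide +kernel), fix_trio p1 (by decide +kernel), fix_sext p1 (by decide +kernel)⟩,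
    ⟨fix_oct p2 (by decide +kernel), fix_trio p2 (by decide +kernel), fix_sext p2 (by decide +kernel)⟩,
    ⟨fix_oct p3 (by decide +kernel), fix_trio p3 (by decide +kernel), fix_sext p3 (by decide +kernel),
      fix_dod p3 (by decide +kernel)⟩,
    ⟨fix_trio p4 (by decide +kernel), fix_sext p4 (by decide +kernel)⟩⟩

end Cfsg.Agent.Lib.Golay
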