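import Cfsg.Prelude.Def_Sporadic_a

/-!
Encoding of sets of points of the projective line over the residues modulo 23 by natural numbers (24-bit masks),
for kernel computations with the length-24 code.
-/

set_option autoImplicit false

namespace Cfsg.Agent.Lib.Golay

open scoped Pointwise
open Cfsg

/-- index of a point: a residue goes to its value, the extra point to 23 -/
def ix : GolayPt → ℕ
  | none => 23
  | some x => x.val

/-- the point with a given index -/
def pt (n : ℕ) : GolayPt := if n = 23 then none else some (n : ZMod 23)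

theorem ix_lt (p : GolayPt) : ix p < 24 := by
  cases p with
  | none => decide
  | some x => exact lt_trans (ZMod.val_lt x) (by decide)

theorem pt_ix (p : GolayPt) : pt (ix p) = p := by
  revert p; decide

theorem ix_pt {n : ℕ} (h : n < 24) : ix (pt n) = n := by
  revert n; decide

theorem ix_inj {p q : GolayPt} (h : ix p = ix q) : p = q := by
  rw [← pt_ix p, ← pt_ix q, h]

theorem pt_inj {m n : ℕ} (hm : m < 24) (hn : n < 24) (h : pt m = pt n) : m = n := by
  rw [← ix_pt hm, ← ix_pt hn, h]

/-- set of points of a mask -/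
def st (m : ℕ) : Finset GolayPt := Finset.univ.filter (fun p => m.testBit (ix p) = true)

theorem mem_st {m : ℕ} {p : GolayPt} : p ∈ st m ↔ m.testBit (ix p) = true := by
  simp [st]

/-- mask of a set of points -/
def mk (s : Finset GolayPt) : ℕ := ∑ p ∈ s, 2 ^ ix p

/-- mask of a set of bits -/
def bitsAux (f : ℕ → Bool) : ℕ → ℕ
  | 0 => 0
  | n + 1 => bitsAux f n ||| (if f n then 1 <<< n else 0)

theorem testBit_bitsAux (f : ℕ → Bool) (n i : ℕ) :
    (bitsAux f n).testBit i = (decide (i < n) && f i) := by
  induction n with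
  | zero => simp [bitsAux]
  | succ n ih =>
    simp only [bitsAux, Nat.testBit_or, ih]
    by_cases hf : f n
    · simp only [hf, if_true, Nat.one_shiftLeft, Nat.testBit_two_pow]
      by_cases hi : n = i
      · subst hi; simp [hf]
      · have : (i < n + 1) ↔ (i < n) := by omega
        simp [hi, this]
    · simp only [hf]
      by_cases hi : i = n
      · subst hi; simp [hf]
      · have : (i < n + 1) ↔ (i < n) := by omega
        simp [this]

theorem testBit_two_pow_mul_add_lt {a b n i : ℕ} (hb : b < 2 ^ n) (hi : i < n) :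
    (2 ^ n * a + b).testBit i = b.testBit i := by
  have := Nat.testBit_two_pow_mul_add a hb i
  simp [this, hi]

theorem testBit_mk (s : Finset GolayPt) (p : GolayPt) : (mk s).testBit (ix p) = decide (p ∈ s) := by
  classical
  -- compare with an explicit bit mask
  suffices h : mk s = bitsAux (fun i => decide (pt i ∈ s)) 24 by
    rw [h, testBit_bitsAux, pt_ix]
    simp [ix_lt p]
  have key : ∀ n ≤ 24, bitsAux (fun i => decide (pt i ∈ s)) n
      = ∑ i ∈ Finset.range n, (if pt i ∈ s then 2 ^ i else 0) ∧
      bitsAux (fun i => decide (pt i ∈ s)) n < 2 ^ n := by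
    intro n
    induction n with
    | zero => intro _; simp [bitsAux]
    | succ n ih =>
      intro hn
      obtain ⟨h1, h2⟩ := ih (by omega)
      rw [Finset.sum_range_succ, ← h1]
      simp only [bitsAux]
      by_cases hp : pt n ∈ s
      · simp only [hp, decide_true, if_true, Nat.one_shiftLeft]
        have : bitsAux (fun i => decide (pt i ∈ s)) n ||| 2 ^ n
            = bitsAux (fun i => decide (pt i ∈ s)) n + 2 ^ n := by
          have := Nat.two_pow_add_eq_or_of_lt h2 1
          rw [Nat.mul_one] at this
          rw [Nat.lor_comm, ← this, Nat.add_comm]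
        rw [this]
        refine ⟨rfl, ?_⟩
        rw [pow_succ]; omega
      · simp only [hp, decide_false]
        simp only [Bool.false_eq_true, if_false, Nat.or_zero, add_zero, true_and]
        exact lt_of_lt_of_le h2 (Nat.pow_le_pow_right (by norm_num) (by omega))
  rw [(key 24 le_rfl).1]
  unfold mk
  rw [← Finset.sum_filter]
  refine Finset.sum_bij (fun p _ => ix p) ?_ ?_ ?_ ?_
  · intro p hp
    simp only [Finset.mem_filter, Finset.mem_range, pt_ix]
    exact ⟨ix_lt p, hp⟩
  · intro p _ q _ h
    exact ix_inj h
  · intro i hi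
    simp only [Finset.mem_filter, Finset.mem_range] at hi
    exact ⟨pt i, hi.2, ix_pt hi.1⟩
  · intro p _; rfl

theorem st_mk (s : Finset GolayPt) : st (mk s) = s := by
  ext p
  rw [mem_st, testBit_mk]; simp

theorem mk_lt (s : Finset GolayPt) : mk s < 2 ^ 24 := by
  have h : mk s ≤ mk Finset.univ := Finset.sum_le_sum_of_subset (Finset.subset_univ s)
  refine lt_of_le_of_lt h ?_
  decide +kernel

theorem st_inj {m n : ℕ} (hm : m < 2 ^ 24) (hn : n < 2 ^ 24) (h : st m = st n) : m = n := by
  apply Nat.eq_of_testBit_eq
  intro i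
  by_cases hi : i < 24
  · have := Finset.ext_iff.1 h (pt i)
    rw [mem_st, mem_st, ix_pt hi] at this
    exact Bool.eq_iff_iff.2 this
  · have h24 : 2 ^ 24 ≤ 2 ^ i := Nat.pow_le_pow_right (by norm_num) (by omega)
    rw [Nat.testBit_lt_two_pow (lt_of_lt_of_le hm h24), Nat.testBit_lt_two_pow (lt_of_lt_of_le hn h24)]

theorem mk_st {m : ℕ} (hm : m < 2 ^ 24) : mk (st m) = m :=
  st_inj (mk_lt _) hm (st_mk _)

theorem exists_st (s : Finset GolayPt) : ∃ m, m < 2 ^ 24 ∧ s = st m :=
  ⟨mk s, mk_lt s, (st_mk s).symm⟩

theorem st_and (a b : ℕ) : st (a &&& b) = st a ∩ st b := by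
  ext p; simp [mem_st, Nat.testBit_and]

theorem st_or (a b : ℕ) : st (a ||| b) = st a ∪ st b := by
  ext p; simp [mem_st, Nat.testBit_or]

theorem st_xor (a b : ℕ) : st (a ^^^ b) = symmDiff (st a) (st b) := by
  ext p
  simp only [mem_st, Nat.testBit_xor, Finset.mem_symmDiff]
  cases a.testBit (ix p) <;> cases b.testBit (ix p) <;> simp

theorem st_compl (a : ℕ) : st (a ^^^ 0xffffff) = (st a)ᶜ := by
  ext p
  have h : Nat.testBit 0xffffff (ix p) = true := by revert p; decide
  simp only [mem_st, Nat.testBit_xor, Finset.mem_compl, h]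
  cases a.testBit (ix p) <;> simp

theorem st_zero : st 0 = ∅ := by
  ext p; simp [mem_st]

theorem st_full : st 0xffffff = Finset.univ := by
  ext p
  have h : Nat.testBit 0xffffff (ix p) = true := by revert p; decide
  simp [mem_st, h]

/-- population counts of the bytes, four bits each -/
def pcTab : ℕ := 0x8776766576656554766565546554544376656554655454436554544354434332766565546554544365545443544343326554544354434332544343324332322176656554655454436554544354434332655454435443433254434332433232216554544354434332544343324332322154434332433232214332322132212110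

/-- population count of a byte -/
def pcByte (x : ℕ) : ℕ := (pcTab >>> (4 * x)) &&& 15

/-- population count of a 24-bit mask -/
def pc (m : ℕ) : ℕ := pcByte (m &&& 255) + pcByte ((m >>> 8) &&& 255) + pcByte ((m >>> 16) &&& 255)

/-- bitwise population count -/
def pcAux (m : ℕ) : ℕ → ℕ
  | 0 => 0
  | n + 1 => pcAux m n + (m.testBit n).toNat

theorem pcByte_eq (x : ℕ) (hx : x < 256) : pcByte x = pcAux x 8 := by
  have h : ∀ x ∈ List.range 256, pcByte x = pcAux x 8 := by decide +kernel
  exact h x (List.mem_range.2 hx)

theorem pc_eq_pcAux (m : ℕ) : pc m = pcAux m 24 := by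
  have h1 : m &&& 255 < 256 := Nat.lt_of_le_of_lt Nat.and_le_right (by norm_num)
  have h2 : (m >>> 8) &&& 255 < 256 := Nat.lt_of_le_of_lt Nat.and_le_right (by norm_num)
  have h3 : (m >>> 16) &&& 255 < 256 := Nat.lt_of_le_of_lt Nat.and_le_right (by norm_num)
  have e : (255 : ℕ) = 2 ^ 8 - 1 := by norm_num
  unfold pc
  rw [pcByte_eq _ h1, pcByte_eq _ h2, pcByte_eq _ h3, e]
  simp only [pcAux, Nat.testBit_and, Nat.testBit_shiftRight, Nat.testBit_two_pow_sub_one]
  simp only [Nat.reduceAdd, Nat.reduceLT, decide_true, Bool.and_true]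
  omega

theorem card_st (m : ℕ) : (st m).card = pc m := by
  rw [pc_eq_pcAux]
  have h : ∀ n ≤ 24, pcAux m n = ((Finset.range n).filter (fun i => m.testBit i = true)).card := by
    intro n
    induction n with
    | zero => intro _; simp [pcAux]
    | succ n ih =>
      intro hn
      rw [pcAux, ih (by omega), Finset.range_add_one, Finset.filter_insert]
      cases hb : m.testBit n with
      | false => simp
      | true => rw [if_pos rfl, Finset.card_insert_of_notMem (by simp)]; rfl
  rw [h 24 le_rfl]
  refine Finset.card_bij (fun p _ => ix p) ?_ ?_ ?_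
  · intro p hp
    simp only [Finset.mem_filter, Finset.mem_range]
    exact ⟨ix_lt p, mem_st.1 hp⟩
  · intro p _ q _ h
    exact ix_inj h
  · intro i hi
    simp only [Finset.mem_filter, Finset.mem_range] at hi
    exact ⟨pt i, by rw [mem_st, ix_pt hi.1]; exact hi.2, ix_pt hi.1⟩

end Cfsg.Agent.Lib.Golay
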