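import Cfsg.Agent.Lib.Golay.Normz

/-! Enumeration, with pruning, of the elements of the group of the length-24 code intertwining two elements. -/

set_option autoImplicit false

namespace Cfsg.Agent.Lib.Golay

open Cfsg

/-- one level of the search: choose the image of the next representative, test some words -/
def stepL (pw : ℕ → ℕ) (tab : List (ℕ × ℕ)) (L : List (List ℕ)) (lv : List ℕ × List ℕ) : List (List ℕ) :=
  (L.flatMap (fun qs => lv.1.map (fun a => qs ++ [a]))).filter
    (fun qs => lv.2.all (fun m => inCode (act (cand pw tab qs) m)))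

def solveL (pw : ℕ → ℕ) (tab : List (ℕ × ℕ)) : List (List ℕ × List ℕ) → List (List ℕ) → List (List ℕ)
  | [], L => L
  | lv :: lvs, L => solveL pw tab lvs (stepL pw tab L lv)

/-- the test words of the levels are words supported on the cycles seen so far -/
def lvsOK (tab : List (ℕ × ℕ)) : ℕ → List (List ℕ × List ℕ) → Bool
  | _, [] => true
  | n, lv :: lvs => lv.2.all (fun m => inCode m && Nat.blt m (2 ^ 24) &&
      (List.range 24).all (fun i => !m.testBit i || Nat.ble (tab.getD i (0, 0)).1 n)) && lvsOK tab (n + 1) lvs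

theorem act_congr {c c' m : ℕ} (h : ∀ i < 24, m.testBit i = true → img c i = img c' i) : act c m = act c' m := by
  apply Nat.eq_of_testBit_eq
  intro j
  rw [Bool.eq_iff_iff, act, act, testBit_actAux, testBit_actAux]
  constructor
  · rintro ⟨i, hi, h1, h2⟩; exact ⟨i, hi, h1, by rw [← h i hi h1]; exact h2⟩
  · rintro ⟨i, hi, h1, h2⟩; exact ⟨i, hi, h1, by rw [h i hi h1]; exact h2⟩

theorem img_cand {pw : ℕ → ℕ} {tab : List (ℕ × ℕ)} {qs : List ℕ} {i : ℕ} (hi : i < 24) :
    img (cand pw tab qs) i = img (pw (tab.getD i (0, 0)).2) (qs.getD (tab.getD i (0, 0)).1 0) :=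
  img_bld _ cand_lt hi

theorem getD_take {l : List ℕ} {n k : ℕ} (h : k < n) : (l.take n).getD k 0 = l.getD k 0 := by
  rw [List.getD_eq_getElem?_getD, List.getD_eq_getElem?_getD, List.getElem?_take_of_lt h]

theorem step_spec {pw : ℕ → ℕ} {tab : List (ℕ × ℕ)} {full : List ℕ} {g : Equiv.Perm GolayPt} (hg : g ∈ M24)
    (hfull : codeOf g = cand pw tab full) {L : List (List ℕ)} {n : ℕ} (hn : n < full.length)
    (hL : full.take n ∈ L) {lv : List ℕ × List ℕ} (hmem : full.getD n 0 ∈ lv.1)
    (hws : ∀ m ∈ lv.2, inCode m = true ∧ m < 2 ^ 24 ∧ ∀ i < 24, m.testBit i = true → (tab.getD i (0, 0)).1 ≤ n) :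
    full.take (n + 1) ∈ stepL pw tab L lv := by
  have e : full.take (n + 1) = full.take n ++ [full.getD n 0] := by
    rw [List.take_add_one, List.getD_eq_getElem?_getD, List.getElem?_eq_getElem hn]; rfl
  unfold stepL
  rw [List.mem_filter, List.mem_flatMap]
  refine ⟨⟨_, hL, ?_⟩, ?_⟩
  · rw [List.mem_map]
    exact ⟨_, hmem, e.symm⟩
  · rw [List.all_eq_true]
    intro m hm
    obtain ⟨h1, h2, h3⟩ := hws m hm
    have h4 : act (cand pw tab (full.take (n + 1))) m = act (codeOf g) m := by
      rw [hfull]
      apply act_congr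
      intro i hi hi'
      rw [img_cand hi, img_cand hi, getD_take (by have := h3 i hi hi'; omega)]
    rw [h4, ← isWord_st (act_lt (valid_codeOf g) m), ← pm_smul_st (valid_codeOf g), pm_codeOf]
    exact IsWord.smul hg ((isWord_st h2).2 h1)

theorem solveL_spec {pw : ℕ → ℕ} {tab : List (ℕ × ℕ)} {full : List ℕ} {g : Equiv.Perm GolayPt} (hg : g ∈ M24)
    (hfull : codeOf g = cand pw tab full) (lvs : List (List ℕ × List ℕ)) {L : List (List ℕ)} {n : ℕ}
    (hn : n + lvs.length ≤ full.length) (hL : full.take n ∈ L) (hok : lvsOK tab n lvs = true)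
    (hal : ∀ k < lvs.length, full.getD (n + k) 0 ∈ (lvs.getD k ([], [])).1) :
    full.take (n + lvs.length) ∈ solveL pw tab lvs L := by
  induction lvs generalizing n L with
  | nil => simpa [solveL] using hL
  | cons lv lvs ih =>
    rw [lvsOK, Bool.and_eq_true, List.all_eq_true] at hok
    rw [List.length_cons] at hn
    have h1 := step_spec hg hfull (by omega) hL (lv := lv) (hal 0 (by simp)) (by
      intro m hm
      have h2 := hok.1 m hm
      rw [Bool.and_eq_true, Bool.and_eq_true, List.all_eq_true, Nat.blt_eq] at h2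
      refine ⟨h2.1.1, h2.1.2, fun i hi hi' => ?_⟩
      have h3 := h2.2 i (List.mem_range.2 hi)
      rw [hi'] at h3
      simpa [Nat.ble_eq] using h3)
    have h2 := ih (n := n + 1) (by omega) h1 hok.2 (by
      intro k hk
      have := hal (k + 1) (by simpa using hk)
      rw [List.getD_cons_succ] at this
      rwa [show n + 1 + k = n + (k + 1) by ring])
    rw [List.length_cons, show n + (lvs.length + 1) = n + 1 + lvs.length by ring]
    exact h2

/-- the elements intertwining `t` and `t'` are among the solutions of the search -/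
theorem mem_solveL {t t' : ℕ} {pw pw' : ℕ → ℕ} {tab : List (ℕ × ℕ)} {reps : List ℕ}
    {lvs : List (List ℕ × List ℕ)} {P : ℕ}
    (htab : tabOK pw tab reps = true) (hlt : ∀ i < 24, (tab.getD i (0, 0)).2 < P)
    (hpw : ∀ j < P, valid (pw j) = true ∧ pm (pw j) = pm t ^ j)
    (hpw' : ∀ j < P, valid (pw' j) = true ∧ pm (pw' j) = pm t' ^ j)
    (hlen : lvs.length = reps.length) (hok : lvsOK tab 0 lvs = true)
    {g : Equiv.Perm GolayPt} (hg : g ∈ M24) (hgt : g * pm t = pm t' * g)
    (hal : ∀ k < lvs.length, ix (g (pt (reps.getD k 0))) ∈ (lvs.getD k ([], [])).1) :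
    ∃ qs ∈ solveL pw' tab lvs [[]], codeOf g = cand pw' tab qs := by
  have hfull := codeOf_eq_cand htab hlt hpw hpw' hgt
  refine ⟨_, ?_, hfull⟩
  have hlen' : (reps.map (fun r => ix (g (pt r)))).length = lvs.length := by rw [List.length_map, hlen]
  have h := solveL_spec hg hfull lvs (L := [[]]) (n := 0) (by omega) (by simp) hok (by
    intro k hk
    have hk' : k < reps.length := by omega
    have e : (reps.map (fun r => ix (g (pt r)))).getD k 0 = ix (g (pt (reps.getD k 0))) := by
      simp [List.getD_eq_getElem?_getD, List.getElem?_eq_getElem hk']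
    rw [zero_add, e]
    exact hal k hk)
  rw [zero_add, List.take_of_length_le (by omega)] at h
  exact h

end Cfsg.Agent.Lib.Golay
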