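import Cfsg.Agent.Lib.Golay.CodeData

/-!
Membership in the length-24 code is decided by `inCode`.
-/

set_option autoImplicit false

namespace Cfsg.Agent.Lib.Golay

open scoped Pointwise
open Cfsg

/-- check of a Boolean property on `2 ^ n` consecutive numbers, by bisection -/
def allB (f : ℕ → Bool) (lo : ℕ) : ℕ → Bool
  | 0 => f lo
  | n + 1 => allB f lo n && allB f (lo + 2 ^ n) n

theorem of_allB {f : ℕ → Bool} {lo n : ℕ} (h : allB f lo n = true) :
    ∀ {i : ℕ}, lo ≤ i → i < lo + 2 ^ n → f i = true := by
  induction n generalizing lo with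
  | zero =>
    intro i h1 h2
    have : i = lo := by rw [pow_zero] at h2; omega
    subst this; exact h
  | succ n ih =>
    intro i h1 h2
    simp only [allB, Bool.and_eq_true] at h
    rw [pow_succ] at h2
    by_cases hi : i < lo + 2 ^ n
    · exact ih h.1 h1 hi
    · exact ih h.2 (by omega) (by omega)

/-- the word of a mask -/
def wd (m : ℕ) : GolayPt → ZMod 2 := fun p => if m.testBit (ix p) then 1 else 0

theorem support_wd (m : ℕ) : support₂ (wd m) = st m := by
  ext p
  rw [support₂, Finset.mem_filter, mem_st]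
  unfold wd
  split_ifs with h <;> simp [h]

theorem wd_mk (w : GolayPt → ZMod 2) : wd (mk (support₂ w)) = w := by
  funext p
  simp only [wd, testBit_mk, support₂, Finset.mem_filter, Finset.mem_univ, true_and, decide_eq_true_eq]
  have h : ∀ x : ZMod 2, (if x ≠ 0 then 1 else 0 : ZMod 2) = x := by decide
  exact h (w p)

theorem wd_xor (a b : ℕ) : wd (a ^^^ b) = wd a + wd b := by
  funext p
  simp only [wd, Nat.testBit_xor, Pi.add_apply]
  cases a.testBit (ix p) <;> cases b.testBit (ix p) <;> simp <;> decide

theorem wd_zero : wd 0 = 0 := by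
  funext p; simp [wd]

theorem wd_full : wd 0xffffff = 1 := by
  funext p
  have h : Nat.testBit 0xffffff (ix p) = true := by revert p; decide
  simp [wd, h]

theorem support_inj {v w : GolayPt → ZMod 2} (h : support₂ v = support₂ w) : v = w := by
  rw [← wd_mk v, h, wd_mk]

theorem mem_supports_iff_wd {m : ℕ} :
    st m ∈ supports (golayCode : Set (GolayPt → ZMod 2)) ↔ wd m ∈ golayCode := by
  constructor
  · rintro ⟨w, hw, h⟩
    rw [← support_wd] at h
    rw [← support_inj h]; exact hw
  · intro h
    exact ⟨wd m, h, support_wd m⟩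

theorem qr_masks : ∀ t : ZMod 23, support₂ (qrWord t) = st (genMasks.getD t.val 0) := by
  decide +kernel

/-- the comb of a xor -/
theorem comb_xor (a b : ℕ) : comb (a ^^^ b) = comb a ^^^ comb b := by
  have hA : ∀ x ∈ List.range 64, ∀ y ∈ List.range 64,
      ((tabA >>> (24 * (x ^^^ y))) ^^^ (tabA >>> (24 * x)) ^^^ (tabA >>> (24 * y))) &&& 0xffffff = 0 ∧
      ((tabB >>> (24 * (x ^^^ y))) ^^^ (tabB >>> (24 * x)) ^^^ (tabB >>> (24 * y))) &&& 0xffffff = 0 := by
    decide +kernel
  have hlt : ∀ c : ℕ, c &&& 63 ∈ List.range 64 := fun c =>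
    List.mem_range.2 (Nat.lt_of_le_of_lt Nat.and_le_right (by norm_num))
  have e1 : (a ^^^ b) &&& 63 = (a &&& 63) ^^^ (b &&& 63) := by
    rw [Nat.and_xor_distrib_right]
  have e2 : ((a ^^^ b) >>> 6) &&& 63 = ((a >>> 6) &&& 63) ^^^ ((b >>> 6) &&& 63) := by
    rw [Nat.shiftRight_xor_distrib, Nat.and_xor_distrib_right]
  have h1 := (hA _ (hlt a) _ (hlt b)).1
  have h2 := (hA _ (hlt (a >>> 6)) _ (hlt (b >>> 6))).2
  apply Nat.eq_of_testBit_eq
  intro i
  have h1' := congrArg (fun n => Nat.testBit n i) h1
  have h2' := congrArg (fun n => Nat.testBit n i) h2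
  simp only [comb, e1, e2]
  simp only [Nat.testBit_and, Nat.testBit_xor, Nat.zero_testBit] at h1' h2' ⊢
  generalize (tabA >>> (24 * ((a &&& 63) ^^^ (b &&& 63)))).testBit i = x1 at *
  generalize (tabB >>> (24 * (((a >>> 6) &&& 63) ^^^ ((b >>> 6) &&& 63)))).testBit i = x2 at *
  generalize (tabA >>> (24 * (a &&& 63))).testBit i = x3 at *
  generalize (tabA >>> (24 * (b &&& 63))).testBit i = x4 at *
  generalize (tabB >>> (24 * ((a >>> 6) &&& 63))).testBit i = x5 at *
  generalize (tabB >>> (24 * ((b >>> 6) &&& 63))).testBit i = x6 at *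
  generalize Nat.testBit 0xffffff i = x7 at *
  revert h1' h2'
  cases x1 <;> cases x2 <;> cases x3 <;> cases x4 <;> cases x5 <;> cases x6 <;> cases x7 <;> simp

theorem inCode_xor {a b : ℕ} (ha : inCode a = true) (hb : inCode b = true) : inCode (a ^^^ b) = true := by
  simp only [inCode, beq_iff_eq] at *
  rw [comb_xor, ha, hb]

theorem inCode_zero : inCode 0 = true := by decide +kernel

theorem comb_lt (c : ℕ) : comb c < 2 ^ 24 :=
  Nat.lt_of_le_of_lt Nat.and_le_right (by norm_num)

theorem inCode_lt {m : ℕ} (h : inCode m = true) : m < 2 ^ 24 := by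
  simp only [inCode, beq_iff_eq] at h
  rw [← h]; exact comb_lt m

theorem comb_and (c : ℕ) : comb (c &&& 4095) = comb c := by
  have e1 : (c &&& 4095) &&& 63 = c &&& 63 := by
    rw [Nat.and_assoc]; rfl
  have e2 : ((c &&& 4095) >>> 6) &&& 63 = (c >>> 6) &&& 63 := by
    rw [Nat.shiftRight_and_distrib, Nat.and_assoc]; rfl
  simp only [comb, e1, e2]

theorem comb_comb_aux : allB (fun c => comb (comb c) == comb c) 0 12 = true := by decide +kernel

theorem comb_comb (c : ℕ) : comb (comb c) = comb c := by
  rw [← comb_and c]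
  have h := of_allB comb_comb_aux (i := c &&& 4095) (Nat.zero_le _)
    (by rw [Nat.zero_add]; exact Nat.lt_of_le_of_lt Nat.and_le_right (by norm_num))
  simpa using h

theorem inCode_comb (c : ℕ) : inCode (comb c) = true := by
  simp only [inCode, beq_iff_eq]; exact comb_comb c

/-- the code as a submodule given by the membership test -/
def codeSub : Submodule (ZMod 2) (GolayPt → ZMod 2) where
  carrier := {w | inCode (mk (support₂ w)) = true}
  zero_mem' := by
    have : mk (support₂ (0 : GolayPt → ZMod 2)) = 0 := by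
      have h : support₂ (0 : GolayPt → ZMod 2) = ∅ := by simp [support₂]
      rw [h]; rfl
    show inCode _ = true
    rw [this]; exact inCode_zero
  add_mem' := by
    intro v w hv hw
    have h : mk (support₂ (v + w)) = mk (support₂ v) ^^^ mk (support₂ w) := by
      apply st_inj (mk_lt _) (Nat.xor_lt_two_pow (mk_lt _) (mk_lt _))
      rw [st_mk, ← support_wd, wd_xor, wd_mk, wd_mk]
    show inCode _ = true
    rw [h]; exact inCode_xor hv hw
  smul_mem' := by
    intro c w hw
    have : c = 0 ∨ c = 1 := by revert c; decide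
    rcases this with rfl | rfl
    · have h : mk (support₂ ((0 : ZMod 2) • w)) = 0 := by
        have h : support₂ ((0 : ZMod 2) • w) = ∅ := by simp [support₂]
        rw [h]; rfl
      show inCode _ = true
      rw [h]; exact inCode_zero
    · rw [one_smul]; exact hw

theorem golayCode_le : golayCode ≤ codeSub := by
  unfold golayCode
  rw [Submodule.span_le]
  rintro w (⟨t, rfl⟩ | h)
  · show inCode _ = true
    rw [qr_masks t]
    have h1 : ∀ t : ZMod 23, genMasks.getD t.val 0 < 2 ^ 24 ∧ inCode (genMasks.getD t.val 0) = true := by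
      decide +kernel
    rw [mk_st (h1 t).1]; exact (h1 t).2
  · rw [Set.mem_singleton_iff.1 h]
    show inCode _ = true
    have : mk (support₂ (1 : GolayPt → ZMod 2)) = 0xffffff := by
      rw [← wd_full, support_wd, mk_st (by norm_num)]
    rw [this]; decide +kernel

theorem wd_genMasks_mem : ∀ i < 24, wd (genMasks.getD i 0) ∈ golayCode := by
  intro i hi
  unfold golayCode
  apply Submodule.subset_span
  by_cases h : i = 23
  · subst h
    right
    rw [Set.mem_singleton_iff, ← wd_full]; rfl
  · left
    have hi' : i < 23 := by omega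
    refine ⟨(i : ZMod 23), ?_⟩
    apply support_inj
    rw [qr_masks, support_wd, ZMod.val_natCast, Nat.mod_eq_of_lt hi']

/-- xor of the generating masks selected by the bits of `s` -/
def selXor (s : ℕ) : ℕ → ℕ
  | 0 => 0
  | n + 1 => selXor s n ^^^ (if s.testBit n then genMasks.getD n 0 else 0)

theorem wd_selXor_mem (s : ℕ) : ∀ n ≤ 24, wd (selXor s n) ∈ golayCode := by
  intro n
  induction n with
  | zero => intro _; simp only [selXor]; rw [wd_zero]; exact golayCode.zero_mem
  | succ n ih =>
    intro hn
    simp only [selXor]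
    rw [wd_xor]
    refine golayCode.add_mem (ih (by omega)) ?_
    split_ifs
    · exact wd_genMasks_mem n (by omega)
    · rw [wd_zero]; exact golayCode.zero_mem

theorem wd_comb_pow_mem : ∀ i < 12, wd (comb (2 ^ i)) ∈ golayCode := by
  have h : ∀ i ∈ List.range 12, comb (2 ^ i) = selXor (rowSel.getD i 0) 24 := by decide +kernel
  intro i hi
  rw [h i (List.mem_range.2 hi)]
  exact wd_selXor_mem _ 24 le_rfl

theorem wd_comb_mem (c : ℕ) : wd (comb c) ∈ golayCode := by
  have key : ∀ n ≤ 12, wd (comb (c % 2 ^ n)) ∈ golayCode := by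
    intro n
    induction n with
    | zero =>
      intro _
      have : comb (c % 2 ^ 0) = 0 := by rw [pow_zero, Nat.mod_one]; decide +kernel
      rw [this, wd_zero]; exact golayCode.zero_mem
    | succ n ih =>
      intro hn
      have h1 : c % 2 ^ (n + 1) = (c % 2 ^ n) ^^^ (if c.testBit n then 2 ^ n else 0) := by
        apply Nat.eq_of_testBit_eq
        intro i
        by_cases hb : c.testBit n
        · rw [if_pos hb]
          simp only [Nat.testBit_mod_two_pow, Nat.testBit_xor, Nat.testBit_two_pow]
          by_cases hi : i = n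
          · subst hi; simp [hb]
          · have h2 : (i < n + 1) ↔ (i < n) := by omega
            have h3 : ¬ n = i := fun h => hi h.symm
            simp [h2, h3]
        · rw [if_neg hb]
          simp only [Nat.testBit_mod_two_pow, Nat.testBit_xor]
          by_cases hi : i = n
          · subst hi; simp [hb]
          · have h2 : (i < n + 1) ↔ (i < n) := by omega
            simp [h2]
      rw [h1, comb_xor, wd_xor]
      refine golayCode.add_mem (ih (by omega)) ?_
      split_ifs
      · exact wd_comb_pow_mem n (by omega)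
      · have : comb 0 = 0 := by decide +kernel
        rw [this, wd_zero]; exact golayCode.zero_mem
  have h := key 12 le_rfl
  have e : c % 2 ^ 12 = c &&& 4095 := by
    rw [← Nat.and_two_pow_sub_one_eq_mod]
  rw [e, comb_and] at h
  exact h

theorem mem_golayCode_iff (w : GolayPt → ZMod 2) : w ∈ golayCode ↔ inCode (mk (support₂ w)) = true := by
  constructor
  · intro h; exact golayCode_le h
  · intro h
    simp only [inCode, beq_iff_eq] at h
    rw [← wd_mk w, ← h]
    exact wd_comb_mem _

theorem wd_mem_golayCode_iff {m : ℕ} (hm : m < 2 ^ 24) : wd m ∈ golayCode ↔ inCode m = true := by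
  rw [mem_golayCode_iff, support_wd, mk_st hm]

theorem mem_supports_iff (s : Finset GolayPt) :
    s ∈ supports (golayCode : Set (GolayPt → ZMod 2)) ↔ inCode (mk s) = true := by
  conv_lhs => rw [← st_mk s]
  rw [mem_supports_iff_wd, wd_mem_golayCode_iff (mk_lt s)]

theorem st_mem_supports_iff {m : ℕ} (hm : m < 2 ^ 24) :
    st m ∈ supports (golayCode : Set (GolayPt → ZMod 2)) ↔ inCode m = true := by
  rw [mem_supports_iff, mk_st hm]

end Cfsg.Agent.Lib.Golay
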