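import Cfsg.Agent.Lib.Golay.Basic

/-!
The length-24 code: its words are the 4096 masks `comb c`, `c < 4096`.
-/

set_option autoImplicit false

namespace Cfsg.Agent.Lib.Golay

open scoped Pointwise
open Cfsg

/-- the 12 rows of a systematic generator matrix (identity on the positions 0, ..., 11) -/
def rows : List ℕ := [0xc75001, 0x49f002, 0xd4b004, 0x6e3008, 0x9b3010, 0xb66020, 0xecc040, 0x1ed080, 0x3da100, 0x7b4200, 0xb1d400, 0xe3a800]

/-- combinations of the first six rows, 24 bits each -/
def tabA : ℕ := 0x19703fde203e50803d97d03ccdc03b0a903a843039436038774037b010363eb035f9e034a3f03364a032ea00312d503082402f45102ecbb02d0ce02c56f02b91a02a1f0029d85028ec70272b2026a5802562d02438c023ff9022713021b66020af101f68401ee6e01d21b01c7ba01bbcf01a325019f50018c1201706701688d0154f8014159013d2c0125c60119b301034200ff3700e7dd00dba800ce0900b27c00aa960096e30085a10079d400613e005d4b0048ea00349f002c75001000000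

/-- combinations of the last six rows, 24 bits each -/
def tabB : ℕ := 0xe68fc00a4f80f85f40149f00db2ec037ee80c5fe40293e009dcdc0710d80831d406fdd00a06cc04cac80bebc40527c00575bc0bb9b80498b40a54b006afac0863a80742a4098ea002c19c0c0d98032c940de090011b8c0fd78800f6840e3a8000527c0e9e7801bf740f737003886c0d44680265640ca96007e65c092a58060b5408c750043c4c0af04805d1440b1d400b4f3c0583380aa234046e3008952c06592809782407b4200cfb1c0237180d161403da100f210c01ed080ecc040000000

/-- the word of the code with given first 12 bits -/
def comb (c : ℕ) : ℕ :=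
  ((tabA >>> (24 * (c &&& 63))) ^^^ (tabB >>> (24 * ((c >>> 6) &&& 63)))) &&& 0xffffff

/-- membership test for the code -/
def inCode (m : ℕ) : Bool := comb m == m

/-- masks of the generating words: the 23 translates of the squares, and the all-ones word -/
def genMasks : List ℕ := [0x5335f, 0xa66be, 0x14cd7c, 0x299af8, 0x5335f0, 0x266be1, 0x4cd7c2, 0x19af85, 0x335f0a, 0x66be14, 0x4d7c29, 0x1af853, 0x35f0a6, 0x6be14c, 0x57c299, 0x2f8533, 0x5f0a66, 0x3e14cd, 0x7c299a, 0x785335, 0x70a66b, 0x614cd7, 0x4299af, 0xffffff]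

/-- selections of generating words that add up to the rows -/
def rowSel : List ℕ := [0x8006a9, 0x118, 0x800499, 0x578, 0x8006ba, 0x800797, 0x8005cd, 0x7d0, 0x543, 0x65, 0x800663, 0x800625]

end Cfsg.Agent.Lib.Golay
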