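import Cfsg.Agent.Lib.Golay.Normz

/-!
Dodecads: transitivity, the stabiliser and its sharply 5-transitive action.
-/

set_option autoImplicit false

namespace Cfsg.Agent.Lib.Golay

open scoped Pointwise
open Cfsg

/-- the 48 elements of the pointwise stabiliser of the first five base points -/
def list48 : List ℕ := tr5.flatMap (fun a => tr6.map (fun b => comp a b))

theorem mem_chain5 {g : Equiv.Perm GolayPt} (hg : g ∈ chain 5) : ∃ c ∈ list48, valid c = true ∧ g = pm c := by
  have h1 := chain_maps_to (by norm_num) hg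
  rw [mem_st] at h1
  obtain ⟨a, ha, e⟩ := orbit_covered 5 (by norm_num) _ (ix_lt _) h1
  have hav := pres_valid (trOK_spec (tr_ok 5 (by norm_num)) ha).1
  have hac : pm a ∈ chain 5 := pm_mem_chain (by norm_num) ha
  have h2 : (pm a)⁻¹ * g ∈ chain 6 := by
    rw [chain_succ (by norm_num), Subgroup.mem_inf, MulAction.mem_stabilizer_iff]
    refine ⟨Subgroup.mul_mem _ (Subgroup.inv_mem _ hac) hg, ?_⟩
    show (pm a).symm (g _) = _
    rw [Equiv.symm_apply_eq, pm_pt hav (bpt_lt 5 (by norm_num)), e, pt_ix]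
  have h3 := chain_maps_to (by norm_num) h2
  rw [mem_st] at h3
  obtain ⟨b, hb, e'⟩ := orbit_covered 6 (by norm_num) _ (ix_lt _) h3
  have hbv := pres_valid (trOK_spec (tr_ok 6 (by norm_num)) hb).1
  have hbc : pm b ∈ chain 6 := pm_mem_chain (by norm_num) hb
  have h4 : (pm b)⁻¹ * ((pm a)⁻¹ * g) ∈ chain 7 := by
    rw [chain_succ (by norm_num), Subgroup.mem_inf, MulAction.mem_stabilizer_iff]
    refine ⟨Subgroup.mul_mem _ (Subgroup.inv_mem _ hbc) h2, ?_⟩
    show (pm b).symm (((pm a)⁻¹ * g) _) = _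
    rw [Equiv.symm_apply_eq, pm_pt hbv (bpt_lt 6 (by norm_num)), e', pt_ix]
  rw [chain_seven, Subgroup.mem_bot] at h4
  refine ⟨comp a b, ?_, valid_comp hav hbv, ?_⟩
  · unfold list48
    rw [List.mem_flatMap]
    exact ⟨a, ha, List.mem_map.2 ⟨b, hb, rfl⟩⟩
  · rw [pm_comp hav hbv]
    have : g = pm a * pm b * ((pm b)⁻¹ * ((pm a)⁻¹ * g)) := by group
    rw [this, h4, mul_one]

theorem list48_len : list48.length = 48 := by decide +kernel

/-- no nontrivial element fixing the five points fixes a dodecad containing them -/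
theorem dodec_free : allB (fun c => !(pc (comb c) == 12) || !(comb c &&& bmask 5 == bmask 5) ||
    list48.all (fun k => k == idc || !(act k (comb c) == comb c))) 0 12 = true := by decide +kernel

theorem exists_comb {s : Finset GolayPt} (hs : IsWord s) : ∃ c < 4096, s = st (comb c) := by
  obtain ⟨c, hc, e⟩ := inCode_iff_exists.1 hs
  exact ⟨c, hc, by rw [← e, st_mk]⟩

theorem st_subset_iff {a b : ℕ} (ha : a < 2 ^ 24) : st a ⊆ st b ↔ b &&& a = a := by
  constructor
  · intro h
    apply st_inj (lt_of_le_of_lt Nat.and_le_right ha) ha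
    rw [st_and]
    exact Finset.inter_eq_right.2 h
  · intro h
    rw [← h, st_and]
    exact Finset.inter_subset_left

theorem bmask5_lt : bmask 5 < 2 ^ 24 := by decide

theorem chain5_free {g : Equiv.Perm GolayPt} (hg : g ∈ chain 5) {d : Finset GolayPt} (hd : d ∈ dodecads)
    (hsub : st (bmask 5) ⊆ d) (h : g • d = d) : g = 1 := by
  obtain ⟨k, hk, hkv, rfl⟩ := mem_chain5 hg
  rw [mem_dodecads] at hd
  obtain ⟨c, hc, rfl⟩ := exists_comb hd.1
  rw [card_st] at hd
  have h1 := of_allB dodec_free (i := c) (Nat.zero_le _) (by simpa using hc)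
  simp only [Bool.or_eq_true, Bool.not_eq_true', beq_eq_false_iff_ne, ne_eq, List.all_eq_true,
    beq_iff_eq] at h1
  rcases h1 with (h1 | h1) | h1
  · exact absurd hd.2 h1
  · exact absurd ((st_subset_iff bmask5_lt).1 hsub) h1
  · rcases h1 k hk with h2 | h2
    · rw [h2, pm_idc]
    · exfalso
      apply h2
      rw [pm_smul_st hkv] at h
      exact st_inj (act_lt hkv _) (comb_lt c) h

/-- an element fixing a dodecad and five points of it is trivial -/
theorem eq_one_of_dodecad {d : Finset GolayPt} (hd : d ∈ dodecads) {x : ℕ → GolayPt}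
    (hx : ∀ i < 5, ∀ j < i, x j ≠ x i) (hxd : ∀ i < 5, x i ∈ d) {g : Equiv.Perm GolayPt} (hg : g ∈ M24)
    (hgd : g • d = d) (hgx : ∀ i < 5, g (x i) = x i) : g = 1 := by
  obtain ⟨h, hh, hhx⟩ := exists_map5 x hx 5 le_rfl
  have h1 : h⁻¹ * g * h = 1 := by
    apply chain5_free (d := h⁻¹ • d) ?_ (smul_mem_dodecads (M24.inv_mem hh) hd) ?_ ?_
    · refine ⟨M24.mul_mem (M24.mul_mem (M24.inv_mem hh) hg) hh, ?_⟩
      have hb : ∀ p : GolayPt, p ∈ st (bmask 5) → ∃ i < 5, p = pt (bpt i) := by decide +kernel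
      intro p hp
      obtain ⟨i, hi, rfl⟩ := hb p hp
      rw [Equiv.Perm.mul_apply, Equiv.Perm.mul_apply, hhx i hi, hgx i hi, ← hhx i hi]
      exact h.symm_apply_apply _
    · intro p hp
      have hb : ∀ p : GolayPt, p ∈ st (bmask 5) → ∃ i < 5, p = pt (bpt i) := by decide +kernel
      obtain ⟨i, hi, rfl⟩ := hb p hp
      rw [mem_smul_iff]
      show h _ ∈ d
      rw [hhx i hi]
      exact hxd i hi
    · rw [mul_smul, smul_inv_smul, mul_smul, hgd]
  have : g = h * (h⁻¹ * g * h) * h⁻¹ := by group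
  rw [this, h1]; group

/-- the stabiliser of a dodecad acting on five-tuples of its points -/
noncomputable def tupMap {d : Finset GolayPt} (x : Fin 5 ↪ d)
    (g : ↥(M24 ⊓ MulAction.stabilizer (Equiv.Perm GolayPt) d)) : Fin 5 ↪ d :=
  ⟨fun i => ⟨(g : Equiv.Perm GolayPt) (x i), by
    have h : (g : Equiv.Perm GolayPt) • d = d := g.2.2
    have h1 := (smul_mem_smul_iff' (g : Equiv.Perm GolayPt) d (x i)).2 (x i).2
    rw [h] at h1
    exact h1⟩, fun i j h => by
      have h1 := (g : Equiv.Perm GolayPt).injective (congrArg Subtype.val h)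
      exact x.injective (Subtype.ext h1)⟩

theorem tupMap_injective {d : Finset GolayPt} (hd : d ∈ dodecads) (x : Fin 5 ↪ d) :
    Function.Injective (tupMap x) := by
  intro g h e
  have h1 : ∀ i : Fin 5, (g : Equiv.Perm GolayPt) (x i) = (h : Equiv.Perm GolayPt) (x i) := by
    intro i
    have := congrArg (fun f : Fin 5 ↪ d => ((f i : d) : GolayPt)) e
    exact this
  have h2 : (h : Equiv.Perm GolayPt)⁻¹ * g = 1 := by
    refine eq_one_of_dodecad hd (x := fun i => if h : i < 5 then x ⟨i, h⟩ else none) ?_ ?_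
      (M24.mul_mem (M24.inv_mem h.2.1) g.2.1) ?_ ?_
    · intro i hi j hj e
      have hj' : j < 5 := by omega
      simp only [hi, hj', dif_pos] at e
      have := x.injective (Subtype.ext e)
      simp only [Fin.mk.injEq] at this
      omega
    · intro i hi
      simp only [hi, dif_pos]
      exact (x ⟨i, hi⟩).2
    · have e1 : (g : Equiv.Perm GolayPt) • d = d := g.2.2
      have e2 : (h : Equiv.Perm GolayPt) • d = d := h.2.2
      rw [mul_smul, e1, inv_smul_eq_iff, e2]
    · intro i hi
      simp only [hi, dif_pos]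
      rw [Equiv.Perm.mul_apply, h1]
      exact (h : Equiv.Perm GolayPt).symm_apply_apply _
  apply Subtype.ext
  rw [inv_mul_eq_one] at h2
  exact h2.symm

theorem exists_emb {d : Finset GolayPt} (hd : d ∈ dodecads) : Nonempty (Fin 5 ↪ d) := by
  have : Fintype.card (Fin 5) ≤ Fintype.card d := by
    rw [Fintype.card_fin, Fintype.card_coe, (mem_dodecads.1 hd).2]; norm_num
  exact Function.Embedding.nonempty_of_card_le this

theorem card_emb {d : Finset GolayPt} (hd : d ∈ dodecads) : Nat.card (Fin 5 ↪ d) = 95040 := by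
  rw [Nat.card_eq_fintype_card, Fintype.card_embedding_eq, Fintype.card_coe, (mem_dodecads.1 hd).2,
    Fintype.card_fin]
  decide

theorem card_stab_dodecad_le {d : Finset GolayPt} (hd : d ∈ dodecads) :
    Nat.card ↥(M24 ⊓ MulAction.stabilizer (Equiv.Perm GolayPt) d) ≤ 95040 := by
  obtain ⟨x⟩ := exists_emb hd
  rw [← card_emb hd]
  exact Nat.card_le_card_of_injective _ (tupMap_injective hd x)

theorem orbit_dodecad {d : Finset GolayPt} (hd : d ∈ dodecads) : MulAction.orbit M24 d = dodecads := by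
  have h1 : MulAction.orbit M24 d ⊆ dodecads := by
    rintro _ ⟨g, rfl⟩
    exact smul_mem_dodecads g.2 hd
  apply Set.eq_of_subset_of_ncard_le h1 _ (Set.toFinite _)
  have h2 := card_eq_orbit_mul M24 d
  rw [card_M24] at h2
  rw [dodecads_ncard]
  by_contra h3
  push Not at h3
  have h4 := Nat.mul_le_mul (Nat.lt_succ_iff.1 h3) (card_stab_dodecad_le hd)
  rw [← h2] at h4
  omega

theorem dodecads_transitive {d d' : Finset GolayPt} (hd : d ∈ dodecads) (hd' : d' ∈ dodecads) :
    ∃ g ∈ M24, g • d = d' := by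
  rw [← orbit_dodecad hd] at hd'
  obtain ⟨g, h⟩ := hd'
  exact ⟨g, g.2, h⟩

theorem card_stab_dodecad {d : Finset GolayPt} (hd : d ∈ dodecads) :
    Nat.card ↥(M24 ⊓ MulAction.stabilizer (Equiv.Perm GolayPt) d) = 95040 := by
  have h2 := card_eq_orbit_mul M24 d
  rw [card_M24, orbit_dodecad hd, dodecads_ncard] at h2
  omega

/-- sharply 5-transitive action on the dodecad -/
theorem tupMap_bijective {d : Finset GolayPt} (hd : d ∈ dodecads) (x : Fin 5 ↪ d) :
    Function.Bijective (tupMap x) := by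
  have h := tupMap_injective hd x
  rw [Nat.bijective_iff_injective_and_card]
  exact ⟨h, by rw [card_stab_dodecad hd, card_emb hd]⟩

theorem dodecad_sharp {d : Finset GolayPt} (hd : d ∈ dodecads) (x y : Fin 5 ↪ d) :
    ∃! g : ↥(M24 ⊓ MulAction.stabilizer (Equiv.Perm GolayPt) d), ∀ i, (g : Equiv.Perm GolayPt) (x i) = y i := by
  obtain ⟨g, hg⟩ := (tupMap_bijective hd x).2 y
  refine ⟨g, ?_, ?_⟩
  · intro i
    have := congrArg (fun f : Fin 5 ↪ d => ((f i : d) : GolayPt)) hg
    exact this
  · intro h hh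
    apply tupMap_injective hd x
    rw [hg]
    ext i : 2
    exact hh i

end Cfsg.Agent.Lib.Golay
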