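import Cfsg.Agent.Lib.Golay.ElemData
import Cfsg.Agent.Lib.Golay.Sets

/-!
Involutions and elements of order three: conjugacy.
-/

set_option autoImplicit false

namespace Cfsg.Agent.Lib.Golay

open scoped Pointwise
open Cfsg

theorem sq_iff {c : ℕ} (hc : valid c = true) : pm c * pm c = 1 ↔ comp c c = idc := by
  rw [← pm_comp hc hc, ← pm_idc]
  constructor
  · intro h; rw [← codeOf_pm_comp hc hc, h, codeOf_idc]
  · intro h; rw [h]

theorem cube_iff {c : ℕ} (hc : valid c = true) : pm c * pm c * pm c = 1 ↔ comp (comp c c) c = idc := by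
  rw [← pm_comp hc hc, ← pm_comp (valid_comp hc hc) hc, ← pm_idc]
  constructor
  · intro h; rw [← codeOf_pm_comp (valid_comp hc hc) hc, h, codeOf_idc]
  · intro h; rw [h]

theorem app_iff {c : ℕ} (hc : valid c = true) {i j : ℕ} (hi : i < 24) (hj : j < 24) :
    pm c (pt i) = pt j ↔ img c i = j := by
  rw [pm_pt hc hi]
  constructor
  · intro h; exact pt_inj (valid_lt hc hi) hj h
  · intro h; rw [h]

/-- table check -/
def clsOK (L : List ℕ) (tab : List (ℕ × ℕ)) (reps : List ℕ) : Bool :=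
  L.all (fun c => tab.any (fun t => t.1 == c && pres t.2 && reps.any (fun r => comp t.2 c == comp r t.2)))

theorem clsOK_spec {L : List ℕ} {tab : List (ℕ × ℕ)} {reps : List ℕ} (h : clsOK L tab reps = true)
    (hr : ∀ r ∈ reps, valid r = true) {c : ℕ} (hc : c ∈ L) (hv : valid c = true) :
    ∃ r ∈ reps, ∃ k ∈ M24, k * pm c * k⁻¹ = pm r := by
  unfold clsOK at h
  rw [List.all_eq_true] at h
  have h1 := h c hc
  rw [List.any_eq_true] at h1
  obtain ⟨t, _, h2⟩ := h1
  simp only [Bool.and_eq_true, beq_iff_eq, List.any_eq_true] at h2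
  obtain ⟨⟨h3, h4⟩, r, hrm, h5⟩ := h2
  refine ⟨r, hrm, pm t.2, pm_mem_M24 h4, ?_⟩
  have h6 := (pm_mul_eq (pres_valid h4) hv (hr r hrm) (pres_valid h4)).2 h5
  rw [h6]; group

/-- the image pattern `(23 0)(1 2)` -/
def SA : Set (Equiv.Perm GolayPt) := {g | g ∈ M24 ∧ g * g = 1 ∧ g (pt 23) = pt 0 ∧ g (pt 1) = pt 2}

/-- the image pattern `(23 0 1)(2)` -/
def SC : Set (Equiv.Perm GolayPt) :=
  {g | g ∈ M24 ∧ g * g * g = 1 ∧ g (pt 23) = pt 0 ∧ g (pt 0) = pt 1 ∧ g (pt 2) = pt 2}

/-- the image pattern `(23 0 1)(2 3 .)` -/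
def SD : Set (Equiv.Perm GolayPt) :=
  {g | g ∈ M24 ∧ g * g * g = 1 ∧ g (pt 23) = pt 0 ∧ g (pt 0) = pt 1 ∧ g (pt 2) = pt 3}

/-- test for `SA` -/
def testA (c : ℕ) : Bool := comp c c == idc && img c 23 == 0 && img c 1 == 2

/-- test for `SC` -/
def testC (c : ℕ) : Bool := comp (comp c c) c == idc && img c 23 == 0 && img c 0 == 1 && img c 2 == 2

/-- test for `SD` -/
def testD (c : ℕ) : Bool := comp (comp c c) c == idc && img c 23 == 0 && img c 0 == 1 && img c 2 == 3

/-- the list of elements of `SA` -/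
def listA : List ℕ := srch testA (cutL [[0], [23], [2], [1]]) 7 idc

/-- the list of elements of `SC` -/
def listC : List ℕ := srch testC (cutL [[0], [1], [23], [2]]) 7 idc

/-- the list of elements of `SD` -/
def listD : List ℕ := srch testD (cutL [[0], [1], [23], [3]]) 7 idc

theorem app_of_cube {g : Equiv.Perm GolayPt} (h : g * g * g = 1) {a b c : GolayPt} (h1 : g a = b) (h2 : g b = c) :
    g c = a := by
  have := congrArg (fun f : Equiv.Perm GolayPt => f a) h
  simp only [Equiv.Perm.mul_apply, Equiv.Perm.one_apply, h1, h2] at this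
  exact this

theorem app_of_sq {g : Equiv.Perm GolayPt} (h : g * g = 1) {a b : GolayPt} (h1 : g a = b) : g b = a := by
  have := congrArg (fun f : Equiv.Perm GolayPt => f a) h
  simp only [Equiv.Perm.mul_apply, Equiv.Perm.one_apply, h1] at this
  exact this

theorem cutL_four {g : Equiv.Perm GolayPt} {a b c d : ℕ} (ha : g (pt 23) = pt a) (hb : g (pt 0) = pt b)
    (hc : g (pt 1) = pt c) (hd : g (pt 2) = pt d) (h1 : a < 24) (h2 : b < 24) (h3 : c < 24) (h4 : d < 24) :
    ∀ k < 7, cutL [[a], [b], [c], [d]] k (ix (g (pt (bpt k)))) = true := by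
  intro k hk
  rcases k with _ | _ | _ | _ | k
  · show ([a].contains (ix (g (pt 23)))) = true
    rw [ha, ix_pt h1]; simp
  · show ([b].contains (ix (g (pt 0)))) = true
    rw [hb, ix_pt h2]; simp
  · show ([c].contains (ix (g (pt 1)))) = true
    rw [hc, ix_pt h3]; simp
  · show ([d].contains (ix (g (pt 2)))) = true
    rw [hd, ix_pt h4]; simp
  · unfold cutL
    simp

theorem mem_SA (g : Equiv.Perm GolayPt) : g ∈ SA ↔ codeOf g ∈ listA := by
  apply mem_srch_iff (fun g hg => hg.1)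
  · intro c hc hm
    unfold testA
    simp only [Bool.and_eq_true, beq_iff_eq]
    rw [← sq_iff hc, ← app_iff hc (by norm_num : 23 < 24) (by norm_num : 0 < 24),
      ← app_iff hc (by norm_num : 1 < 24) (by norm_num : 2 < 24)]
    constructor
    · rintro ⟨_, h1, h2, h3⟩; exact ⟨⟨h1, h2⟩, h3⟩
    · rintro ⟨⟨h1, h2⟩, h3⟩; exact ⟨hm, h1, h2, h3⟩
  · rintro g ⟨_, h1, h2, h3⟩
    exact cutL_four h2 (app_of_sq h1 h2) h3 (app_of_sq h1 h3) (by norm_num) (by norm_num) (by norm_num) (by norm_num)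

theorem mem_SC (g : Equiv.Perm GolayPt) : g ∈ SC ↔ codeOf g ∈ listC := by
  apply mem_srch_iff (fun g hg => hg.1)
  · intro c hc hm
    unfold testC
    simp only [Bool.and_eq_true, beq_iff_eq]
    rw [← cube_iff hc, ← app_iff hc (by norm_num : 23 < 24) (by norm_num : 0 < 24),
      ← app_iff hc (by norm_num : 0 < 24) (by norm_num : 1 < 24), ← app_iff hc (by norm_num : 2 < 24) (by norm_num : 2 < 24)]
    constructor
    · rintro ⟨_, h1, h2, h3, h4⟩; exact ⟨⟨⟨h1, h2⟩, h3⟩, h4⟩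
    · rintro ⟨⟨⟨h1, h2⟩, h3⟩, h4⟩; exact ⟨hm, h1, h2, h3, h4⟩
  · rintro g ⟨_, h1, h2, h3, h4⟩
    exact cutL_four h2 h3 (app_of_cube h1 h2 h3) h4 (by norm_num) (by norm_num) (by norm_num) (by norm_num)

theorem mem_SD (g : Equiv.Perm GolayPt) : g ∈ SD ↔ codeOf g ∈ listD := by
  apply mem_srch_iff (fun g hg => hg.1)
  · intro c hc hm
    unfold testD
    simp only [Bool.and_eq_true, beq_iff_eq]
    rw [← cube_iff hc, ← app_iff hc (by norm_num : 23 < 24) (by norm_num : 0 < 24),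
      ← app_iff hc (by norm_num : 0 < 24) (by norm_num : 1 < 24), ← app_iff hc (by norm_num : 2 < 24) (by norm_num : 3 < 24)]
    constructor
    · rintro ⟨_, h1, h2, h3, h4⟩; exact ⟨⟨⟨h1, h2⟩, h3⟩, h4⟩
    · rintro ⟨⟨⟨h1, h2⟩, h3⟩, h4⟩; exact ⟨hm, h1, h2, h3, h4⟩
  · rintro g ⟨_, h1, h2, h3, h4⟩
    exact cutL_four h2 h3 (app_of_cube h1 h2 h3) h4 (by norm_num) (by norm_num) (by norm_num) (by norm_num)

theorem listA_ok : clsOK listA cjA [cI1, cI2] = true := by decide +kernel

theorem listC_ok : clsOK listC cjC [cW1] = true := by decide +kernel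

theorem listD_ok : clsOK listD cjD [cW1, cW2] = true := by decide +kernel

theorem reps_valid : valid cI1 = true ∧ valid cI2 = true ∧ valid cW1 = true ∧ valid cW2 = true := by decide +kernel

theorem SA_class {g : Equiv.Perm GolayPt} (hg : g ∈ SA) :
    ∃ k ∈ M24, k * g * k⁻¹ = pm cI1 ∨ k * g * k⁻¹ = pm cI2 := by
  obtain ⟨r, hr, k, hk, e⟩ := clsOK_spec listA_ok (by
    intro r hr; simp only [List.mem_cons, List.not_mem_nil, or_false] at hr
    rcases hr with rfl | rfl
    · exact reps_valid.1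
    · exact reps_valid.2.1) ((mem_SA g).1 hg) (valid_codeOf g)
  rw [pm_codeOf] at e
  simp only [List.mem_cons, List.not_mem_nil, or_false] at hr
  rcases hr with rfl | rfl
  · exact ⟨k, hk, Or.inl e⟩
  · exact ⟨k, hk, Or.inr e⟩

theorem SC_class {g : Equiv.Perm GolayPt} (hg : g ∈ SC) : ∃ k ∈ M24, k * g * k⁻¹ = pm cW1 := by
  obtain ⟨r, hr, k, hk, e⟩ := clsOK_spec listC_ok (by
    intro r hr; simp only [List.mem_cons, List.not_mem_nil, or_false] at hr
    rw [hr]; exact reps_valid.2.2.1) ((mem_SC g).1 hg) (valid_codeOf g)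
  rw [pm_codeOf] at e
  simp only [List.mem_cons, List.not_mem_nil, or_false] at hr
  rw [hr] at e
  exact ⟨k, hk, e⟩

theorem SD_class {g : Equiv.Perm GolayPt} (hg : g ∈ SD) :
    ∃ k ∈ M24, k * g * k⁻¹ = pm cW1 ∨ k * g * k⁻¹ = pm cW2 := by
  obtain ⟨r, hr, k, hk, e⟩ := clsOK_spec listD_ok (by
    intro r hr; simp only [List.mem_cons, List.not_mem_nil, or_false] at hr
    rcases hr with rfl | rfl
    · exact reps_valid.2.2.1
    · exact reps_valid.2.2.2) ((mem_SD g).1 hg) (valid_codeOf g)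
  rw [pm_codeOf] at e
  simp only [List.mem_cons, List.not_mem_nil, or_false] at hr
  rcases hr with rfl | rfl
  · exact ⟨k, hk, Or.inl e⟩
  · exact ⟨k, hk, Or.inr e⟩

/-- sequences of at most five points -/
def sq5 (a b c d e : GolayPt) (i : ℕ) : GolayPt :=
  match i with
  | 0 => a
  | 1 => b
  | 2 => c
  | 3 => d
  | _ => e

theorem sq5_inj {n : ℕ} (hn : n ≤ 5) {a b c d e : GolayPt} (h : [a, b, c, d, e].Nodup) :
    ∀ i < n, ∀ j < i, sq5 a b c d e j ≠ sq5 a b c d e i := by
  simp only [List.nodup_cons, List.mem_cons, List.not_mem_nil, or_false, not_or] at h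
  obtain ⟨⟨h1, h2, h3, h4⟩, ⟨h5, h6, h7⟩, ⟨h8, h9⟩, h10, -⟩ := h
  intro i hi j hj
  have hi5 : i < 5 := by omega
  interval_cases i <;> interval_cases j <;> simp only [sq5] <;> assumption

theorem sq5_inj4 {a b c d : GolayPt} (h : [a, b, c, d].Nodup) :
    ∀ i < 4, ∀ j < i, sq5 a b c d d j ≠ sq5 a b c d d i := by
  simp only [List.nodup_cons, List.mem_cons, List.not_mem_nil, or_false, not_or] at h
  obtain ⟨⟨h1, h2, h3⟩, ⟨h5, h6⟩, h8, -⟩ := h
  intro i hi j hj
  interval_cases i <;> interval_cases j <;> simp only [sq5] <;> assumption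

theorem exists_map_five {a b c d e a' b' c' d' e' : GolayPt} (h : [a, b, c, d, e].Nodup)
    (h' : [a', b', c', d', e'].Nodup) : ∃ g ∈ M24, g a = a' ∧ g b = b' ∧ g c = c' ∧ g d = d' ∧ g e = e' := by
  obtain ⟨g, hg, hm⟩ := exists_map_seq5 (sq5 a b c d e) (sq5 a' b' c' d' e') (sq5_inj le_rfl h) (sq5_inj le_rfl h')
  exact ⟨g, hg, hm 0 (by norm_num), hm 1 (by norm_num), hm 2 (by norm_num), hm 3 (by norm_num), hm 4 (by norm_num)⟩

theorem exists_map_four {a b c d a' b' c' d' : GolayPt} (h : [a, b, c, d].Nodup)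
    (h' : [a', b', c', d'].Nodup) : ∃ g ∈ M24, g a = a' ∧ g b = b' ∧ g c = c' ∧ g d = d' := by
  obtain ⟨g, hg, hm⟩ := exists_map_le5 (n := 4) (by norm_num) (x := sq5 a b c d d) (y := sq5 a' b' c' d' d')
    (sq5_inj4 h) (sq5_inj4 h')
  exact ⟨g, hg, hm 0 (by norm_num), hm 1 (by norm_num), hm 2 (by norm_num), hm 3 (by norm_num)⟩

theorem conj_app {k g : Equiv.Perm GolayPt} {a b a' b' : GolayPt} (h : g a = b) (h1 : k a = a') (h2 : k b = b') :
    (k * g * k⁻¹) a' = b' := by
  rw [Equiv.Perm.mul_apply, Equiv.Perm.mul_apply, ← h1]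
  show k (g (k.symm (k a))) = b'
  rw [Equiv.symm_apply_apply, h, h2]

theorem conj_mem {k g : Equiv.Perm GolayPt} (hk : k ∈ M24) (hg : g ∈ M24) : k * g * k⁻¹ ∈ M24 :=
  M24.mul_mem (M24.mul_mem hk hg) (M24.inv_mem hk)

theorem conj_conj' {k g h : Equiv.Perm GolayPt} : k * (h * g * h⁻¹) * k⁻¹ = (k * h) * g * (k * h)⁻¹ := by group

theorem inv_class {g : Equiv.Perm GolayPt} (hg : g ∈ M24) (h2 : g * g = 1) (h1 : g ≠ 1) :
    ∃ k ∈ M24, k * g * k⁻¹ = pm cI1 ∨ k * g * k⁻¹ = pm cI2 := by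
  obtain ⟨p, hp⟩ : ∃ p, g p ≠ p := by
    by_contra h
    push Not at h
    exact h1 (Equiv.ext h)
  have hgp : g (g p) = p := app_of_sq h2 rfl
  by_cases hq : ∃ q, q ≠ p ∧ q ≠ g p ∧ g q ≠ q
  · obtain ⟨q, hq1, hq2, hq3⟩ := hq
    have hgq : g (g q) = q := app_of_sq h2 rfl
    have hnd : [p, g p, q, g q].Nodup := by
      simp only [List.nodup_cons, List.mem_cons, List.not_mem_nil, or_false, not_or, List.nodup_nil, and_true,
        not_false_eq_true]
      refine ⟨⟨Ne.symm hp, Ne.symm hq1, ?_⟩, ⟨Ne.symm hq2, fun h => hq1 (g.injective h).symm⟩, Ne.symm hq3⟩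
      intro h
      apply hq2
      rw [h, hgq]
    obtain ⟨k, hk, a1, a2, a3, a4⟩ := exists_map_four (a' := pt 23) (b' := pt 0) (c' := pt 1) (d' := pt 2) hnd
      (by decide)
    obtain ⟨k', hk', e⟩ := SA_class (g := k * g * k⁻¹) ⟨conj_mem hk hg, by
      have : k * g * k⁻¹ * (k * g * k⁻¹) = k * (g * g) * k⁻¹ := by group
      rw [this, h2]; group, conj_app rfl a1 a2, conj_app rfl a3 a4⟩
    rw [conj_conj'] at e
    exact ⟨k' * k, M24.mul_mem hk' hk, e⟩
  · exfalso
    push Not at hq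
    obtain ⟨k, hk, a1, a2⟩ := exists_map_pair (p := p) (q := g p) (p' := pt 21) (q' := pt 22) (Ne.symm hp) (by decide)
    have hc : k * g * k⁻¹ ∈ chain 7 := by
      refine ⟨conj_mem hk hg, ?_⟩
      intro x hx
      have h21 : x ≠ pt 21 := by rintro rfl; exact absurd hx (by decide +kernel)
      have h22 : x ≠ pt 22 := by rintro rfl; exact absurd hx (by decide +kernel)
      have hkx : g (k.symm x) = k.symm x := by
        apply hq
        · intro h; apply h21; rw [← a1, ← h, Equiv.apply_symm_apply]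
        · intro h; apply h22; rw [← a2, ← h, Equiv.apply_symm_apply]
      rw [Equiv.Perm.mul_apply, Equiv.Perm.mul_apply]
      show k (g (k.symm x)) = x
      rw [hkx, Equiv.apply_symm_apply]
    rw [chain_seven, Subgroup.mem_bot] at hc
    apply h1
    have : g = k⁻¹ * (k * g * k⁻¹) * k := by group
    rw [this, hc]; group

theorem three_class {g : Equiv.Perm GolayPt} (hg : g ∈ M24) (h3 : g * g * g = 1) (h1 : g ≠ 1) :
    ∃ k ∈ M24, k * g * k⁻¹ = pm cW1 ∨ k * g * k⁻¹ = pm cW2 := by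
  obtain ⟨p, hp⟩ : ∃ p, g p ≠ p := by
    by_contra h
    push Not at h
    exact h1 (Equiv.ext h)
  have hgp : g (g (g p)) = p := app_of_cube h3 rfl rfl
  have hp2 : g (g p) ≠ g p := fun h => hp (g.injective h)
  have hp3 : g (g p) ≠ p := by
    intro h
    apply hp
    rw [← hgp, h] 
    rw [h] at hgp
    exact hgp.symm ▸ hgp
  have hc3 : ∀ k : Equiv.Perm GolayPt, k * g * k⁻¹ * (k * g * k⁻¹) * (k * g * k⁻¹) = 1 := by
    intro k
    have : k * g * k⁻¹ * (k * g * k⁻¹) * (k * g * k⁻¹) = k * (g * g * g) * k⁻¹ := by group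
    rw [this, h3]; group
  by_cases hq : ∃ q, g q = q
  · obtain ⟨q, hq⟩ := hq
    have hnd : [p, g p, g (g p), q].Nodup := by
      simp only [List.nodup_cons, List.mem_cons, List.not_mem_nil, or_false, not_or, List.nodup_nil, and_true,
        not_false_eq_true]
      refine ⟨⟨Ne.symm hp, Ne.symm hp3, ?_⟩, ⟨Ne.symm hp2, ?_⟩, ?_⟩
      · rintro rfl; exact hp hq
      · rintro rfl; exact hp2 hq
      · rintro rfl; exact hp3 (hq.symm.trans hgp)
    obtain ⟨k, hk, a1, a2, a3, a4⟩ := exists_map_four (a' := pt 23) (b' := pt 0) (c' := pt 1) (d' := pt 2) hnd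
      (by decide)
    obtain ⟨k', hk', e⟩ := SC_class (g := k * g * k⁻¹) ⟨conj_mem hk hg, hc3 k, conj_app rfl a1 a2,
      conj_app rfl a2 a3, conj_app hq a4 a4⟩
    rw [conj_conj'] at e
    exact ⟨k' * k, M24.mul_mem hk' hk, Or.inl e⟩
  · push Not at hq
    obtain ⟨q, hq1⟩ : ∃ q, q ∉ ({p, g p, g (g p)} : Finset GolayPt) := by
      by_contra h
      push Not at h
      have h4 : (Finset.univ : Finset GolayPt).card ≤ ({p, g p, g (g p)} : Finset GolayPt).card :=
        Finset.card_le_card (fun x _ => h x)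
      have h5 : (Finset.univ : Finset GolayPt).card = 24 := by decide
      have h6 := Finset.card_le_three (a := p) (b := g p) (c := g (g p))
      omega
    simp only [Finset.mem_insert, Finset.mem_singleton, not_or] at hq1
    obtain ⟨q1, q2, q3⟩ := hq1
    have hgq : g (g (g q)) = q := app_of_cube h3 rfl rfl
    have hnd : [p, g p, g (g p), q, g q].Nodup := by
      simp only [List.nodup_cons, List.mem_cons, List.not_mem_nil, or_false, not_or, List.nodup_nil, and_true,
        not_false_eq_true]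
      refine ⟨⟨Ne.symm hp, Ne.symm hp3, Ne.symm q1, ?_⟩, ⟨Ne.symm hp2, Ne.symm q2, ?_⟩, ⟨Ne.symm q3, ?_⟩,
        Ne.symm (hq q)⟩
      · intro h
        apply q3
        rw [h, hgq]
      · intro h; exact q1 (g.injective h).symm
      · intro h; exact q2 (g.injective h).symm
    obtain ⟨k, hk, a1, a2, a3, a4, a5⟩ := exists_map_five (a' := pt 23) (b' := pt 0) (c' := pt 1) (d' := pt 2)
      (e' := pt 3) hnd (by decide)
    obtain ⟨k', hk', e⟩ := SD_class (g := k * g * k⁻¹) ⟨conj_mem hk hg, hc3 k, conj_app rfl a1 a2,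
      conj_app rfl a2 a3, conj_app rfl a4 a5⟩
    rw [conj_conj'] at e
    exact ⟨k' * k, M24.mul_mem hk' hk, e⟩

/-- number of fixed points -/
def nfix (g : Equiv.Perm GolayPt) : ℕ := (Finset.univ.filter fun p => g p = p).card

theorem nfix_conj (k g : Equiv.Perm GolayPt) : nfix (k * g * k⁻¹) = nfix g := by
  unfold nfix
  have h : (Finset.univ.filter fun p => (k * g * k⁻¹) p = p) = (Finset.univ.filter fun p => g p = p).image k := by
    ext p
    rw [Finset.mem_image, Finset.mem_filter]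
    constructor
    · rintro ⟨-, hp⟩
      refine ⟨k.symm p, ?_, Equiv.apply_symm_apply k p⟩
      rw [Finset.mem_filter]
      refine ⟨Finset.mem_univ _, ?_⟩
      rw [Equiv.eq_symm_apply]
      exact hp
    · rintro ⟨q, hq, rfl⟩
      rw [Finset.mem_filter] at hq
      exact ⟨Finset.mem_univ _, conj_app hq.2 rfl rfl⟩
  rw [h, Finset.card_image_of_injective _ k.injective]

/-- number of fixed points of a code -/
def nfixC (c : ℕ) : ℕ := ((List.range 24).filter (fun i => img c i == i)).length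

theorem fixset_pm {c : ℕ} (hc : valid c = true) :
    (Finset.univ.filter fun p => pm c p = p) = st (bitsAux (fun i => img c i == i) 24) := by
  ext p
  rw [Finset.mem_filter, mem_st, testBit_bitsAux]
  simp only [Finset.mem_univ, true_and, ix_lt, decide_true, Bool.true_and, beq_iff_eq]
  rw [← ix_pm hc]
  exact ⟨fun h => by rw [h], fun h => ix_inj h⟩

theorem nfix_pm {c : ℕ} (hc : valid c = true) : nfix (pm c) = pc (bitsAux (fun i => img c i == i) 24) := by
  unfold nfix
  rw [fixset_pm hc, card_st]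

theorem nfix_reps : nfix (pm cI1) = 8 ∧ nfix (pm cI2) = 0 ∧ nfix (pm cW1) = 6 ∧ nfix (pm cW2) = 0 := by
  rw [nfix_pm reps_valid.1, nfix_pm reps_valid.2.1, nfix_pm reps_valid.2.2.1, nfix_pm reps_valid.2.2.2]
  decide +kernel

theorem fix_cI1 : (Finset.univ.filter fun p => pm cI1 p = p) ∈ octads := by
  rw [fixset_pm reps_valid.1, mem_octads, IsWord, card_st]
  decide +kernel

end Cfsg.Agent.Lib.Golay
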