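import Cfsg.Agent.Lib.Golay.Max

/-!
Generic engine: a family of objects enumerated by a sorted table, with descent pointers to class representatives.
-/

set_option autoImplicit false

namespace Cfsg.Agent.Lib.Golay

open scoped Pointwise
open Cfsg

/-- an enumeration of a family `X` of objects by a table of codes -/
structure Enumn (Y : Type) [MulAction (Equiv.Perm GolayPt) Y] where
  X : Set Y
  N : ℕ
  w : ℕ
  E : ℕ
  dec : ℕ → Y
  ok : ℕ → Bool
  surj : ∀ y ∈ X, ∃ e < N, y = dec (tabAt E w e)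
  mem : ∀ e < N, dec (tabAt E w e) ∈ X
  inj : ∀ e < N, ∀ e' < N, dec (tabAt E w e) = dec (tabAt E w e') → e = e'

/-- sortedness and validity of a table -/
def sortedOK (N w E : ℕ) (ok : ℕ → Bool) (e : ℕ) : Bool :=
  Nat.ble N e || (ok (tabAt E w e) && (Nat.ble N (e + 1) || Nat.blt (tabAt E w e) (tabAt E w (e + 1))))

theorem sorted_spec {N w E n : ℕ} {ok : ℕ → Bool} (hN : N ≤ 2 ^ n) (h : allB (sortedOK N w E ok) 0 n = true) :
    (∀ e < N, ok (tabAt E w e) = true) ∧ ∀ e < N, ∀ e' < e, tabAt E w e' < tabAt E w e := by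
  have h1 : ∀ e < N, ok (tabAt E w e) = true ∧ (e + 1 < N → tabAt E w e < tabAt E w (e + 1)) := by
    intro e he
    have := of_allB h (i := e) (Nat.zero_le _) (by omega)
    unfold sortedOK at this
    simp only [Bool.or_eq_true, Bool.and_eq_true, Nat.ble_eq, Nat.blt_eq] at this
    rcases this with h2 | ⟨h2, h3⟩
    · omega
    · refine ⟨h2, fun h4 => ?_⟩
      rcases h3 with h3 | h3
      · omega
      · exact h3
  refine ⟨fun e he => (h1 e he).1, ?_⟩
  intro e
  induction e with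
  | zero => intro _ e' he'; omega
  | succ e ih =>
    intro he e' he'
    have h2 := (h1 e (by omega)).2 he
    by_cases hee : e' = e
    · subst hee; exact h2
    · exact lt_trans (ih (by omega) e' (by omega)) h2

/-- building an enumeration from a sorted table by counting -/
def Enumn.mk' {Y : Type} [MulAction (Equiv.Perm GolayPt) Y] (X : Set Y) (N w E n : ℕ) (dec : ℕ → Y) (ok : ℕ → Bool)
    (hN : N ≤ 2 ^ n) (h : allB (sortedOK N w E ok) 0 n = true) (hX : X.ncard = N) (hfin : X.Finite)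
    (hok : ∀ a, ok a = true → dec a ∈ X) (hinj : ∀ a b, ok a = true → ok b = true → dec a = dec b → a = b) :
    Enumn Y where
  X := X
  N := N
  w := w
  E := E
  dec := dec
  ok := ok
  mem := fun e he => hok _ ((sorted_spec hN h).1 e he)
  inj := by
    intro e he e' he' hee
    have h1 := hinj _ _ ((sorted_spec hN h).1 e he) ((sorted_spec hN h).1 e' he') hee
    by_contra hne
    rcases Nat.lt_or_gt_of_ne hne with h2 | h2
    · have := (sorted_spec hN h).2 e' he' e h2; omega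
    · have := (sorted_spec hN h).2 e he e' h2; omega
  surj := by
    have hmem : ∀ e < N, dec (tabAt E w e) ∈ X := fun e he => hok _ ((sorted_spec hN h).1 e he)
    have hi : Set.InjOn (fun e => dec (tabAt E w e)) (Set.Iio N) := by
      intro e he e' he' hee
      have h1 := hinj _ _ ((sorted_spec hN h).1 e he) ((sorted_spec hN h).1 e' he') hee
      by_contra hne
      rcases Nat.lt_or_gt_of_ne hne with h2 | h2
      · have := (sorted_spec hN h).2 e' he' e h2; omega
      · have := (sorted_spec hN h).2 e he e' h2; omega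
    have h2 : (fun e => dec (tabAt E w e)) '' (Set.Iio N) = X := by
      apply Set.eq_of_subset_of_ncard_le
      · rintro _ ⟨e, he, rfl⟩; exact hmem e he
      · rw [Set.ncard_image_of_injOn hi, hX]
        rw [← Finset.coe_Iio, Set.ncard_coe_finset, Nat.card_Iio]
      · exact hfin
    intro y hy
    rw [← h2] at hy
    obtain ⟨e, he, rfl⟩ := hy
    exact ⟨e, he, rfl⟩

/-- descent data for a subgroup -/
structure Desc where
  gens : List ℕ
  G : ℕ
  P : ℕ
  D : ℕ
  R : ℕ
  roots : List ℕ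

/-- check of one entry; `same g a b` certifies that `g` maps the object `a` to the object `b`;
the parent index has `pw` bits -/
def descOKE (N w E : ℕ) (same : ℕ → ℕ → ℕ → Bool) (pw : ℕ) (d : Desc) (e : ℕ) : Bool :=
  Nat.ble N e ||
    (Nat.blt (tabAt d.R 4 e) d.roots.length &&
      ((tabAt d.D 5 e == 0 && tabAt E w e == d.roots.getD (tabAt d.R 4 e) 0) ||
        (Nat.blt (tabAt d.P pw e) N && (Nat.blt (tabAt d.D 5 (tabAt d.P pw e)) (tabAt d.D 5 e) &&
          (tabAt d.R 4 (tabAt d.P pw e) == tabAt d.R 4 e &&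
            (Nat.blt (tabAt d.G 4 e) d.gens.length &&
            same (d.gens.getD (tabAt d.G 4 e) 0) (tabAt E w e) (tabAt E w (tabAt d.P pw e))))))))

theorem descE_spec {Y : Type} [MulAction (Equiv.Perm GolayPt) Y] (X : Enumn Y) {same : ℕ → ℕ → ℕ → Bool} {pw n : ℕ}
    {d : Desc} (hN : X.N ≤ 2 ^ n) (h : allB (descOKE X.N X.w X.E same pw d) 0 n = true)
    {H : Subgroup (Equiv.Perm GolayPt)} (hgens : ∀ c ∈ d.gens, pm c ∈ H)
    (hsame : ∀ c ∈ d.gens, ∀ e < X.N, ∀ e' < X.N, same c (tabAt X.E X.w e) (tabAt X.E X.w e') = true →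
      pm c • X.dec (tabAt X.E X.w e) = X.dec (tabAt X.E X.w e')) :
    ∀ e < X.N, tabAt d.R 4 e < d.roots.length ∧
      ∃ g ∈ H, g • X.dec (tabAt X.E X.w e) = X.dec (d.roots.getD (tabAt d.R 4 e) 0) := by
  have key : ∀ k : ℕ, ∀ e < X.N, tabAt d.D 5 e ≤ k → tabAt d.R 4 e < d.roots.length ∧
      ∃ g ∈ H, g • X.dec (tabAt X.E X.w e) = X.dec (d.roots.getD (tabAt d.R 4 e) 0) := by
    intro k
    induction k with
    | zero =>
      intro e he hk
      have h1 := of_allB h (i := e) (Nat.zero_le _) (by omega)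
      unfold descOKE at h1
      simp only [Bool.or_eq_true, Bool.and_eq_true, Nat.ble_eq, Nat.blt_eq, beq_iff_eq] at h1
      rcases h1 with h1 | ⟨h1, ⟨_, h2⟩ | ⟨_, h2, _⟩⟩
      · omega
      · exact ⟨h1, 1, H.one_mem, by rw [one_smul, h2]⟩
      · omega
    | succ k ih =>
      intro e he hk
      have h1 := of_allB h (i := e) (Nat.zero_le _) (by omega)
      unfold descOKE at h1
      simp only [Bool.or_eq_true, Bool.and_eq_true, Nat.ble_eq, Nat.blt_eq, beq_iff_eq] at h1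
      rcases h1 with h1 | ⟨h1, ⟨_, h2⟩ | ⟨h2, h3, h4, h5, h6⟩⟩
      · omega
      · exact ⟨h1, 1, H.one_mem, by rw [one_smul, h2]⟩
      · refine ⟨h1, ?_⟩
        obtain ⟨_, g, hg, hgg⟩ := ih _ h2 (by omega)
        have hm : d.gens.getD (tabAt d.G 4 e) 0 ∈ d.gens := by
          rw [List.getD_eq_getElem _ _ h5]; exact List.getElem_mem h5
        refine ⟨g * pm (d.gens.getD (tabAt d.G 4 e) 0), H.mul_mem hg (hgens _ hm), ?_⟩
        rw [mul_smul, hsame _ hm e he _ h2 h6, hgg, h4]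
  intro e he
  exact key _ e he le_rfl

/-- number of entries with a property -/
theorem ncard_enum {Y : Type} [MulAction (Equiv.Perm GolayPt) Y] (X : Enumn Y) {n : ℕ} (hN : X.N ≤ 2 ^ n)
    {F : Y → Prop} {f : ℕ → Bool} (hF : ∀ e < X.N, (F (X.dec (tabAt X.E X.w e)) ↔ f e = true)) :
    {y | y ∈ X.X ∧ F y}.ncard = countB (fun e => Nat.blt e X.N && f e) 0 n := by
  rw [countB_eq, ← Set.ncard_coe_finset]
  symm
  refine Set.ncard_congr (fun e _ => X.dec (tabAt X.E X.w e)) ?_ ?_ ?_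
  · intro e he
    rw [Finset.mem_coe, Finset.mem_filter, Bool.and_eq_true, Nat.blt_eq] at he
    exact ⟨X.mem e he.2.1, (hF e he.2.1).2 he.2.2⟩
  · intro a b ha hb hab
    rw [Finset.mem_coe, Finset.mem_filter, Bool.and_eq_true, Nat.blt_eq] at ha hb
    exact X.inj a ha.2.1 b hb.2.1 hab
  · rintro y ⟨hy, hFy⟩
    obtain ⟨e, he, rfl⟩ := X.surj y hy
    refine ⟨e, ?_, rfl⟩
    rw [Finset.mem_coe, Finset.mem_filter, Bool.and_eq_true, Nat.blt_eq, Finset.mem_Ico]
    exact ⟨⟨Nat.zero_le _, by omega⟩, he, (hF e he).1 hFy⟩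

/-- the orbits from descent data and a separating invariant -/
theorem enum_orbits {Y : Type} [MulAction (Equiv.Perm GolayPt) Y] (X : Enumn Y) {same : ℕ → ℕ → ℕ → Bool} {pw n : ℕ}
    {d : Desc} (hN : X.N ≤ 2 ^ n) (h : allB (descOKE X.N X.w X.E same pw d) 0 n = true)
    {H : Subgroup (Equiv.Perm GolayPt)} (hgens : ∀ c ∈ d.gens, pm c ∈ H)
    (hsame : ∀ c ∈ d.gens, ∀ e < X.N, ∀ e' < X.N, same c (tabAt X.E X.w e) (tabAt X.E X.w e') = true →
      pm c • X.dec (tabAt X.E X.w e) = X.dec (tabAt X.E X.w e'))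
    (f : Y → ℕ) (hf : ∀ g ∈ H, ∀ y, f (g • y) = f y)
    (hroots : ∀ k < d.roots.length, f (X.dec (d.roots.getD k 0)) = k) :
    (∀ e < X.N, f (X.dec (tabAt X.E X.w e)) = tabAt d.R 4 e) ∧
    (∀ y ∈ X.X, f y < d.roots.length ∧ ∃ g ∈ H, g • y = X.dec (d.roots.getD (f y) 0)) ∧
    (∀ y ∈ X.X, ∀ z ∈ X.X, f y = f z → ∃ g ∈ H, g • y = z) ∧
    (∀ k, {y | y ∈ X.X ∧ f y = k}.ncard = countB (fun e => Nat.blt e X.N && tabAt d.R 4 e == k) 0 n) := by
  have h1 := descE_spec X hN h hgens hsame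
  have h2 : ∀ e < X.N, f (X.dec (tabAt X.E X.w e)) = tabAt d.R 4 e := by
    intro e he
    obtain ⟨hr, g, hg, e1⟩ := h1 e he
    rw [← hf g hg, e1, hroots _ hr]
  have h3 : ∀ y ∈ X.X, f y < d.roots.length ∧ ∃ g ∈ H, g • y = X.dec (d.roots.getD (f y) 0) := by
    intro y hy
    obtain ⟨e, he, rfl⟩ := X.surj y hy
    rw [h2 e he]; exact h1 e he
  refine ⟨h2, h3, ?_, ?_⟩
  · intro y hy z hz hyz
    obtain ⟨_, g, hg, e1⟩ := h3 y hy
    obtain ⟨_, k, hk, e2⟩ := h3 z hz
    refine ⟨k⁻¹ * g, H.mul_mem (H.inv_mem hk) hg, ?_⟩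
    rw [mul_smul, e1, hyz, ← e2, inv_smul_smul]
  · intro k
    refine ncard_enum X hN (F := fun y => f y = k) (f := fun e => tabAt d.R 4 e == k) ?_
    intro e he
    rw [h2 e he, beq_iff_eq]

end Cfsg.Agent.Lib.Golay
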