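import Cfsg.Agent.Lib.Golay.FamData

/-!
Enumerations of sextets, trios, octads, dodecads; profiles of intersection sizes.
-/

set_option autoImplicit false

namespace Cfsg.Agent.Lib.Golay

open scoped Pointwise
open Cfsg Finset

theorem smul_mem_sextets {g : Equiv.Perm GolayPt} (hg : g ∈ M24) {S : Finset (Finset GolayPt)} (hS : S ∈ sextets) :
    g • S ∈ sextets := by
  obtain ⟨h1, h2, h3⟩ := hS
  refine ⟨by rw [card_smul_finset]; exact h1, ?_, ?_⟩
  · intro t ht
    obtain ⟨u, hu, rfl⟩ := mem_smul_finset.1 ht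
    rw [card_smul_finset]; exact h2 u hu
  · intro t ht u hu htu
    obtain ⟨t', ht', rfl⟩ := mem_smul_finset.1 ht
    obtain ⟨u', hu', rfl⟩ := mem_smul_finset.1 hu
    rw [← smul_finset_union]
    exact smul_mem_octads hg (h3 t' ht' u' hu' (fun e => htu (by rw [e])))

theorem smul_sext {g : Equiv.Perm GolayPt} (hg : g ∈ M24) {t : Finset GolayPt} (ht : t.card = 4) :
    g • sext t = sext (g • t) :=
  sextet_eq (smul_mem_sextets hg (sext_mem ht)) (smul_mem_smul_finset (mem_sext_self t))

theorem smul_mem_trios {g : Equiv.Perm GolayPt} (hg : g ∈ M24) {S : Finset (Finset GolayPt)} (hS : S ∈ trios) :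
    g • S ∈ trios := by
  obtain ⟨h1, h2, h3⟩ := hS
  refine ⟨by rw [card_smul_finset]; exact h1, ?_, ?_⟩
  · intro t ht
    obtain ⟨u, hu, rfl⟩ := mem_smul_finset.1 ht
    exact smul_mem_octads hg (h2 u hu)
  · intro t ht u hu htu
    obtain ⟨t', ht', rfl⟩ := mem_smul_finset.1 ht
    obtain ⟨u', hu', rfl⟩ := mem_smul_finset.1 hu
    have := h3 t' ht' u' hu' (fun e => htu (by rw [e]))
    rw [disjoint_iff_inter_eq_empty] at this ⊢
    rw [← smul_inter', this, smul_finset_empty]

theorem smul_trio {g : Equiv.Perm GolayPt} (o o' : Finset GolayPt) : g • trio o o' = trio (g • o) (g • o') := by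
  unfold trio
  rw [smul_finset_insert, smul_finset_insert, smul_finset_singleton, smul_compl', smul_finset_union]

/-! ### sextets -/

/-- valid codes of sextets -/
def okS (a : ℕ) : Bool := a.testBit 23 && pc a == 4 && Nat.blt a 16777216

/-- the sextet of a code -/
noncomputable def decS (a : ℕ) : Finset (Finset GolayPt) := sext (st a)

theorem okS_spec {a : ℕ} (h : okS a = true) : a.testBit 23 = true ∧ (st a).card = 4 ∧ a < 2 ^ 24 := by
  unfold okS at h
  rw [Bool.and_eq_true, Bool.and_eq_true, beq_iff_eq, Nat.blt_eq] at h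
  rw [card_st]
  exact ⟨h.1.1, h.1.2, h.2⟩

theorem sextTab_ok : allB (sortedOK 1771 24 sextTab okS) 0 11 = true := by decide +kernel

/-- the enumeration of the sextets -/
noncomputable def sextE : Enumn (Finset (Finset GolayPt)) :=
  Enumn.mk' sextets 1771 24 sextTab 11 decS okS (by norm_num) sextTab_ok ncard_sextets (Set.toFinite _)
    (fun a ha => sext_mem (okS_spec ha).2.1) (by
      intro a b ha hb h
      obtain ⟨a1, a2, a3⟩ := okS_spec ha
      obtain ⟨b1, b2, b3⟩ := okS_spec hb
      apply st_inj a3 b3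
      by_contra hne
      have h1 : st a ∈ sext (st b) := by
        have : st a ∈ decS a := mem_sext_self _
        rw [h] at this; exact this
      have h2 := sextet_disjoint (sext_mem b2) h1 (mem_sext_self (st b)) hne
      have p1 : pt 23 ∈ st a := by rw [mem_st, ix_pt (by norm_num)]; exact a1
      have p2 : pt 23 ∈ st b := by rw [mem_st, ix_pt (by norm_num)]; exact b1
      exact disjoint_left.1 h2 p1 p2)

/-- certificate that the image of a tetrad generates a given sextet -/
def sameS (g a b : ℕ) : Bool :=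
  act g a == b || (inCode (act g a ||| b) && pc (act g a ||| b) == 8)

theorem sext_eq_of_union {t u : Finset GolayPt} (ht : t.card = 4) (hu : u.card = 4) (h : t ∪ u ∈ octads) :
    sext t = sext u := by
  apply sextet_eq (sext_mem ht)
  unfold sext
  rw [mem_insert, mem_image]
  right
  refine ⟨t ∪ u, ?_, ?_⟩
  · rw [mem_filter, Steiner.mem_blk]; exact ⟨h, subset_union_left⟩
  · apply union_sdiff_cancel_left
    have h1 := card_union_add_card_inter t u
    rw [octad_card h, ht, hu] at h1
    rw [disjoint_iff_inter_eq_empty, ← card_eq_zero]; omega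

theorem sameS_spec {g : ℕ} (hg : pres g = true) {a b : ℕ} (ha : okS a = true) (hb : okS b = true)
    (h : sameS g a b = true) : pm g • decS a = decS b := by
  obtain ⟨a1, a2, a3⟩ := okS_spec ha
  obtain ⟨b1, b2, b3⟩ := okS_spec hb
  have hv := pres_valid hg
  unfold decS
  rw [smul_sext (pm_mem_M24 hg) a2]
  unfold sameS at h
  rw [Bool.or_eq_true, Bool.and_eq_true, beq_iff_eq, beq_iff_eq] at h
  rw [pm_smul_st hv]
  rcases h with h | ⟨h1, h2⟩
  · rw [h]
  · apply sext_eq_of_union
    · rw [← pm_smul_st hv, card_smul_finset]; exact a2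
    · exact b2
    · rw [← st_or]
      exact (st_mem_octads (inCode_lt h1)).2 ⟨h1, h2⟩

/-! ### octads and dodecads -/

/-- valid codes of octads -/
def okO (a : ℕ) : Bool := pc (comb a) == 8 && Nat.blt a 4096

/-- the set of a word index -/
def decW (a : ℕ) : Finset GolayPt := st (comb a)

theorem octTab_ok : allB (sortedOK 759 12 octTab okO) 0 10 = true := by decide +kernel

theorem okO_spec {a : ℕ} (h : okO a = true) : decW a ∈ octads ∧ a < 4096 := by
  unfold okO at h
  rw [Bool.and_eq_true, beq_iff_eq, Nat.blt_eq] at h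
  exact ⟨(st_mem_octads (comb_lt a)).2 ⟨inCode_comb a, h.1⟩, h.2⟩

/-- the enumeration of the octads -/
noncomputable def octE : Enumn (Finset GolayPt) :=
  Enumn.mk' octads 759 12 octTab 10 decW okO (by norm_num) octTab_ok octads_ncard (Set.toFinite _)
    (fun _ ha => (okO_spec ha).1) (by
      intro a b ha hb h
      exact comb_injOn (okO_spec ha).2 (okO_spec hb).2 (st_inj (comb_lt a) (comb_lt b) h))

/-- valid codes of dodecads -/
def okD (a : ℕ) : Bool := pc (comb a) == 12 && Nat.blt a 4096

theorem dodTab_ok : allB (sortedOK 2576 12 dodTab okD) 0 12 = true := by decide +kernel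

theorem okD_spec {a : ℕ} (h : okD a = true) : decW a ∈ dodecads ∧ a < 4096 := by
  unfold okD at h
  rw [Bool.and_eq_true, beq_iff_eq, Nat.blt_eq] at h
  exact ⟨(st_mem_dodecads (comb_lt a)).2 ⟨inCode_comb a, h.1⟩, h.2⟩

/-- the enumeration of the dodecads -/
noncomputable def dodE : Enumn (Finset GolayPt) :=
  Enumn.mk' dodecads 2576 12 dodTab 12 decW okD (by norm_num) dodTab_ok dodecads_ncard (Set.toFinite _)
    (fun _ ha => (okD_spec ha).1) (by
      intro a b ha hb h
      exact comb_injOn (okD_spec ha).2 (okD_spec hb).2 (st_inj (comb_lt a) (comb_lt b) h))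

/-- certificate for words -/
def sameW (g a b : ℕ) : Bool := act g (comb a) == comb b

theorem sameW_spec {g : ℕ} (hg : pres g = true) {a b : ℕ} (h : sameW g a b = true) : pm g • decW a = decW b := by
  unfold sameW at h
  rw [beq_iff_eq] at h
  unfold decW
  rw [pm_smul_st (pres_valid hg), h]

/-! ### trios -/

/-- symmetric difference of three -/
def thirdM (m c1 c2 : ℕ) : ℕ := m ^^^ (c1 ^^^ c2)

theorem xor_cancel (m x y : ℕ) : m ^^^ (x ^^^ (m ^^^ (x ^^^ y))) = y := by
  apply Nat.eq_of_testBit_eq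
  intro i
  simp only [Nat.testBit_xor]
  cases Nat.testBit m i <;> cases Nat.testBit x i <;> cases Nat.testBit y i <;> rfl

theorem thirdM_invol (m x y : ℕ) : thirdM m x (thirdM m x y) = y := xor_cancel m x y

/-- index of the complement of the symmetric difference -/
def thirdIx (c1 c2 : ℕ) : ℕ := thirdM 4095 c1 c2

theorem comb_4095 : comb 4095 = 0xffffff := by decide +kernel

theorem comb_thirdIx (c1 c2 : ℕ) : comb (thirdIx c1 c2) = 0xffffff ^^^ (comb c1 ^^^ comb c2) := by
  unfold thirdIx thirdM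
  rw [comb_xor, comb_xor, comb_4095]

/-- valid codes of trios -/
def okT (a : ℕ) : Bool :=
  pc (comb (a >>> 12)) == 8 && (comb (a >>> 12)).testBit 23 && pc (comb (a &&& 4095)) == 8 &&
    (comb (a >>> 12) &&& comb (a &&& 4095)) == 0 && Nat.blt (a &&& 4095) (thirdIx (a >>> 12) (a &&& 4095)) &&
    Nat.blt a 16777216

/-- the trio of a code -/
def decT (a : ℕ) : Finset (Finset GolayPt) := trio (decW (a >>> 12)) (decW (a &&& 4095))

theorem trioTab_ok : allB (sortedOK 3795 24 trioTab okT) 0 12 = true := by decide +kernel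

theorem okT_spec {a : ℕ} (h : okT a = true) : decW (a >>> 12) ∈ octads ∧ decW (a &&& 4095) ∈ octads ∧
    Disjoint (decW (a >>> 12)) (decW (a &&& 4095)) ∧ pt 23 ∈ decW (a >>> 12) ∧
    (a &&& 4095) < thirdIx (a >>> 12) (a &&& 4095) ∧ a >>> 12 < 4096 ∧ a < 2 ^ 24 := by
  unfold okT at h
  simp only [Bool.and_eq_true, beq_iff_eq, Nat.blt_eq] at h
  obtain ⟨⟨⟨⟨⟨h1, h2⟩, h3⟩, h4⟩, h5⟩, h6⟩ := h
  refine ⟨(st_mem_octads (comb_lt _)).2 ⟨inCode_comb _, h1⟩, (st_mem_octads (comb_lt _)).2 ⟨inCode_comb _, h3⟩,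
    ?_, ?_, h5, ?_, h6⟩
  · rw [disjoint_iff_inter_eq_empty]
    unfold decW
    rw [← st_and, h4, st_zero]
  · unfold decW
    rw [mem_st, ix_pt (by norm_num)]; exact h2
  · rw [Nat.shiftRight_eq_div_pow]; omega

theorem third_eq {c1 c2 : ℕ} (h : Disjoint (decW c1) (decW c2)) :
    (decW c1 ∪ decW c2)ᶜ = decW (thirdIx c1 c2) := by
  unfold decW at *
  rw [comb_thirdIx, Nat.xor_comm, xor_full_xor]
  congr 1
  rw [st_xor, h.symmDiff_eq_sup]; rfl

theorem thirdIx_lt {c1 c2 : ℕ} (h1 : c1 < 4096) (h2 : c2 < 4096) : thirdIx c1 c2 < 4096 := by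
  unfold thirdIx thirdM
  exact Nat.xor_lt_two_pow (n := 12) (by norm_num) (Nat.xor_lt_two_pow (n := 12) h1 h2)

theorem split_eq {a b : ℕ} (h1 : a >>> 12 = b >>> 12) (h2 : b &&& 4095 = a &&& 4095) : a = b := by
  apply Nat.eq_of_testBit_eq
  intro i
  by_cases hi : i < 12
  · have h3 := congrArg (fun x => Nat.testBit x i) h2
    simp only [Nat.testBit_and] at h3
    have h4 : ∀ i < 12, Nat.testBit 4095 i = true := by decide
    rw [h4 i hi, Bool.and_true, Bool.and_true] at h3
    exact h3.symm
  · have h3 := congrArg (fun x => Nat.testBit x (i - 12)) h1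
    simp only [Nat.testBit_shiftRight] at h3
    rwa [show 12 + (i - 12) = i by omega] at h3

end Cfsg.Agent.Lib.Golay
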