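import Cfsg.Agent.Lib.Golay.Fam

/-!
The enumeration of the trios; profiles of intersection sizes.
-/

set_option autoImplicit false

namespace Cfsg.Agent.Lib.Golay

open scoped Pointwise
open Cfsg Finset

theorem thirdIx_invol (x y : ℕ) : thirdIx x (thirdIx x y) = y := thirdM_invol 4095 x y

theorem decT_inj : ∀ a b, okT a = true → okT b = true → decT a = decT b → a = b := by
  intro a b ha hb h
  obtain ⟨a1, a2, a3, a4, a5, a6, a7⟩ := okT_spec ha
  obtain ⟨b1, b2, b3, b4, b5, b6, b7⟩ := okT_spec hb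
  have hTa := trio_mem a1 a2 a3
  have hTb := trio_mem b1 b2 b3
  have hma : ∀ x ∈ decT a, x = decW (a >>> 12) ∨ x = decW (a &&& 4095) ∨
      x = decW (thirdIx (a >>> 12) (a &&& 4095)) := by
    intro x hx
    unfold decT trio at hx
    rw [third_eq a3] at hx
    simpa using hx
  have hlt : ∀ x : ℕ, x &&& 4095 < 4096 := fun x => Nat.lt_of_le_of_lt Nat.and_le_right (by norm_num)
  have hb1 : decW (b >>> 12) ∈ decT b := by unfold decT trio; simp
  have hb2 : decW (b &&& 4095) ∈ decT b := by unfold decT trio; simp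
  have ha1 : decW (a >>> 12) ∈ decT a := by unfold decT trio; simp
  have e1 : decW (a >>> 12) = decW (b >>> 12) := by
    by_contra hne
    have h1 : decW (a >>> 12) ∈ decT b := by rw [← h]; exact ha1
    have h2 := hTb.2.2 _ h1 _ hb1 hne
    exact disjoint_left.1 h2 a4 b4
  have f1 : a >>> 12 = b >>> 12 := comb_injOn a6 b6 (st_inj (comb_lt _) (comb_lt _) e1)
  rw [← h] at hb2
  have f2 : (b &&& 4095) = (a &&& 4095) := by
    rcases hma _ hb2 with e | e | e
    · exfalso
      have h2 := (trio_ne b1 b2 b3).1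
      rw [← f1] at h2
      exact h2 e.symm
    · exact comb_injOn (hlt _) (hlt _) (st_inj (comb_lt _) (comb_lt _) e)
    · exfalso
      have h3 : (b &&& 4095) = thirdIx (a >>> 12) (a &&& 4095) :=
        comb_injOn (hlt _) (thirdIx_lt a6 (hlt _)) (st_inj (comb_lt _) (comb_lt _) e)
      rw [← f1, h3] at b5
      have h4 : thirdIx (a >>> 12) (thirdIx (a >>> 12) (a &&& 4095)) = (a &&& 4095) := thirdIx_invol _ _
      rw [h4] at b5
      exact absurd (lt_trans a5 b5) (lt_irrefl _)
  exact split_eq f1 f2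

/-- the enumeration of the trios -/
noncomputable def trioE : Enumn (Finset (Finset GolayPt)) :=
  Enumn.mk' trios 3795 24 trioTab 12 decT okT (by norm_num) trioTab_ok ncard_trios (Set.toFinite _)
    (fun a ha => trio_mem (okT_spec ha).1 (okT_spec ha).2.1 (okT_spec ha).2.2.1) decT_inj

/-- membership of a mask in the trio of a code -/
def inTrio (u b : ℕ) : Bool :=
  u == comb (b >>> 12) || u == comb (b &&& 4095) || u == comb (thirdIx (b >>> 12) (b &&& 4095))

/-- certificate for trios -/
def sameT (g a b : ℕ) : Bool := inTrio (act g (comb (a >>> 12))) b && inTrio (act g (comb (a &&& 4095))) b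

theorem inTrio_spec {u b : ℕ} (hb : okT b = true) (h : inTrio u b = true) : st u ∈ decT b := by
  obtain ⟨b1, b2, b3, b4, b5, b6, b7⟩ := okT_spec hb
  unfold inTrio at h
  simp only [Bool.or_eq_true, beq_iff_eq] at h
  unfold decT trio
  rw [third_eq b3]
  simp only [mem_insert, mem_singleton]
  rcases h with (h | h) | h
  · left; rw [h]; rfl
  · right; left; rw [h]; rfl
  · right; right; rw [h]; rfl

theorem sameT_spec {g : ℕ} (hg : pres g = true) {a b : ℕ} (ha : okT a = true) (hb : okT b = true)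
    (h : sameT g a b = true) : pm g • decT a = decT b := by
  obtain ⟨a1, a2, a3, _⟩ := okT_spec ha
  obtain ⟨b1, b2, b3, _⟩ := okT_spec hb
  unfold sameT at h
  rw [Bool.and_eq_true] at h
  have h1 := inTrio_spec hb h.1
  have h2 := inTrio_spec hb h.2
  have hv := pres_valid hg
  unfold decT at *
  rw [smul_trio]
  unfold decW at *
  rw [← pm_smul_st hv] at h1 h2
  symm
  apply trio_eq (trio_mem b1 b2 b3) h1 h2
  intro e
  exact (trio_ne a1 a2 a3).1 (smul_left_cancel _ e)

/-! ### profiles -/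

/-- number of pairs of members meeting in `j` points -/
def prof (j : ℕ) (A y : Finset (Finset GolayPt)) : ℕ := ((A ×ˢ y).filter (fun p => (p.1 ∩ p.2).card = j)).card

theorem prof_smul (j : ℕ) (A y : Finset (Finset GolayPt)) (g : Equiv.Perm GolayPt) :
    prof j (g • A) (g • y) = prof j A y := by
  symm
  apply card_bij (fun p _ => (g • p.1, g • p.2))
  · rintro ⟨a, b⟩ h
    rw [mem_filter, mem_product] at h ⊢
    exact ⟨⟨smul_mem_smul_finset h.1.1, smul_mem_smul_finset h.1.2⟩, by rw [card_smul_inter]; exact h.2⟩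
  · rintro ⟨a, b⟩ _ ⟨a', b'⟩ _ h
    rw [Prod.mk.injEq] at h
    rw [Prod.mk.injEq]
    exact ⟨smul_left_cancel _ h.1, smul_left_cancel _ h.2⟩
  · rintro ⟨a, b⟩ h
    rw [mem_filter, mem_product] at h
    obtain ⟨a', ha', rfl⟩ := mem_smul_finset.1 h.1.1
    obtain ⟨b', hb', rfl⟩ := mem_smul_finset.1 h.1.2
    refine ⟨(a', b'), ?_, rfl⟩
    rw [mem_filter, mem_product]
    refine ⟨⟨ha', hb'⟩, ?_⟩
    have := h.2
    rw [card_smul_inter] at this; exact this

/-- family of sets of a list of masks -/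
def fs (l : List ℕ) : Finset (Finset GolayPt) := (l.map st).toFinset

/-- lists of distinct masks -/
def lok (l : List ℕ) : Bool := decide l.Nodup && l.all (fun a => Nat.blt a 16777216)

theorem prof_fs (j : ℕ) {la lb : List ℕ} (ha : lok la = true) (hb : lok lb = true) :
    prof j (fs la) (fs lb) = ((la ×ˢ lb).filter (fun p => pc (p.1 &&& p.2) == j)).length := by
  unfold lok at ha hb
  rw [Bool.and_eq_true, decide_eq_true_eq, List.all_eq_true] at ha hb
  obtain ⟨a1, a2⟩ := ha
  obtain ⟨b1, b2⟩ := hb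
  have hnd : ((la ×ˢ lb).filter (fun p => pc (p.1 &&& p.2) == j)).Nodup := (List.Nodup.product a1 b1).filter _
  rw [← List.toFinset_card_of_nodup hnd]
  symm
  apply card_bij (fun p _ => (st p.1, st p.2))
  · rintro ⟨a, b⟩ h
    rw [List.mem_toFinset, List.mem_filter, beq_iff_eq, List.mem_product] at h
    rw [mem_filter, mem_product]
    refine ⟨⟨?_, ?_⟩, ?_⟩
    · exact List.mem_toFinset.2 (List.mem_map_of_mem h.1.1)
    · exact List.mem_toFinset.2 (List.mem_map_of_mem h.1.2)
    · show (st a ∩ st b).card = j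
      rw [← st_and, card_st]; exact h.2
  · rintro ⟨a, b⟩ h ⟨a', b'⟩ h' e
    rw [List.mem_toFinset, List.mem_filter, List.mem_product] at h h'
    rw [Prod.mk.injEq] at e
    rw [Prod.mk.injEq]
    have l1 := a2 a h.1.1
    have l2 := b2 b h.1.2
    have l3 := a2 a' h'.1.1
    have l4 := b2 b' h'.1.2
    rw [Nat.blt_eq] at l1 l2 l3 l4
    exact ⟨st_inj l1 l3 e.1, st_inj l2 l4 e.2⟩
  · rintro ⟨x, y⟩ h
    rw [mem_filter, mem_product] at h
    obtain ⟨⟨h1, h2⟩, h3⟩ := h
    unfold fs at h1 h2
    rw [List.mem_toFinset, List.mem_map] at h1 h2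
    obtain ⟨a, ha, rfl⟩ := h1
    obtain ⟨b, hb, rfl⟩ := h2
    refine ⟨(a, b), ?_, rfl⟩
    rw [List.mem_toFinset, List.mem_filter, beq_iff_eq, List.mem_product]
    refine ⟨⟨ha, hb⟩, ?_⟩
    rw [← card_st, st_and]; exact h3

/-- profile vector -/
def pvec (A y : Finset (Finset GolayPt)) : List ℕ := [prof 0 A y, prof 1 A y, prof 2 A y, prof 3 A y, prof 4 A y]

/-- computed profile vector -/
def pvecL (la lb : List ℕ) : List ℕ :=
  (List.range 5).map (fun j => ((la ×ˢ lb).filter (fun p => pc (p.1 &&& p.2) == j)).length)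

theorem pvec_fs {la lb : List ℕ} (ha : lok la = true) (hb : lok lb = true) :
    pvec (fs la) (fs lb) = pvecL la lb := by
  unfold pvec pvecL
  rw [prof_fs 0 ha hb, prof_fs 1 ha hb, prof_fs 2 ha hb, prof_fs 3 ha hb, prof_fs 4 ha hb]
  rfl

theorem pvec_smul (A y : Finset (Finset GolayPt)) {g : Equiv.Perm GolayPt} (hg : g • A = A) :
    pvec A (g • y) = pvec A y := by
  have h : ∀ j, prof j A (g • y) = prof j A y := by
    intro j
    conv_lhs => rw [← hg]
    exact prof_smul j A y g
  unfold pvec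
  rw [h, h, h, h, h]

/-- a list of six tetrads forming a sextet -/
def isSextL (l : List ℕ) : Bool :=
  lok l && l.length == 6 && l.all (fun a => pc a == 4) &&
    l.all (fun a => l.all (fun b => a == b || (inCode (a ||| b) && pc (a ||| b) == 8)))

theorem fs_sextet {l : List ℕ} (h : isSextL l = true) : fs l ∈ sextets := by
  unfold isSextL at h
  simp only [Bool.and_eq_true, List.all_eq_true, Bool.or_eq_true, beq_iff_eq] at h
  obtain ⟨⟨⟨h1, h2⟩, h3⟩, h4⟩ := h
  have h1' := h1
  unfold lok at h1'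
  rw [Bool.and_eq_true, decide_eq_true_eq, List.all_eq_true] at h1'
  refine ⟨?_, ?_, ?_⟩
  · unfold fs
    rw [List.toFinset_card_of_nodup, List.length_map, h2]
    apply List.Nodup.map_on _ h1'.1
    intro a ha b hb e
    have l1 := h1'.2 a ha
    have l2 := h1'.2 b hb
    rw [Nat.blt_eq] at l1 l2
    exact st_inj l1 l2 e
  · intro t ht
    unfold fs at ht
    rw [List.mem_toFinset, List.mem_map] at ht
    obtain ⟨a, ha, rfl⟩ := ht
    rw [card_st, h3 a ha]
  · intro t ht u hu htu
    unfold fs at ht hu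
    rw [List.mem_toFinset, List.mem_map] at ht hu
    obtain ⟨a, ha, rfl⟩ := ht
    obtain ⟨b, hb, rfl⟩ := hu
    rcases h4 a ha b hb with e | ⟨e1, e2⟩
    · exact absurd (by rw [e]) htu
    · rw [← st_or]
      exact (st_mem_octads (inCode_lt e1)).2 ⟨e1, e2⟩

theorem decS_eq_fs {l : List ℕ} (h : isSextL l = true) {a : ℕ} (ha : a ∈ l) : decS a = fs l := by
  unfold decS
  symm
  apply sextet_eq (fs_sextet h)
  exact List.mem_toFinset.2 (List.mem_map_of_mem ha)

/-- the list of masks of a trio -/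
def trioL (a : ℕ) : List ℕ := [comb (a >>> 12), comb (a &&& 4095), comb (thirdIx (a >>> 12) (a &&& 4095))]

theorem decT_eq_fs {a : ℕ} (h : okT a = true) : decT a = fs (trioL a) := by
  obtain ⟨_, _, a3, _⟩ := okT_spec h
  unfold decT trio fs trioL
  rw [third_eq a3]
  ext x
  simp only [mem_insert, mem_singleton, List.mem_toFinset, List.mem_map, List.mem_cons, List.not_mem_nil, or_false,
    decW]
  constructor
  · rintro (rfl | rfl | rfl)
    · exact ⟨_, Or.inl rfl, rfl⟩
    · exact ⟨_, Or.inr (Or.inl rfl), rfl⟩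
    · exact ⟨_, Or.inr (Or.inr rfl), rfl⟩
  · rintro ⟨b, (rfl | rfl | rfl), rfl⟩
    · exact Or.inl rfl
    · exact Or.inr (Or.inl rfl)
    · exact Or.inr (Or.inr rfl)

theorem singleton_eq_fs (m : ℕ) : ({st m} : Finset (Finset GolayPt)) = fs [m] := by
  unfold fs; simp

end Cfsg.Agent.Lib.Golay
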