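import Cfsg.Agent.Lib.Golay.Misc

/-!
The rank-24 lattice: the explicit description, divisibility of norms, minimal norm.
-/

set_option autoImplicit false

namespace Cfsg.Agent.Lib.Golay

open scoped Pointwise
open Cfsg Finset

/-- the set of coordinates congruent to `k` modulo 4 -/
def cls (x : GolayPt → ℤ) (k : ℤ) : Finset GolayPt := univ.filter (fun i => x i ≡ k [ZMOD 4])

theorem mem_cls {x : GolayPt → ℤ} {k : ℤ} {i : GolayPt} : i ∈ cls x k ↔ (x i - k) % 4 = 0 := by
  unfold cls
  rw [mem_filter, Int.modEq_comm, Int.modEq_iff_dvd]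
  constructor
  · intro h; omega
  · intro h; exact ⟨mem_univ _, by omega⟩

/-- explicit membership in the lattice, with parity `m` -/
def InL (x : GolayPt → ℤ) (m : ℤ) : Prop :=
  (∀ i, (x i - m) % 2 = 0) ∧ (∑ i, x i - 4 * m) % 8 = 0 ∧ IsWord (cls x (m + 2))

theorem isWord_empty : IsWord (∅ : Finset GolayPt) := by
  rw [← st_zero, isWord_st (by norm_num)]; exact inCode_zero

theorem mem_leechSet_iff {x : GolayPt → ℤ} : x ∈ leechSet ↔ ∃ m, InL x m := by
  unfold leechSet InL
  constructor
  · rintro ⟨m, h1, h2, h3⟩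
    refine ⟨m, fun i => ?_, ?_, ?_⟩
    · have := (h1 i).symm
      rw [Int.modEq_iff_dvd] at this; omega
    · have := h2.symm
      rw [Int.modEq_iff_dvd] at this; omega
    · exact isWord_iff.2 (h3 (m + 2))
  · rintro ⟨m, h1, h2, h3⟩
    refine ⟨m, fun i => ?_, ?_, ?_⟩
    · apply Int.ModEq.symm
      rw [Int.modEq_iff_dvd]; have := h1 i; omega
    · apply Int.ModEq.symm
      rw [Int.modEq_iff_dvd]; omega
    · intro k
      rw [← isWord_iff]
      have hk : (filter (fun i => x i ≡ k [ZMOD 4]) univ : Finset GolayPt) = cls x k := rfl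
      rw [hk]
      by_cases hpar : (k - m) % 2 = 0
      · by_cases h4 : (k - m) % 4 = 0
        · have : cls x k = (cls x (m + 2))ᶜ := by
            ext i; rw [mem_compl, mem_cls, mem_cls]; have := h1 i; omega
          rw [this]; exact h3.compl
        · have : cls x k = cls x (m + 2) := by
            ext i; rw [mem_cls, mem_cls]; omega
          rw [this]; exact h3
      · have : cls x k = ∅ := by
          ext i; rw [mem_cls]; have := h1 i
          simp only [Finset.notMem_empty, iff_false]; omega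
        rw [this]; exact isWord_empty

theorem InL.zero : InL 0 0 := by
  refine ⟨fun i => by simp, by simp, ?_⟩
  have : cls (0 : GolayPt → ℤ) (0 + 2) = ∅ := by
    ext i; rw [mem_cls]; simp
  rw [this]; exact isWord_empty

theorem InL.add {x y : GolayPt → ℤ} {m n : ℤ} (hx : InL x m) (hy : InL y n) : InL (x + y) (m + n) := by
  obtain ⟨h1, h2, h3⟩ := hx
  obtain ⟨k1, k2, k3⟩ := hy
  refine ⟨fun i => ?_, ?_, ?_⟩
  · have := h1 i; have := k1 i; rw [Pi.add_apply]; omega
  · have : ∑ i, (x + y) i = ∑ i, x i + ∑ i, y i := by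
      rw [← sum_add_distrib]; rfl
    rw [this]; omega
  · have : cls (x + y) (m + n + 2) = symmDiff (cls x (m + 2)) (cls y (n + 2)) := by
      ext i
      rw [mem_symmDiff, mem_cls, mem_cls, mem_cls, Pi.add_apply]
      have := h1 i; have := k1 i; omega
    rw [this]; exact h3.symmDiff k3

theorem InL.neg {x : GolayPt → ℤ} {m : ℤ} (hx : InL x m) : InL (-x) (-m) := by
  obtain ⟨h1, h2, h3⟩ := hx
  refine ⟨fun i => ?_, ?_, ?_⟩
  · have := h1 i; rw [Pi.neg_apply]; omega
  · have : ∑ i, (-x) i = -∑ i, x i := by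
      rw [← sum_neg_distrib]; rfl
    rw [this]; omega
  · have : cls (-x) (-m + 2) = cls x (m + 2) := by
      ext i
      rw [mem_cls, mem_cls, Pi.neg_apply]; omega
    rw [this]; exact h3

/-- the lattice as a subgroup -/
def leechSub : AddSubgroup (GolayPt → ℤ) where
  carrier := {x | ∃ m, InL x m}
  zero_mem' := ⟨0, InL.zero⟩
  add_mem' := by
    rintro x y ⟨m, hx⟩ ⟨n, hy⟩; exact ⟨m + n, hx.add hy⟩
  neg_mem' := by
    rintro x ⟨m, hx⟩; exact ⟨-m, hx.neg⟩

theorem leechSub_coe : (leechSub : Set (GolayPt → ℤ)) = leechSet := by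
  ext x; exact mem_leechSet_iff.symm

theorem leechLattice_eq : leechLattice = leechSub := by
  unfold leechLattice
  rw [← leechSub_coe, AddSubgroup.closure_eq]

theorem mem_leech {x : GolayPt → ℤ} : x ∈ leechLattice ↔ ∃ m, InL x m := by
  rw [leechLattice_eq]; exact Iff.rfl

/-- changing the parity representative -/
theorem InL.congr {x : GolayPt → ℤ} {m n : ℤ} (hx : InL x m) (h : (m - n) % 2 = 0) : InL x n := by
  obtain ⟨h1, h2, h3⟩ := hx
  refine ⟨fun i => ?_, by omega, ?_⟩
  · have := h1 i; omega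
  · by_cases h4 : (m - n) % 4 = 0
    · have : cls x (n + 2) = cls x (m + 2) := by
        ext i; rw [mem_cls, mem_cls]; omega
      rw [this]; exact h3
    · have : cls x (n + 2) = (cls x (m + 2))ᶜ := by
        ext i; rw [mem_compl, mem_cls, mem_cls]; have := h1 i; omega
      rw [this]; exact h3.compl

theorem mem_leech' {x : GolayPt → ℤ} : x ∈ leechLattice ↔ InL x 0 ∨ InL x 1 := by
  rw [mem_leech]
  constructor
  · rintro ⟨m, h⟩
    by_cases hm : m % 2 = 0
    · exact Or.inl (h.congr (by omega))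
    · exact Or.inr (h.congr (by omega))
  · rintro (h | h)
    · exact ⟨0, h⟩
    · exact ⟨1, h⟩

theorem sum_ind (s : Finset GolayPt) (a : ℤ) : ∑ i, (if i ∈ s then a else 0) = a * s.card := by
  rw [Finset.sum_ite_mem, Finset.univ_inter, Finset.sum_const, nsmul_eq_mul, mul_comm]

theorem IsWord.card_mod {s : Finset GolayPt} (hs : IsWord s) : (s.card : ℤ) % 4 = 0 := by
  have := hs.card; omega

/-- norms modulo 16, even vectors -/
theorem sqNorm_even {x : GolayPt → ℤ} (h : InL x 0) : ∃ t : ℤ, sqNorm x = 4 * (cls x 2).card + 16 * t := by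
  obtain ⟨h1, _, h3⟩ := h
  have key : ∀ i, ∃ t : ℤ, x i ^ 2 = (if i ∈ cls x 2 then 4 else 0) + 16 * t := by
    intro i
    have := h1 i
    by_cases hi : i ∈ cls x 2
    · rw [if_pos hi]
      rw [mem_cls] at hi
      obtain ⟨k, hk⟩ : ∃ k, x i = 4 * k + 2 := ⟨(x i - 2) / 4, by omega⟩
      refine ⟨k ^ 2 + k, by rw [hk]; ring⟩
    · rw [if_neg hi]
      rw [mem_cls] at hi
      obtain ⟨k, hk⟩ : ∃ k, x i = 4 * k := ⟨x i / 4, by omega⟩
      exact ⟨k ^ 2, by rw [hk]; ring⟩
  choose t ht using key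
  refine ⟨∑ i, t i, ?_⟩
  unfold sqNorm
  rw [Finset.sum_congr rfl (fun i _ => ht i), sum_add_distrib, ← mul_sum, sum_ind]

theorem sqNorm_odd {x : GolayPt → ℤ} (h : InL x 1) :
    ∃ t : ℤ, sqNorm x = 2 * (∑ i, x i) - 24 + 4 * (cls x 3).card + 16 * t := by
  obtain ⟨h1, _, h3⟩ := h
  have key : ∀ i, ∃ t : ℤ, x i ^ 2 = 2 * x i + (-1) + (if i ∈ cls x 3 then 4 else 0) + 16 * t := by
    intro i
    have := h1 i
    by_cases hi : i ∈ cls x 3
    · rw [if_pos hi]
      rw [mem_cls] at hi
      obtain ⟨k, hk⟩ : ∃ k, x i = 4 * k - 1 := ⟨(x i + 1) / 4, by omega⟩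
      refine ⟨k ^ 2 - k, by rw [hk]; ring⟩
    · rw [if_neg hi]
      rw [mem_cls] at hi
      obtain ⟨k, hk⟩ : ∃ k, x i = 4 * k + 1 := ⟨(x i - 1) / 4, by omega⟩
      exact ⟨k ^ 2, by rw [hk]; ring⟩
  choose t ht using key
  refine ⟨∑ i, t i, ?_⟩
  unfold sqNorm
  have h24 : ∑ i : GolayPt, (-1 : ℤ) = -24 := by
    rw [Finset.sum_const, Finset.card_univ, card_golayPt]; norm_num
  rw [Finset.sum_congr rfl (fun i _ => ht i), sum_add_distrib, sum_add_distrib, sum_add_distrib, ← mul_sum,
    ← mul_sum, sum_ind, h24]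
  ring

theorem dvd_sqNorm {x : GolayPt → ℤ} (hx : x ∈ leechLattice) : (16 : ℤ) ∣ sqNorm x := by
  rcases mem_leech'.1 hx with h | h
  · obtain ⟨t, ht⟩ := sqNorm_even h
    have h3 : IsWord (cls x 2) := h.2.2
    have := h3.card_mod
    rw [ht]; omega
  · obtain ⟨t, ht⟩ := sqNorm_odd h
    have h3 : IsWord (cls x 3) := h.2.2
    have := h3.card_mod
    have := h.2.1
    rw [ht]; omega

theorem sqNorm_nonneg (x : GolayPt → ℤ) : 0 ≤ sqNorm x := Finset.sum_nonneg (fun _ _ => sq_nonneg _)

/-- lower bound of the norm from a set of coordinates -/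
theorem le_sqNorm {x : GolayPt → ℤ} {a : ℤ} {s : Finset GolayPt} (h : ∀ i ∈ s, a ≤ x i ^ 2) :
    a * s.card ≤ sqNorm x := by
  unfold sqNorm
  calc a * s.card = ∑ i ∈ s, a := by rw [Finset.sum_const, nsmul_eq_mul, mul_comm]
    _ ≤ ∑ i ∈ s, x i ^ 2 := Finset.sum_le_sum h
    _ ≤ ∑ i, x i ^ 2 := Finset.sum_le_sum_of_subset_of_nonneg (Finset.subset_univ _) (fun _ _ _ => sq_nonneg _)

theorem sq_ge_of_ne {a b : ℤ} (hb : 0 < b) (h : b ≤ a ∨ a ≤ -b) : b ^ 2 ≤ a ^ 2 := by
  rcases h with h | h <;> nlinarith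

theorem min_norm {x : GolayPt → ℤ} (hx : x ∈ leechLattice) (h0 : x ≠ 0) : 32 ≤ sqNorm x := by
  have hd := dvd_sqNorm hx
  rcases mem_leech'.1 hx with h | h
  · have h3 : IsWord (cls x 2) := h.2.2
    by_cases hW : cls x 2 = ∅
    · -- all coordinates divisible by 4
      have h4 : ∀ i, x i % 4 = 0 := by
        intro i
        have h5 : i ∉ cls x 2 := by rw [hW]; exact Finset.notMem_empty i
        rw [mem_cls] at h5
        have := h.1 i; omega
      by_contra hlt
      push Not at hlt
      -- exactly one nonzero coordinate ±4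
      obtain ⟨i, hi⟩ : ∃ i, x i ≠ 0 := by
        by_contra hc; push Not at hc; exact h0 (funext hc)
      have hone : ∀ j, j ≠ i → x j = 0 := by
        intro j hj
        by_contra hxj
        have := le_sqNorm (x := x) (a := 16) (s := {i, j}) (by
          intro k hk
          rw [mem_insert, mem_singleton] at hk
          have h5 : (4 : ℤ) ≤ x k ∨ x k ≤ -4 := by
            rcases hk with rfl | rfl
            · have := h4 k; omega
            · have := h4 k; omega
          have := sq_ge_of_ne (by norm_num) h5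
          linarith)
        rw [card_pair (Ne.symm hj)] at this
        push_cast at this; omega
      have hsum : ∑ j, x j = x i := Finset.sum_eq_single i (fun j _ hj => hone j hj) (fun h => absurd (mem_univ i) h)
      have h2 := h.2.1
      rw [hsum] at h2
      have h8 : (8 : ℤ) ≤ x i ∨ x i ≤ -8 := by omega
      have := le_sqNorm (x := x) (a := 64) (s := {i}) (by
          intro k hk
          rw [mem_singleton] at hk
          subst hk
          have := sq_ge_of_ne (by norm_num) h8
          linarith)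
      rw [card_singleton] at this
      push_cast at this; omega
    · have hc := h3.card
      have h8 : 8 ≤ (cls x 2).card := by
        have := Finset.card_pos.2 (Finset.nonempty_iff_ne_empty.2 hW)
        omega
      have := le_sqNorm (x := x) (a := 4) (s := cls x 2) (by
        intro k hk
        rw [mem_cls] at hk
        have h5 : (2 : ℤ) ≤ x k ∨ x k ≤ -2 := by omega
        have := sq_ge_of_ne (by norm_num) h5
        linarith)
      omega
  · have := le_sqNorm (x := x) (a := 1) (s := univ) (by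
        intro k _
        have := h.1 k
        have h5 : (1 : ℤ) ≤ x k ∨ x k ≤ -1 := by omega
        have := sq_ge_of_ne (by norm_num) h5
        linarith)
    rw [card_univ, card_golayPt] at this
    push_cast at this
    omega

/-! ### monomial symmetries -/

theorem cls_comp (σ : Equiv.Perm GolayPt) (x : GolayPt → ℤ) (k : ℤ) :
    cls (fun i => x (σ i)) k = σ⁻¹ • cls x k := by
  ext i
  rw [mem_cls, mem_smul_iff]
  show _ ↔ σ i ∈ cls x k
  rw [mem_cls]

theorem InL.perm {x : GolayPt → ℤ} {m : ℤ} (hx : InL x m) {σ : Equiv.Perm GolayPt} (hσ : σ ∈ M24) :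
    InL (fun i => x (σ i)) m := by
  obtain ⟨h1, h2, h3⟩ := hx
  refine ⟨fun i => h1 _, ?_, ?_⟩
  · rw [Equiv.sum_comp σ x]; exact h2
  · rw [cls_comp]; exact h3.smul (M24.inv_mem hσ)

theorem perm_mem_leech {x : GolayPt → ℤ} (hx : x ∈ leechLattice) {σ : Equiv.Perm GolayPt} (hσ : σ ∈ M24) :
    (fun i => x (σ i)) ∈ leechLattice := by
  obtain ⟨m, h⟩ := mem_leech.1 hx
  exact mem_leech.2 ⟨m, h.perm hσ⟩

/-- sign change on a set -/
def sgn (c : Finset GolayPt) (x : GolayPt → ℤ) : GolayPt → ℤ := fun i => if i ∈ c then -x i else x i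

theorem IsWord.inter_even {s t : Finset GolayPt} (hs : IsWord s) (ht : IsWord t) : ((s ∩ t).card : ℤ) % 2 = 0 := by
  have h1 := card_symmDiff s t
  have h2 := (hs.symmDiff ht).card
  have h3 := hs.card
  have h4 := ht.card
  omega

theorem sum_sgn (c : Finset GolayPt) (x : GolayPt → ℤ) :
    ∑ i, sgn c x i = ∑ i, x i - 2 * ∑ i ∈ c, x i := by
  have h1 : ∑ i ∈ c, x i = ∑ i, if i ∈ c then x i else 0 := by
    rw [Finset.sum_ite_mem, Finset.univ_inter]
  rw [h1, mul_sum, ← sum_sub_distrib]
  apply Finset.sum_congr rfl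
  intro i _
  unfold sgn
  split_ifs <;> ring

theorem sum_on_word {x : GolayPt → ℤ} {m : ℤ} (hx : InL x m) {c : Finset GolayPt} (hc : IsWord c) :
    (∑ i ∈ c, x i) % 4 = 0 := by
  obtain ⟨h1, _, h3⟩ := hx
  have key : ∀ i, ∃ t : ℤ, x i = m + (if i ∈ cls x (m + 2) then 2 else 0) + 4 * t := by
    intro i
    have := h1 i
    by_cases hi : i ∈ cls x (m + 2)
    · rw [if_pos hi]
      rw [mem_cls] at hi
      exact ⟨(x i - m - 2) / 4, by omega⟩
    · rw [if_neg hi]
      rw [mem_cls] at hi
      exact ⟨(x i - m) / 4, by omega⟩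
  choose t ht using key
  have h5 : ∑ i ∈ c, (if i ∈ cls x (m + 2) then (2 : ℤ) else 0) = 2 * (c ∩ cls x (m + 2)).card := by
    rw [Finset.sum_ite_mem, Finset.sum_const, nsmul_eq_mul, mul_comm]
  rw [Finset.sum_congr rfl (fun i _ => ht i), sum_add_distrib, sum_add_distrib, ← mul_sum, h5,
    Finset.sum_const, nsmul_eq_mul]
  have h6 := hc.inter_even h3
  have h7 := hc.card_mod
  obtain ⟨a, ha⟩ : ∃ a, (c.card : ℤ) = 4 * a := ⟨c.card / 4, by omega⟩
  have h8 : (c.card : ℤ) * m = 4 * (a * m) := by rw [ha]; ring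
  rw [h8]
  omega

theorem InL.sgn {x : GolayPt → ℤ} {m : ℤ} (hx : InL x m) {c : Finset GolayPt} (hc : IsWord c) :
    InL (sgn c x) m := by
  have h4 := sum_on_word hx hc
  obtain ⟨h1, h2, h3⟩ := hx
  refine ⟨fun i => ?_, ?_, ?_⟩
  · have := h1 i
    unfold Golay.sgn
    split_ifs <;> omega
  · rw [sum_sgn]; omega
  · by_cases hm : m % 2 = 0
    · have : cls (Golay.sgn c x) (m + 2) = cls x (m + 2) := by
        ext i
        rw [mem_cls, mem_cls]
        have := h1 i
        unfold Golay.sgn
        split_ifs <;> omega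
      rw [this]; exact h3
    · have : cls (Golay.sgn c x) (m + 2) = symmDiff (cls x (m + 2)) c := by
        ext i
        rw [mem_cls, mem_symmDiff, mem_cls]
        have := h1 i
        unfold Golay.sgn
        by_cases hi : i ∈ c
        · simp only [hi, if_true, not_true_eq_false, and_false, true_and, false_or]; omega
        · simp only [hi, if_false, not_false_eq_true, and_true, false_and, or_false]
      rw [this]; exact h3.symmDiff hc

end Cfsg.Agent.Lib.Golay
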