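import Cfsg.Agent.Lib.Golay.LeechTriples

/-!
Decomposition of the vectors of norm 48 of the rank-24 lattice.
-/

set_option autoImplicit false

namespace Cfsg.Agent.Lib.Golay

open scoped Pointwise
open Cfsg Finset

theorem card_word_cases {c : Finset GolayPt} (hc : IsWord c) : c.card = 0 ∨ c.card = 8 ∨ c.card = 12 ∨ c.card = 16 ∨
    c.card = 24 := hc.card

theorem oct_inter_dodec {O D : Finset GolayPt} (hO : O ∈ octads) (hD : D ∈ dodecads) :
    (O ∩ D).card = 2 ∨ (O ∩ D).card = 4 ∨ (O ∩ D).card = 6 := by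
  have h1 := (mem_octads.1 hO)
  have h2 := (mem_dodecads.1 hD)
  have h3 := (h1.1.symmDiff h2.1).card
  have h4 := card_symmDiff O D
  have h5 : (O ∩ D).card ≤ O.card := card_le_card inter_subset_left
  omega

/-- a subset of prescribed trace and even cardinality -/
theorem exists_even_ext {O Z E : Finset GolayPt} (hZ : (O \ Z).Nonempty) (hE : E ⊆ O ∩ Z) :
    ∃ E' ⊆ O, E'.card % 2 = 0 ∧ ∀ k ∈ Z, (k ∈ E' ↔ k ∈ E) := by
  obtain ⟨p, hp⟩ := hZ
  rw [mem_sdiff] at hp
  rcases Nat.mod_two_eq_zero_or_one E.card with h | h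
  · exact ⟨E, hE.trans inter_subset_left, h, fun k _ => Iff.rfl⟩
  · have hpE : p ∉ E := fun h => hp.2 (mem_inter.1 (hE h)).2
    refine ⟨insert p E, insert_subset hp.1 (hE.trans inter_subset_left), ?_, fun k hk => ?_⟩
    · rw [card_insert_of_notMem hpE]; omega
    · rw [mem_insert]
      constructor
      · rintro (rfl | h)
        · exact absurd hk hp.2
        · exact h
      · exact Or.inr

/-- octad vector following the signs of `u` on the points of `Z` -/
theorem mk8s (u : Vec) {O Z : Finset GolayPt} (hO : O ∈ octads) (hZ : (O \ Z).Nonempty)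
    (hu : ∀ k ∈ O, k ∉ Z → u k = 0) :
    ∃ x ∈ leechLattice, sqNorm x = 32 ∧ dotInt x u = ∑ k ∈ O ∩ Z, 2 * |u k| ∧ (∀ k, k ∉ O → x k = 0) ∧
      ∀ k ∈ O ∩ Z, x k = if 0 ≤ u k then 2 else -2 := by
  obtain ⟨E, hEO, hev, hE⟩ := exists_even_ext (E := (O ∩ Z).filter (fun k => u k < 0)) hZ (filter_subset _ _)
  obtain ⟨x, hx, hn, h1, h2, h3⟩ := mk8 hO hEO hev
  have h4 : ∀ k ∈ O ∩ Z, x k = if 0 ≤ u k then 2 else -2 := by
    intro k hk
    have hk' := mem_inter.1 hk
    have h5 := hE k hk'.2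
    rw [mem_filter] at h5
    split_ifs with h6
    · exact h2 k hk'.1 (fun h => absurd (h5.1 h).2 (not_lt.2 h6))
    · exact h1 k (h5.2 ⟨hk, not_le.1 h6⟩)
  refine ⟨x, hx, hn, ?_, h3, h4⟩
  rw [dot_eq_sum_of_zero h3, ← sum_inter_add_sum_sdiff O Z]
  rw [sum_eq_zero (s := O \ Z) (fun k hk => by
    rw [mem_sdiff] at hk
    rw [hu k hk.1 hk.2, mul_zero]), add_zero]
  refine sum_congr rfl (fun k hk => ?_)
  rw [h4 k hk]
  split_ifs with h6
  · rw [abs_of_nonneg h6]
  · rw [abs_of_neg (not_le.1 h6)]; ring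

theorem dec48 {u : Vec} (hu : u ∈ leechLattice) (hn : sqNorm u = 48) :
    ∃ v ∈ leechLattice, sqNorm v = 32 ∧ dotInt v u = 24 := by
  rcases shape48 hu hn with ⟨D, h⟩ | ⟨O, k, h⟩ | ⟨i, j, k, h⟩ | ⟨i, h⟩
  · obtain ⟨A, hAD, hA⟩ := exists_subset_card_eq (s := D) (n := 5) (by
      rw [(mem_dodecads.1 h.1).2]; norm_num)
    obtain ⟨O, hO, hAO⟩ := exists_octad_five hA
    have h6 : (O ∩ D).card = 6 := by
      have := card_le_card (subset_inter hAO hAD)
      have := oct_inter_dodec hO h.1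
      omega
    have hZ : (O \ D).Nonempty := by
      rw [← card_pos]
      have h1 := card_sdiff_add_card_inter O D
      have h2 := (mem_octads.1 hO).2
      omega
    obtain ⟨x, hx, h1, h2, -⟩ := mk8s u hO hZ (fun k _ hk => h.2.2 k hk)
    refine ⟨x, hx, h1, ?_⟩
    rw [h2, sum_congr rfl (fun k hk => by rw [h.2.1 k (mem_inter.1 hk).2]), sum_const, h6]; norm_num
  · obtain ⟨i, hi⟩ : O.Nonempty := by rw [← card_pos, (mem_octads.1 h.1).2]; norm_num
    have hik : k ≠ i := fun e => h.2.1 (e ▸ hi)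
    obtain ⟨x, hx, h1, h2, -⟩ := mk4 u hik
    exact ⟨x, hx, h1, by rw [h2, h.2.2.1, h.2.2.2.1 i hi]; norm_num⟩
  · obtain ⟨x, hx, h1, h2, -⟩ := mk4 u h.1
    exact ⟨x, hx, h1, by rw [h2, h.2.2.2.1, h.2.2.2.2.1]; norm_num⟩
  · obtain ⟨j, hj⟩ : ∃ j : GolayPt, j ≠ i := by
      by_cases h : i = pa
      · exact ⟨pb, by rw [h]; exact pa_ne_pb.symm⟩
      · exact ⟨pa, fun e => h e.symm⟩
    obtain ⟨x, hx, h1, h2, -⟩ := mk4 u hj.symm
    exact ⟨x, hx, h1, by rw [h2, h.1, h.2 j hj]; norm_num⟩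

theorem sub_norm {u v : Vec} (hu : sqNorm u = 48) (hv : sqNorm v = 32) (hd : dotInt v u = 24) :
    sqNorm (u - v) = 32 := by
  rw [sqNorm_sub, dotInt_comm]; omega

/-- a norm 48 vector together with a minimal vector completing it -/
theorem T48 {v u : Vec} (hv : v ∈ leechLattice) (hu : u ∈ leechLattice) (hvn : sqNorm v = 32)
    (hun : sqNorm u = 48) (hd : dotInt v u = 24) : Eqv [v, u] [v0, v0 + r8 O10] := by
  have h1 : dotInt v (u - v) = -8 := by rw [dotInt_sub_right, hd, dotInt_self, hvn]; norm_num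
  obtain ⟨g, hg⟩ := T8 hv (sub_mem hu hv) hvn (sub_norm hun hvn hd) h1
  simp only [List.map_cons, List.map_nil, List.cons.injEq, and_true] at hg
  refine ⟨g, ?_⟩
  simp only [List.map_cons, List.map_nil, List.cons.injEq, and_true]
  refine ⟨hg.1, ?_⟩
  have h2 : u = v + (u - v) := by abel
  rw [h2, app_add g hv (sub_mem hu hv), hg.1, hg.2]

theorem dot_of_norm {u v : Vec} (hu : sqNorm u = 48) (hv : sqNorm v = 32) (hd : sqNorm (u - v) = 32) :
    dotInt v u = 24 := by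
  rw [sqNorm_sub, dotInt_comm] at hd; omega

end Cfsg.Agent.Lib.Golay
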