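import Cfsg.Agent.Lib.Golay.LeechHS

/-!
Vectors of norm 64 of the rank-24 lattice.
-/

set_option autoImplicit false

namespace Cfsg.Agent.Lib.Golay

open scoped Pointwise
open Cfsg Finset

def dTab : List ℕ := [0x10132b, 0x149f, 0x202656, 0x22387, 0x293e, 0x400a4f, 0x527c, 0x80254b, 0x803da, 0x9959]

theorem dTab_ok : dTab.all (fun m => inCode m && (pc m == 8) && (pc (m &&& dodU) == 6) && Nat.blt m (2 ^ 24)) = true := by
  decide +kernel
theorem dTab_cov : ∀ k < 24, dodU.testBit k = false → ∃ m ∈ dTab, m.testBit k = true := by decide +kernel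

theorem exists_oct6 {D : Finset GolayPt} (hD : D ∈ dodecads) {k : GolayPt} (hk : k ∉ D) :
    ∃ O ∈ octads, k ∈ O ∧ (O ∩ D).card = 6 := by
  obtain ⟨g, hg, e⟩ := dodecads_transitive dodU_mem hD
  have h1 : dodU.testBit (ix (g.symm k)) = false := by
    rw [← notMem_st, ← mem_smul_iff, e]; exact hk
  obtain ⟨m, hm, hmk⟩ := dTab_cov _ (ix_lt _) h1
  have h2 := List.all_eq_true.1 dTab_ok m hm
  simp only [Bool.and_eq_true, beq_iff_eq, Nat.blt_eq] at h2
  obtain ⟨⟨⟨h3, h4⟩, h5⟩, h6⟩ := h2
  refine ⟨g • st m, smul_mem_octads hg ((st_mem_octads h6).2 ⟨h3, h4⟩), ?_, ?_⟩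
  · rw [mem_smul_iff, mem_st]; exact hmk
  · rw [← e, ← smul_inter', Finset.card_smul_finset, ← st_and, card_st]; exact h5

/-- two octads outside a given one meeting in four points -/
theorem exists_two_out {O : Finset GolayPt} (hO : O ∈ octads) : ∃ O1 ∈ octads, ∃ O2 ∈ octads,
    O1 ∩ O = ∅ ∧ O2 ∩ O = ∅ ∧ (O1 ∩ O2).card = 4 := by
  obtain ⟨g, hg, e⟩ := octads_transitive oct0_mem hO
  refine ⟨g • st 0x527c0, smul_mem_octads hg ((st_mem_octads (by norm_num)).2 (by decide +kernel)), g • st 0x99590,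
    smul_mem_octads hg ((st_mem_octads (by norm_num)).2 (by decide +kernel)), ?_, ?_, ?_⟩
  · rw [← e, ← smul_inter', ← card_eq_zero, Finset.card_smul_finset]; decide +kernel
  · rw [← e, ← smul_inter', ← card_eq_zero, Finset.card_smul_finset]; decide +kernel
  · rw [← smul_inter', Finset.card_smul_finset]; decide +kernel

/-- octad vector following the signs of `u` except possibly at one point -/
theorem mk8p (u : Vec) {O : Finset GolayPt} (hO : O ∈ octads) {p : GolayPt} (hp : p ∈ O) :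
    ∃ x ∈ leechLattice, sqNorm x = 32 ∧ (∀ k ∈ O.erase p, x k * u k = 2 * |u k|) ∧ (x p = 2 ∨ x p = -2) ∧
      (∀ k, k ∉ O → x k = 0) ∧ dotInt x u = ∑ k ∈ O.erase p, 2 * |u k| + x p * u p := by
  obtain ⟨E, hEO, hev, hE⟩ := exists_even_ext (O := O) (Z := O.erase p) (E := (O.erase p).filter (fun k => u k < 0))
    ⟨p, by simp [hp]⟩ (by
      intro k hk
      rw [mem_filter, mem_erase] at hk
      rw [mem_inter, mem_erase]; exact ⟨hk.1.2, hk.1⟩)
  obtain ⟨x, hx, hn, h1, h2, h3⟩ := mk8 hO hEO hev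
  have h4 : ∀ k ∈ O.erase p, x k * u k = 2 * |u k| := by
    intro k hk
    have hk' := mem_erase.1 hk
    have h5 := hE k hk
    rw [mem_filter] at h5
    by_cases h6 : u k < 0
    · rw [h1 k (h5.2 ⟨hk, h6⟩), abs_of_neg h6]; ring
    · rw [h2 k hk'.2 (fun hh => h6 (h5.1 hh).2), abs_of_nonneg (not_lt.1 h6)]
  refine ⟨x, hx, hn, h4, ?_, h3, ?_⟩
  · by_cases hpE : p ∈ E
    · exact Or.inr (h1 p hpE)
    · exact Or.inl (h2 p hp hpE)
  · rw [dot_eq_sum_of_zero h3, ← sum_erase_add _ _ hp, sum_congr rfl h4]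

theorem dot_le64 {x u : Vec} (hx : x ∈ leechLattice) (hu : u ∈ leechLattice) (hxn : sqNorm x = 32)
    (hun : sqNorm u = 64) : dotInt x u ≤ 32 := by
  have h := dot_le' hx hu (by rintro rfl; omega)
  omega

theorem fin4 {u : Vec} (hu : u ∈ leechLattice) (hn : sqNorm u = 64) {i j : GolayPt} (hij : i ≠ j)
    (h : 8 ≤ |u i| + |u j|) : ∃ v ∈ leechLattice, sqNorm v = 32 ∧ dotInt v u = 32 := by
  obtain ⟨x, hx, h1, h2, -⟩ := mk4 u hij
  have h3 := dot_le64 hx hu h1 hn
  exact ⟨x, hx, h1, by omega⟩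

theorem cnt_pos {x : Vec} {a : ℤ} (h : 0 < cnt x a) : ∃ i, |x i| = a := by
  unfold cnt at h
  have h1 : 0 < (univ.filter (fun i => |x i| = a)).card := by omega
  obtain ⟨i, hi⟩ := card_pos.1 h1
  exact ⟨i, by simpa using hi⟩

theorem cnt_ge_two {x : Vec} {a : ℤ} (h : 2 ≤ cnt x a) : ∃ i j, i ≠ j ∧ |x i| = a ∧ |x j| = a := by
  unfold cnt at h
  have h1 : 1 < (univ.filter (fun i => |x i| = a)).card := by omega
  obtain ⟨i, hi, j, hj, hij⟩ := one_lt_card.1 h1
  exact ⟨i, j, hij, by simpa using hi, by simpa using hj⟩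

theorem dec64 {u : Vec} (hu : u ∈ leechLattice) (hn : sqNorm u = 64) :
    ∃ v ∈ leechLattice, sqNorm v = 32 ∧ dotInt v u = 32 := by
  rcases mem_leech'.1 hu with h | h
  · obtain ⟨e1, e2, e3⟩ := even_cnt h (by omega)
    have hw : IsWord (cls u 2) := h.2.2
    have hc := hw.card
    have n0 := cnt_nonneg u 0
    have n2 := cnt_nonneg u 2
    have n4 := cnt_nonneg u 4
    have n6 := cnt_nonneg u 6
    have n8 := cnt_nonneg u 8
    have hv := even_values h (by omega : sqNorm u ≤ 64)
    have hm := mem_cls2_iff h (by omega : sqNorm u ≤ 64)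
    rcases (by omega : 0 < cnt u 8 ∨ 2 ≤ cnt u 4 ∨ (0 < cnt u 6 ∧ 0 < cnt u 2) ∨
      (cnt u 8 = 0 ∧ cnt u 6 = 0 ∧ cnt u 4 = 0 ∧ (cls u 2).card = 16) ∨
      (cnt u 8 = 0 ∧ cnt u 6 = 0 ∧ cnt u 4 = 1 ∧ (cls u 2).card = 12)) with h8 | h4 | ⟨h6, h2⟩ | ⟨h8, h6, h4, h16⟩ |
        ⟨h8, h6, h4, h12⟩
    · obtain ⟨i, hi⟩ := cnt_pos h8
      obtain ⟨j, hj⟩ : ∃ j : GolayPt, j ≠ i := by
        by_cases h : i = pa
        · exact ⟨pb, by rw [h]; exact pa_ne_pb.symm⟩
        · exact ⟨pa, fun e => h e.symm⟩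
      exact fin4 hu hn hj.symm (by rw [hi]; have := abs_nonneg (u j); omega)
    · obtain ⟨i, j, hij, hi, hj⟩ := cnt_ge_two h4
      exact fin4 hu hn hij (by omega)
    · obtain ⟨i, hi⟩ := cnt_pos h6
      obtain ⟨j, hj⟩ := cnt_pos h2
      exact fin4 hu hn (by rintro rfl; omega) (by omega : 8 ≤ |u i| + |u j|)
    · -- sixteen coordinates 2
      rw [cnt_zero_iff] at h8 h6 h4
      have hO : (cls u 2)ᶜ ∈ octads := mem_octads.2 ⟨hw.compl, by rw [card_compl, h16, card_golayPt]⟩
      obtain ⟨O1, hO1, O2, hO2, i1, i2, i12⟩ := exists_two_out hO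
      have hsub : ∀ {O : Finset GolayPt}, O ∩ (cls u 2)ᶜ = ∅ → ∀ k ∈ O, k ∈ cls u 2 := by
        intro O hO k hk
        by_contra hc
        have : k ∈ O ∩ (cls u 2)ᶜ := mem_inter.2 ⟨hk, mem_compl.2 hc⟩
        rw [hO] at this; exact absurd this (notMem_empty k)
      have hval : ∀ k ∈ cls u 2, u k = 2 ∨ u k = -2 := by
        intro k hk
        rw [hm] at hk
        have := h6 k
        exact abs_cases (by tauto)
      -- minus parities
      let M : Finset GolayPt := univ.filter (fun k => u k < 0)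
      have fin : ∀ O ∈ octads, (∀ k ∈ O, k ∈ cls u 2) → (O ∩ M).card % 2 = 0 →
          ∃ v ∈ leechLattice, sqNorm v = 32 ∧ dotInt v u = 32 := by
        intro O hO hOs hev
        obtain ⟨x, hx, hn, h1, h2, h3⟩ := mk8 hO (E := O ∩ M) inter_subset_left hev
        refine ⟨x, hx, hn, ?_⟩
        rw [dot_eq_sum_of_zero h3, sum_congr rfl (fun k hk => ?_), sum_const, (mem_octads.1 hO).2]
        · show 8 • (4 : ℤ) = 32
          norm_num
        · show x k * u k = 4
          by_cases hkM : k ∈ M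
          · have h4 : u k < 0 := by simpa [M] using hkM
            have := hval k (hOs k hk)
            rw [h1 k (mem_inter.2 ⟨hk, hkM⟩), show u k = -2 by omega]; norm_num
          · have h4 : ¬ u k < 0 := by simpa [M] using hkM
            have := hval k (hOs k hk)
            rw [h2 k hk (fun h => hkM (mem_inter.1 h).2), show u k = 2 by omega]; norm_num
      by_cases p1 : (O1 ∩ M).card % 2 = 0
      · exact fin O1 hO1 (hsub i1) p1
      · by_cases p2 : (O2 ∩ M).card % 2 = 0
        · exact fin O2 hO2 (hsub i2) p2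
        · have w1 := mem_octads.1 hO1
          have w2 := mem_octads.1 hO2
          have c1 := card_symmDiff O1 O2
          have hO3 : symmDiff O1 O2 ∈ octads := mem_octads.2 ⟨w1.1.symmDiff w2.1, by omega⟩
          have c2 := card_symmDiff (O1 ∩ M) (O2 ∩ M)
          rw [← symmDiff_inter] at c2
          refine fin _ hO3 ?_ (by omega)
          intro k hk
          rw [mem_symmDiff] at hk
          rcases hk with ⟨hk, -⟩ | ⟨hk, -⟩
          · exact hsub i1 k hk
          · exact hsub i2 k hk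
    · -- one coordinate 4 and a dodecad
      obtain ⟨k, hk, hk'⟩ := cnt_one h4
      rw [cnt_zero_iff] at h8 h6
      have hD : cls u 2 ∈ dodecads := mem_dodecads.2 ⟨hw, h12⟩
      have hkD : k ∉ cls u 2 := by rw [hm]; omega
      obtain ⟨O, hO, hkO, h6'⟩ := exists_oct6 hD hkD
      obtain ⟨q, hq⟩ : ((O \ cls u 2).erase k).Nonempty := by
        rw [← card_pos]
        have h1 := card_erase_ge (O := O \ cls u 2) (a := k)
        have h2 := card_sdiff_add_card_inter O (cls u 2)
        have h3 := (mem_octads.1 hO).2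
        omega
      rw [mem_erase, mem_sdiff] at hq
      have huq : u q = 0 := by
        have h1 := hv q
        have h2 := h8 q
        have h3 := h6 q
        have h4 := hk' q hq.1
        have h5 := mt (hm q).2 hq.2.2
        exact abs_eq_zero.1 (by tauto)
      obtain ⟨x, hx, h1, h2, h3, h4, h5⟩ := mk8p u hO hq.2.1
      have h6 := dot_le64 hx hu h1 hn
      rw [huq, mul_zero, add_zero] at h5
      refine ⟨x, hx, h1, le_antisymm h6 ?_⟩
      rw [h5]
      have hsubset : insert k (O ∩ cls u 2) ⊆ O.erase q := by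
        intro l hl
        rw [mem_insert, mem_inter] at hl
        rw [mem_erase]
        rcases hl with rfl | hl
        · exact ⟨hq.1.symm, hkO⟩
        · exact ⟨fun e => hq.2.2 (e ▸ hl.2), hl.1⟩
      have h7 : ∑ l ∈ insert k (O ∩ cls u 2), 2 * |u l| ≤ ∑ l ∈ O.erase q, 2 * |u l| :=
        sum_le_sum_of_subset_of_nonneg hsubset (fun l _ _ => by positivity)
      refine le_trans (le_of_eq ?_) h7
      rw [sum_insert (fun h => hkD (mem_inter.1 h).2), hk, sum_congr rfl (fun l hl => ?_), sum_const, h6']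
      · show (32 : ℤ) = 2 * 4 + 6 • 4
        norm_num
      · show 2 * |u l| = 4
        have h8 := (hm l).1 (mem_inter.1 hl).2
        have h9 : |u l| ≠ 6 := by
          have := cnt_zero_iff.1 (by omega : cnt u 6 = 0)
          exact this l
        omega
  · obtain ⟨e1, e2⟩ := odd_cnt h (by omega)
    have n1 := cnt_nonneg u 1
    have n3 := cnt_nonneg u 3
    have n5 := cnt_nonneg u 5
    have n7 := cnt_nonneg u 7
    rcases (by omega : (0 < cnt u 5 ∧ 0 < cnt u 3) ∨ cnt u 3 = 5) with ⟨h5, h3⟩ | h3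
    · obtain ⟨i, hi⟩ := cnt_pos h5
      obtain ⟨j, hj⟩ := cnt_pos h3
      exact fin4 hu hn (by rintro rfl; omega) (by omega : 8 ≤ |u i| + |u j|)
    · have hA : (univ.filter (fun i => |u i| = 3)).card = 5 := by
        unfold cnt at h3; omega
      obtain ⟨O, hO, hAO⟩ := exists_octad_five hA
      obtain ⟨p, hp⟩ : (O \ univ.filter (fun i => |u i| = 3)).Nonempty := by
        rw [← card_pos]
        have h1 := card_sdiff_add_card_inter O (univ.filter (fun i => |u i| = 3))
        have h2 := (mem_octads.1 hO).2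
        rw [inter_eq_right.2 hAO] at h1
        omega
      rw [mem_sdiff] at hp
      obtain ⟨x, hx, h1, h2, h3', h4, h5⟩ := mk8p u hO hp.1
      have h6 := dot_le64 hx hu h1 hn
      refine ⟨x, hx, h1, le_antisymm h6 ?_⟩
      have hv := odd_values h (by omega : sqNorm u ≤ 64)
      have hge : ∀ k, 1 ≤ |u k| := fun k => by have := hv k; omega
      have h7 : ∑ k ∈ O.erase p, 2 * |u k| = ∑ k ∈ univ.filter (fun i => |u i| = 3), 2 * |u k| +
          ∑ k ∈ (O.erase p) \ univ.filter (fun i => |u i| = 3), 2 * |u k| := by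
        rw [add_comm, sum_sdiff]
        intro k hk
        rw [mem_erase]
        exact ⟨fun e => hp.2 (e ▸ hk), hAO hk⟩
      have h8 : ∑ k ∈ univ.filter (fun i => |u i| = 3), 2 * |u k| = 30 := by
        rw [sum_congr rfl (fun k hk => by rw [(mem_filter.1 hk).2]), sum_const, hA]; norm_num
      have h9 : (4 : ℤ) ≤ ∑ k ∈ (O.erase p) \ univ.filter (fun i => |u i| = 3), 2 * |u k| := by
        have hc : ((O.erase p) \ univ.filter (fun i => |u i| = 3)).card = 2 := by
          rw [card_sdiff_of_subset, card_erase_of_mem hp.1, (mem_octads.1 hO).2, hA]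
          intro k hk
          rw [mem_erase]
          exact ⟨fun e => hp.2 (e ▸ hk), hAO hk⟩
        have : ∑ _k ∈ (O.erase p) \ univ.filter (fun i => |u i| = 3), (2 : ℤ) ≤
            ∑ k ∈ (O.erase p) \ univ.filter (fun i => |u i| = 3), 2 * |u k| :=
          sum_le_sum (fun k _ => by have := hge k; omega)
        rw [sum_const, hc] at this
        norm_num at this ⊢
        exact this
      have h10 : -2 ≤ x p * u p := by
        have h11 : |u p| ≠ 3 := by simpa using hp.2
        have h12 := hv p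
        have c5 : cnt u 5 = 0 := by omega
        have c7 : cnt u 7 = 0 := by omega
        have := cnt_zero_iff.1 c5 p
        have := cnt_zero_iff.1 c7 p
        have h13 : u p = 1 ∨ u p = -1 := abs_cases (by tauto)
        rcases h3' with e | e <;> rcases h13 with e' | e' <;> rw [e, e'] <;> norm_num
      rw [h5, h7, h8]
      linarith

/-- the standard vector of norm 64 -/
def t0 : Vec := sg pa 8

theorem t0_eq : t0 = v0 + x0 := by
  unfold t0 v0 x0
  ext k
  unfold sg
  simp only [Pi.add_apply]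
  split_ifs <;> norm_num

theorem T64 {u : Vec} (hu : u ∈ leechLattice) (hn : sqNorm u = 64) : ∃ g : Co0, app g u = t0 := by
  obtain ⟨v, hv, h1, h2⟩ := dec64 hu hn
  have hm := sub_mem hu hv
  obtain ⟨g, g1, g2⟩ := frame hv hm h1 (by rw [sqNorm_sub, dotInt_comm]; omega)
    (by rw [dotInt_sub_right, h2, dotInt_self]; omega)
  refine ⟨g, ?_⟩
  rw [t0_eq, ← g1, ← g2, ← app_add g hv hm]
  congr 1; abel

end Cfsg.Agent.Lib.Golay
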