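import Cfsg.Agent.Lib.Golay.Leech
import Cfsg.Prelude.Def_SporadicCombinatorics

/-!
Automorphisms of the rank-24 lattice: action on integer vectors, the monomial automorphisms.
-/

set_option autoImplicit false

namespace Cfsg.Agent.Lib.Golay

open scoped Pointwise
open Cfsg Finset

abbrev Vec := GolayPt → ℤ

/-! ### inner products -/

theorem dotInt_comm (x y : Vec) : dotInt x y = dotInt y x := by
  unfold dotInt; exact sum_congr rfl (fun i _ => mul_comm _ _)

theorem dotInt_add_left (x y z : Vec) : dotInt (x + y) z = dotInt x z + dotInt y z := by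
  unfold dotInt; rw [← sum_add_distrib]; exact sum_congr rfl (fun i _ => by rw [Pi.add_apply]; ring)

theorem dotInt_add_right (x y z : Vec) : dotInt z (x + y) = dotInt z x + dotInt z y := by
  rw [dotInt_comm, dotInt_add_left, dotInt_comm x, dotInt_comm y]

theorem dotInt_neg_left (x z : Vec) : dotInt (-x) z = -dotInt x z := by
  unfold dotInt; rw [← sum_neg_distrib]; exact sum_congr rfl (fun i _ => by rw [Pi.neg_apply]; ring)

theorem dotInt_neg_right (x z : Vec) : dotInt z (-x) = -dotInt z x := by
  rw [dotInt_comm, dotInt_neg_left, dotInt_comm x]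

theorem dotInt_sub_left (x y z : Vec) : dotInt (x - y) z = dotInt x z - dotInt y z := by
  rw [sub_eq_add_neg, dotInt_add_left, dotInt_neg_left]; ring

theorem dotInt_sub_right (x y z : Vec) : dotInt z (x - y) = dotInt z x - dotInt z y := by
  rw [sub_eq_add_neg, dotInt_add_right, dotInt_neg_right]; ring

theorem dotInt_smul_left (n : ℤ) (x z : Vec) : dotInt (n • x) z = n * dotInt x z := by
  unfold dotInt; rw [mul_sum]
  exact sum_congr rfl (fun i _ => by rw [Pi.smul_apply, smul_eq_mul]; ring)

theorem dotInt_smul_right (n : ℤ) (x z : Vec) : dotInt z (n • x) = n * dotInt z x := by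
  rw [dotInt_comm, dotInt_smul_left, dotInt_comm x]

theorem dotInt_self (x : Vec) : dotInt x x = sqNorm x := by
  unfold dotInt sqNorm; exact sum_congr rfl (fun i _ => by ring)

theorem dotInt_zero_left (z : Vec) : dotInt 0 z = 0 := by
  unfold dotInt; exact sum_eq_zero (fun i _ => by rw [Pi.zero_apply, zero_mul])

theorem dotInt_zero_right (z : Vec) : dotInt z 0 = 0 := by rw [dotInt_comm, dotInt_zero_left]

theorem sqNorm_add (x y : Vec) : sqNorm (x + y) = sqNorm x + sqNorm y + 2 * dotInt x y := by
  rw [← dotInt_self, ← dotInt_self, ← dotInt_self, dotInt_add_left, dotInt_add_right, dotInt_add_right,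
    dotInt_comm y x]; ring

theorem sqNorm_sub (x y : Vec) : sqNorm (x - y) = sqNorm x + sqNorm y - 2 * dotInt x y := by
  rw [← dotInt_self, ← dotInt_self, ← dotInt_self, dotInt_sub_left, dotInt_sub_right, dotInt_sub_right,
    dotInt_comm y x]; ring

theorem sqNorm_neg (x : Vec) : sqNorm (-x) = sqNorm x := by
  rw [← dotInt_self, dotInt_neg_left, dotInt_neg_right, neg_neg, dotInt_self]

theorem sqNorm_eq_zero {x : Vec} (h : sqNorm x = 0) : x = 0 := by
  unfold sqNorm at h
  rw [sum_eq_zero_iff_of_nonneg (fun _ _ => sq_nonneg _)] at h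
  ext i
  have := h i (mem_univ i)
  exact pow_eq_zero_iff (two_ne_zero) |>.1 this

/-! ### the action on vectors -/

/-- the action of a lattice automorphism on integer vectors (identity off the lattice) -/
noncomputable def app (g : Co0) (x : Vec) : Vec := by
  classical exact if h : x ∈ leechLattice then ((g • (⟨x, h⟩ : leechLattice) : leechLattice) : Vec) else x

theorem app_coe (g : Co0) (v : leechLattice) : app g (v : Vec) = ((g • v : leechLattice) : Vec) := by
  unfold app
  rw [dif_pos v.2]

theorem app_of_mem (g : Co0) {x : Vec} (h : x ∈ leechLattice) :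
    app g x = ((g • (⟨x, h⟩ : leechLattice) : leechLattice) : Vec) := by
  unfold app
  rw [dif_pos h]

theorem app_mem (g : Co0) {x : Vec} (h : x ∈ leechLattice) : app g x ∈ leechLattice := by
  rw [app_of_mem g h]; exact Subtype.property _

theorem app_one (x : Vec) : app 1 x = x := by
  unfold app
  split_ifs
  · rw [one_smul]
  · rfl

theorem app_mul (g h : Co0) (x : Vec) : app (g * h) x = app g (app h x) := by
  by_cases hx : x ∈ leechLattice
  · have h1 := app_mem h hx
    rw [app_of_mem (g * h) hx, app_of_mem g h1, mul_smul]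
    congr 2
    apply Subtype.ext
    exact (app_of_mem h hx).symm
  · unfold app
    rw [dif_neg hx, dif_neg hx, dif_neg hx]

theorem app_inv_app (g : Co0) (x : Vec) : app g⁻¹ (app g x) = x := by
  rw [← app_mul, inv_mul_cancel, app_one]

theorem app_app_inv (g : Co0) (x : Vec) : app g (app g⁻¹ x) = x := by
  rw [← app_mul, mul_inv_cancel, app_one]

theorem app_eq_iff {g : Co0} {x y : Vec} : app g x = y ↔ app g⁻¹ y = x := by
  constructor
  · rintro rfl; exact app_inv_app g x
  · rintro rfl; exact app_app_inv g y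

theorem app_injective (g : Co0) : Function.Injective (app g) := by
  intro x y h
  rw [← app_inv_app g x, h, app_inv_app]

theorem app_mem_iff {g : Co0} {x : Vec} : app g x ∈ leechLattice ↔ x ∈ leechLattice := by
  refine ⟨fun h => ?_, app_mem g⟩
  rw [← app_inv_app g x]; exact app_mem _ h

theorem app_add (g : Co0) {x y : Vec} (hx : x ∈ leechLattice) (hy : y ∈ leechLattice) :
    app g (x + y) = app g x + app g y := by
  rw [app_of_mem g hx, app_of_mem g hy, app_of_mem g (add_mem hx hy)]
  have := g.2.1 ⟨x, hx⟩ ⟨y, hy⟩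
  exact congrArg Subtype.val this

theorem app_norm (g : Co0) {x : Vec} (hx : x ∈ leechLattice) : sqNorm (app g x) = sqNorm x := by
  rw [app_of_mem g hx]
  exact g.2.2 ⟨x, hx⟩

theorem app_zero (g : Co0) : app g 0 = 0 := by
  have h := app_add g (zero_mem leechLattice) (zero_mem leechLattice)
  rw [add_zero] at h
  exact left_eq_add.1 h

theorem app_neg (g : Co0) {x : Vec} (hx : x ∈ leechLattice) : app g (-x) = -app g x := by
  have h := app_add g hx (neg_mem hx)
  rw [add_neg_cancel, app_zero] at h
  exact eq_neg_of_add_eq_zero_right h.symm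

theorem app_sub (g : Co0) {x y : Vec} (hx : x ∈ leechLattice) (hy : y ∈ leechLattice) :
    app g (x - y) = app g x - app g y := by
  rw [sub_eq_add_neg, app_add g hx (neg_mem hy), app_neg g hy, sub_eq_add_neg]

theorem app_nsmul (g : Co0) {x : Vec} (hx : x ∈ leechLattice) (n : ℕ) : app g (n • x) = n • app g x := by
  induction n with
  | zero => rw [zero_smul, zero_smul, app_zero]
  | succ n ih => rw [succ_nsmul, succ_nsmul, app_add g (nsmul_mem hx n) hx, ih]

theorem app_zsmul (g : Co0) {x : Vec} (hx : x ∈ leechLattice) (n : ℤ) : app g (n • x) = n • app g x := by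
  rcases Int.eq_nat_or_neg n with ⟨k, rfl | rfl⟩
  · rw [natCast_zsmul, natCast_zsmul, app_nsmul g hx]
  · rw [neg_smul, neg_smul, natCast_zsmul, natCast_zsmul, app_neg g (nsmul_mem hx k), app_nsmul g hx]

theorem app_dot (g : Co0) {x y : Vec} (hx : x ∈ leechLattice) (hy : y ∈ leechLattice) :
    dotInt (app g x) (app g y) = dotInt x y := by
  have h1 := app_norm g (add_mem hx hy)
  rw [app_add g hx hy, sqNorm_add, sqNorm_add, app_norm g hx, app_norm g hy] at h1
  omega

theorem ext_app {g h : Co0} (H : ∀ x ∈ leechLattice, app g x = app h x) : g = h := by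
  apply Subtype.ext
  apply Equiv.ext
  intro v
  have := H v v.2
  rw [app_coe, app_coe] at this
  exact Subtype.ext this

theorem smul_eq_iff_app {g : Co0} {v w : leechLattice} : g • v = w ↔ app g (v : Vec) = (w : Vec) := by
  rw [app_coe]
  exact Subtype.ext_iff

/-! ### construction of automorphisms -/

/-- maps of integer vectors inducing an automorphism of the lattice -/
structure IsAut (f : Vec → Vec) : Prop where
  mem : ∀ x ∈ leechLattice, f x ∈ leechLattice
  add : ∀ x ∈ leechLattice, ∀ y ∈ leechLattice, f (x + y) = f x + f y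
  norm : ∀ x ∈ leechLattice, sqNorm (f x) = sqNorm x
  surj : ∀ y ∈ leechLattice, ∃ x ∈ leechLattice, f x = y

theorem IsAut.exists {f : Vec → Vec} (hf : IsAut f) : ∃ g : Co0, ∀ x ∈ leechLattice, app g x = f x := by
  have h0 : f 0 = 0 := by
    have h := hf.add 0 (zero_mem _) 0 (zero_mem _)
    rw [add_zero] at h
    exact left_eq_add.1 h
  have hinj : ∀ x ∈ leechLattice, ∀ y ∈ leechLattice, f x = f y → x = y := by
    intro x hx y hy h
    have h1 := hf.add _ (sub_mem hx hy) y hy
    rw [sub_add_cancel, h] at h1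
    have h2 : f (x - y) = 0 := right_eq_add.1 h1
    have h3 := hf.norm _ (sub_mem hx hy)
    rw [h2] at h3
    have h4 : x - y = 0 := sqNorm_eq_zero (by rw [← h3]; simp [sqNorm])
    exact sub_eq_zero.1 h4
  let e : leechLattice → leechLattice := fun v => ⟨f v, hf.mem v v.2⟩
  have he : Function.Bijective e := by
    constructor
    · intro v w h
      exact Subtype.ext (hinj v v.2 w w.2 (congrArg Subtype.val h))
    · intro w
      obtain ⟨x, hx, h⟩ := hf.surj w w.2
      exact ⟨⟨x, hx⟩, Subtype.ext h⟩
  refine ⟨⟨Equiv.ofBijective e he, ?_, ?_⟩, ?_⟩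
  · intro v w
    apply Subtype.ext
    exact hf.add v v.2 w w.2
  · intro v
    exact hf.norm v v.2
  · intro x hx
    rw [app_of_mem _ hx]
    rfl

/-- an involutive map inducing an automorphism -/
theorem isAut_of_invol {f : Vec → Vec} (h1 : ∀ x ∈ leechLattice, f x ∈ leechLattice)
    (h2 : ∀ x ∈ leechLattice, ∀ y ∈ leechLattice, f (x + y) = f x + f y)
    (h3 : ∀ x ∈ leechLattice, sqNorm (f x) = sqNorm x)
    (h4 : ∀ x ∈ leechLattice, f (f x) = x) : IsAut f :=
  ⟨h1, h2, h3, fun y hy => ⟨f y, h1 y hy, h4 y hy⟩⟩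

theorem sgn_mem {x : Vec} (hx : x ∈ leechLattice) {c : Finset GolayPt} (hc : IsWord c) : sgn c x ∈ leechLattice := by
  obtain ⟨m, h⟩ := mem_leech.1 hx
  exact mem_leech.2 ⟨m, h.sgn hc⟩

theorem sgn_sgn (c : Finset GolayPt) (x : Vec) : sgn c (sgn c x) = x := by
  ext i
  unfold sgn
  split_ifs <;> simp

theorem sqNorm_sgn (c : Finset GolayPt) (x : Vec) : sqNorm (sgn c x) = sqNorm x := by
  unfold sqNorm sgn
  refine sum_congr rfl (fun i _ => ?_)
  split_ifs <;> ring

theorem isAut_sgn {c : Finset GolayPt} (hc : IsWord c) : IsAut (sgn c) := by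
  refine isAut_of_invol (fun x hx => sgn_mem hx hc) ?_ (fun x _ => sqNorm_sgn c x) (fun x _ => sgn_sgn c x)
  intro x _ y _
  ext i
  unfold sgn
  simp only [Pi.add_apply]
  split_ifs <;> ring

/-- coordinate permutation -/
def prm (σ : Equiv.Perm GolayPt) (x : Vec) : Vec := fun i => x (σ⁻¹ i)

theorem prm_apply (σ : Equiv.Perm GolayPt) (x : Vec) (i : GolayPt) : prm σ x (σ i) = x i := by
  show x (σ.symm (σ i)) = x i
  rw [Equiv.symm_apply_apply]

theorem isAut_prm {σ : Equiv.Perm GolayPt} (hσ : σ ∈ M24) : IsAut (prm σ) := by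
  refine ⟨fun x hx => perm_mem_leech hx (M24.inv_mem hσ), fun x _ y _ => rfl, fun x _ => ?_, fun y hy => ?_⟩
  · unfold sqNorm prm
    exact Equiv.sum_comp σ⁻¹ (fun i => x i ^ 2)
  · refine ⟨prm σ⁻¹ y, perm_mem_leech hy (by rw [inv_inv]; exact hσ), ?_⟩
    ext i
    show y (σ⁻¹⁻¹ (σ.symm i)) = y i
    rw [inv_inv, Equiv.apply_symm_apply]

/-- the sign change automorphisms -/
theorem exists_sgn {c : Finset GolayPt} (hc : IsWord c) : ∃ g : Co0, ∀ x ∈ leechLattice, app g x = sgn c x :=
  (isAut_sgn hc).exists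

/-- the permutation automorphisms -/
theorem exists_prm {σ : Equiv.Perm GolayPt} (hσ : σ ∈ M24) : ∃ g : Co0, ∀ x ∈ leechLattice, app g x = prm σ x :=
  (isAut_prm hσ).exists

/-- negation -/
theorem exists_neg : ∃ g : Co0, ∀ x ∈ leechLattice, app g x = -x := by
  obtain ⟨g, hg⟩ := exists_sgn isWord_univ
  refine ⟨g, fun x hx => ?_⟩
  rw [hg x hx]
  ext i
  simp [sgn]

end Cfsg.Agent.Lib.Golay
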