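import Cfsg.Agent.Lib.Golay.LeechP23
import Cfsg.Prelude.Def_Spor_Conway

/-!
The quotient by the centre: centralisers of elements of order 23, normal 2-subgroups of stabilisers.
-/

set_option autoImplicit false
set_option linter.style.haveILetI false

namespace Cfsg.Agent.Lib.Golay

open scoped Pointwise
open Cfsg Finset

theorem negEl_sq : negEl * negEl = (1 : Co0) := by
  apply ext_app
  intro x hx
  rw [app_mul, negEl_app hx, app_zsmul _ hx, negEl_app hx, app_one, neg_smul, one_smul, neg_smul, one_smul, neg_neg]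

theorem negEl_comm (g : Co0) : negEl * g = g * negEl := ((Subgroup.mem_center_iff.1 negEl_central) g).symm

theorem negEl_app' {x : Vec} (hx : x ∈ leechLattice) : app negEl x = -x := by
  rw [negEl_app hx, neg_smul, one_smul]

theorem mk_eq_one {g : Co0} : (QuotientGroup.mk g : Spor.Co1) = 1 ↔ g = 1 ∨ g = negEl := by
  rw [QuotientGroup.eq_one_iff]
  have : g ∈ (Subgroup.center Co0 : Set Co0) ↔ g ∈ ({1, negEl} : Set Co0) := by rw [center_eq]
  simpa using this

theorem mk_eq {g h : Co0} : (QuotientGroup.mk g : Spor.Co1) = QuotientGroup.mk h ↔ g = h ∨ g = negEl * h := by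
  have : (QuotientGroup.mk g : Spor.Co1) = QuotientGroup.mk h ↔ (QuotientGroup.mk (g * h⁻¹) : Spor.Co1) = 1 := by
    rw [QuotientGroup.mk_mul, QuotientGroup.mk_inv, mul_inv_eq_one]
  rw [this, mk_eq_one, mul_inv_eq_one, mul_inv_eq_iff_eq_mul]

theorem tEl_pow_app (n : ℕ) {x : Vec} (hx : x ∈ leechLattice) : app (tEl ^ n) x = prm (sT ^ n) x := by
  induction n generalizing x with
  | zero => rw [pow_zero, pow_zero, app_one]; rfl
  | succ n ih =>
    rw [pow_succ', app_mul, ih hx, tEl_app (by rw [← ih hx]; exact app_mem _ hx), pow_succ']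
    rfl

theorem tEl_pow {n : ℕ} : tEl ^ n = 1 ↔ 23 ∣ n := by
  have h1 : orderOf sT = 23 := orderOf_T
  rw [← h1, orderOf_dvd_iff_pow_eq_one]
  constructor
  · intro h
    apply Equiv.ext
    intro p
    have e := tEl_pow_app n (sg8_mem p)
    rw [h, app_one, prm_sg] at e
    exact (sg_inj (by norm_num) e).1.symm
  · intro h
    apply ext_app
    intro x hx
    rw [tEl_pow_app n hx, h, app_one]; rfl

theorem negEl_pow_odd {n : ℕ} (h : n % 2 = 1) : negEl ^ n = (negEl : Co0) := by
  obtain ⟨k, rfl⟩ : ∃ k, n = 2 * k + 1 := ⟨n / 2, by omega⟩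
  rw [pow_succ, pow_mul, pow_two, negEl_sq, one_pow, one_mul]

theorem tEl_ne_neg (n : ℕ) : tEl ^ n ≠ negEl := by
  intro h
  have h1 : (tEl ^ n) ^ 23 = 1 := by rw [← pow_mul, tEl_pow]; exact ⟨n, mul_comm _ _⟩
  rw [h, negEl_pow_odd (by norm_num)] at h1
  exact negEl_ne h1

theorem fact23 : Fact (Nat.Prime 23) := ⟨by norm_num⟩

theorem fac23 : (Nat.card Co0).factorization 23 = 1 := by
  rw [card_Co0, show (8315553613086720000 : ℕ) = 23 * 361545809264640000 by norm_num,
    Nat.factorization_mul (by norm_num) (by norm_num)]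
  rw [Finsupp.add_apply, Nat.Prime.factorization_self (by norm_num), Nat.factorization_eq_zero_of_not_dvd (by norm_num)]

/-- elements of order 23 are conjugate to generators of the same group -/
theorem ord23 {b : Co0} (hb : orderOf b = 23) : ∃ k : Co0, ∃ n : ℕ, (k * b * k⁻¹) ^ n = tEl := by
  classical
  haveI := fact23
  haveI : Finite Co0 := Nat.finite_of_card_ne_zero (by rw [card_Co0]; norm_num)
  have ht : orderOf tEl = 23 := by
    apply orderOf_eq_prime
    · exact tEl_pow.2 (dvd_refl _)
    · intro h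
      have := tEl_pow.1 (show tEl ^ 1 = 1 by rw [pow_one]; exact h)
      omega
  let P1 : Sylow 23 Co0 := Sylow.ofCard (Subgroup.zpowers b) (by rw [Nat.card_zpowers, hb, fac23, pow_one])
  let P2 : Sylow 23 Co0 := Sylow.ofCard (Subgroup.zpowers tEl) (by rw [Nat.card_zpowers, ht, fac23, pow_one])
  obtain ⟨k, hk⟩ := MulAction.exists_smul_eq Co0 P1 P2
  have h1 : tEl ∈ ((k • P1 : Sylow 23 Co0) : Subgroup Co0) := by
    rw [hk]; exact Subgroup.mem_zpowers tEl
  have h2 : tEl ∈ MulAut.conj k • (Subgroup.zpowers b) := h1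
  rw [Subgroup.mem_pointwise_smul_iff_inv_smul_mem] at h2
  have h3 : k⁻¹ * tEl * k ∈ Subgroup.zpowers b := by
    have : (MulAut.conj k)⁻¹ • tEl = k⁻¹ * tEl * k := by
      simp [MulAut.smul_def]
    rwa [this] at h2
  rw [mem_zpowers_iff_mem_range_orderOf] at h3
  obtain ⟨n, _, hn⟩ := mem_image.1 h3
  refine ⟨k, n, ?_⟩
  rw [conj_pow]
  have : b ^ n = k⁻¹ * tEl * k := hn
  rw [this]; group

/-- an involution of the quotient does not commute with an element of order 23 -/
theorem nc {a b : Spor.Co1} (ha : a * a = 1) (hb : orderOf b = 23) (h : a * b = b * a) : a = 1 := by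
  obtain ⟨a', rfl⟩ := QuotientGroup.mk_surjective a
  obtain ⟨b0, hb0⟩ := QuotientGroup.mk_surjective b
  have hb1 : b0 ^ 23 = 1 ∨ b0 ^ 23 = negEl := by
    rw [← mk_eq_one, QuotientGroup.mk_pow, hb0, ← hb, pow_orderOf_eq_one]
  have hb2 : b0 ^ 46 = 1 := by
    rw [show 46 = 23 * 2 by norm_num, pow_mul, pow_two]
    rcases hb1 with h1 | h1 <;> rw [h1]
    · rw [one_mul]
    · exact negEl_sq
  set b' : Co0 := b0 ^ 24 with hb'
  have hmk : (QuotientGroup.mk b' : Spor.Co1) = b := by
    have h24 : b ^ 24 = b := by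
      rw [show 24 = 23 + 1 by norm_num, pow_add, pow_one]
      nth_rw 1 [← hb]; rw [pow_orderOf_eq_one, one_mul]
    rw [hb', QuotientGroup.mk_pow, hb0, h24]
  have h23 : b' ^ 23 = 1 := by
    rw [hb', ← pow_mul, show 24 * 23 = 46 * 12 by norm_num, pow_mul, hb2, one_pow]
  have hbne : b' ≠ 1 := by
    intro e
    rw [e] at hmk
    rw [← hmk] at hb
    have : orderOf (QuotientGroup.mk (1 : Co0) : Spor.Co1) = 1 := orderOf_one
    rw [this] at hb
    norm_num at hb
  haveI := fact23
  have hord : orderOf b' = 23 := orderOf_eq_prime h23 hbne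
  have hcomm : a' * b' = b' * a' := by
    have e : (QuotientGroup.mk (a' * b') : Spor.Co1) = QuotientGroup.mk (b' * a') := by
      rw [QuotientGroup.mk_mul, QuotientGroup.mk_mul, hmk, h]
    rcases mk_eq.1 e with h1 | h1
    · exact h1
    · exfalso
      have h2 : a' * b' * a'⁻¹ = negEl * b' := by rw [h1]; group
      have h3 : (a' * b' * a'⁻¹) ^ 23 = 1 := by rw [conj_pow, h23]; group
      rw [h2, (show Commute negEl b' from negEl_comm b').mul_pow, h23, mul_one, negEl_pow_odd (by norm_num)] at h3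
      exact negEl_ne h3
  obtain ⟨k, n, hkn⟩ := ord23 hord
  have hc : Commute (k * a' * k⁻¹) tEl := by
    rw [← hkn]
    apply Commute.pow_right
    show k * a' * k⁻¹ * (k * b' * k⁻¹) = k * b' * k⁻¹ * (k * a' * k⁻¹)
    have : k * a' * k⁻¹ * (k * b' * k⁻¹) = k * (a' * b') * k⁻¹ := by group
    rw [this, hcomm]; group
  obtain ⟨j, hj⟩ := comm_tEl hc
  have ha2 : a' * a' = 1 ∨ a' * a' = negEl := by
    rw [← mk_eq_one, QuotientGroup.mk_mul]; exact ha
  have hk2 : (k * a' * k⁻¹) * (k * a' * k⁻¹) = a' * a' := by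
    have e1 : (k * a' * k⁻¹) * (k * a' * k⁻¹) = k * (a' * a') * k⁻¹ := by group
    rw [e1]
    rcases ha2 with h1 | h1 <;> rw [h1]
    · group
    · rw [← negEl_comm]; group
  have hj2 : tEl ^ (2 * j) = a' * a' := by
    rw [← hk2, two_mul, pow_add]
    rcases hj with h1 | h1 <;> rw [h1]
    have : negEl * tEl ^ j * (negEl * tEl ^ j) = (negEl * negEl) * (tEl ^ j * tEl ^ j) := by
      rw [mul_assoc, ← mul_assoc (tEl ^ j) negEl, ← negEl_comm]; group
    rw [this, negEl_sq, one_mul]
  have hj3 : 23 ∣ 2 * j := by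
    rcases ha2 with h1 | h1
    · exact tEl_pow.1 (hj2.trans h1)
    · exact absurd (hj2.trans h1) (tEl_ne_neg _)
  have hj4 : tEl ^ j = 1 := tEl_pow.2 (by omega)
  rw [hj4, mul_one] at hj
  have : a' = 1 ∨ a' = negEl := by
    rcases hj with h1 | h1
    · left
      have : a' = k⁻¹ * (k * a' * k⁻¹) * k := by group
      rw [this, h1]; group
    · right
      have : a' = k⁻¹ * (k * a' * k⁻¹) * k := by group
      rw [this, h1, ← negEl_comm]; group
  exact mk_eq_one.2 this

/-- fixed points of the element of order 23 on a 2-subgroup -/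
theorem card_two_grp {T : Subgroup Co0} (hT : IsPGroup 2 T) (hn : ∀ x ∈ T, tEl * x * tEl⁻¹ ∈ T) (hneg : negEl ∈ T) :
    Nat.card T % 23 = 2 := by
  classical
  haveI := fact23
  haveI : Finite Co0 := Nat.finite_of_card_ne_zero (by rw [card_Co0]; norm_num)
  haveI := Fintype.ofFinite T
  let f : Function.End T := fun x => ⟨tEl * x * tEl⁻¹, hn x x.2⟩
  have hf : ∀ n : ℕ, ∀ x : T, ((f ^ n) x : Co0) = tEl ^ n * x * (tEl ^ n)⁻¹ := by
    intro n
    induction n with
    | zero => intro x; simp [Function.End.one_def]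
    | succ n ih =>
      intro x
      rw [pow_succ']
      show tEl * ((f ^ n) x : Co0) * tEl⁻¹ = _
      rw [ih x, pow_succ']; group
  have h1 : f ^ 23 ^ 1 = 1 := by
    rw [pow_one]
    funext x
    apply Subtype.ext
    rw [hf, tEl_pow.2 (dvd_refl _)]
    simp [Function.End.one_def]
  have h2 := Equiv.Perm.card_fixedPoints_modEq h1
  have h3 : Fintype.card (Function.fixedPoints f) = 2 := by
    rw [← Nat.card_eq_fintype_card]
    have : (Function.fixedPoints f : Set T) = {1, ⟨negEl, hneg⟩} := by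
      ext x
      rw [Function.mem_fixedPoints, Function.IsFixedPt]
      simp only [Set.mem_insert_iff, Set.mem_singleton_iff]
      constructor
      · intro h
        have h4 : tEl * (x : Co0) * tEl⁻¹ = x := congrArg Subtype.val h
        have h5 : (x : Co0) * tEl = tEl * x := by
          nth_rw 1 [← h4]; group
        obtain ⟨j, hj⟩ := comm_tEl h5
        obtain ⟨k, hk⟩ := hT x
        have hk' : (x : Co0) ^ 2 ^ k = 1 := by
          have := congrArg Subtype.val hk
          simpa using this
        have h6 : ∃ m, tEl ^ (j * 2 ^ m) = 1 := by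
          refine ⟨k + 1, ?_⟩
          have e : ((x : Co0) ^ 2 ^ k) ^ 2 = 1 := by rw [hk', one_pow]
          rw [← pow_mul, ← pow_succ] at e
          rcases hj with h7 | h7
          · rw [h7, ← pow_mul] at e; exact e
          · rw [h7, (show Commute negEl (tEl ^ j) from negEl_comm _).mul_pow, pow_succ 2 k, mul_comm (2 ^ k) 2, pow_mul negEl,
              pow_two, negEl_sq, one_pow, one_mul, ← pow_mul] at e
            rw [pow_succ, mul_comm (2 ^ k) 2]; exact e
        obtain ⟨m, hm⟩ := h6
        have h7 : 23 ∣ j := by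
          have := tEl_pow.1 hm
          exact (Nat.Coprime.dvd_of_dvd_mul_right (Nat.Coprime.pow_right _ (by norm_num)) this)
        have h8 := tEl_pow.2 h7
        rw [h8, mul_one] at hj
        rcases hj with h9 | h9
        · left; exact Subtype.ext h9
        · right; exact Subtype.ext h9
      · rintro (h | h)
        · rw [h]; apply Subtype.ext; show tEl * 1 * tEl⁻¹ = 1; group
        · rw [h]; apply Subtype.ext; show tEl * negEl * tEl⁻¹ = negEl
          rw [← negEl_comm]; group
    rw [this]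
    show ({1, ⟨negEl, hneg⟩} : Set T).ncard = 2
    rw [Set.ncard_pair]
    intro h
    exact negEl_ne (congrArg Subtype.val h).symm
  rw [Nat.card_eq_fintype_card]
  have h4 : Fintype.card T % 23 = Fintype.card (Function.fixedPoints f) % 23 := h2
  rw [h4, h3]

end Cfsg.Agent.Lib.Golay
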