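import Cfsg.Agent.Lib.Golay.LeechTrans
import Cfsg.Agent.Lib.Golay.Misc

/-!
Counting vectors of the rank-24 lattice by generating functions.
-/

set_option autoImplicit false

namespace Cfsg.Agent.Lib.Golay

open scoped Pointwise
open Cfsg Finset

/-- sign character modulo 8 -/
def chi (a : ℤ) : ℤ := if a % 8 = 3 ∨ a % 8 = 4 ∨ a % 8 = 5 ∨ a % 8 = 6 then -1 else 1

/-- the values allowed at a coordinate -/
noncomputable def cl (R m : ℤ) (b : Bool) : Finset ℤ := (Icc (-R) R).filter (fun a => a % 4 = if b then m + 2 else m)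

noncomputable def wordsF : Finset (Finset GolayPt) := by
  classical exact univ.filter (fun C => IsWord C)

theorem mem_wordsF {C : Finset GolayPt} : C ∈ wordsF ↔ IsWord C := by
  classical
  unfold wordsF
  simp

/-- all vectors with bounded coordinates -/
noncomputable def box (R : ℤ) : Finset Vec := Fintype.piFinset (fun _ => Icc (-R) R)

theorem mem_box {R : ℤ} {x : Vec} : x ∈ box R ↔ ∀ i, |x i| ≤ R := by
  unfold box
  rw [Fintype.mem_piFinset]
  refine forall_congr' (fun i => ?_)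
  rw [mem_Icc, abs_le]

noncomputable def lbox (R : ℤ) : Finset Vec := by
  classical exact (box R).filter (fun x => x ∈ leechLattice)

theorem mem_lbox {R : ℤ} {x : Vec} : x ∈ lbox R ↔ (∀ i, |x i| ≤ R) ∧ x ∈ leechLattice := by
  classical
  unfold lbox
  rw [mem_filter, mem_box]

/-- vectors of a given parity and class set with bounded coordinates -/
noncomputable def pbox (R m : ℤ) (C : Finset GolayPt) : Finset Vec := Fintype.piFinset (fun i => cl R m (decide (i ∈ C)))

theorem mem_cl {R m a : ℤ} {b : Bool} : a ∈ cl R m b ↔ |a| ≤ R ∧ a % 4 = if b then m + 2 else m := by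
  unfold cl
  rw [mem_filter, mem_Icc, abs_le]

theorem mem_pbox {R m : ℤ} {C : Finset GolayPt} {x : Vec} : x ∈ pbox R m C ↔
    ∀ i, |x i| ≤ R ∧ x i % 4 = if i ∈ C then m + 2 else m := by
  unfold pbox
  rw [Fintype.mem_piFinset]
  refine forall_congr' (fun i => ?_)
  rw [mem_cl]
  by_cases h : i ∈ C <;> simp [h]

theorem pbox_cls {R m : ℤ} {C : Finset GolayPt} {x : Vec} (hx : x ∈ pbox R m C) :
    cls x (m + 2) = C := by
  rw [mem_pbox] at hx
  ext i
  rw [mem_cls]
  have := (hx i).2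
  split_ifs at this with h
  · simp only [h, iff_true]; omega
  · simp only [h, iff_false]; omega

theorem chi_prod {m R : ℤ} (hm : m = 0 ∨ m = 1) {C : Finset GolayPt} (hC : IsWord C) {x : Vec} (hx : x ∈ pbox R m C) :
    (∏ i, chi (x i)) = if (∑ i, x i - 4 * m) % 8 = 0 then (-1) ^ m.toNat else - (-1) ^ m.toNat := by
  have h1 := mem_pbox.1 hx
  have key : ∀ i, ∃ t : ℤ, x i = (if m = 0 then (if i ∈ C then 2 else 0) else (if i ∈ C then -1 else 1)) + 4 * t ∧
      chi (x i) = if t % 2 = 0 then 1 else -1 := by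
    intro i
    have := (h1 i).2
    rcases hm with rfl | rfl
    · simp only [if_true]
      by_cases hi : i ∈ C
      · simp only [hi, if_true] at this ⊢
        refine ⟨(x i - 2) / 4, by omega, ?_⟩
        unfold chi
        split_ifs <;> first | rfl | omega
      · simp only [hi, if_false] at this ⊢
        refine ⟨x i / 4, by omega, ?_⟩
        unfold chi
        split_ifs <;> first | rfl | omega
    · simp only [one_ne_zero, if_false]
      by_cases hi : i ∈ C
      · simp only [hi, if_true] at this ⊢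
        refine ⟨(x i + 1) / 4, by omega, ?_⟩
        unfold chi
        split_ifs <;> first | rfl | omega
      · simp only [hi, if_false] at this ⊢
        refine ⟨(x i - 1) / 4, by omega, ?_⟩
        unfold chi
        split_ifs <;> first | rfl | omega
  choose t ht hc using key
  have hprod : (∏ i, chi (x i)) = if (∑ i, t i) % 2 = 0 then 1 else -1 := by
    rw [prod_congr rfl (fun i _ => hc i)]
    have : ∀ s : Finset GolayPt, (∏ i ∈ s, (if t i % 2 = 0 then (1 : ℤ) else -1)) =
        if (∑ i ∈ s, t i) % 2 = 0 then 1 else -1 := by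
      intro s
      classical
      induction s using Finset.induction_on with
      | empty => simp
      | insert a s ha ih =>
        rw [prod_insert ha, sum_insert ha, ih]
        split_ifs <;> first | (exfalso; omega) | norm_num
    exact this univ
  have hsum : ∑ i, x i = (if m = 0 then 2 * (C.card : ℤ) else 24 - 2 * C.card) + 4 * ∑ i, t i := by
    rw [sum_congr rfl (fun i _ => ht i), sum_add_distrib, ← mul_sum]
    congr 1
    rcases hm with rfl | rfl
    · simp only [if_true]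
      rw [sum_ind]
    · simp only [one_ne_zero, if_false]
      have : ∀ i, (if i ∈ C then (-1 : ℤ) else 1) = 1 + if i ∈ C then -2 else 0 := by
        intro i; split_ifs <;> norm_num
      rw [sum_congr rfl (fun i _ => this i), sum_add_distrib, sum_ind]
      simp only [sum_const, card_univ]
      have : Fintype.card GolayPt = 24 := by decide
      rw [this]; ring
  have h4 := hC.card_mod
  rw [hprod]
  rcases hm with rfl | rfl
  · simp only [if_true] at hsum
    simp only [mul_zero, sub_zero, Int.toNat_zero, pow_zero]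
    split_ifs <;> first | rfl | omega
  · simp only [one_ne_zero, if_false] at hsum
    simp only [mul_one, Int.toNat_one, pow_one, neg_neg]
    split_ifs <;> first | rfl | omega

theorem inL_iff {R m : ℤ} (hm : m = 0 ∨ m = 1) {x : Vec} (hx : x ∈ box R) :
    InL x m ↔ ∃ C ∈ wordsF, x ∈ pbox R m C ∧ (∑ i, x i - 4 * m) % 8 = 0 := by
  constructor
  · rintro ⟨h1, h2, h3⟩
    refine ⟨cls x (m + 2), mem_wordsF.2 h3, mem_pbox.2 (fun i => ⟨mem_box.1 hx i, ?_⟩), h2⟩
    have := h1 i
    have h5 : i ∈ cls x (m + 2) ↔ _ := mem_cls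
    by_cases h : i ∈ cls x (m + 2)
    · have h6 := h5.1 h
      simp only [h, if_true]; omega
    · have h6 := mt h5.2 h
      simp only [h, if_false]; omega
  · rintro ⟨C, hC, h1, h2⟩
    refine ⟨fun i => ?_, h2, ?_⟩
    · have := (mem_pbox.1 h1 i).2
      split_ifs at this <;> omega
    · rw [pbox_cls h1]; exact mem_wordsF.1 hC

theorem sum_lbox (R : ℤ) (g : Vec → ℤ) :
    ∑ x ∈ lbox R, g x = ∑ x ∈ box R, ((∑ C ∈ wordsF, if x ∈ pbox R 0 C ∧ (∑ i, x i - 4 * 0) % 8 = 0 then g x else 0) +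
      ∑ C ∈ wordsF, if x ∈ pbox R 1 C ∧ (∑ i, x i - 4 * 1) % 8 = 0 then g x else 0) := by
  classical
  have key : ∀ m : ℤ, (m = 0 ∨ m = 1) → ∀ x ∈ box R,
      (∑ C ∈ wordsF, if x ∈ pbox R m C ∧ (∑ i, x i - 4 * m) % 8 = 0 then g x else 0) =
        if InL x m then g x else 0 := by
    intro m hm x hx
    by_cases h : InL x m
    · rw [if_pos h]
      obtain ⟨C, hC, h1, h2⟩ := (inL_iff hm hx).1 h
      rw [sum_eq_single_of_mem C hC, if_pos ⟨h1, h2⟩]
      intro C' _ hne
      rw [if_neg]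
      rintro ⟨h3, -⟩
      exact hne ((pbox_cls h3).symm.trans (pbox_cls h1))
    · rw [if_neg h]
      apply sum_eq_zero
      intro C hC
      rw [if_neg]
      intro h1
      exact h ((inL_iff hm hx).2 ⟨C, hC, h1⟩)
  have h1 : lbox R = (box R).filter (fun x => x ∈ leechLattice) := by
    ext x; rw [mem_lbox, mem_filter, mem_box]
  rw [h1, sum_filter]
  refine sum_congr rfl (fun x hx => ?_)
  rw [key 0 (Or.inl rfl) x hx, key 1 (Or.inr rfl) x hx]
  by_cases h0 : InL x 0
  · have h2 : ¬ InL x 1 := by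
      intro h
      have := h.1 pa; have := h0.1 pa; omega
    rw [if_pos (mem_leech'.2 (Or.inl h0)), if_pos h0, if_neg h2, add_zero]
  · by_cases h2 : InL x 1
    · rw [if_pos (mem_leech'.2 (Or.inr h2)), if_neg h0, if_pos h2, zero_add]
    · rw [if_neg h0, if_neg h2, if_neg (fun h => (mem_leech'.1 h).elim h0 h2), add_zero]

theorem pbox_sub {R m : ℤ} {C : Finset GolayPt} {x : Vec} (hx : x ∈ pbox R m C) : x ∈ box R :=
  mem_box.2 (fun i => (mem_pbox.1 hx i).1)

theorem two_sum_aux {R m : ℤ} (hm : m = 0 ∨ m = 1) {C : Finset GolayPt} (hC : IsWord C) (g : Vec → ℤ) :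
    2 * ∑ x ∈ box R, (if x ∈ pbox R m C ∧ (∑ i, x i - 4 * m) % 8 = 0 then g x else 0) =
      ∑ x ∈ pbox R m C, g x + (-1) ^ m.toNat * ∑ x ∈ pbox R m C, (∏ i, chi (x i)) * g x := by
  classical
  have h1 : ∑ x ∈ box R, (if x ∈ pbox R m C ∧ (∑ i, x i - 4 * m) % 8 = 0 then g x else 0) =
      ∑ x ∈ pbox R m C, (if (∑ i, x i - 4 * m) % 8 = 0 then g x else 0) := by
    have h2 : pbox R m C = (box R).filter (fun x => x ∈ pbox R m C) := by
      ext x; rw [mem_filter]; exact ⟨fun h => ⟨pbox_sub h, h⟩, fun h => h.2⟩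
    conv_rhs => rw [h2, sum_filter]
    refine sum_congr rfl (fun x _ => ?_)
    by_cases h3 : x ∈ pbox R m C
    · by_cases h4 : (∑ i, x i - 4 * m) % 8 = 0
      · rw [if_pos ⟨h3, h4⟩, if_pos h3, if_pos h4]
      · rw [if_neg (fun h => h4 h.2), if_pos h3, if_neg h4]
    · rw [if_neg (fun h => h3 h.1), if_neg h3]
  rw [h1, mul_sum, mul_sum, ← sum_add_distrib]
  refine sum_congr rfl (fun x hx => ?_)
  rw [chi_prod hm hC hx]
  have h5 : ((-1 : ℤ) ^ m.toNat) * (-1) ^ m.toNat = 1 := by
    rw [← mul_pow]; norm_num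
  split_ifs with h6
  · linear_combination (- g x) * h5
  · linear_combination (g x) * h5

/-- the basic counting identity -/
theorem two_sum (R : ℤ) (g : Vec → ℤ) :
    2 * ∑ x ∈ lbox R, g x =
      ∑ C ∈ wordsF, (∑ x ∈ pbox R 0 C, g x + ∑ x ∈ pbox R 0 C, (∏ i, chi (x i)) * g x) +
      ∑ C ∈ wordsF, (∑ x ∈ pbox R 1 C, g x - ∑ x ∈ pbox R 1 C, (∏ i, chi (x i)) * g x) := by
  rw [sum_lbox, sum_add_distrib, sum_comm, sum_comm (s := box R), mul_add, mul_sum, mul_sum]
  congr 1
  · refine sum_congr rfl (fun C hC => ?_)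
    rw [two_sum_aux (Or.inl rfl) (mem_wordsF.1 hC)]
    simp
  · refine sum_congr rfl (fun C hC => ?_)
    rw [two_sum_aux (Or.inr rfl) (mem_wordsF.1 hC)]
    simp [sub_eq_add_neg]

/-- the three special points -/
def T3 : Finset GolayPt := {pa, pb, pt 1}

theorem prod_T3 (f : GolayPt → ℤ) : ∏ i, f i = f pa * f pb * f (pt 1) * ∏ i ∈ T3ᶜ, f i := by
  rw [← prod_mul_prod_compl T3]
  congr 1
  unfold T3
  rw [prod_insert (by decide), prod_insert (by decide), prod_singleton, mul_assoc]

theorem pi_split (t : GolayPt → Finset ℤ) (h : ℤ → ℤ → ℤ → ℤ) (f : ℤ → ℤ) :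
    ∑ x ∈ Fintype.piFinset t, h (x pa) (x pb) (x (pt 1)) * ∏ i ∈ T3ᶜ, f (x i) =
      (∑ a ∈ t pa, ∑ b ∈ t pb, ∑ c ∈ t (pt 1), h a b c) * ∏ i ∈ T3ᶜ, ∑ a ∈ t i, f a := by
  classical
  have ne1 : pb ≠ pa := by decide
  have ne2 : pt 1 ≠ pa := by decide
  have ne3 : pt 1 ≠ pb := by decide
  let F : ℤ → ℤ → ℤ → GolayPt → ℤ → ℤ := fun a b c i s =>
    if i = pa then (if s = a then 1 else 0) else if i = pb then (if s = b then 1 else 0) else
      if i = pt 1 then (if s = c then 1 else 0) else f s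
  have hF : ∀ a b c, ∀ i ∈ T3ᶜ, F a b c i = f := by
    intro a b c i hi
    have : i ≠ pa ∧ i ≠ pb ∧ i ≠ pt 1 := by
      unfold T3 at hi
      simpa only [mem_compl, mem_insert, mem_singleton, not_or] using hi
    funext s
    simp only [F, if_neg this.1, if_neg this.2.1, if_neg this.2.2]
  have h1 : ∀ x ∈ Fintype.piFinset t, h (x pa) (x pb) (x (pt 1)) * ∏ i ∈ T3ᶜ, f (x i) =
      ∑ a ∈ t pa, ∑ b ∈ t pb, ∑ c ∈ t (pt 1), h a b c * ∏ i, F a b c i (x i) := by
    intro x hx
    rw [Fintype.mem_piFinset] at hx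
    rw [sum_eq_single_of_mem (x pa) (hx pa), sum_eq_single_of_mem (x pb) (hx pb),
      sum_eq_single_of_mem (x (pt 1)) (hx (pt 1))]
    · have e : ∏ i ∈ T3ᶜ, F (x pa) (x pb) (x (pt 1)) i (x i) = ∏ i ∈ T3ᶜ, f (x i) :=
        prod_congr rfl (fun i hi => by rw [hF _ _ _ i hi])
      rw [prod_T3, e]
      simp [F, ne1, ne2, ne3]
    · intro c _ hc
      rw [prod_T3]
      simp [F, ne2, ne3, hc.symm]
    · intro b _ hb
      refine sum_eq_zero (fun c _ => ?_)
      rw [prod_T3]
      simp [F, ne1, hb.symm]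
    · intro a _ ha
      refine sum_eq_zero (fun b _ => sum_eq_zero (fun c _ => ?_))
      rw [prod_T3]
      simp [F, ha.symm]
  rw [sum_congr rfl h1, sum_comm, sum_mul]
  refine sum_congr rfl (fun a ha => ?_)
  rw [sum_comm, sum_mul]
  refine sum_congr rfl (fun b hb => ?_)
  rw [sum_comm, sum_mul]
  refine sum_congr rfl (fun c hc => ?_)
  rw [← mul_sum, ← prod_univ_sum, prod_T3]
  congr 1
  have e : ∏ i ∈ T3ᶜ, ∑ s ∈ t i, F a b c i s = ∏ i ∈ T3ᶜ, ∑ s ∈ t i, f s :=
    prod_congr rfl (fun i hi => by rw [hF _ _ _ i hi])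
  rw [e]
  have e1 : ∑ s ∈ t pa, F a b c pa s = 1 := by
    simp only [F, if_true]
    rw [sum_ite_eq', if_pos ha]
  have e2 : ∑ s ∈ t pb, F a b c pb s = 1 := by
    simp only [F, if_true, if_neg ne1]
    rw [sum_ite_eq', if_pos hb]
  have e3 : ∑ s ∈ t (pt 1), F a b c (pt 1) s = 1 := by
    simp only [F, if_true, if_neg ne2, if_neg ne3]
    rw [sum_ite_eq', if_pos hc]
  rw [e1, e2, e3]; ring

end Cfsg.Agent.Lib.Golay
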