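import Cfsg.Agent.Lib.Golay.LeechCountT

/-!
Counting formula with three special coordinates.
-/

set_option autoImplicit false

namespace Cfsg.Agent.Lib.Golay

open scoped Pointwise
open Cfsg Finset

theorem card_T3 (C : Finset GolayPt) : (T3ᶜ.filter (fun i => i ∈ C)).card + bc (trc C) = C.card := by
  classical
  have h1 : (T3ᶜ.filter (fun i => i ∈ C)) = C \ T3 := by
    ext i; simp only [mem_filter, mem_compl, mem_sdiff]; tauto
  have h2 := card_sdiff_add_card_inter C T3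
  rw [h1, ← h2]
  congr 1
  have h3 : C ∩ T3 = T3.filter (fun i => i ∈ C) := by
    ext i; simp only [mem_filter, mem_inter]; tauto
  rw [h3, card_filter]
  unfold T3 bc trc
  rw [sum_insert (by decide), sum_insert (by decide), sum_singleton]
  by_cases e1 : pa ∈ C <;> by_cases e2 : pb ∈ C <;> by_cases e3 : pt 1 ∈ C <;> simp [e1, e2, e3]

theorem prod_rest {R m : ℤ} (C : Finset GolayPt) (f : ℤ → ℤ) :
    ∏ i ∈ T3ᶜ, ∑ a ∈ cl R m (decide (i ∈ C)), f a =
      (∑ a ∈ cl R m true, f a) ^ (C.card - bc (trc C)) * (∑ a ∈ cl R m false, f a) ^ (21 - (C.card - bc (trc C))) := by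
  classical
  have h1 : ∀ i ∈ T3ᶜ, (∑ a ∈ cl R m (decide (i ∈ C)), f a) =
      if i ∈ C then (∑ a ∈ cl R m true, f a) else ∑ a ∈ cl R m false, f a := by
    intro i _
    by_cases h : i ∈ C <;> simp [h]
  rw [prod_congr rfl h1, prod_ite, prod_const, prod_const]
  have h2 := card_T3 C
  have h3 := card_filter_add_card_filter_not (s := T3ᶜ) (fun i => i ∈ C)
  have h4 : T3ᶜ.card = 21 := by decide
  rw [h4] at h3
  have e1 : (T3ᶜ.filter (fun i => i ∈ C)).card = C.card - bc (trc C) := by omega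
  have e2 : (T3ᶜ.filter (fun i => i ∉ C)).card = 21 - (C.card - bc (trc C)) := by omega
  rw [e1, e2]

/-- part of the special coordinates -/
noncomputable def Hs (R m : ℤ) (h : ℤ → ℤ → ℤ → ℤ) (s : Bool × Bool × Bool) : ℤ :=
  ∑ a ∈ cl R m s.1, ∑ b ∈ cl R m s.2.1, ∑ c ∈ cl R m s.2.2, h a b c

theorem sum_words (R m : ℤ) (h : ℤ → ℤ → ℤ → ℤ) (f : ℤ → ℤ) :
    ∑ C ∈ wordsF, ∑ x ∈ pbox R m C, h (x pa) (x pb) (x (pt 1)) * ∏ i ∈ T3ᶜ, f (x i) =
      ∑ s : Bool × Bool × Bool, Hs R m h s * ∑ k ∈ ({0, 8, 12, 16, 24} : Finset ℕ), (N3 (bc s) k : ℤ) *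
        ((∑ a ∈ cl R m true, f a) ^ (k - bc s) * (∑ a ∈ cl R m false, f a) ^ (21 - (k - bc s))) := by
  classical
  have h1 : ∀ C ∈ wordsF, ∑ x ∈ pbox R m C, h (x pa) (x pb) (x (pt 1)) * ∏ i ∈ T3ᶜ, f (x i) =
      Hs R m h (trc C) * ((∑ a ∈ cl R m true, f a) ^ (C.card - bc (trc C)) *
        (∑ a ∈ cl R m false, f a) ^ (21 - (C.card - bc (trc C)))) := by
    intro C _
    unfold pbox
    rw [pi_split, prod_rest]
    rfl
  rw [sum_congr rfl h1, ← sum_fiberwise_of_maps_to (g := trc) (t := univ) (fun _ _ => mem_univ _)]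
  refine sum_congr rfl (fun s _ => ?_)
  rw [← words_tr, mul_sum]
  refine sum_congr rfl (fun C hC => ?_)
  rw [(mem_filter.1 hC).2]

end Cfsg.Agent.Lib.Golay
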