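import Cfsg.Agent.Lib.Golay.LeechCount2

/-!
Evaluation of the counting formula and extraction of coefficients.
-/

set_option autoImplicit false

namespace Cfsg.Agent.Lib.Golay

open scoped Pointwise
open Cfsg Finset

/-- coefficient extraction -/
theorem extract {α : Type*} (S : Finset α) (e : α → ℕ) {B n : ℕ} (hB : S.card < B) :
    (∑ x ∈ S, B ^ e x) / B ^ n % B = (S.filter (fun x => e x = n)).card := by
  classical
  have hB0 : 0 < B := by omega
  have hpos : 0 < B ^ n := pow_pos hB0 n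
  have h1 : ∑ x ∈ S, B ^ e x = ∑ x ∈ S.filter (fun x => e x < n), B ^ e x +
      (∑ x ∈ S.filter (fun x => e x = n), B ^ e x + ∑ x ∈ S.filter (fun x => n < e x), B ^ e x) := by
    rw [← sum_filter_add_sum_filter_not S (fun x => e x < n)]
    congr 1
    rw [← sum_filter_add_sum_filter_not (S.filter (fun x => ¬ e x < n)) (fun x => e x = n)]
    rw [filter_filter, filter_filter]
    congr 1
    · refine sum_congr ?_ (fun _ _ => rfl)
      ext x; simp only [mem_filter]; constructor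
      · rintro ⟨h1, _, h2⟩; exact ⟨h1, h2⟩
      · rintro ⟨h1, h2⟩; exact ⟨h1, by omega, h2⟩
    · refine sum_congr ?_ (fun _ _ => rfl)
      ext x; simp only [mem_filter]; constructor
      · rintro ⟨h1, h3, h2⟩; exact ⟨h1, by omega⟩
      · rintro ⟨h1, h2⟩; exact ⟨h1, by omega, by omega⟩
  have h2 : ∑ x ∈ S.filter (fun x => e x < n), B ^ e x < B ^ n := by
    rcases Nat.eq_zero_or_pos n with hn | hn
    · subst hn
      rw [show S.filter (fun x => e x < 0) = ∅ by ext x; simp]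
      simp
    · have h3 : ∑ x ∈ S.filter (fun x => e x < n), B ^ e x ≤ (S.filter (fun x => e x < n)).card * B ^ (n - 1) := by
        rw [← smul_eq_mul]
        apply sum_le_card_nsmul
        intro x hx
        rw [mem_filter] at hx
        exact Nat.pow_le_pow_right hB0 (by omega)
      have h4 : (S.filter (fun x => e x < n)).card < B := lt_of_le_of_lt (card_le_card (filter_subset _ _)) hB
      have h5 : B ^ n = B * B ^ (n - 1) := by
        rw [← pow_succ']; congr 1; omega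
      rw [h5]
      exact lt_of_le_of_lt h3 (Nat.mul_lt_mul_of_pos_right h4 (pow_pos hB0 _))
  have h3 : ∑ x ∈ S.filter (fun x => e x = n), B ^ e x = (S.filter (fun x => e x = n)).card * B ^ n := by
    rw [sum_congr rfl (fun x hx => by rw [(mem_filter.1 hx).2]), sum_const, smul_eq_mul]
  obtain ⟨t, ht⟩ : ∃ t, ∑ x ∈ S.filter (fun x => n < e x), B ^ e x = t * B * B ^ n := by
    have : B ^ (n + 1) ∣ ∑ x ∈ S.filter (fun x => n < e x), B ^ e x := by
      apply dvd_sum
      intro x hx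
      rw [mem_filter] at hx
      exact pow_dvd_pow B (by omega)
    obtain ⟨t, ht⟩ := this
    exact ⟨t, by rw [ht, pow_succ]; ring⟩
  rw [h1, h3, ht, ← add_mul, Nat.add_mul_div_right _ _ hpos, Nat.div_eq_of_lt h2, zero_add,
    Nat.add_mul_mod_self_right, Nat.mod_eq_of_lt]
  exact lt_of_le_of_lt (card_le_card (filter_subset _ _)) hB

/-- list of the allowed values -/
def clL (R : ℕ) (m : ℤ) (b : Bool) : List ℤ :=
  ((List.range (2 * R + 1)).map (fun k : ℕ => (k : ℤ) - (R : ℤ))).filter (fun a => a % 4 == if b then m + 2 else m)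

def sm (l : List ℤ) (f : ℤ → ℤ) : ℤ := (l.map f).sum

theorem sum_cl (R : ℕ) (m : ℤ) (b : Bool) (f : ℤ → ℤ) : ∑ a ∈ cl R m b, f a = sm (clL R m b) f := by
  unfold sm
  have hnd : (clL R m b).Nodup := by
    unfold clL
    refine List.Nodup.filter _ (List.Nodup.map ?_ List.nodup_range)
    intro a b h
    have : (a : ℤ) - R = b - R := h
    omega
  rw [← List.sum_toFinset f hnd]
  refine sum_congr ?_ (fun _ _ => rfl)
  ext a
  rw [List.mem_toFinset, mem_cl]
  unfold clL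
  rw [List.mem_filter, List.mem_map]
  constructor
  · rintro ⟨h1, h2⟩
    rw [abs_le] at h1
    refine ⟨⟨(a + R).toNat, ?_, ?_⟩, ?_⟩
    · rw [List.mem_range]; omega
    · have : (((a + R).toNat : ℕ) : ℤ) = a + R := Int.toNat_of_nonneg (by omega)
      rw [this]; ring
    · rw [beq_iff_eq]; exact h2
  · rintro ⟨⟨k, hk, h1⟩, h2⟩
    rw [List.mem_range] at hk
    rw [beq_iff_eq] at h2
    refine ⟨?_, h2⟩
    rw [abs_le]; omega

def QQ (p q : ℤ) : ℕ → ℤ
  | 0 => q ^ 21 + 210 * (p ^ 8 * q ^ 13) + 280 * (p ^ 12 * q ^ 9) + 21 * (p ^ 16 * q ^ 5)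
  | 1 => 120 * (p ^ 7 * q ^ 14) + 336 * (p ^ 11 * q ^ 10) + 56 * (p ^ 15 * q ^ 6)
  | 2 => 56 * (p ^ 6 * q ^ 15) + 336 * (p ^ 10 * q ^ 11) + 120 * (p ^ 14 * q ^ 7)
  | 3 => 21 * (p ^ 5 * q ^ 16) + 280 * (p ^ 9 * q ^ 12) + 210 * (p ^ 13 * q ^ 8) + p ^ 21
  | _ => 0

theorem QQ_eq (p q : ℤ) {j : ℕ} (hj : j ≤ 3) : ∑ k ∈ ({0, 8, 12, 16, 24} : Finset ℕ), (N3 j k : ℤ) *
    (p ^ (k - j) * q ^ (21 - (k - j))) = QQ p q j := by
  rw [sum_insert (by decide), sum_insert (by decide), sum_insert (by decide), sum_insert (by decide), sum_singleton]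
  interval_cases j <;> simp [N3, QQ] <;> ring

def HL (R : ℕ) (m : ℤ) (h : ℤ → ℤ → ℤ → ℤ) (s1 s2 s3 : Bool) : ℤ :=
  sm (clL R m s1) (fun a => sm (clL R m s2) (fun b => sm (clL R m s3) (fun c => h a b c)))

theorem Hs_eq (R : ℕ) (m : ℤ) (h : ℤ → ℤ → ℤ → ℤ) (s1 s2 s3 : Bool) : Hs R m h (s1, s2, s3) = HL R m h s1 s2 s3 := by
  unfold Hs HL
  simp only [sum_cl]

/-- one quarter of the generating function -/
def part (R : ℕ) (m : ℤ) (h : ℤ → ℤ → ℤ → ℤ) (f : ℤ → ℤ) : ℤ :=
  HL R m h false false false * QQ (sm (clL R m true) f) (sm (clL R m false) f) 0 +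
  (HL R m h true false false + HL R m h false true false + HL R m h false false true) *
    QQ (sm (clL R m true) f) (sm (clL R m false) f) 1 +
  (HL R m h true true false + HL R m h true false true + HL R m h false true true) *
    QQ (sm (clL R m true) f) (sm (clL R m false) f) 2 +
  HL R m h true true true * QQ (sm (clL R m true) f) (sm (clL R m false) f) 3

theorem sum_words_part (R : ℕ) (m : ℤ) (h : ℤ → ℤ → ℤ → ℤ) (f : ℤ → ℤ) :
    ∑ C ∈ wordsF, ∑ x ∈ pbox R m C, h (x pa) (x pb) (x (pt 1)) * ∏ i ∈ T3ᶜ, f (x i) = part R m h f := by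
  rw [sum_words]
  have h1 : ∀ s : Bool × Bool × Bool, bc s ≤ 3 := by decide
  rw [sum_congr rfl (fun s _ => by rw [QQ_eq _ _ (h1 s)])]
  simp only [Fintype.sum_prod_type, Fintype.sum_bool, Hs_eq, sum_cl]
  unfold part bc
  simp only [Bool.toNat_true, Bool.toNat_false, add_zero, zero_add]
  ring

/-- twice the generating function -/
def total (R : ℕ) (h : ℤ → ℤ → ℤ → ℤ) (f : ℤ → ℤ) : ℤ :=
  part R 0 h f + part R 0 (fun a b c => chi a * chi b * chi c * h a b c) (fun a => chi a * f a) +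
  (part R 1 h f - part R 1 (fun a b c => chi a * chi b * chi c * h a b c) (fun a => chi a * f a))

theorem two_sum_total (R : ℕ) (h : ℤ → ℤ → ℤ → ℤ) (f : ℤ → ℤ) :
    2 * ∑ x ∈ lbox R, h (x pa) (x pb) (x (pt 1)) * ∏ i ∈ T3ᶜ, f (x i) = total R h f := by
  rw [two_sum]
  unfold total
  have h2 : ∀ x : Vec, (∏ i, chi (x i)) * (h (x pa) (x pb) (x (pt 1)) * ∏ i ∈ T3ᶜ, f (x i)) =
      (chi (x pa) * chi (x pb) * chi (x (pt 1)) * h (x pa) (x pb) (x (pt 1))) * ∏ i ∈ T3ᶜ, (chi (x i) * f (x i)) := by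
    intro x
    rw [prod_T3, prod_mul_distrib]
    ring
  rw [sum_add_distrib, sum_sub_distrib]
  simp only [h2]
  rw [sum_words_part, sum_words_part,
    sum_words_part R 0 (fun a b c => chi a * chi b * chi c * h a b c) (fun a => chi a * f a),
    sum_words_part R 1 (fun a b c => chi a * chi b * chi c * h a b c) (fun a => chi a * f a)]

/-- exponent recording the norm and a linear form -/
def ex (R N : ℕ) (w a : ℤ) : ℕ := (a ^ 2 + N * (w * a + |w| * R)).toNat

theorem ex_cast {R N : ℕ} {w a : ℤ} (ha : |a| ≤ R) : ((ex R N w a : ℕ) : ℤ) = a ^ 2 + N * (w * a + |w| * R) := by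
  unfold ex
  rw [Int.toNat_of_nonneg]
  have h1 : |w * a| ≤ |w| * R := by
    rw [abs_mul]; exact mul_le_mul_of_nonneg_left ha (abs_nonneg w)
  have h2 := neg_abs_le (w * a)
  have h3 : 0 ≤ w * a + |w| * R := by linarith
  positivity

theorem count_lin (R N B : ℕ) (wa wb wc w : ℤ) (cond : ℤ → ℤ → ℤ → Bool) (n : ℕ) (d : ℤ) (c : ℕ)
    (hN : 24 * R ^ 2 < N) (hn : n < N) (hd : 0 ≤ d + R * (|wa| + |wb| + |wc| + 21 * |w|))
    (hB : total R (fun a b c => if cond a b c then 1 else 0) (fun _ => 1) < 2 * B)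
    (hc : (total R (fun a b c => if cond a b c then ((B ^ (ex R N wa a + ex R N wb b + ex R N wc c) : ℕ) : ℤ) else 0)
      (fun a => ((B ^ ex R N w a : ℕ) : ℤ))).toNat / 2 / B ^ (n + N * (d + R * (|wa| + |wb| + |wc| + 21 * |w|)).toNat) % B = c) :
    {x : Vec | x ∈ leechLattice ∧ (∀ i, |x i| ≤ R) ∧ cond (x pa) (x pb) (x (pt 1)) = true ∧ sqNorm x = n ∧
      wa * x pa + wb * x pb + wc * x (pt 1) + w * ∑ i ∈ T3ᶜ, x i = d}.ncard = c := by
  classical
  let S := (lbox R).filter (fun x => cond (x pa) (x pb) (x (pt 1)) = true)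
  let E : Vec → ℕ := fun x => ex R N wa (x pa) + ex R N wb (x pb) + ex R N wc (x (pt 1)) + ∑ i ∈ T3ᶜ, ex R N w (x i)
  have hSB : S.card < B := by
    have h1 := two_sum_total R (fun a b c => if cond a b c then 1 else 0) (fun _ => 1)
    simp only [prod_const_one, mul_one] at h1
    rw [← h1, ← sum_filter] at hB
    simp only [sum_const, nsmul_eq_mul, mul_one] at hB
    have h2 : (S.card : ℤ) < B := by
      have : S = (lbox R).filter (fun x => cond (x pa) (x pb) (x (pt 1)) = true) := rfl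
      rw [this]; linarith
    exact_mod_cast h2
  have hsum : 2 * ((∑ x ∈ S, B ^ E x : ℕ) : ℤ) = total R (fun a b c => if cond a b c then
      ((B ^ (ex R N wa a + ex R N wb b + ex R N wc c) : ℕ) : ℤ) else 0) (fun a => ((B ^ ex R N w a : ℕ) : ℤ)) := by
    rw [← two_sum_total, Nat.cast_sum, sum_filter]
    congr 1
    refine sum_congr rfl (fun x _ => ?_)
    by_cases h : cond (x pa) (x pb) (x (pt 1)) = true
    · rw [if_pos h, if_pos h]
      simp only [E]
      rw [pow_add, Nat.cast_mul, ← prod_pow_eq_pow_sum, Nat.cast_prod]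
    · rw [if_neg h, if_neg h, zero_mul]
  rw [← hsum] at hc
  have h3 : (2 * ((∑ x ∈ S, B ^ E x : ℕ) : ℤ)).toNat / 2 = ∑ x ∈ S, B ^ E x := by
    omega
  rw [h3, extract S E hSB] at hc
  rw [← hc, ← Set.ncard_coe_finset]
  congr 1
  ext x
  rw [Set.mem_setOf_eq, mem_coe, mem_filter, mem_filter, mem_lbox]
  have hE : (∀ i, |x i| ≤ (R : ℤ)) → ((E x : ℕ) : ℤ) = sqNorm x + N * ((wa * x pa + wb * x pb + wc * x (pt 1) +
      w * ∑ i ∈ T3ᶜ, x i) + R * (|wa| + |wb| + |wc| + 21 * |w|)) := by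
    intro hx
    simp only [E, Nat.cast_add, Nat.cast_sum, ex_cast (hx _)]
    have h5 : sqNorm x = x pa ^ 2 + x pb ^ 2 + x (pt 1) ^ 2 + ∑ i ∈ T3ᶜ, x i ^ 2 := by
      unfold sqNorm
      rw [← sum_add_sum_compl T3]
      congr 1
      unfold T3
      rw [sum_insert (by decide), sum_insert (by decide), sum_singleton, add_assoc]
    have h6 : T3ᶜ.card = 21 := by decide
    rw [h5, sum_add_distrib, ← mul_sum, sum_add_distrib, ← mul_sum, sum_const, h6, nsmul_eq_mul]
    push_cast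
    ring
  have hsq : (∀ i, |x i| ≤ (R : ℤ)) → 0 ≤ sqNorm x ∧ sqNorm x < N := by
    intro hx
    unfold sqNorm
    refine ⟨sum_nonneg (fun i _ => sq_nonneg _), ?_⟩
    have h7 : ∑ i, x i ^ 2 ≤ ∑ _i : GolayPt, (R : ℤ) ^ 2 := by
      refine sum_le_sum (fun i _ => ?_)
      rw [← sq_abs]
      exact pow_le_pow_left₀ (abs_nonneg _) (hx i) 2
    rw [sum_const, card_univ, show Fintype.card GolayPt = 24 by decide, nsmul_eq_mul] at h7
    have h8 : ((24 * R ^ 2 : ℕ) : ℤ) < N := by exact_mod_cast hN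
    push_cast at h8 h7
    linarith
  have hcast : (((d + R * (|wa| + |wb| + |wc| + 21 * |w|)).toNat : ℕ) : ℤ) = d + R * (|wa| + |wb| + |wc| + 21 * |w|) :=
    Int.toNat_of_nonneg hd
  constructor
  · rintro ⟨h1, h2, h4, h5, h6⟩
    refine ⟨⟨⟨h2, h1⟩, h4⟩, ?_⟩
    have h7 := hE h2
    rw [h5, h6, ← hcast] at h7
    exact_mod_cast h7
  · rintro ⟨⟨⟨h2, h1⟩, h4⟩, h5⟩
    have h7 := hE h2
    have h8 := hsq h2
    rw [h5] at h7
    push_cast at h7
    rw [hcast] at h7
    have h9 : sqNorm x - n = N * (d - (wa * x pa + wb * x pb + wc * x (pt 1) + w * ∑ i ∈ T3ᶜ, x i)) := by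
      linarith
    generalize hL : wa * x pa + wb * x pb + wc * x (pt 1) + w * ∑ i ∈ T3ᶜ, x i = L at h9
    have hn' : (n : ℤ) < N := by exact_mod_cast hn
    have h10 : d - L = 0 := by
      rcases lt_trichotomy (d - L) 0 with h | h | h
      · have : (N : ℤ) * (d - L) ≤ N * (-1) := mul_le_mul_of_nonneg_left (by omega) (by omega)
        omega
      · exact h
      · have : (N : ℤ) * 1 ≤ N * (d - L) := mul_le_mul_of_nonneg_left (by omega) (by omega)
        omega
    rw [h10, mul_zero] at h9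
    exact ⟨h1, h2, h4, by omega, by omega⟩

theorem bd {x : Vec} {n : ℤ} {R : ℕ} (h : sqNorm x = n) (hR : n < (R + 1) ^ 2) : ∀ i, |x i| ≤ (R : ℤ) := by
  intro i
  have h1 : x i ^ 2 ≤ sqNorm x := single_le_sum (f := fun i => x i ^ 2) (fun _ _ => sq_nonneg _) (mem_univ i)
  by_contra hc
  push Not at hc
  have h2 : ((R : ℤ) + 1) ≤ |x i| := by omega
  have h3 : ((R : ℤ) + 1) ^ 2 ≤ |x i| ^ 2 := pow_le_pow_left₀ (by positivity) h2 2
  rw [sq_abs] at h3
  omega

/-- counting by norm and size of the coordinates -/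
theorem count_box (R B n c : ℕ) (hn : n < 24 * R ^ 2 + 1)
    (hB : total R (fun a b c => if (fun _ _ _ => true : ℤ → ℤ → ℤ → Bool) a b c then 1 else 0) (fun _ => 1) < 2 * B)
    (hc : (total R (fun a b c => if (fun _ _ _ => true : ℤ → ℤ → ℤ → Bool) a b c then
      ((B ^ (ex R (24 * R ^ 2 + 1) 0 a + ex R (24 * R ^ 2 + 1) 0 b + ex R (24 * R ^ 2 + 1) 0 c) : ℕ) : ℤ) else 0)
      (fun a => ((B ^ ex R (24 * R ^ 2 + 1) 0 a : ℕ) : ℤ))).toNat / 2 /
        B ^ (n + (24 * R ^ 2 + 1) * ((0 : ℤ) + R * (|(0 : ℤ)| + |(0 : ℤ)| + |(0 : ℤ)| + 21 * |(0 : ℤ)|)).toNat) % B = c) :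
    {x : Vec | x ∈ leechLattice ∧ (∀ i, |x i| ≤ R) ∧ sqNorm x = n}.ncard = c := by
  rw [← count_lin R (24 * R ^ 2 + 1) B 0 0 0 0 (fun _ _ _ => true) n 0 c (by omega) hn (by simp) hB hc]
  congr 1
  ext x
  simp

end Cfsg.Agent.Lib.Golay
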