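import Cfsg.Agent.Lib.Golay.LeechCount

/-!
Trace counts for words of the length-24 code.
-/

set_option autoImplicit false

namespace Cfsg.Agent.Lib.Golay

open scoped Pointwise
open Cfsg Finset

/-- trace on the three special points -/
def trc (C : Finset GolayPt) : Bool × Bool × Bool := (decide (pa ∈ C), decide (pb ∈ C), decide (pt 1 ∈ C))

def bc (s : Bool × Bool × Bool) : ℕ := s.1.toNat + s.2.1.toNat + s.2.2.toNat

/-- number of words with a given trace and weight -/
def N3 : ℕ → ℕ → ℕ
  | 0, 0 => 1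
  | 0, 8 => 210
  | 0, 12 => 280
  | 0, 16 => 21
  | 1, 8 => 120
  | 1, 12 => 336
  | 1, 16 => 56
  | 2, 8 => 56
  | 2, 12 => 336
  | 2, 16 => 120
  | 3, 8 => 21
  | 3, 12 => 280
  | 3, 16 => 210
  | 3, 24 => 1
  | _, _ => 0

def trB (m : ℕ) (s : Bool × Bool × Bool) : Bool :=
  (m.testBit 23 == s.1) && (m.testBit 0 == s.2.1) && (m.testBit 1 == s.2.2)

theorem trB_spec (C : Finset GolayPt) (s : Bool × Bool × Bool) : trc C = s ↔ trB (mk C) s = true := by
  unfold trc trB
  have h1 : decide (pa ∈ C) = (mk C).testBit 23 := by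
    have := testBit_mk C pa
    rw [show ix pa = 23 by decide] at this
    exact this.symm
  have h2 : decide (pb ∈ C) = (mk C).testBit 0 := by
    have := testBit_mk C pb
    rw [show ix pb = 0 by decide] at this
    exact this.symm
  have h3 : decide (pt 1 ∈ C) = (mk C).testBit 1 := by
    have := testBit_mk C (pt 1)
    rw [show ix (pt 1) = 1 by decide] at this
    exact this.symm
  rw [h1, h2, h3]
  obtain ⟨s1, s2, s3⟩ := s
  simp only [Prod.mk.injEq, Bool.and_eq_true, beq_iff_eq, and_assoc]

theorem words_count_check : (∀ s : Bool × Bool × Bool, ∀ k ∈ [0, 8, 12, 16, 24],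
    countB (fun c => trB (comb c) s && (pc (comb c) == k)) 0 12 = N3 (bc s) k) := by decide +kernel

theorem words_tr (s : Bool × Bool × Bool) (g : ℕ → ℤ) :
    ∑ C ∈ wordsF.filter (fun C => trc C = s), g C.card = ∑ k ∈ ({0, 8, 12, 16, 24} : Finset ℕ), (N3 (bc s) k : ℤ) * g k := by
  classical
  have hmaps : ∀ C ∈ wordsF.filter (fun C => trc C = s), C.card ∈ ({0, 8, 12, 16, 24} : Finset ℕ) := by
    intro C hC
    rw [mem_filter, mem_wordsF] at hC
    have := hC.1.card
    simp only [mem_insert, mem_singleton]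
    omega
  rw [← sum_fiberwise_of_maps_to hmaps]
  refine sum_congr rfl (fun k hk => ?_)
  rw [sum_congr rfl (fun C hC => by rw [(mem_filter.1 hC).2]), sum_const, nsmul_eq_mul]
  congr 1
  have h1 := words_count_check s k (by simpa using hk)
  have h2 := ncard_words_pred (F := fun C => trc C = s ∧ C.card = k) (f := fun m => trB m s && (pc m == k)) (by
    intro C
    rw [Bool.and_eq_true, beq_iff_eq, ← trB_spec, card_eq_pc])
  rw [h1, ← Set.ncard_coe_finset] at *
  rw [← h2]
  congr 2
  ext C
  simp only [coe_filter, mem_filter, mem_wordsF, Set.mem_setOf_eq, and_assoc]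

end Cfsg.Agent.Lib.Golay
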