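import Cfsg.Agent.Lib.Golay.Leech48

/-!
Frames for the pointwise stabilisers of small sublattices of the rank-24 lattice.
-/

set_option autoImplicit false

namespace Cfsg.Agent.Lib.Golay

open scoped Pointwise
open Cfsg Finset

/-- the vector with 5 at one point and 1 elsewhere -/
def r5 (p : GolayPt) : Vec := fun q => if q = p then 5 else 1

theorem r5_eq (p : GolayPt) : r5 p = rO p + (sg p 4 + sg p 4) := by
  ext q
  unfold r5 rO sg
  simp only [Pi.add_apply]
  split_ifs <;> norm_num

theorem r5_self (p : GolayPt) : r5 p p = 5 := by unfold r5; rw [if_pos rfl]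
theorem r5_ne {p q : GolayPt} (h : q ≠ p) : r5 p q = 1 := by unfold r5; rw [if_neg h]

theorem prm_r5 (σ : Equiv.Perm GolayPt) (j : GolayPt) : prm σ (r5 j) = r5 (σ j) := by
  ext p
  show (if σ.symm p = j then (5 : ℤ) else 1) = if p = σ j then 5 else 1
  simp only [Equiv.symm_apply_eq]

theorem r5_mem (j : GolayPt) : r5 j ∈ leechLattice := by
  refine mem_leech.2 ⟨1, ?_, ?_, ?_⟩
  · intro p; unfold r5; split_ifs <;> omega
  · have : ∑ p, r5 j p = 28 := by
      have h1 : ∀ p, r5 j p = 1 + (if p = j then 4 else 0) := by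
        intro p; unfold r5; split_ifs <;> norm_num
      rw [sum_congr rfl (fun p _ => h1 p), sum_add_distrib, sum_const, card_univ, card_golayPt]
      simp
    rw [this]; norm_num
  · have : cls (r5 j) (1 + 2) = ∅ := by
      ext p
      rw [mem_cls]
      unfold r5
      simp only [Finset.notMem_empty, iff_false]
      split_ifs <;> omega
    rw [this]; exact isWord_empty

theorem dot_r5 (p : GolayPt) (x : Vec) : dotInt (r5 p) x = 4 * x p + ∑ q, x q := by
  unfold dotInt
  have h : ∀ q, r5 p q * x q = (if q = p then 4 * x p else 0) + x q := by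
    intro q; unfold r5; split_ifs with h
    · subst h; ring
    · ring
  rw [sum_congr rfl (fun q _ => h q), sum_add_distrib, sum_ite_eq', if_pos (mem_univ _)]

theorem sum_r5 (p : GolayPt) : ∑ q, r5 p q = 28 := by
  have h1 : ∀ q, r5 p q = 1 + (if q = p then 4 else 0) := by
    intro q; unfold r5; split_ifs <;> norm_num
  rw [sum_congr rfl (fun p _ => h1 p), sum_add_distrib, sum_const, card_univ, card_golayPt]
  simp

theorem norm_r5 (p : GolayPt) : sqNorm (r5 p) = 48 := by
  rw [← dotInt_self, dot_r5, r5_self, sum_r5]; norm_num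

theorem T5.sgn {x : Vec} {j : GolayPt} (h : T5 x j) : Golay.sgn (cls x 3) x = r5 j := by
  obtain ⟨h1, h2⟩ := h
  ext p
  unfold Golay.sgn r5
  by_cases hp : p = j
  · subst hp
    rw [if_pos rfl]
    rcases abs_cases h1 with h1 | h1
    · rw [if_neg (by rw [mem_cls, h1]; norm_num), h1]
    · rw [if_pos (by rw [mem_cls, h1]; norm_num), h1]; norm_num
  · rw [if_neg hp]
    rcases abs_cases (h2 p hp) with h3 | h3
    · rw [if_neg (by rw [mem_cls, h3]; norm_num), h3]
    · rw [if_pos (by rw [mem_cls, h3]; norm_num), h3]; norm_num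

theorem T5.inL {x : Vec} (hx : x ∈ leechLattice) {j : GolayPt} (h : T5 x j) : InL x 1 := by
  rcases mem_leech'.1 hx with hI | hI
  · exfalso
    have := hI.1 j
    rcases abs_cases h.1 with h1 | h1 <;> rw [h1] at this <;> omega
  · exact hI

theorem dot_le' {x u : Vec} (hx : x ∈ leechLattice) (hu : u ∈ leechLattice) (hne : u ≠ x) :
    2 * dotInt x u + 32 ≤ sqNorm x + sqNorm u := by
  have h1 := min_norm (sub_mem hu hx) (sub_ne_zero.2 hne)
  rw [sqNorm_sub, dotInt_comm] at h1
  omega

theorem dot_le {x u : Vec} (hx : x ∈ leechLattice) (hu : u ∈ leechLattice) (hxn : sqNorm x = 32)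
    (hun : sqNorm u = 48) : dotInt x u ≤ 24 := by
  have h := dot_le' hx hu (by rintro rfl; omega)
  omega

/-- an octad vector with product 24 in the case (±4, ±2⁸) -/
theorem oct24 {u : Vec} (hu : u ∈ leechLattice) (hun : sqNorm u = 48) {O : Finset GolayPt} {k : GolayPt} (h : T84 u O k) :
    ∃ x ∈ leechLattice, sqNorm x = 32 ∧ dotInt x u = 24 ∧ ∀ k, k ∉ O → x k = 0 := by
  obtain ⟨p, hp⟩ : O.Nonempty := by rw [← card_pos, (mem_octads.1 h.1).2]; norm_num
  obtain ⟨E, hEO, hev, hE⟩ := exists_even_ext (O := O) (Z := O.erase p) (E := (O.erase p).filter (fun k => u k < 0))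
    ⟨p, by simp [hp]⟩ (by
      intro k hk
      rw [mem_filter, mem_erase] at hk
      rw [mem_inter, mem_erase]; exact ⟨hk.1.2, hk.1⟩)
  obtain ⟨x, hx, hn, h1, h2, h3⟩ := mk8 h.1 hEO hev
  refine ⟨x, hx, hn, ?_, h3⟩
  have h4 : ∀ k ∈ O.erase p, x k * u k = 4 := by
    intro k hk
    have hk' := mem_erase.1 hk
    have h5 := hE k hk
    rw [mem_filter] at h5
    rcases abs_cases (h.2.2.2.1 k hk'.2) with h6 | h6
    · rw [h2 k hk'.2 (fun hh => by have := (h5.1 hh).2; omega), h6]; norm_num
    · rw [h1 k (h5.2 ⟨hk, by omega⟩), h6]; norm_num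
  have h5 : x p = 2 ∨ x p = -2 := by
    by_cases hpE : p ∈ E
    · exact Or.inr (h1 p hpE)
    · exact Or.inl (h2 p hp hpE)
  have h6 : dotInt x u = 28 + x p * u p := by
    rw [dot_eq_sum_of_zero h3, ← sum_erase_add _ _ hp, sum_congr rfl h4, sum_const,
      card_erase_of_mem hp, (mem_octads.1 h.1).2]
    norm_num
  have h7 := dot_le hx hu hn hun
  rcases abs_cases (h.2.2.2.1 p hp) with h8 | h8 <;> rcases h5 with h9 | h9 <;> rw [h8, h9] at h6 <;> omega

theorem T333.swap12 {x : Vec} {i j k : GolayPt} (h : T333 x i j k) : T333 x j i k :=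
  ⟨h.1.symm, h.2.2.1, h.2.1, h.2.2.2.2.1, h.2.2.2.1, h.2.2.2.2.2.1, fun l h1 h2 h3 => h.2.2.2.2.2.2 l h2 h1 h3⟩

theorem T333.swap23 {x : Vec} {i j k : GolayPt} (h : T333 x i j k) : T333 x i k j :=
  ⟨h.2.1, h.1, h.2.2.1.symm, h.2.2.2.1, h.2.2.2.2.2.1, h.2.2.2.2.1, fun l h1 h2 h3 => h.2.2.2.2.2.2 l h1 h3 h2⟩

theorem T333.val {x : Vec} {i j k : GolayPt} (h : T333 x i j k) (l : GolayPt) : |x l| = 1 ∨ |x l| = 3 := by
  by_cases h1 : l = i
  · rw [h1]; exact Or.inr h.2.2.2.1
  · by_cases h2 : l = j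
    · rw [h2]; exact Or.inr h.2.2.2.2.1
    · by_cases h3 : l = k
      · rw [h3]; exact Or.inr h.2.2.2.2.2.1
      · exact Or.inl (h.2.2.2.2.2.2 l h1 h2 h3)

theorem helpH {u : Vec} (hu : u ∈ leechLattice) (hn : sqNorm u = 48) (hd : dotInt v0 u = -16) :
    ∃ y ∈ leechLattice, sqNorm y = 32 ∧ dotInt v0 y = 0 ∧ dotInt y u = 24 := by
  rw [dot_v0] at hd
  rcases shape48 hu hn with ⟨D, h⟩ | ⟨O, k, h⟩ | ⟨i, j, k, h⟩ | ⟨i, h⟩
  · -- dodecad
    have hval : ∀ k, |u k| = 2 ∨ u k = 0 := fun k => by
      by_cases hk : k ∈ D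
      · exact Or.inl (h.2.1 k hk)
      · exact Or.inr (h.2.2 k hk)
    have ha : pa ∈ D := by
      by_contra hc
      have h1 := h.2.2 _ hc
      rcases hval pb with h2 | h2
      · have := abs_cases h2; omega
      · omega
    have hb : pb ∈ D := by
      by_contra hc
      have h1 := h.2.2 _ hc
      rcases hval pa with h2 | h2
      · have := abs_cases h2; omega
      · omega
    obtain ⟨A, hA1, hA2, hA⟩ := exists_subsuperset_card_eq (s := {pa, pb}) (t := D) (n := 5)
      (by intro k hk; simp only [mem_insert, mem_singleton] at hk; rcases hk with rfl | rfl <;> assumption)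
      (by have : ({pa, pb} : Finset GolayPt).card = 2 := by decide
          omega) (by rw [(mem_dodecads.1 h.1).2]; norm_num)
    obtain ⟨O1, hO1, hAO⟩ := exists_octad_five hA
    have h6 : (O1 ∩ D).card = 6 := by
      have := card_le_card (subset_inter hAO hA2)
      have := oct_inter_dodec hO1 h.1
      omega
    have hc1 := card_symmDiff O1 D
    have w1 := mem_octads.1 hO1
    have w2 := mem_dodecads.1 h.1
    have hO : symmDiff O1 D ∈ octads := mem_octads.2 ⟨w1.1.symmDiff w2.1, by omega⟩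
    have h7 : symmDiff O1 D ∩ D = D \ O1 := by
      ext k; simp only [mem_inter, mem_symmDiff, mem_sdiff]; tauto
    have h8 : (symmDiff O1 D ∩ D).card = 6 := by
      rw [h7]
      have := card_sdiff_add_card_inter D O1
      rw [inter_comm] at this
      omega
    have hZ : (symmDiff O1 D \ D).Nonempty := by
      rw [← card_pos]
      have h1 := card_sdiff_add_card_inter (symmDiff O1 D) D
      have h2 := (mem_octads.1 hO).2
      omega
    obtain ⟨x, hx, h1, h2, h3, -⟩ := mk8s u hO hZ (fun k _ hk => h.2.2 k hk)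
    have hpa : pa ∈ O1 := hAO (hA1 (by simp))
    have hpb : pb ∈ O1 := hAO (hA1 (by simp))
    refine ⟨x, hx, h1, ?_, ?_⟩
    · rw [dot_v0, h3 pa (by rw [mem_symmDiff]; tauto), h3 pb (by rw [mem_symmDiff]; tauto)]; norm_num
    · rw [h2, sum_congr rfl (fun k hk => by rw [h.2.1 k (mem_inter.1 hk).2]), sum_const, h8]; norm_num
  · -- octad and one coordinate 4
    have hval : ∀ l, l ∉ O → |u l| = 4 ∨ u l = 0 := fun l hl => by
      by_cases hk : l = k
      · rw [hk]; exact Or.inl h.2.2.1
      · exact Or.inr (h.2.2.2.2 l hl hk)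
    by_cases ha : pa ∈ O
    · have h1 := abs_cases (h.2.2.2.1 _ ha)
      by_cases hb : pb ∈ O
      · obtain ⟨i, hi⟩ : ((O.erase pa).erase pb).Nonempty := by
          rw [← card_pos]
          have h1 := card_erase_ge (O := O) (a := pa)
          have h2 := card_erase_ge (O := O.erase pa) (a := pb)
          have := (mem_octads.1 h.1).2
          omega
        rw [mem_erase, mem_erase] at hi
        have hik : k ≠ i := fun e => h.2.1 (e ▸ hi.2.2)
        obtain ⟨x, hx, h1, h2, h3⟩ := mk4 u hik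
        refine ⟨x, hx, h1, ?_, by rw [h2, h.2.2.1, h.2.2.2.1 i hi.2.2]; norm_num⟩
        rw [dot_v0, h3 pa (fun e => h.2.1 (e ▸ ha)) hi.2.1.symm, h3 pb (fun e => h.2.1 (e ▸ hb)) hi.1.symm]; norm_num
      · exfalso
        rcases hval pb hb with h2 | h2
        · have := abs_cases h2; omega
        · omega
    · by_cases hb : pb ∈ O
      · exfalso
        have h1 := abs_cases (h.2.2.2.1 _ hb)
        rcases hval pa ha with h2 | h2
        · have := abs_cases h2; omega
        · omega
      · obtain ⟨x, hx, h1, h2, h3⟩ := oct24 hu hn h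
        exact ⟨x, hx, h1, by rw [dot_v0, h3 pa ha, h3 pb hb]; norm_num, h2⟩
  · -- three coordinates 3
    have key : ∀ i j k, T333 u i j k → (pa = i ∨ pb = i) →
        ∃ y ∈ leechLattice, sqNorm y = 32 ∧ dotInt v0 y = 0 ∧ dotInt y u = 24 := by
      intro i j k h hi
      obtain ⟨x, hx, h1, h2, h3⟩ := mk4 u h.2.2.1
      have hne : pa ≠ j ∧ pa ≠ k ∧ pb ≠ j ∧ pb ≠ k := by
        have hj := abs_cases h.2.2.2.2.1
        have hk := abs_cases h.2.2.2.2.2.1
        have hi' := abs_cases h.2.2.2.1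
        have hij := h.1
        have hik := h.2.1
        refine ⟨?_, ?_, ?_, ?_⟩
        · rintro rfl
          rcases hi with h4 | rfl
          · exact hij h4.symm
          · omega
        · rintro rfl
          rcases hi with h4 | rfl
          · exact hik h4.symm
          · omega
        · rintro rfl
          rcases hi with rfl | h4
          · omega
          · exact hij h4.symm
        · rintro rfl
          rcases hi with rfl | h4
          · omega
          · exact hik h4.symm
      refine ⟨x, hx, h1, ?_, by rw [h2, h.2.2.2.2.1, h.2.2.2.2.2.1]; norm_num⟩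
      rw [dot_v0, h3 pa hne.1 hne.2.1, h3 pb hne.2.2.1 hne.2.2.2]; norm_num
    by_cases h1 : pa = i ∨ pb = i
    · exact key i j k h h1
    · by_cases h2 : pa = j ∨ pb = j
      · exact key j i k h.swap12 h2
      · by_cases h3 : pa = k ∨ pb = k
        · exact key k i j h.swap23.swap12 h3
        · exfalso
          push Not at h1 h2 h3
          have e1 := abs_cases (h.2.2.2.2.2.2 pa h1.1 h2.1 h3.1)
          have e2 := abs_cases (h.2.2.2.2.2.2 pb h1.2 h2.2 h3.2)
          omega
  · -- one coordinate 5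
    by_cases h1 : pa = i
    · have h2 : pb ≠ i := by rw [← h1]; exact pa_ne_pb.symm
      have e1 := abs_cases h.1
      rw [← h1] at e1
      have e2 := abs_cases (h.2 pb h2)
      exact ⟨-x0, neg_mem x0_mem, by rw [sqNorm_neg, norm_x0], by rw [dotInt_neg_right, dot_v0_x0]; norm_num,
        by rw [dotInt_neg_left, dot_x0]; omega⟩
    · have e1 := abs_cases (h.2 pa h1)
      by_cases h2 : pb = i
      · have e2 := abs_cases h.1
        rw [← h2] at e2
        exact ⟨x0, x0_mem, norm_x0, dot_v0_x0, by rw [dot_x0]; omega⟩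
      · exfalso
        have e2 := abs_cases (h.2 pb h2)
        omega

/-- a vector of norm 48 with one coordinate 5 given by two of its coordinates -/
theorem t5_of {u : Vec} (hu : u ∈ leechLattice) (hn : sqNorm u = 48) {p : GolayPt} (hp : u p = 5) : T5 u p := by
  rcases shape48 hu hn with ⟨D, h⟩ | ⟨O, k, h⟩ | ⟨i, j, k, h⟩ | ⟨i, h⟩
  · exfalso
    by_cases hp' : p ∈ D
    · have := abs_cases (h.2.1 p hp'); omega
    · have := h.2.2 p hp'; omega
  · exfalso
    by_cases hp' : p ∈ O
    · have := abs_cases (h.2.2.2.1 p hp'); omega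
    · by_cases hk : p = k
      · have := abs_cases h.2.2.1; rw [← hk] at this; omega
      · have := h.2.2.2.2 p hp' hk; omega
  · exfalso
    rcases h.val p with h1 | h1 <;> have := abs_cases h1 <;> omega
  · by_cases hpi : p = i
    · rw [hpi]; exact h
    · exfalso
      have := abs_cases (h.2 p hpi); omega

theorem TH3 {x y u : Vec} (hx : x ∈ leechLattice) (hy : y ∈ leechLattice) (hu : u ∈ leechLattice)
    (hxn : sqNorm x = 32) (hyn : sqNorm y = 32) (hun : sqNorm u = 48) (hxy : dotInt x y = 0)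
    (hxu : dotInt x u = -16) (hyu : dotInt y u = 24) : Eqv [x, y, u] [v0, x0, r5 pb] := by
  obtain ⟨g, g1, g2⟩ := frame hx hy hxn hyn hxy
  have hgu := app_mem g hu
  have e1 : dotInt v0 (app g u) = -16 := by rw [← g1, app_dot g hx hu, hxu]
  have e2 : dotInt x0 (app g u) = 24 := by rw [← g2, app_dot g hy hu, hyu]
  rw [dot_v0] at e1
  rw [dot_x0] at e2
  have e3 : app g u pa = 1 := by omega
  have e4 : app g u pb = 5 := by omega
  have s0 : Eqv [x, y, u] [v0, x0, app g u] := ⟨g, by simp [g1, g2]⟩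
  have h5 := t5_of hgu (by rw [app_norm g hu, hun]) e4
  have hw := (h5.inL hgu).2.2
  have s1 := Eqv.sgn (mem3 v0_mem x0_mem hgu) hw
  have ha : pa ∉ cls (app g u) 3 := by rw [mem_cls, e3]; norm_num
  have hb : pb ∉ cls (app g u) 3 := by rw [mem_cls, e4]; norm_num
  have e5 : Golay.sgn (cls (app g u) (1 + 2)) (app g u) = r5 pb := h5.sgn
  simp only [List.map_cons, List.map_nil, e5] at s1
  rw [show (1 : ℤ) + 2 = 3 by norm_num, sgn_v0 ha hb, sgn_x0 ha hb] at s1
  exact s0.trans s1

theorem TH {x u : Vec} (hx : x ∈ leechLattice) (hu : u ∈ leechLattice)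
    (hxn : sqNorm x = 32) (hun : sqNorm u = 48) (hxu : dotInt x u = -16) : Eqv [x, u] [v0, r5 pb] := by
  obtain ⟨y, hy, h1, h2, h3⟩ := exists_after hx hu hxn (P := fun t => t = 24) 32 (fun w' hw' e1 e2 =>
    helpH hw' (e1.trans hun) (e2.trans hxu))
  obtain ⟨g, hg⟩ := TH3 hx hy hu hxn h1 hun h2 hxu h3
  simp only [List.map_cons, List.map_nil, List.cons.injEq, and_true] at hg
  exact ⟨g, by simp [hg.1, hg.2.2]⟩

end Cfsg.Agent.Lib.Golay
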