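import Cfsg.Agent.Lib.Golay.LeechCount3
import Cfsg.Agent.Lib.Golay.LeechFrames

/-!
Counting in frames; transport of counts.
-/

set_option autoImplicit false

namespace Cfsg.Agent.Lib.Golay

open scoped Pointwise
open Cfsg Finset

theorem min_bd {x : Vec} (hx : x ∈ leechLattice) (hn : sqNorm x = 32) (k : GolayPt) : |x k| ≤ 4 := by
  rcases shape32 hx hn with ⟨i, j, h⟩ | ⟨O, h⟩ | ⟨j, h⟩
  · by_cases h1 : k = i
    · subst h1; rcases h.2.1 with h2 | h2 <;> rw [h2] <;> norm_num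
    · by_cases h2 : k = j
      · subst h2; rcases h.2.2.1 with h2 | h2 <;> rw [h2] <;> norm_num
      · rw [h.2.2.2 k h1 h2]; norm_num
  · by_cases h1 : k ∈ O
    · rcases h.2.1 k h1 with h2 | h2 <;> rw [h2] <;> norm_num
    · rw [h.2.2 k h1]; norm_num
  · by_cases h1 : k = j
    · subst h1; rcases h.1 with h2 | h2 <;> rw [h2] <;> norm_num
    · rcases h.2 k h1 with h2 | h2 <;> rw [h2] <;> norm_num

theorem ncard_app (g : Co0) (P Q : Vec → Prop) (h : ∀ w ∈ leechLattice, P w ↔ Q (app g w)) :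
    {w : Vec | w ∈ leechLattice ∧ P w}.ncard = {w : Vec | w ∈ leechLattice ∧ Q w}.ncard := by
  refine Set.ncard_congr (fun w _ => app g w) ?_ ?_ ?_
  · rintro w ⟨h1, h2⟩
    exact ⟨app_mem g h1, (h w h1).1 h2⟩
  · intro a b _ _ hab
    exact app_injective g hab
  · rintro w ⟨h1, h2⟩
    refine ⟨app g⁻¹ w, ⟨app_mem _ h1, ?_⟩, app_app_inv g w⟩
    rw [h _ (app_mem _ h1), app_app_inv]; exact h2

theorem ncard_sub (P : leechLattice → Prop) (Q : Vec → Prop) (h : ∀ x : leechLattice, P x ↔ Q x) :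
    {x : leechLattice | P x}.ncard = {x : Vec | x ∈ leechLattice ∧ Q x}.ncard := by
  refine Set.ncard_congr (fun w _ => (w : Vec)) ?_ ?_ ?_
  · intro w h1; exact ⟨w.2, (h w).1 h1⟩
  · intro a b _ _ hab; exact Subtype.ext hab
  · rintro w ⟨h1, h2⟩
    exact ⟨⟨w, h1⟩, (h ⟨w, h1⟩).2 h2, rfl⟩

theorem sum_T3 (x : Vec) : ∑ i, x i = x pa + x pb + x (pt 1) + ∑ i ∈ T3ᶜ, x i := by
  rw [← sum_add_sum_compl T3]
  congr 1
  unfold T3
  rw [sum_insert (by decide), sum_insert (by decide), sum_singleton, add_assoc]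

/-- counting minimal vectors with conditions on the special coordinates and a linear condition -/
theorem count_min (wa wb wc w : ℤ) (cond : ℤ → ℤ → ℤ → Bool) (d : ℤ) (c : ℕ)
    (hd : 0 ≤ d + (4 : ℕ) * (|wa| + |wb| + |wc| + 21 * |w|))
    (hB : total 4 (fun a b c => if cond a b c then 1 else 0) (fun _ => 1) < 2 * (2 ^ 44 : ℕ))
    (hc : (total 4 (fun a b c => if cond a b c then (((2 ^ 44) ^ (ex 4 385 wa a + ex 4 385 wb b + ex 4 385 wc c) : ℕ) : ℤ)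
      else 0) (fun a => (((2 ^ 44) ^ ex 4 385 w a : ℕ) : ℤ))).toNat / 2 /
        (2 ^ 44) ^ (32 + 385 * (d + (4 : ℕ) * (|wa| + |wb| + |wc| + 21 * |w|)).toNat) % (2 ^ 44) = c) (P : Vec → Prop)
    (hP : ∀ x, P x ↔ sqNorm x = 32 ∧ cond (x pa) (x pb) (x (pt 1)) = true ∧
      wa * x pa + wb * x pb + wc * x (pt 1) + w * ∑ i ∈ T3ᶜ, x i = d) :
    {x : Vec | x ∈ leechLattice ∧ P x}.ncard = c := by
  rw [← count_lin 4 385 (2 ^ 44) wa wb wc w cond 32 d c (by decide) (by decide) hd hB hc]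
  congr 1
  ext x
  constructor
  · rintro ⟨h1, h2⟩
    have h3 := (hP x).1 h2
    exact ⟨h1, min_bd h1 h3.1, h3.2.1, h3.1, h3.2.2⟩
  · rintro ⟨h1, h2, h3, h4, h5⟩
    exact ⟨h1, (hP x).2 ⟨h4, h3, h5⟩⟩

theorem c_v0_16 : {x : Vec | x ∈ leechLattice ∧ (sqNorm x = 32 ∧ dotInt v0 x = -16)}.ncard = 4600 :=
  count_min 1 (-1) 0 0 (fun _ _ _ => true) (-4) 4600 (by decide) (by decide +kernel) (by decide +kernel) _ (by
    intro x; rw [dot_v0]; constructor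
    · rintro ⟨h1, h2⟩; exact ⟨h1, rfl, by linarith⟩
    · rintro ⟨h1, _, h2⟩; exact ⟨h1, by linarith⟩)

theorem c_v0_8 : {x : Vec | x ∈ leechLattice ∧ (sqNorm x = 32 ∧ dotInt v0 x = -8)}.ncard = 47104 :=
  count_min 1 (-1) 0 0 (fun _ _ _ => true) (-2) 47104 (by decide) (by decide +kernel) (by decide +kernel) _ (by
    intro x; rw [dot_v0]; constructor
    · rintro ⟨h1, h2⟩; exact ⟨h1, rfl, by linarith⟩
    · rintro ⟨h1, _, h2⟩; exact ⟨h1, by linarith⟩)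

theorem c_v0_0 : {x : Vec | x ∈ leechLattice ∧ (sqNorm x = 32 ∧ dotInt v0 x = 0)}.ncard = 93150 :=
  count_min 1 (-1) 0 0 (fun _ _ _ => true) 0 93150 (by decide) (by decide +kernel) (by decide +kernel) _ (by
    intro x; rw [dot_v0]; constructor
    · rintro ⟨h1, h2⟩; exact ⟨h1, rfl, by linarith⟩
    · rintro ⟨h1, _, h2⟩; exact ⟨h1, by linarith⟩)

theorem dot_r5_pb (x : Vec) : dotInt (r5 pb) x = 1 * x pa + 5 * x pb + 1 * x (pt 1) + 1 * ∑ i ∈ T3ᶜ, x i := by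
  rw [dot_r5, sum_T3]; ring

theorem dot_r5_pa (x : Vec) : dotInt (r5 pa) x = 5 * x pa + 1 * x pb + 1 * x (pt 1) + 1 * ∑ i ∈ T3ᶜ, x i := by
  rw [dot_r5, sum_T3]; ring

theorem c_11178 : {x : Vec | x ∈ leechLattice ∧ (sqNorm x = 32 ∧ dotInt (r5 pb) x = -16)}.ncard = 11178 :=
  count_min 1 5 1 1 (fun _ _ _ => true) (-16) 11178 (by decide) (by decide +kernel) (by decide +kernel) _ (by
    intro x; rw [dot_r5_pb]; constructor
    · rintro ⟨h1, h2⟩; exact ⟨h1, rfl, h2⟩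
    · rintro ⟨h1, _, h2⟩; exact ⟨h1, h2⟩)

theorem c_552 : {x : Vec | x ∈ leechLattice ∧ (sqNorm x = 32 ∧ dotInt (r5 pb) x = 24)}.ncard = 552 :=
  count_min 1 5 1 1 (fun _ _ _ => true) 24 552 (by decide) (by decide +kernel) (by decide +kernel) _ (by
    intro x; rw [dot_r5_pb]; constructor
    · rintro ⟨h1, h2⟩; exact ⟨h1, rfl, h2⟩
    · rintro ⟨h1, _, h2⟩; exact ⟨h1, h2⟩)

theorem c_100 : {x : Vec | x ∈ leechLattice ∧ (sqNorm x = 32 ∧ dotInt v0 x = 0 ∧ dotInt (r5 pb) x = 24)}.ncard = 100 :=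
  count_min 1 5 1 1 (fun a b _ => a == b) 24 100 (by decide) (by decide +kernel) (by decide +kernel) _ (by
    intro x; rw [dot_r5_pb, dot_v0]; simp only [beq_iff_eq]; constructor
    · rintro ⟨h1, h2, h3⟩; exact ⟨h1, by linarith, h3⟩
    · rintro ⟨h1, h2, h3⟩; exact ⟨h1, by linarith, h3⟩)

theorem c_22 : {x : Vec | x ∈ leechLattice ∧ (sqNorm x = 32 ∧ dotInt v0 x = 0 ∧ dotInt (r5 pb) x = 24 ∧
    dotInt x0 x = 8)}.ncard = 22 :=
  count_min 1 5 1 1 (fun a b _ => (a == b) && (a + b == 2)) 24 22 (by decide) (by decide +kernel) (by decide +kernel) _ (by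
    intro x; rw [dot_r5_pb, dot_v0, dot_x0]; simp only [Bool.and_eq_true, beq_iff_eq]; constructor
    · rintro ⟨h1, h2, h3, h4⟩; exact ⟨h1, ⟨by linarith, by linarith⟩, h3⟩
    · rintro ⟨h1, ⟨h2, h4⟩, h3⟩; exact ⟨h1, by linarith, h3, by linarith⟩)

theorem c_275 : {x : Vec | x ∈ leechLattice ∧ (sqNorm x = 32 ∧ dotInt x0 x = 16 ∧ dotInt (r5 pb) x = 24)}.ncard = 275 :=
  count_min 1 5 1 1 (fun a b _ => a + b == 4) 24 275 (by decide) (by decide +kernel) (by decide +kernel) _ (by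
    intro x; rw [dot_r5_pb, dot_x0]; simp only [beq_iff_eq]; constructor
    · rintro ⟨h1, h2, h3⟩; exact ⟨h1, by linarith, h3⟩
    · rintro ⟨h1, h2, h3⟩; exact ⟨h1, by linarith, h3⟩)

/-- the third vector of the McLaughlin frame -/
def y0 : Vec := sg pa 4 + sg (pt 1) 4

theorem dot_y0 (x : Vec) : dotInt y0 x = 4 * (x pa + x (pt 1)) := by
  unfold y0; rw [dot_sg_add]; ring

theorem y0_mem : y0 ∈ leechLattice := sg_add_mem (by decide) (Or.inl rfl) (Or.inl rfl)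

theorem y0_pa : y0 pa = 4 := by decide +kernel
theorem y0_pb : y0 pb = 0 := by decide +kernel
theorem y0_p1 : y0 (pt 1) = 4 := by decide +kernel

theorem norm_y0 : sqNorm y0 = 32 := by
  rw [← dotInt_self, dot_y0, y0_pa, y0_p1]; norm_num

theorem c_112 : {x : Vec | x ∈ leechLattice ∧ (sqNorm x = 32 ∧ dotInt x0 x = 16 ∧ dotInt (r5 pa) x = 24 ∧
    dotInt y0 x = 8)}.ncard = 112 :=
  count_min 5 1 1 1 (fun a b c => (a + b == 4) && (a + c == 2)) 24 112 (by decide) (by decide +kernel) (by decide +kernel) _ (by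
    intro x; rw [dot_r5_pa, dot_x0, dot_y0]; simp only [Bool.and_eq_true, beq_iff_eq]; constructor
    · rintro ⟨h1, h2, h3, h4⟩; exact ⟨h1, ⟨by linarith, by linarith⟩, h3⟩
    · rintro ⟨h1, ⟨h2, h4⟩, h3⟩; exact ⟨h1, by linarith, h3, by linarith⟩)

theorem c_162 : {x : Vec | x ∈ leechLattice ∧ (sqNorm x = 32 ∧ dotInt x0 x = 16 ∧ dotInt (r5 pa) x = 24 ∧
    dotInt y0 x = 16)}.ncard = 162 :=
  count_min 5 1 1 1 (fun a b c => (a + b == 4) && (a + c == 4)) 24 162 (by decide) (by decide +kernel) (by decide +kernel) _ (by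
    intro x; rw [dot_r5_pa, dot_x0, dot_y0]; simp only [Bool.and_eq_true, beq_iff_eq]; constructor
    · rintro ⟨h1, h2, h3, h4⟩; exact ⟨h1, ⟨by linarith, by linarith⟩, h3⟩
    · rintro ⟨h1, ⟨h2, h4⟩, h3⟩; exact ⟨h1, by linarith, h3, by linarith⟩)

end Cfsg.Agent.Lib.Golay
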