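import Cfsg.Agent.Lib.Golay.LeechMcL

/-!
The rank 3 action on 100 points.
-/

set_option autoImplicit false

namespace Cfsg.Agent.Lib.Golay

open scoped Pointwise
open Cfsg Finset

theorem ShO.sum' {x : Vec} {j : GolayPt} (h : ShO x j) (h3 : x j = -3) : ∑ k, x k = 20 - 2 * ((cls x 3).card : ℤ) := by
  have hd : ∀ k, x k = 1 - (if k ∈ cls x 3 then 2 else 0) - (if k = j then 4 else 0) := by
    intro k
    by_cases h1 : k = j
    · subst h1
      rw [if_neg (by rw [mem_cls, h3]; norm_num), if_pos rfl, h3]; norm_num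
    · rw [if_neg h1]
      rcases h.2 k h1 with h2 | h2
      · rw [if_neg (by rw [mem_cls, h2]; norm_num), h2]; norm_num
      · rw [if_pos (by rw [mem_cls, h2]; norm_num), h2]; norm_num
  rw [sum_congr rfl (fun k _ => hd k), sum_sub_distrib, sum_sub_distrib, sum_ind, sum_ite_eq',
    if_pos (mem_univ _), sum_const, card_univ, card_golayPt]
  norm_num
  ring

theorem ShO.of_empty {x : Vec} {j : GolayPt} (h : ShO x j) (hc : cls x 3 = ∅) : x = rO j := by
  have h1 := h.sgn
  rw [hc] at h1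
  rw [← h1]
  ext k
  unfold Golay.sgn
  simp

theorem Sh8.sum_le {x : Vec} {O : Finset GolayPt} (h : Sh8 x O) : ∑ k, x k ≤ 16 := by
  have h1 : ∑ k, x k = ∑ k ∈ O, x k := by
    symm
    exact sum_subset (subset_univ O) (fun k _ hk => h.2.2 k hk)
  have h2 : ∑ k ∈ O, x k ≤ ∑ _k ∈ O, 2 := sum_le_sum (fun k hk => by have := h.2.1 k hk; omega)
  rw [sum_const, (mem_octads.1 h.1).2] at h2
  rw [h1]; simpa using h2

/-- the 100 points -/
theorem hs_cases {y : Vec} (hy : y ∈ leechLattice) (hn : sqNorm y = 32) (h1 : dotInt v0 y = 0)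
    (h2 : dotInt (r5 pb) y = 24) : y = x0 ∨ (∃ O, O ∈ octads ∧ pa ∈ O ∧ pb ∈ O ∧ y = r8 O) ∨
      ∃ j, j ≠ pa ∧ j ≠ pb ∧ y = rO j := by
  rw [dot_v0] at h1
  rw [dot_r5] at h2
  rcases shape32 hy hn with ⟨i, j, h⟩ | ⟨O, h⟩ | ⟨j, h⟩
  · left
    rw [h.sum] at h2
    have hval : ∀ k, y k = 4 ∨ y k = -4 ∨ y k = 0 := by
      intro k
      by_cases h1 : k = i
      · subst h1; have := h.2.1; omega
      · by_cases h2 : k = j
        · subst h2; have := h.2.2.1; omega
        · exact Or.inr (Or.inr (h.2.2.2 k h1 h2))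
    have ha := hval pa
    have hb := hval pb
    have h3 := h.2.1
    have h4 := h.2.2.1
    have h5 : y pb = 4 := by omega
    have h6 : y pa = 4 := by omega
    have h7 : y i = 4 ∧ y j = 4 := by omega
    have e1 : pa = i ∨ pa = j := by
      by_contra hc; push Not at hc
      have := h.2.2.2 pa hc.1 hc.2; omega
    have e2 : pb = i ∨ pb = j := by
      by_contra hc; push Not at hc
      have := h.2.2.2 pb hc.1 hc.2; omega
    rw [norm_of_sg h h7.1 h7.2]
    unfold x0
    rcases e1 with e1 | e1 <;> rcases e2 with e2 | e2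
    · exact absurd (e1.trans e2.symm) pa_ne_pb
    · rw [e1, e2]
    · rw [e1, e2, add_comm]
    · exact absurd (e1.trans e2.symm) pa_ne_pb
  · right; left
    have h3 := h.sum_le
    have hval : ∀ k, y k = 2 ∨ y k = -2 ∨ y k = 0 := by
      intro k
      by_cases h1 : k ∈ O
      · have := h.2.1 k h1; omega
      · exact Or.inr (Or.inr (h.2.2 k h1))
    have hb := hval pb
    have h5 : y pb = 2 := by omega
    have ha : pa ∈ O := by
      by_contra hc
      have := h.2.2 pa hc; omega
    have hb : pb ∈ O := by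
      by_contra hc
      have := h.2.2 pb hc; omega
    exact ⟨O, h.1, ha, hb, h.all_pos (by omega)⟩
  · right; right
    have hw : IsWord (cls y 3) := (h.inL hy).2.2
    have hcard := hw.card
    have hb : y pb = 1 ∨ y pb = -1 := by
      by_cases hbj : pb = j
      · exfalso
        have h3 := h.1
        rw [← hbj] at h3
        have := h.2 pa (by rw [← hbj]; exact pa_ne_pb)
        omega
      · exact h.2 pb hbj
    have hmem : pb ∈ cls y 3 ↔ _ := mem_cls
    rcases h.1 with h3 | h3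
    · exfalso
      have h4 := h.sum h3
      rw [h4] at h2
      rcases hb with hb | hb
      · omega
      · have h5 : 0 < (cls y 3).card := card_pos.2 ⟨pb, hmem.2 (by rw [hb]; norm_num)⟩
        omega
    · have h4 := h.sum' h3
      rw [h4] at h2
      rcases hb with hb | hb
      · have h5 : (cls y 3).card = 0 := by omega
        have h6 := h.of_empty (card_eq_zero.1 h5)
        refine ⟨j, ?_, ?_, h6⟩
        · rintro rfl; omega
        · rintro rfl; omega
      · exfalso; omega

theorem x0_r8 {O : Finset GolayPt} (ha : pa ∈ O) (hb : pb ∈ O) : dotInt x0 (r8 O) = 16 := by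
  rw [dot_x0]; unfold r8; rw [if_pos ha, if_pos hb]; norm_num

theorem x0_rO {j : GolayPt} (ha : j ≠ pa) (hb : j ≠ pb) : dotInt x0 (rO j) = 8 := by
  rw [dot_x0]; unfold rO; rw [if_neg ha.symm, if_neg hb.symm]; norm_num

/-- normal forms of quadruples (z, x, v, y) -/
theorem TH22 {z x v y : Vec} (hz : z ∈ leechLattice) (hx : x ∈ leechLattice) (hv : v ∈ leechLattice)
    (hy : y ∈ leechLattice) (n1 : sqNorm z = 32) (n2 : sqNorm x = 32) (n3 : sqNorm v = 48) (n4 : sqNorm y = 32)
    (h12 : dotInt z x = 0) (h13 : dotInt z v = -16) (h23 : dotInt x v = 24) (h14 : dotInt z y = 0)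
    (h34 : dotInt v y = 24) (h24 : dotInt x y = 8) : Eqv [z, x, v, y] [v0, x0, r5 pb, rO (pt 1)] := by
  obtain ⟨g, hg⟩ := TH3 hz hx hv n1 n2 n3 h12 h13 h23
  simp only [List.map_cons, List.map_nil, List.cons.injEq, and_true] at hg
  obtain ⟨g1, g2, g3⟩ := hg
  have hgy := app_mem g hy
  have s0 : Eqv [z, x, v, y] [v0, x0, r5 pb, app g y] := ⟨g, by simp [g1, g2, g3]⟩
  have e2 : dotInt x0 (app g y) = 8 := by rw [← g2, app_dot g hx hy, h24]
  rcases hs_cases hgy (by rw [app_norm g hy, n4]) (by rw [← g1, app_dot g hz hy, h14])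
    (by rw [← g3, app_dot g hv hy, h34]) with h | ⟨O, hO, haO, hbO, h⟩ | ⟨j, hja, hjb, h⟩
  · exfalso
    rw [h, dotInt_self, norm_x0] at e2; norm_num at e2
  · exfalso
    rw [h, x0_r8 haO hbO] at e2; norm_num at e2
  · obtain ⟨σ, hσ, f1, f2, f3⟩ := exists_map_three (a := pa) (b := pb) (c := j) (a' := pa) (b' := pb) (c' := pt 1)
      (by simp only [List.nodup_cons, List.mem_cons, List.not_mem_nil, or_false, not_or, List.nodup_nil, and_true,
            not_false_eq_true]
          exact ⟨⟨pa_ne_pb, hja.symm⟩, hjb.symm⟩) (by decide)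
    have s1 := Eqv.prm (s0.mem (mem4 hz hx hv hy)) hσ
    rw [h] at s0 s1
    simp only [List.map_cons, List.map_nil, prm_v0 f1 f2, prm_x0 f1 f2, prm_r5, prm_rO, f2, f3] at s1
    exact s0.trans s1

theorem TH77 {z x v y : Vec} (hz : z ∈ leechLattice) (hx : x ∈ leechLattice) (hv : v ∈ leechLattice)
    (hy : y ∈ leechLattice) (n1 : sqNorm z = 32) (n2 : sqNorm x = 32) (n3 : sqNorm v = 48) (n4 : sqNorm y = 32)
    (h12 : dotInt z x = 0) (h13 : dotInt z v = -16) (h23 : dotInt x v = 24) (h14 : dotInt z y = 0)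
    (h34 : dotInt v y = 24) (h24 : dotInt x y ≠ 8) (hne : y ≠ x) :
    Eqv [z, x, v, y] [v0, x0, r5 pb, r8 O13] := by
  obtain ⟨g, hg⟩ := TH3 hz hx hv n1 n2 n3 h12 h13 h23
  simp only [List.map_cons, List.map_nil, List.cons.injEq, and_true] at hg
  obtain ⟨g1, g2, g3⟩ := hg
  have hgy := app_mem g hy
  have s0 : Eqv [z, x, v, y] [v0, x0, r5 pb, app g y] := ⟨g, by simp [g1, g2, g3]⟩
  have e2 : dotInt x0 (app g y) ≠ 8 := by rw [← g2, app_dot g hx hy]; exact h24
  rcases hs_cases hgy (by rw [app_norm g hy, n4]) (by rw [← g1, app_dot g hz hy, h14])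
    (by rw [← g3, app_dot g hv hy, h34]) with h | ⟨O, hO, haO, hbO, h⟩ | ⟨j, hja, hjb, h⟩
  · exfalso
    exact hne (app_injective g (h.trans g2.symm))
  · obtain ⟨σ, hσ, f1, f2⟩ := oct_in hO O13_mem (k := 2) (by norm_num) (x := fun i => if i = 0 then pa else pb)
      (y := fun i => if i = 0 then pa else pb) (by
        intro i hi; interval_cases i
        · exact haO
        · exact hbO) (by
        intro i hi j hj; interval_cases i
        · omega
        · interval_cases j; exact pa_ne_pb) (by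
        intro i hi; interval_cases i
        · decide +kernel
        · decide +kernel) (by
        intro i hi j hj; interval_cases i
        · omega
        · interval_cases j; exact pa_ne_pb)
    have f4 : σ pa = pa := f2 0 (by norm_num)
    have f5 : σ pb = pb := f2 1 (by norm_num)
    have s1 := Eqv.prm (s0.mem (mem4 hz hx hv hy)) hσ
    rw [h] at s0 s1
    simp only [List.map_cons, List.map_nil, prm_v0 f4 f5, prm_x0 f4 f5, prm_r5, prm_r8, f1, f5] at s1
    exact s0.trans s1
  · exfalso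
    rw [h, x0_rO hja hjb] at e2; exact e2 rfl

/-- the vector completing a Higman-Sims pair -/
theorem hs_third {v w : Vec} (hv : sqNorm v = 48) (hw : sqNorm w = 48) (h : dotInt v w = -32) :
    sqNorm (-(v + w)) = 32 ∧ dotInt (-(v + w)) v = -16 ∧ dotInt (-(v + w)) w = -16 := by
  refine ⟨?_, ?_, ?_⟩
  · rw [sqNorm_neg, sqNorm_add]; omega
  · rw [dotInt_neg_left, dotInt_add_left, dotInt_self, dotInt_comm w v]; omega
  · rw [dotInt_neg_left, dotInt_add_left, dotInt_self]; omega

theorem toR5 {u : Vec} (hu : u ∈ leechLattice) (hn : sqNorm u = 48) : ∃ g : Co0, app g u = r5 pb := by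
  obtain ⟨a, ha, h1, h2⟩ := dec48 hu hn
  obtain ⟨g, hg⟩ := (T48 ha hu h1 hn h2).trans (T48 x0_mem (r5_mem pb) norm_x0 (norm_r5 pb) (dot_x0_r5 pb (Or.inr rfl))).symm
  simp only [List.map_cons, List.map_nil, List.cons.injEq, and_true] at hg
  exact ⟨g, hg.2⟩

/-- transporting a count: one fixed vector -/
theorem ncard_dot1 (g : Co0) {u u' : Vec} (hu : u ∈ leechLattice) (h : app g u = u') (d n : ℤ) :
    {x : Vec | x ∈ leechLattice ∧ (sqNorm x = n ∧ dotInt u x = d)}.ncard =
      {x : Vec | x ∈ leechLattice ∧ (sqNorm x = n ∧ dotInt u' x = d)}.ncard :=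
  ncard_app g _ _ (fun w hw => by rw [app_norm g hw, ← h, app_dot g hu hw])

theorem ncard_dot2 (g : Co0) {u u' v v' : Vec} (hu : u ∈ leechLattice) (h : app g u = u') (hv : v ∈ leechLattice)
    (h' : app g v = v') (d e n : ℤ) :
    {x : Vec | x ∈ leechLattice ∧ (sqNorm x = n ∧ dotInt u x = d ∧ dotInt v x = e)}.ncard =
      {x : Vec | x ∈ leechLattice ∧ (sqNorm x = n ∧ dotInt u' x = d ∧ dotInt v' x = e)}.ncard :=
  ncard_app g _ _ (fun w hw => by rw [app_norm g hw, ← h, ← h', app_dot g hu hw, app_dot g hv hw])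

theorem ncard_dot3 (g : Co0) {u u' v v' t t' : Vec} (hu : u ∈ leechLattice) (h : app g u = u') (hv : v ∈ leechLattice)
    (h' : app g v = v') (ht : t ∈ leechLattice) (h'' : app g t = t') (d e f n : ℤ) :
    {x : Vec | x ∈ leechLattice ∧ (sqNorm x = n ∧ dotInt u x = d ∧ dotInt v x = e ∧ dotInt t x = f)}.ncard =
      {x : Vec | x ∈ leechLattice ∧ (sqNorm x = n ∧ dotInt u' x = d ∧ dotInt v' x = e ∧ dotInt t' x = f)}.ncard :=
  ncard_app g _ _ (fun w hw => by rw [app_norm g hw, ← h, ← h', ← h'', app_dot g hu hw, app_dot g hv hw, app_dot g ht hw])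

end Cfsg.Agent.Lib.Golay
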