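import Cfsg.Agent.Lib.Golay.Leech
import Mathlib.GroupTheory.Index

/-!
The index of the rank-24 lattice in the lattice of integer vectors.
-/

set_option autoImplicit false

namespace Cfsg.Agent.Lib.Golay

open scoped Pointwise
open Cfsg Finset

/-- differences of coordinates modulo 2 -/
def f1 : (GolayPt → ℤ) →+ (ZMod 23 → ZMod 2) where
  toFun x := fun i => ((x (some i) - x none : ℤ) : ZMod 2)
  map_zero' := by ext i; simp
  map_add' x y := by ext i; simp; ring

theorem f1_surj : Function.Surjective f1 := by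
  intro v
  refine ⟨fun i => match i with | none => 0 | some j => ((v j).val : ℤ), ?_⟩
  ext i
  simp [f1]

theorem intCast_zmod2 (a : ℤ) : (a : ZMod 2) = 0 ↔ a % 2 = 0 := by
  rw [ZMod.intCast_zmod_eq_zero_iff_dvd]; norm_num

theorem mem_ker_f1 {x : GolayPt → ℤ} : x ∈ f1.ker ↔ ∀ i, (x i - x none) % 2 = 0 := by
  rw [AddMonoidHom.mem_ker, funext_iff]
  constructor
  · intro h i
    cases i with
    | none => simp
    | some j => exact (intCast_zmod2 _).1 (h j)
  · intro h i
    exact (intCast_zmod2 _).2 (h (some i))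

theorem index_f1 : f1.ker.index = 2 ^ 23 := by
  rw [AddSubgroup.index_ker, AddMonoidHom.range_eq_top.2 f1_surj, AddSubgroup.card_top, Nat.card_eq_fintype_card,
    Fintype.card_fun, ZMod.card, ZMod.card]

/-- half differences -/
def hd (x : GolayPt → ℤ) : GolayPt → ZMod 2 := fun i => (((x i - x none) / 2 : ℤ) : ZMod 2)

/-- the class of half differences modulo the code -/
def f2 : f1.ker →+ (GolayPt → ZMod 2) ⧸ golayCode.toAddSubgroup where
  toFun x := QuotientAddGroup.mk (hd x)
  map_zero' := by
    have : hd ((0 : f1.ker) : GolayPt → ℤ) = 0 := by ext i; simp [hd]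
    rw [this]; rfl
  map_add' x y := by
    have : hd ((x + y : f1.ker) : GolayPt → ℤ) = hd x + hd y := by
      ext i
      have h1 := mem_ker_f1.1 x.2 i
      have h2 := mem_ker_f1.1 y.2 i
      have h3 : ((x + y : f1.ker) : GolayPt → ℤ) i - ((x + y : f1.ker) : GolayPt → ℤ) none =
          ((x : GolayPt → ℤ) i - (x : GolayPt → ℤ) none) + ((y : GolayPt → ℤ) i - (y : GolayPt → ℤ) none) := by
        simp only [AddSubgroup.coe_add, Pi.add_apply]; ring
      simp only [hd, Pi.add_apply, h3]
      rw [← Int.cast_add]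
      congr 1
      omega
    rw [this]; rfl

theorem support_hd {x : GolayPt → ℤ} (hx : ∀ i, (x i - x none) % 2 = 0) :
    support₂ (hd x) = cls x (x none + 2) := by
  ext i
  rw [support₂, mem_filter, mem_cls]
  have := hx i
  simp only [mem_univ, true_and, hd, ne_eq, intCast_zmod2]
  omega

theorem mem_code_iff {w : GolayPt → ZMod 2} : w ∈ golayCode ↔ IsWord (support₂ w) := by
  rw [isWord_iff]
  constructor
  · intro h; exact ⟨w, h, rfl⟩
  · rintro ⟨v, hv, e⟩
    have : v = w := by
      ext i
      have h1 : i ∈ support₂ v ↔ i ∈ support₂ w := by rw [e]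
      simp only [support₂, mem_filter, mem_univ, true_and] at h1
      have h2 : ∀ a b : ZMod 2, (a ≠ 0 ↔ b ≠ 0) → a = b := by decide
      rw [h2 _ _ h1]
    rw [← this]; exact hv

/-- the second subgroup of the chain -/
def bSub : AddSubgroup (GolayPt → ℤ) := f2.ker.map f1.ker.subtype

theorem mem_bSub {x : GolayPt → ℤ} : x ∈ bSub ↔ (∀ i, (x i - x none) % 2 = 0) ∧ IsWord (cls x (x none + 2)) := by
  unfold bSub
  rw [AddSubgroup.mem_map]
  constructor
  · rintro ⟨y, hy, rfl⟩
    have h1 := mem_ker_f1.1 y.2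
    refine ⟨h1, ?_⟩
    rw [AddMonoidHom.mem_ker] at hy
    have h2 : QuotientAddGroup.mk (hd (y : GolayPt → ℤ)) = (0 : (GolayPt → ZMod 2) ⧸ golayCode.toAddSubgroup) := hy
    rw [QuotientAddGroup.eq_zero_iff] at h2
    rw [AddSubgroup.coe_subtype, ← support_hd h1]
    exact mem_code_iff.1 h2
  · rintro ⟨h1, h2⟩
    refine ⟨⟨x, mem_ker_f1.2 h1⟩, ?_, rfl⟩
    rw [AddMonoidHom.mem_ker]
    show QuotientAddGroup.mk (hd x) = (0 : (GolayPt → ZMod 2) ⧸ golayCode.toAddSubgroup)
    rw [QuotientAddGroup.eq_zero_iff]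
    apply mem_code_iff.2
    rw [support_hd h1]; exact h2

theorem f2_surj : Function.Surjective f2 := by
  intro q
  obtain ⟨v, rfl⟩ := QuotientAddGroup.mk_surjective q
  refine ⟨⟨fun i => 2 * ((v i).val : ℤ), mem_ker_f1.2 (fun i => by omega)⟩, ?_⟩
  show QuotientAddGroup.mk (hd fun i => 2 * ((v i).val : ℤ)) = _
  rw [QuotientAddGroup.eq]
  have : -(hd fun i => 2 * ((v i).val : ℤ)) + v = fun _ => v none := by
    ext i
    have h1 : (2 * ((v i).val : ℤ) - 2 * ((v none).val : ℤ)) / 2 = ((v i).val : ℤ) - ((v none).val : ℤ) := by omega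
    simp only [hd, Pi.add_apply, Pi.neg_apply, h1]
    push_cast
    rw [ZMod.natCast_zmod_val, ZMod.natCast_zmod_val]
    ring
  rw [this]
  apply mem_code_iff.2
  by_cases h : v none = 0
  · have : support₂ (fun _ : GolayPt => v none) = ∅ := by
      ext i; simp [support₂, h]
    rw [this]; exact isWord_empty
  · have : support₂ (fun _ : GolayPt => v none) = univ := by
      ext i; simp [support₂, h]
    rw [this]; exact isWord_univ

theorem card_quot : Nat.card ((GolayPt → ZMod 2) ⧸ golayCode.toAddSubgroup) = 2 ^ 12 := by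
  have h1 := AddSubgroup.card_eq_card_quotient_mul_card_addSubgroup golayCode.toAddSubgroup
  have h2 : Nat.card golayCode.toAddSubgroup = 2 ^ 12 := by
    have h3 : Nat.card golayCode.toAddSubgroup = {s : Finset GolayPt | IsWord s ∧ True}.ncard := by
      rw [← Nat.card_coe_set_eq]
      refine Nat.card_congr ⟨fun w => ⟨support₂ (w : GolayPt → ZMod 2), mem_code_iff.1 w.2, trivial⟩,
        fun s => ⟨fun i => if i ∈ (s : Finset GolayPt) then 1 else 0, ?_⟩, ?_, ?_⟩
      · apply mem_code_iff.2
        have : support₂ (fun i => if i ∈ (s : Finset GolayPt) then (1 : ZMod 2) else 0) = s := by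
          ext i; simp [support₂]
        rw [this]; exact s.2.1
      · intro w
        apply Subtype.ext
        ext i
        have h2 : ∀ a : ZMod 2, (if a ≠ 0 then (1 : ZMod 2) else 0) = a := by decide
        simp only [support₂, mem_filter, mem_univ, true_and]
        exact h2 _
      · intro s
        apply Subtype.ext
        ext i; simp [support₂]
    rw [h3, ncard_words_pred (F := fun _ => True) (f := fun _ => true) (fun s => by simp)]
    decide +kernel
  have h4 : Nat.card (GolayPt → ZMod 2) = 2 ^ 24 := by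
    rw [Nat.card_eq_fintype_card, Fintype.card_fun, ZMod.card, card_golayPt]
  rw [h2, h4] at h1
  omega

theorem index_f2 : f2.ker.index = 2 ^ 12 := by
  rw [AddSubgroup.index_ker, AddMonoidHom.range_eq_top.2 f2_surj, AddSubgroup.card_top, card_quot]

theorem bSub_le : bSub ≤ f1.ker := by
  rintro x hx
  exact mem_ker_f1.2 (mem_bSub.1 hx).1

theorem relIndex_b : bSub.relIndex f1.ker = 2 ^ 12 := by
  rw [← index_f2]
  unfold AddSubgroup.relIndex
  congr 1
  unfold bSub
  ext x
  rw [AddSubgroup.mem_addSubgroupOf, AddSubgroup.mem_map]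
  constructor
  · rintro ⟨y, hy, e⟩
    have : y = x := Subtype.ext e
    rw [← this]; exact hy
  · intro h
    exact ⟨x, h, rfl⟩

theorem sum_bSub {x : GolayPt → ℤ} (hx : x ∈ bSub) : (∑ i, x i) % 4 = 0 := by
  obtain ⟨h1, h3⟩ := mem_bSub.1 hx
  set m := x none with hm
  have key : ∀ i, ∃ t : ℤ, x i = m + (if i ∈ cls x (m + 2) then 2 else 0) + 4 * t := by
    intro i
    have := h1 i
    by_cases hi : i ∈ cls x (m + 2)
    · rw [if_pos hi]
      rw [mem_cls] at hi
      exact ⟨(x i - m - 2) / 4, by omega⟩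
    · rw [if_neg hi]
      rw [mem_cls] at hi
      exact ⟨(x i - m) / 4, by omega⟩
  choose t ht using key
  rw [Finset.sum_congr rfl (fun i _ => ht i), sum_add_distrib, sum_add_distrib, ← mul_sum, sum_ind,
    Finset.sum_const, nsmul_eq_mul, card_univ, card_golayPt]
  have h7 := h3.card_mod
  push_cast
  omega

/-- a quarter of the sum of the coordinates, corrected -/
def f3 : bSub →+ ZMod 2 where
  toFun x := ((((∑ i, (x : GolayPt → ℤ) i) - 4 * (x : GolayPt → ℤ) none) / 4 : ℤ) : ZMod 2)
  map_zero' := by simp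
  map_add' x y := by
    rw [← Int.cast_add]
    congr 1
    have h1 := sum_bSub x.2
    have h2 := sum_bSub y.2
    simp only [AddSubgroup.coe_add, Pi.add_apply, sum_add_distrib]
    omega

theorem f3_surj : Function.Surjective f3 := by
  have h0 : f3 0 = 0 := map_zero f3
  have hmem : (fun i : GolayPt => if i = some 0 then (4 : ℤ) else 0) ∈ bSub := by
    rw [mem_bSub]
    refine ⟨fun i => by split_ifs <;> simp, ?_⟩
    have : cls (fun i : GolayPt => if i = some 0 then (4 : ℤ) else 0) ((if (none : GolayPt) = some 0 then (4 : ℤ) else 0) + 2) = ∅ := by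
      ext i
      rw [mem_cls]
      by_cases hi : i = some 0
      · simp [hi]
      · simp [hi]
    rw [this]; exact isWord_empty
  have h1 : f3 ⟨_, hmem⟩ = 1 := by
    show ((((∑ i, if i = some (0 : ZMod 23) then (4 : ℤ) else 0) - 4 * (if (none : GolayPt) = some 0 then (4 : ℤ) else 0)) / 4 : ℤ) : ZMod 2) = 1
    rw [Finset.sum_ite_eq' univ (some (0 : ZMod 23)) (fun _ => (4 : ℤ))]
    simp
  intro a
  have : a = 0 ∨ a = 1 := by revert a; decide
  rcases this with rfl | rfl
  · exact ⟨0, h0⟩
  · exact ⟨_, h1⟩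

theorem leech_le_bSub : leechLattice ≤ bSub := by
  intro x hx
  obtain ⟨m, h⟩ := mem_leech.1 hx
  have h1 := h.1 none
  have h2 := h.congr (n := x none) (by omega)
  exact mem_bSub.2 ⟨h2.1, h2.2.2⟩

theorem relIndex_leech : leechLattice.relIndex bSub = 2 := by
  have h1 : leechLattice.addSubgroupOf bSub = f3.ker := by
    ext x
    rw [AddSubgroup.mem_addSubgroupOf, AddMonoidHom.mem_ker]
    show _ ↔ ((((∑ i, (x : GolayPt → ℤ) i) - 4 * (x : GolayPt → ℤ) none) / 4 : ℤ) : ZMod 2) = 0
    rw [intCast_zmod2]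
    have h2 := sum_bSub x.2
    obtain ⟨h3, h4⟩ := mem_bSub.1 x.2
    constructor
    · intro h
      obtain ⟨m, h⟩ := mem_leech.1 h
      have h1 := h.1 none
      have h5 := h.2.1
      omega
    · intro h
      exact mem_leech.2 ⟨(x : GolayPt → ℤ) none, h3, by omega, h4⟩
  unfold AddSubgroup.relIndex
  rw [h1, AddSubgroup.index_ker, AddMonoidHom.range_eq_top.2 f3_surj, AddSubgroup.card_top,
    Nat.card_eq_fintype_card, ZMod.card]

theorem index_leech : leechLattice.index = 2 ^ 36 := by
  rw [← AddSubgroup.relIndex_mul_index leech_le_bSub, relIndex_leech,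
    ← AddSubgroup.relIndex_mul_index bSub_le, relIndex_b, index_f1]
  norm_num

end Cfsg.Agent.Lib.Golay
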