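import Cfsg.Agent.Lib.Golay.LeechFrames2

/-!
Frames for the McLaughlin group and its action on 275 points.
-/

set_option autoImplicit false

namespace Cfsg.Agent.Lib.Golay

open scoped Pointwise
open Cfsg Finset

theorem sh4_of {x : Vec} (hx : x ∈ leechLattice) (hn : sqNorm x = 32) {p : GolayPt} (hp : |x p| = 4) :
    ∃ j, Sh4 x p j := by
  rcases shape32 hx hn with ⟨i, j, h⟩ | ⟨O, h⟩ | ⟨j, h⟩
  · by_cases h1 : p = i
    · exact ⟨j, h1 ▸ h⟩
    · by_cases h2 : p = j
      · exact ⟨i, h2 ▸ ⟨h.1.symm, h.2.2.1, h.2.1, fun k h3 h4 => h.2.2.2 k h4 h3⟩⟩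
      · rw [h.2.2.2 p h1 h2] at hp; norm_num at hp
  · exfalso
    have := abs_cases hp
    by_cases h1 : p ∈ O
    · have := h.2.1 p h1; omega
    · have := h.2.2 p h1; omega
  · exfalso
    have := abs_cases hp
    by_cases h1 : p = j
    · have := h.1; rw [← h1] at this; omega
    · have := h.2 p h1; omega

theorem sh8_of {x : Vec} (hx : x ∈ leechLattice) (hn : sqNorm x = 32) {p : GolayPt} (hp : |x p| = 2) :
    ∃ O, Sh8 x O ∧ p ∈ O := by
  have hp' := abs_cases hp
  rcases shape32 hx hn with ⟨i, j, h⟩ | ⟨O, h⟩ | ⟨j, h⟩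
  · exfalso
    by_cases h1 : p = i
    · have := h.2.1; rw [← h1] at this; omega
    · by_cases h2 : p = j
      · have := h.2.2.1; rw [← h2] at this; omega
      · have := h.2.2.2 p h1 h2; omega
  · refine ⟨O, h, ?_⟩
    by_contra h1
    have := h.2.2 p h1; omega
  · exfalso
    by_cases h1 : p = j
    · have := h.1; rw [← h1] at this; omega
    · have := h.2 p h1; omega

theorem shO_of {x : Vec} (hx : x ∈ leechLattice) (hn : sqNorm x = 32) {p : GolayPt} (hp : |x p| = 3) : ShO x p := by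
  have hp' := abs_cases hp
  rcases shape32 hx hn with ⟨i, j, h⟩ | ⟨O, h⟩ | ⟨j, h⟩
  · exfalso
    by_cases h1 : p = i
    · have := h.2.1; rw [← h1] at this; omega
    · by_cases h2 : p = j
      · have := h.2.2.1; rw [← h2] at this; omega
      · have := h.2.2.2 p h1 h2; omega
  · exfalso
    by_cases h1 : p ∈ O
    · have := h.2.1 p h1; omega
    · have := h.2.2 p h1; omega
  · by_cases h1 : p = j
    · rw [h1]; exact h
    · exfalso
      have := h.2 p h1; omega

theorem Sh4.sum {x : Vec} {i j : GolayPt} (h : Sh4 x i j) : ∑ k, x k = x i + x j := by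
  have h1 : ∀ k, x k = (if k = i then x i else 0) + (if k = j then x j else 0) := by
    intro k
    by_cases h1 : k = i
    · subst h1; simp [h.1]
    · by_cases h2 : k = j
      · subst h2; simp [h1]
      · simp [h1, h2, h.2.2.2 k h1 h2]
  rw [sum_congr rfl (fun k _ => h1 k), sum_add_distrib, sum_ite_eq', sum_ite_eq']
  simp

theorem Sh8.all_pos {x : Vec} {O : Finset GolayPt} (h : Sh8 x O) (hs : ∑ k, x k = 16) : x = r8 O := by
  have h1 : ∑ k, x k = ∑ k ∈ O, x k := by
    symm
    exact sum_subset (subset_univ O) (fun k _ hk => h.2.2 k hk)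
  have h2 : ∑ k ∈ O, (2 - x k) = 0 := by
    rw [sum_sub_distrib, ← h1, hs, sum_const, (mem_octads.1 h.1).2]; norm_num
  have h3 := (sum_eq_zero_iff_of_nonneg (fun k hk => by have := h.2.1 k hk; omega)).1 h2
  ext k
  unfold r8
  by_cases hk : k ∈ O
  · rw [if_pos hk]; have := h3 k hk; omega
  · rw [if_neg hk]; exact h.2.2 k hk

/-- description of the odd minimal vectors with a coordinate 3 -/
theorem ShO.desc {x : Vec} {j : GolayPt} (h : ShO x j) (h3 : x j = 3) (k : GolayPt) :
    x k = 1 - (if k ∈ cls x 3 then 2 else 0) + (if k = j then 4 else 0) := by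
  have hm : k ∈ cls x 3 ↔ _ := mem_cls
  by_cases h1 : k = j
  · subst h1
    rw [if_pos (by rw [mem_cls, h3]; norm_num), if_pos rfl, h3]; norm_num
  · rw [if_neg h1]
    rcases h.2 k h1 with h2 | h2
    · rw [if_neg (by rw [mem_cls, h2]; norm_num), h2]; norm_num
    · rw [if_pos (by rw [mem_cls, h2]; norm_num), h2]; norm_num

theorem ShO.sum {x : Vec} {j : GolayPt} (h : ShO x j) (h3 : x j = 3) : ∑ k, x k = 28 - 2 * ((cls x 3).card : ℤ) := by
  rw [sum_congr rfl (fun k _ => h.desc h3 k), sum_add_distrib, sum_sub_distrib, sum_ind, sum_ite_eq',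
    if_pos (mem_univ _), sum_const, card_univ, card_golayPt]
  norm_num
  ring

theorem sum_mk8 {O E : Finset GolayPt} {x : Vec} (hE : E ⊆ O) (hO : O.card = 8) (h1 : ∀ k ∈ E, x k = -2)
    (h2 : ∀ k ∈ O, k ∉ E → x k = 2) (h3 : ∀ k, k ∉ O → x k = 0) : ∑ k, x k = 16 - 4 * (E.card : ℤ) := by
  have h4 : ∀ k, x k = (if k ∈ O then 2 else 0) - (if k ∈ E then 4 else 0) := by
    intro k
    by_cases hk : k ∈ E
    · rw [if_pos (hE hk), if_pos hk, h1 k hk]; norm_num
    · rw [if_neg hk]
      by_cases hk' : k ∈ O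
      · rw [if_pos hk', h2 k hk' hk]; norm_num
      · rw [if_neg hk', h3 k hk']; norm_num
  rw [sum_congr rfl (fun k _ => h4 k), sum_sub_distrib, sum_ind, sum_ind, hO]
  norm_num

theorem dot_mk8 {O E c : Finset GolayPt} {p : GolayPt} {x y : Vec} (hE : E ⊆ O) (hO : O.card = 8)
    (h1 : ∀ k ∈ E, x k = -2) (h2 : ∀ k ∈ O, k ∉ E → x k = 2) (h3 : ∀ k, k ∉ O → x k = 0)
    (hy : ∀ k, y k = 1 - (if k ∈ c then 2 else 0) + (if k = p then 4 else 0)) (hp : p ∈ O) (hpE : p ∉ E) :
    dotInt x y = 24 - 4 * ((O ∩ c).card : ℤ) - 4 * E.card + 8 * (E ∩ c).card := by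
  have h4 : ∀ k, x k * y k = (if k ∈ O then 2 else 0) - (if k ∈ O ∩ c then 4 else 0) - (if k ∈ E then 4 else 0) +
      (if k ∈ E ∩ c then 8 else 0) + (if k = p then 8 else 0) := by
    intro k
    rw [hy k]
    simp only [mem_inter]
    by_cases hkp : k = p
    · subst hkp
      rw [h2 k hp hpE]
      by_cases hkc : k ∈ c <;> simp [hp, hpE, hkc]
    · by_cases hk : k ∈ E
      · rw [h1 k hk]
        by_cases hkc : k ∈ c <;> simp [hE hk, hk, hkc, hkp]
      · by_cases hk' : k ∈ O
        · rw [h2 k hk' hk]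
          by_cases hkc : k ∈ c <;> simp [hk', hk, hkc, hkp]
        · rw [h3 k hk']
          simp [hk', hk, hkp]
  unfold dotInt
  rw [sum_congr rfl (fun k _ => h4 k), sum_add_distrib, sum_add_distrib, sum_sub_distrib, sum_sub_distrib,
    sum_ind, sum_ind, sum_ind, sum_ind, sum_ite_eq', if_pos (mem_univ _), hO]
  push_cast
  ring

theorem exists_map_three {a b c a' b' c' : GolayPt} (h : [a, b, c].Nodup) (h' : [a', b', c'].Nodup) :
    ∃ g ∈ M24, g a = a' ∧ g b = b' ∧ g c = c' := by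
  simp only [List.nodup_cons, List.mem_cons, List.not_mem_nil, or_false, not_or, List.nodup_nil, and_true,
    not_false_eq_true] at h h'
  obtain ⟨g, hg, hm⟩ := exists_map_le5 (n := 3) (by norm_num) (x := fun i => if i = 0 then a else if i = 1 then b else c)
    (y := fun i => if i = 0 then a' else if i = 1 then b' else c') (by
      intro i hi j hj
      interval_cases i
      · omega
      · interval_cases j; simp; exact h.1.1
      · interval_cases j <;> simp
        · exact h.1.2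
        · exact h.2) (by
      intro i hi j hj
      interval_cases i
      · omega
      · interval_cases j; simp; exact h'.1.1
      · interval_cases j <;> simp
        · exact h'.1.2
        · exact h'.2)
  exact ⟨g, hg, hm 0 (by norm_num), hm 1 (by norm_num), hm 2 (by norm_num)⟩

theorem mem4 {x y z w : Vec} (hx : x ∈ leechLattice) (hy : y ∈ leechLattice) (hz : z ∈ leechLattice)
    (hw : w ∈ leechLattice) : ∀ t ∈ [x, y, z, w], t ∈ leechLattice := by
  intro t ht; simp only [List.mem_cons, List.not_mem_nil, or_false] at ht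
  rcases ht with rfl | rfl | rfl | rfl <;> assumption

theorem norm_of_sg {x : Vec} {i j : GolayPt} (h : Sh4 x i j) (hi : x i = 4) (hj : x j = 4) : x = sg i 4 + sg j 4 := by
  rw [h.norm, hi, hj]

/-- three vectors: (v', v, u) -/
theorem TM3 {v' v u : Vec} (hv' : v' ∈ leechLattice) (hv : v ∈ leechLattice) (hu : u ∈ leechLattice)
    (n1 : sqNorm v' = 32) (n2 : sqNorm v = 32) (n3 : sqNorm u = 48) (h12 : dotInt v' v = 0)
    (h13 : dotInt v' u = 16) (h23 : dotInt v u = 24) : ∃ g : Co0, app g v' = v0 ∧ app g v = x0 ∧ app g u = r5 pa := by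
  obtain ⟨g, g1, g2⟩ := frame hv' hv n1 n2 h12
  have hgu := app_mem g hu
  have e1 : dotInt v0 (app g u) = 16 := by rw [← g1, app_dot g hv' hu, h13]
  have e2 : dotInt x0 (app g u) = 24 := by rw [← g2, app_dot g hv hu, h23]
  rw [dot_v0] at e1
  rw [dot_x0] at e2
  have e3 : app g u pa = 5 := by omega
  have e4 : app g u pb = 1 := by omega
  have s0 : Eqv [v', v, u] [v0, x0, app g u] := ⟨g, by simp [g1, g2]⟩
  have h5 := t5_of hgu (by rw [app_norm g hu, n3]) e3
  have hw := (h5.inL hgu).2.2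
  have s1 := Eqv.sgn (mem3 v0_mem x0_mem hgu) hw
  have ha : pa ∉ cls (app g u) 3 := by rw [mem_cls, e3]; norm_num
  have hb : pb ∉ cls (app g u) 3 := by rw [mem_cls, e4]; norm_num
  have e5 : Golay.sgn (cls (app g u) (1 + 2)) (app g u) = r5 pa := h5.sgn
  simp only [List.map_cons, List.map_nil, e5] at s1
  rw [show (1 : ℤ) + 2 = 3 by norm_num, sgn_v0 ha hb, sgn_x0 ha hb] at s1
  obtain ⟨k, hk⟩ := s0.trans s1
  simp only [List.map_cons, List.map_nil, List.cons.injEq, and_true] at hk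
  exact ⟨k, hk⟩

theorem dot_r5' (p : GolayPt) (x : Vec) : dotInt x (r5 p) = 4 * x p + ∑ q, x q := by
  rw [dotInt_comm, dot_r5]

theorem TM4 {v' v u x : Vec} (hv' : v' ∈ leechLattice) (hv : v ∈ leechLattice) (hu : u ∈ leechLattice)
    (hx : x ∈ leechLattice) (n1 : sqNorm v' = 32) (n2 : sqNorm v = 32) (n3 : sqNorm u = 48) (n4 : sqNorm x = 32)
    (h12 : dotInt v' v = 0) (h13 : dotInt v' u = 16) (h23 : dotInt v u = 24) (h14 : dotInt v' x = 16)
    (h24 : dotInt v x = 16) (h34 : dotInt u x = 24) : Eqv [v', v, u, x] [v0, x0, r5 pa, y0] := by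
  obtain ⟨g, g1, g2, g3⟩ := TM3 hv' hv hu n1 n2 n3 h12 h13 h23
  have hgx := app_mem g hx
  have e1 : dotInt v0 (app g x) = 16 := by rw [← g1, app_dot g hv' hx, h14]
  have e2 : dotInt x0 (app g x) = 16 := by rw [← g2, app_dot g hv hx, h24]
  have e3 : dotInt (r5 pa) (app g x) = 24 := by rw [← g3, app_dot g hu hx, h34]
  rw [dot_v0] at e1
  rw [dot_x0] at e2
  rw [dot_r5] at e3
  have e4 : app g x pa = 4 := by omega
  have e5 : app g x pb = 0 := by omega
  obtain ⟨j, hj⟩ := sh4_of hgx (by rw [app_norm g hx, n4]) (p := pa) (by rw [e4]; norm_num)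
  rw [hj.sum] at e3
  have e6 : app g x j = 4 := by omega
  have e7 := norm_of_sg hj e4 e6
  have hjb : pb ≠ j := by rintro rfl; omega
  obtain ⟨σ, hσ, f1, f2, f3⟩ := exists_map_three (a := pa) (b := pb) (c := j) (a' := pa) (b' := pb) (c' := pt 1)
    (by simp only [List.nodup_cons, List.mem_cons, List.not_mem_nil, or_false, not_or, List.nodup_nil, and_true,
          not_false_eq_true]
        exact ⟨⟨pa_ne_pb, hj.1⟩, hjb⟩) (by decide)
  have s0 : Eqv [v', v, u, x] [v0, x0, r5 pa, sg pa 4 + sg j 4] := ⟨g, by simp [g1, g2, g3, ← e7]⟩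
  have s1 := Eqv.prm (s0.mem (mem4 hv' hv hu hx)) hσ
  simp only [List.map_cons, List.map_nil, prm_v0 f1 f2, prm_x0 f1 f2, prm_r5, prm_add, prm_sg, f1, f3] at s1
  exact s0.trans s1

def O11 : Finset GolayPt := st 0x800c75
def O13 : Finset GolayPt := st 0x81b301
def O14 : Finset GolayPt := st 0x8031d4
def O15 : Finset GolayPt := st 0x81c843

theorem O11_mem : O11 ∈ octads := (st_mem_octads (by norm_num)).2 (by decide +kernel)
theorem O13_mem : O13 ∈ octads := (st_mem_octads (by norm_num)).2 (by decide +kernel)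
theorem O14_mem : O14 ∈ octads := (st_mem_octads (by norm_num)).2 (by decide +kernel)
theorem O15_mem : O15 ∈ octads := (st_mem_octads (by norm_num)).2 (by decide +kernel)

/-- an octad through both base points meeting a given octad in two points -/
theorem exists_oct2 {c : Finset GolayPt} (hc : c ∈ octads) (hb : pb ∈ c) (ha : pa ∉ c) :
    ∃ O ∈ octads, pa ∈ O ∧ pb ∈ O ∧ (O ∩ c).card = 2 := by
  obtain ⟨σ, hσ, h1, h2, h3⟩ := oct_in_out O10_mem hc (k := 1) (by norm_num) (x := fun _ => pb) (y := fun _ => pb)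
      (fun _ _ => pb_O10) (by intro i hi j hj; omega) (fun _ _ => hb) (by intro i hi j hj; omega) pa_O10 ha
  have h2' : σ pb = pb := h2 0 (by norm_num)
  refine ⟨σ • O13, smul_mem_octads hσ O13_mem, ?_, ?_, ?_⟩
  · rw [mem_smul_iff, show σ.symm pa = pa by rw [Equiv.symm_apply_eq, h3]]; decide +kernel
  · rw [mem_smul_iff, show σ.symm pb = pb by rw [Equiv.symm_apply_eq, h2']]; decide +kernel
  · rw [← h1, ← smul_inter', Finset.card_smul_finset]; decide +kernel

theorem exists_oct2' {c : Finset GolayPt} (hc : c ∈ octads) (ha : pa ∈ c) (hb : pb ∉ c) (h1 : pt 1 ∉ c) :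
    ∃ O ∈ octads, pa ∈ O ∧ pb ∈ O ∧ pt 1 ∈ O ∧ (O ∩ c).card = 2 := by
  obtain ⟨σ, hσ, e1, e2, e3, e4⟩ := oct_out2_in O14_mem hc (p := pb) (q := pt 1) (x := pa) (p' := pb) (q' := pt 1)
    (x' := pa) (by decide +kernel) (by decide +kernel) (by decide +kernel) (by decide) hb h1 ha (by decide)
  refine ⟨σ • O15, smul_mem_octads hσ O15_mem, ?_, ?_, ?_, ?_⟩
  · rw [mem_smul_iff, show σ.symm pa = pa by rw [Equiv.symm_apply_eq, e4]]; decide +kernel
  · rw [mem_smul_iff, show σ.symm pb = pb by rw [Equiv.symm_apply_eq, e2]]; decide +kernel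
  · rw [mem_smul_iff, show σ.symm (pt 1) = pt 1 by rw [Equiv.symm_apply_eq, e3]]; decide +kernel
  · rw [← e1, ← smul_inter', Finset.card_smul_finset]; decide +kernel

/-- an octad vector with two negative entries -/
theorem mk8pair {O : Finset GolayPt} (hO : O ∈ octads) {p q : GolayPt} (hp : p ∈ O) (hq : q ∈ O) (hpq : p ≠ q) :
    ∃ x ∈ leechLattice, sqNorm x = 32 ∧ (∀ k ∈ ({p, q} : Finset GolayPt), x k = -2) ∧
      (∀ k ∈ O, k ∉ ({p, q} : Finset GolayPt) → x k = 2) ∧ (∀ k, k ∉ O → x k = 0) ∧ ∑ k, x k = 8 := by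
  have hE : ({p, q} : Finset GolayPt) ⊆ O := by
    intro k hk; simp only [mem_insert, mem_singleton] at hk; rcases hk with rfl | rfl <;> assumption
  obtain ⟨x, hx, hn, h1, h2, h3⟩ := mk8 hO hE (by rw [card_pair hpq])
  refine ⟨x, hx, hn, h1, h2, h3, ?_⟩
  rw [sum_mk8 hE (mem_octads.1 hO).2 h1 h2 h3, card_pair hpq]; norm_num

theorem dot_x0' (x : Vec) : dotInt x x0 = 4 * (x pa + x pb) := by
  rw [dotInt_comm, dot_x0]; ring

theorem dot_v0' (x : Vec) : dotInt x v0 = 4 * (x pa - x pb) := by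
  rw [dotInt_comm, dot_v0]; ring

theorem dot_r8_of {x : Vec} {O : Finset GolayPt} (h3 : ∀ k, k ∉ O → x k = 0) :
    dotInt x (r8 O) = 2 * ∑ k, x k := by
  rw [dot_eq_sum_of_zero h3, mul_sum, ← sum_subset (subset_univ O) (f := fun k => 2 * x k)]
  · refine sum_congr rfl (fun k hk => ?_)
    unfold r8; rw [if_pos hk]; ring
  · intro k _ hk
    rw [h3 k hk, mul_zero]

theorem help275 {x : Vec} (hx : x ∈ leechLattice) (hn : sqNorm x = 32) (h1 : dotInt x0 x = 16)
    (h2 : dotInt (r5 pb) x = 24) : ∃ v' ∈ leechLattice, sqNorm v' = 32 ∧ dotInt v' x0 = 0 ∧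
      dotInt v' (r5 pb) = 16 ∧ dotInt v' x = 16 := by
  rw [dot_x0] at h1
  rw [dot_r5] at h2
  have hab : |x pa| = 4 ∨ |x pb| = 4 ∨ |x pa| = 2 ∨ x pb = 3 ∨ x pa = 3 := by
    have b1 := min_bd hx hn pa
    have b2 := min_bd hx hn pb
    rw [abs_le] at b1 b2
    rcases (by omega : x pa = 0 ∨ x pa = 1 ∨ x pa = 2 ∨ x pa = 3 ∨ x pa = 4) with h | h | h | h | h
    · right; left; rw [show x pb = 4 by omega]; norm_num
    · right; right; right; left; omega
    · right; right; left; rw [h]; norm_num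
    · right; right; right; right; exact h
    · left; rw [h]; norm_num
  rcases hab with h | h | h | h | h
  · -- 4 at pa: impossible
    exfalso
    obtain ⟨j, hj⟩ := sh4_of hx hn h
    rw [hj.sum] at h2
    have hj' := hj.2.2.1
    have h4 := abs_cases h
    by_cases hjb : pb = j
    · rw [← hjb] at hj'; omega
    · have := hj.2.2.2 pb pa_ne_pb.symm hjb; omega
  · -- 4 at pb
    obtain ⟨j, hj⟩ := sh4_of hx hn h
    have h4 := abs_cases h
    have h5 : x pb = 4 ∧ x pa = 0 := by
      by_cases hja : pa = j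
      · have hj' := hj.2.2.1
        rw [← hja] at hj'
        rw [hj.sum, ← hja] at h2; omega
      · have := hj.2.2.2 pa pa_ne_pb hja; omega
    refine ⟨-v0, neg_mem v0_mem, by rw [sqNorm_neg, norm_v0], ?_, ?_, ?_⟩
    · rw [dotInt_neg_left, dot_v0_x0]; norm_num
    · rw [dotInt_neg_left, dot_v0, r5_self, r5_ne pa_ne_pb]; norm_num
    · rw [dotInt_neg_left, dot_v0, h5.1, h5.2]; norm_num
  · -- octad
    obtain ⟨O, hO, haO⟩ := sh8_of hx hn h
    have h4 := abs_cases h
    have h5 : x pa = 2 ∧ x pb = 2 ∧ pb ∈ O := by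
      by_cases hb : pb ∈ O
      · have := hO.2.1 pb hb
        exact ⟨by omega, by omega, hb⟩
      · have := hO.2.2 pb hb; omega
    have h6 := hO.all_pos (by omega)
    obtain ⟨q, hq⟩ : ((O.erase pa).erase pb).Nonempty := by
      rw [← card_pos]
      have h1 := card_erase_ge (O := O) (a := pa)
      have h2 := card_erase_ge (O := O.erase pa) (a := pb)
      have := (mem_octads.1 hO.1).2
      omega
    rw [mem_erase, mem_erase] at hq
    obtain ⟨v', hv', m1, m2, m3, m4, m5⟩ := mk8pair hO.1 haO hq.2.2 hq.2.1.symm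
    have m6 : v' pa = -2 := m2 pa (by simp)
    have m7 : v' pb = 2 := m3 pb h5.2.2 (by
      simp only [mem_insert, mem_singleton, not_or]; exact ⟨pa_ne_pb.symm, hq.1.symm⟩)
    refine ⟨v', hv', m1, ?_, ?_, ?_⟩
    · rw [dot_x0', m6, m7]; norm_num
    · rw [dot_r5', m7, m5]; norm_num
    · rw [h6, dot_r8_of m4, m5]; norm_num
  · -- 3 at pb
    have hS := shO_of hx hn (p := pb) (by rw [h]; norm_num)
    have hw : IsWord (cls x 3) := (hS.inL hx).2.2
    have h4 := hS.sum h
    have hc : cls x 3 ∈ octads := mem_octads.2 ⟨hw, by have := hw.card; omega⟩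
    have hb : pb ∈ cls x 3 := by rw [mem_cls, h]; norm_num
    have ha : pa ∉ cls x 3 := by rw [mem_cls, show x pa = 1 by omega]; norm_num
    obtain ⟨O, hO, haO, hbO, hOc⟩ := exists_oct2 hc hb ha
    obtain ⟨q, hq⟩ : ((O ∩ cls x 3).erase pb).Nonempty := by
      rw [← card_pos]
      have := card_erase_ge (O := O ∩ cls x 3) (a := pb)
      omega
    rw [mem_erase, mem_inter] at hq
    have hqa : pa ≠ q := by rintro rfl; exact ha hq.2.2
    obtain ⟨v', hv', m1, m2, m3, m4, m5⟩ := mk8pair hO haO hq.2.1 hqa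
    have m6 : v' pa = -2 := m2 pa (by simp)
    have hpE : pb ∉ ({pa, q} : Finset GolayPt) := by
      simp only [mem_insert, mem_singleton, not_or]; exact ⟨pa_ne_pb.symm, hq.1.symm⟩
    have m7 : v' pb = 2 := m3 pb hbO hpE
    refine ⟨v', hv', m1, ?_, ?_, ?_⟩
    · rw [dot_x0', m6, m7]; norm_num
    · rw [dot_r5', m7, m5]; norm_num
    · rw [dot_mk8 (E := {pa, q}) (c := cls x 3) (p := pb) (by
        intro k hk; simp only [mem_insert, mem_singleton] at hk
        rcases hk with rfl | rfl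
        · exact haO
        · exact hq.2.1) (mem_octads.1 hO).2 m2 m3 m4 (hS.desc h) hbO hpE, hOc, card_pair hqa]
      have : ({pa, q} ∩ cls x 3 : Finset GolayPt) = {q} := by
        ext k; simp only [mem_inter, mem_insert, mem_singleton]
        constructor
        · rintro ⟨rfl | rfl, h⟩
          · exact absurd h ha
          · rfl
        · rintro rfl; exact ⟨Or.inr rfl, hq.2.2⟩
      rw [this, card_singleton]; norm_num
  · -- 3 at pa: impossible
    exfalso
    have hS := shO_of hx hn (p := pa) (by rw [h]; norm_num)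
    have hw : IsWord (cls x 3) := (hS.inL hx).2.2
    have h4 := hS.sum h
    have := hw.card
    omega

theorem dot_x0_r5 (p : GolayPt) (hp : p = pa ∨ p = pb) : dotInt x0 (r5 p) = 24 := by
  rw [dot_x0]
  rcases hp with rfl | rfl
  · rw [r5_self, r5_ne pa_ne_pb.symm]; norm_num
  · rw [r5_self, r5_ne pa_ne_pb]; norm_num

theorem T275 {v u x : Vec} (hv : v ∈ leechLattice) (hu : u ∈ leechLattice) (hx : x ∈ leechLattice)
    (n2 : sqNorm v = 32) (n3 : sqNorm u = 48) (n4 : sqNorm x = 32) (h23 : dotInt v u = 24)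
    (h24 : dotInt v x = 16) (h34 : dotInt u x = 24) : ∃ g : Co0, app g v = x0 ∧ app g u = r5 pa ∧ app g x = y0 := by
  obtain ⟨g, hg⟩ := (T48 hv hu n2 n3 h23).trans (T48 x0_mem (r5_mem pb) norm_x0 (norm_r5 pb) (dot_x0_r5 pb (Or.inr rfl))).symm
  simp only [List.map_cons, List.map_nil, List.cons.injEq, and_true] at hg
  have hgx := app_mem g hx
  obtain ⟨w, hw, w1, w2, w3, w4⟩ := help275 hgx (by rw [app_norm g hx, n4]) (by rw [← hg.1, app_dot g hv hx, h24])
    (by rw [← hg.2, app_dot g hu hx, h34])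
  have hd : ∀ {t : Vec}, t ∈ leechLattice → dotInt (app g⁻¹ w) t = dotInt w (app g t) := by
    intro t ht
    rw [← app_dot g (app_mem _ hw) ht, app_app_inv]
  obtain ⟨k, hk⟩ := TM4 (app_mem g⁻¹ hw) hv hu hx (by rw [app_norm _ hw, w1]) n2 n3 n4 (by rw [hd hv, hg.1, w2])
    (by rw [hd hu, hg.2, w3]) h23 (by rw [hd hx, w4]) h24 h34
  simp only [List.map_cons, List.map_nil, List.cons.injEq, and_true] at hk
  exact ⟨k, hk.2⟩

end Cfsg.Agent.Lib.Golay
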