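import Cfsg.Agent.Lib.Golay.LeechMcL

/-!
The rank 3 action on 275 points.
-/

set_option autoImplicit false

namespace Cfsg.Agent.Lib.Golay

open scoped Pointwise
open Cfsg Finset

theorem dot_v0_y0 : dotInt v0 y0 = 16 := by rw [dot_v0, y0_pa, y0_pb]; norm_num
theorem dot_x0_y0 : dotInt x0 y0 = 16 := by rw [dot_x0, y0_pa, y0_pb]; norm_num
theorem dot_v0_r5 : dotInt v0 (r5 pa) = 16 := by rw [dot_v0, r5_self, r5_ne pa_ne_pb.symm]; norm_num
theorem sum_y0 : ∑ k, y0 k = 8 := by decide +kernel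
theorem dot_r5_y0 : dotInt (r5 pa) y0 = 24 := by rw [dot_r5, y0_pa, sum_y0]; norm_num

theorem dot_y0' (x : Vec) : dotInt x y0 = 4 * (x pa + x (pt 1)) := by
  rw [dotInt_comm, dot_y0]

theorem p1_ne : pt 1 ≠ pa ∧ pt 1 ≠ pb := by decide

/-- possible values at the first base point -/
theorem pa_cases {y : Vec} (hy : y ∈ leechLattice) (hn : sqNorm y = 32) (h1 : y pa + y pb = 4)
    (h2 : 4 * y pa + ∑ k, y k = 24) :
    (∃ j, Sh4 y pa j ∧ y pa = 4 ∧ y j = 4 ∧ pb ≠ j) ∨ (∃ O, O ∈ octads ∧ pa ∈ O ∧ pb ∈ O ∧ y = r8 O) ∨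
      (ShO y pa ∧ y pa = 3 ∧ y pb = 1 ∧ cls y 3 ∈ octads ∧ pa ∈ cls y 3 ∧ pb ∉ cls y 3) := by
  have b1 := min_bd hy hn pa
  have b2 := min_bd hy hn pb
  rw [abs_le] at b1 b2
  rcases (by omega : y pa = 0 ∨ y pa = 1 ∨ y pa = 2 ∨ y pa = 3 ∨ y pa = 4) with h | h | h | h | h
  · exfalso
    have h' : y pb = 4 := by omega
    obtain ⟨j, hj⟩ := sh4_of hy hn (p := pb) (by rw [h']; norm_num)
    rw [hj.sum] at h2
    have := hj.2.2.1
    omega
  · exfalso
    have h' : y pb = 3 := by omega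
    have hS := shO_of hy hn (p := pb) (by rw [h']; norm_num)
    have hw : IsWord (cls y 3) := (hS.inL hy).2.2
    have h4 := hS.sum h'
    have := hw.card
    omega
  · right; left
    obtain ⟨O, hO, haO⟩ := sh8_of hy hn (p := pa) (by rw [h]; norm_num)
    have h5 : pb ∈ O := by
      by_contra hb
      have := hO.2.2 pb hb; omega
    exact ⟨O, hO.1, haO, h5, hO.all_pos (by omega)⟩
  · right; right
    have hS := shO_of hy hn (p := pa) (by rw [h]; norm_num)
    have hw : IsWord (cls y 3) := (hS.inL hy).2.2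
    have h4 := hS.sum h
    have hc : cls y 3 ∈ octads := mem_octads.2 ⟨hw, by have := hw.card; omega⟩
    exact ⟨hS, h, by omega, hc, by rw [mem_cls, h]; norm_num, by rw [mem_cls, show y pb = 1 by omega]; norm_num⟩
  · left
    obtain ⟨j, hj⟩ := sh4_of hy hn (p := pa) (by rw [h]; norm_num)
    rw [hj.sum] at h2
    have h5 : y j = 4 := by omega
    exact ⟨j, hj, h, h5, by rintro rfl; omega⟩

theorem help112 {y : Vec} (hy : y ∈ leechLattice) (hn : sqNorm y = 32) (h1 : dotInt x0 y = 16)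
    (h2 : dotInt (r5 pa) y = 24) (h3 : dotInt y0 y = 8) : ∃ v' ∈ leechLattice, sqNorm v' = 32 ∧ dotInt v' x0 = 0 ∧
      dotInt v' (r5 pa) = 16 ∧ dotInt v' y0 = 16 ∧ dotInt v' y = 0 := by
  rw [dot_x0] at h1
  rw [dot_r5] at h2
  rw [dot_y0] at h3
  rcases pa_cases hy hn (by omega) h2 with ⟨j, hj, h4, h5, h6⟩ | ⟨O, hO, haO, hbO, h⟩ | ⟨hS, h4, h5, hc, hac, hbc⟩
  · exfalso
    by_cases h1j : pt 1 = j
    · rw [← h1j] at h5; omega
    · have := hj.2.2.2 (pt 1) p1_ne.1 h1j; omega
  · refine ⟨v0, v0_mem, norm_v0, dot_v0_x0, dot_v0_r5, dot_v0_y0, ?_⟩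
    have e1 : y pa = 2 := by rw [h]; unfold r8; rw [if_pos haO]
    have e2 : y pb = 2 := by rw [h]; unfold r8; rw [if_pos hbO]
    rw [dot_v0, e1, e2]; norm_num
  · have e1 : y (pt 1) = -1 := by omega
    have h1c : pt 1 ∈ cls y 3 := by rw [mem_cls, e1]; norm_num
    have hcard := (mem_octads.1 hc).2
    obtain ⟨p, hp⟩ : (((cls y 3).erase pa).erase (pt 1)).Nonempty := by
      rw [← card_pos]
      have h1 := card_erase_ge (O := cls y 3) (a := pa)
      have h2 := card_erase_ge (O := (cls y 3).erase pa) (a := pt 1)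
      omega
    obtain ⟨q, hq⟩ : ((((cls y 3).erase pa).erase (pt 1)).erase p).Nonempty := by
      rw [← card_pos]
      have h1 := card_erase_ge (O := cls y 3) (a := pa)
      have h2 := card_erase_ge (O := (cls y 3).erase pa) (a := pt 1)
      have h3 := card_erase_ge (O := ((cls y 3).erase pa).erase (pt 1)) (a := p)
      omega
    simp only [mem_erase] at hp hq
    have hpb : p ≠ pb := fun h => hbc (h ▸ hp.2.2)
    have hqb : q ≠ pb := fun h => hbc (h ▸ hq.2.2.2)
    have hA : ({pa, pb, pt 1, p, q} : Finset GolayPt).card = 5 := by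
      rw [card_insert_of_notMem, card_insert_of_notMem, card_insert_of_notMem, card_pair hq.1.symm]
      · simp only [mem_insert, mem_singleton, not_or]; exact ⟨hp.1.symm, hq.2.1.symm⟩
      · simp only [mem_insert, mem_singleton, not_or]; exact ⟨p1_ne.2.symm, hpb.symm, hqb.symm⟩
      · simp only [mem_insert, mem_singleton, not_or]
        exact ⟨pa_ne_pb, p1_ne.1.symm, hp.2.1.symm, hq.2.2.1.symm⟩
    obtain ⟨O, hO, hAO⟩ := exists_octad_five hA
    have haO : pa ∈ O := hAO (by simp)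
    have hbO : pb ∈ O := hAO (by simp)
    have h1O : pt 1 ∈ O := hAO (by simp)
    have hpO : p ∈ O := hAO (by simp)
    have hqO : q ∈ O := hAO (by simp)
    have hOc : (O ∩ cls y 3).card = 4 := by
      have h4 : ({pa, pt 1, p, q} : Finset GolayPt) ⊆ O ∩ cls y 3 := by
        intro k hk; simp only [mem_insert, mem_singleton] at hk; rw [mem_inter]
        rcases hk with rfl | rfl | rfl | rfl
        · exact ⟨haO, hac⟩
        · exact ⟨h1O, h1c⟩
        · exact ⟨hpO, hp.2.2⟩
        · exact ⟨hqO, hq.2.2.2⟩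
      have h5 : ({pa, pt 1, p, q} : Finset GolayPt).card = 4 := by
        rw [card_insert_of_notMem, card_insert_of_notMem, card_pair hq.1.symm]
        · simp only [mem_insert, mem_singleton, not_or]; exact ⟨hp.1.symm, hq.2.1.symm⟩
        · simp only [mem_insert, mem_singleton, not_or]
          exact ⟨p1_ne.1.symm, hp.2.1.symm, hq.2.2.1.symm⟩
      have h6 := card_le_card h4
      have h7 : (O ∩ cls y 3).card ≠ 8 := by
        intro h8
        have : O ∩ cls y 3 = O := eq_of_subset_of_card_le inter_subset_left (by rw [h8, (mem_octads.1 hO).2])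
        exact hbc (mem_inter.1 (this ▸ hbO)).2
      have := octad_inter hO hc
      omega
    obtain ⟨q', hq'⟩ : ((O \ cls y 3).erase pb).Nonempty := by
      rw [← card_pos]
      have h1 := card_erase_ge (O := O \ cls y 3) (a := pb)
      have h2 := card_sdiff_add_card_inter O (cls y 3)
      have h3 := (mem_octads.1 hO).2
      omega
    rw [mem_erase, mem_sdiff] at hq'
    obtain ⟨v', hv', m1, m2, m3, m4, m5⟩ := mk8pair hO hbO hq'.2.1 hq'.1.symm
    have haq : pa ≠ q' := fun h => hq'.2.2 (h ▸ hac)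
    have h1q : pt 1 ≠ q' := fun h => hq'.2.2 (h ▸ h1c)
    have haE : pa ∉ ({pb, q'} : Finset GolayPt) := by
      simp only [mem_insert, mem_singleton, not_or]; exact ⟨pa_ne_pb, haq⟩
    have m6 : v' pb = -2 := m2 pb (by simp)
    have m7 : v' pa = 2 := m3 pa haO haE
    have m8 : v' (pt 1) = 2 := m3 _ h1O (by
      simp only [mem_insert, mem_singleton, not_or]; exact ⟨p1_ne.2, h1q⟩)
    refine ⟨v', hv', m1, ?_, ?_, ?_, ?_⟩
    · rw [dot_x0', m6, m7]; norm_num
    · rw [dot_r5', m7, m5]; norm_num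
    · rw [dot_y0', m7, m8]; norm_num
    · rw [dot_mk8 (E := {pb, q'}) (c := cls y 3) (p := pa) (by
        intro k hk; simp only [mem_insert, mem_singleton] at hk
        rcases hk with rfl | rfl
        · exact hbO
        · exact hq'.2.1) (mem_octads.1 hO).2 m2 m3 m4 (hS.desc h4) haO haE, hOc, card_pair hq'.1.symm]
      have : ({pb, q'} ∩ cls y 3 : Finset GolayPt) = ∅ := by
        ext k; simp only [mem_inter, mem_insert, mem_singleton, notMem_empty, iff_false, not_and]
        rintro (rfl | rfl)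
        · exact hbc
        · exact hq'.2.2
      rw [this, card_empty]; norm_num

theorem help162 {y : Vec} (hy : y ∈ leechLattice) (hn : sqNorm y = 32) (h1 : dotInt x0 y = 16)
    (h2 : dotInt (r5 pa) y = 24) (h3 : dotInt y0 y = 16) : ∃ v' ∈ leechLattice, sqNorm v' = 32 ∧ dotInt v' x0 = 0 ∧
      dotInt v' (r5 pa) = 16 ∧ dotInt v' y0 = 16 ∧ dotInt v' y = 16 := by
  rw [dot_x0] at h1
  rw [dot_r5] at h2
  rw [dot_y0] at h3
  rcases pa_cases hy hn (by omega) h2 with ⟨j, hj, h4, h5, h6⟩ | ⟨O, hO, haO, hbO, h⟩ | ⟨hS, h4, h5, hc, hac, hbc⟩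
  · refine ⟨v0, v0_mem, norm_v0, dot_v0_x0, dot_v0_r5, dot_v0_y0, ?_⟩
    rw [dot_v0, h4, show y pb = 0 by omega]; norm_num
  · have e1 : y pa = 2 := by rw [h]; unfold r8; rw [if_pos haO]
    have h1O : pt 1 ∈ O := by
      by_contra hc
      have : y (pt 1) = 0 := by rw [h]; unfold r8; rw [if_neg hc]
      omega
    have hcard := (mem_octads.1 hO).2
    obtain ⟨q, hq⟩ : (((O.erase pa).erase pb).erase (pt 1)).Nonempty := by
      rw [← card_pos]
      have h1 := card_erase_ge (O := O) (a := pa)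
      have h2 := card_erase_ge (O := O.erase pa) (a := pb)
      have h3 := card_erase_ge (O := (O.erase pa).erase pb) (a := pt 1)
      omega
    simp only [mem_erase] at hq
    obtain ⟨v', hv', m1, m2, m3, m4, m5⟩ := mk8pair hO hbO hq.2.2.2 hq.2.1.symm
    have m6 : v' pb = -2 := m2 pb (by simp)
    have m7 : v' pa = 2 := m3 pa haO (by
      simp only [mem_insert, mem_singleton, not_or]; exact ⟨pa_ne_pb, hq.2.2.1.symm⟩)
    have m8 : v' (pt 1) = 2 := m3 _ h1O (by
      simp only [mem_insert, mem_singleton, not_or]; exact ⟨p1_ne.2, hq.1.symm⟩)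
    refine ⟨v', hv', m1, ?_, ?_, ?_, ?_⟩
    · rw [dot_x0', m6, m7]; norm_num
    · rw [dot_r5', m7, m5]; norm_num
    · rw [dot_y0', m7, m8]; norm_num
    · rw [h, dot_r8_of m4, m5]; norm_num
  · have e1 : y (pt 1) = 1 := by omega
    have h1c : pt 1 ∉ cls y 3 := by rw [mem_cls, e1]; norm_num
    obtain ⟨O, hO, haO, hbO, h1O, hOc⟩ := exists_oct2' hc hac hbc h1c
    obtain ⟨q, hq⟩ : ((O ∩ cls y 3).erase pa).Nonempty := by
      rw [← card_pos]
      have := card_erase_ge (O := O ∩ cls y 3) (a := pa)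
      omega
    rw [mem_erase, mem_inter] at hq
    have hqb : pb ≠ q := by rintro rfl; exact hbc hq.2.2
    have hq1 : pt 1 ≠ q := by rintro rfl; exact h1c hq.2.2
    obtain ⟨v', hv', m1, m2, m3, m4, m5⟩ := mk8pair hO hbO hq.2.1 hqb
    have haE : pa ∉ ({pb, q} : Finset GolayPt) := by
      simp only [mem_insert, mem_singleton, not_or]; exact ⟨pa_ne_pb, hq.1.symm⟩
    have m6 : v' pb = -2 := m2 pb (by simp)
    have m7 : v' pa = 2 := m3 pa haO haE
    have m8 : v' (pt 1) = 2 := m3 _ h1O (by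
      simp only [mem_insert, mem_singleton, not_or]; exact ⟨p1_ne.2, hq1⟩)
    refine ⟨v', hv', m1, ?_, ?_, ?_, ?_⟩
    · rw [dot_x0', m6, m7]; norm_num
    · rw [dot_r5', m7, m5]; norm_num
    · rw [dot_y0', m7, m8]; norm_num
    · rw [dot_mk8 (E := {pb, q}) (c := cls y 3) (p := pa) (by
        intro k hk; simp only [mem_insert, mem_singleton] at hk
        rcases hk with rfl | rfl
        · exact hbO
        · exact hq.2.1) (mem_octads.1 hO).2 m2 m3 m4 (hS.desc h4) haO haE, hOc, card_pair hqb]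
      have : ({pb, q} ∩ cls y 3 : Finset GolayPt) = {q} := by
        ext k; simp only [mem_inter, mem_insert, mem_singleton]
        constructor
        · rintro ⟨rfl | rfl, h⟩
          · exact absurd h hbc
          · rfl
        · rintro rfl; exact ⟨Or.inr rfl, hq.2.2⟩
      rw [this, card_singleton]; norm_num

theorem mem5 {a x y z w : Vec} (ha : a ∈ leechLattice) (hx : x ∈ leechLattice) (hy : y ∈ leechLattice)
    (hz : z ∈ leechLattice) (hw : w ∈ leechLattice) : ∀ t ∈ [a, x, y, z, w], t ∈ leechLattice := by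
  intro t ht; simp only [List.mem_cons, List.not_mem_nil, or_false] at ht
  rcases ht with rfl | rfl | rfl | rfl | rfl <;> assumption

/-- normal form of quadruples, inner product 8 -/
theorem T112 {v u x y : Vec} (hv : v ∈ leechLattice) (hu : u ∈ leechLattice) (hx : x ∈ leechLattice)
    (hy : y ∈ leechLattice) (n2 : sqNorm v = 32) (n3 : sqNorm u = 48) (n4 : sqNorm x = 32) (n5 : sqNorm y = 32)
    (h23 : dotInt v u = 24) (h24 : dotInt v x = 16) (h34 : dotInt u x = 24) (h25 : dotInt v y = 16)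
    (h35 : dotInt u y = 24) (h45 : dotInt x y = 8) : Eqv [v, u, x, y] [x0, r5 pa, y0, r8 O11] := by
  obtain ⟨g, g1, g2, g3⟩ := T275 hv hu hx n2 n3 n4 h23 h24 h34
  have hgy := app_mem g hy
  obtain ⟨w, hw, w1, w2, w3, w4, w5⟩ := help112 hgy (by rw [app_norm g hy, n5]) (by rw [← g1, app_dot g hv hy, h25])
    (by rw [← g2, app_dot g hu hy, h35]) (by rw [← g3, app_dot g hx hy, h45])
  obtain ⟨k, hk⟩ := TM4 hw x0_mem (r5_mem pa) y0_mem w1 norm_x0 (norm_r5 pa) norm_y0 w2 w3
    (dot_x0_r5 pa (Or.inl rfl)) w4 dot_x0_y0 dot_r5_y0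
  simp only [List.map_cons, List.map_nil, List.cons.injEq, and_true] at hk
  obtain ⟨k0, k1, k2, k3⟩ := hk
  set z := app k (app g y) with hz
  have hzm : z ∈ leechLattice := app_mem k hgy
  have e0 : dotInt v0 z = 0 := by rw [← k0, hz, app_dot k hw hgy, w5]
  have e1 : dotInt x0 z = 16 := by
    rw [← k1, hz, app_dot k x0_mem hgy, ← g1, app_dot g hv hy, h25]
  have e2 : dotInt (r5 pa) z = 24 := by
    conv_lhs => rw [← k2]
    rw [hz, app_dot k (r5_mem pa) hgy, ← g2, app_dot g hu hy, h35]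
  have e3 : dotInt y0 z = 8 := by
    conv_lhs => rw [← k3]
    rw [hz, app_dot k y0_mem hgy, ← g3, app_dot g hx hy, h45]
  have hzn : sqNorm z = 32 := by rw [hz, app_norm k hgy, app_norm g hy, n5]
  rw [dot_v0] at e0
  rw [dot_x0] at e1
  rw [dot_r5] at e2
  rw [dot_y0] at e3
  have s0 : Eqv [v, u, x, y] [x0, r5 pa, y0, z] := ⟨k * g, by
    simp only [List.map_cons, List.map_nil, List.cons.injEq, and_true, app_mul, g1, g2, g3, k1, k2, k3]
    exact ⟨trivial, trivial, trivial, hz.symm⟩⟩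
  rcases pa_cases hzm hzn (by omega) e2 with ⟨j, hj, h4, h5, h6⟩ | ⟨O, hO, haO, hbO, h⟩ | ⟨hS, h4, h5, hc, hac, hbc⟩
  · exfalso; omega
  · have h1O : pt 1 ∉ O := by
      intro h1O
      have f1 : z (pt 1) = 2 := by rw [h]; unfold r8; rw [if_pos h1O]
      omega
    obtain ⟨σ, hσ, f1, f2, f3⟩ := oct_in_out hO O11_mem (k := 2) (by norm_num) (x := fun i => if i = 0 then pa else pb)
      (y := fun i => if i = 0 then pa else pb) (by
        intro i hi; interval_cases i
        · exact haO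
        · exact hbO) (by
        intro i hi j hj; interval_cases i
        · omega
        · interval_cases j; exact pa_ne_pb) (by
        intro i hi; interval_cases i
        · decide +kernel
        · decide +kernel) (by
        intro i hi j hj; interval_cases i
        · omega
        · interval_cases j; exact pa_ne_pb) h1O (show pt 1 ∉ O11 by decide +kernel)
    have f4 : σ pa = pa := f2 0 (by norm_num)
    have f5 : σ pb = pb := f2 1 (by norm_num)
    have s1 := Eqv.prm (s0.mem (mem4 hv hu hx hy)) hσ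
    rw [h] at s0 s1
    simp only [List.map_cons, List.map_nil, prm_x0 f4 f5, prm_r5, prm_r8, f1, f4, y0, prm_add, prm_sg, f3] at s1
    exact s0.trans s1
  · exfalso; omega

/-- normal form of quadruples, inner product 16 -/
theorem T162 {v u x y : Vec} (hv : v ∈ leechLattice) (hu : u ∈ leechLattice) (hx : x ∈ leechLattice)
    (hy : y ∈ leechLattice) (n2 : sqNorm v = 32) (n3 : sqNorm u = 48) (n4 : sqNorm x = 32) (n5 : sqNorm y = 32)
    (h23 : dotInt v u = 24) (h24 : dotInt v x = 16) (h34 : dotInt u x = 24) (h25 : dotInt v y = 16)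
    (h35 : dotInt u y = 24) (h45 : dotInt x y = 16) : Eqv [v, u, x, y] [x0, r5 pa, y0, sg pa 4 + sg (pt 2) 4] := by
  obtain ⟨g, g1, g2, g3⟩ := T275 hv hu hx n2 n3 n4 h23 h24 h34
  have hgy := app_mem g hy
  obtain ⟨w, hw, w1, w2, w3, w4, w5⟩ := help162 hgy (by rw [app_norm g hy, n5]) (by rw [← g1, app_dot g hv hy, h25])
    (by rw [← g2, app_dot g hu hy, h35]) (by rw [← g3, app_dot g hx hy, h45])
  obtain ⟨k, hk⟩ := TM4 hw x0_mem (r5_mem pa) y0_mem w1 norm_x0 (norm_r5 pa) norm_y0 w2 w3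
    (dot_x0_r5 pa (Or.inl rfl)) w4 dot_x0_y0 dot_r5_y0
  simp only [List.map_cons, List.map_nil, List.cons.injEq, and_true] at hk
  obtain ⟨k0, k1, k2, k3⟩ := hk
  set z := app k (app g y) with hz
  have hzm : z ∈ leechLattice := app_mem k hgy
  have e0 : dotInt v0 z = 16 := by rw [← k0, hz, app_dot k hw hgy, w5]
  have e1 : dotInt x0 z = 16 := by
    rw [← k1, hz, app_dot k x0_mem hgy, ← g1, app_dot g hv hy, h25]
  have e2 : dotInt (r5 pa) z = 24 := by
    conv_lhs => rw [← k2]
    rw [hz, app_dot k (r5_mem pa) hgy, ← g2, app_dot g hu hy, h35]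
  have e3 : dotInt y0 z = 16 := by
    conv_lhs => rw [← k3]
    rw [hz, app_dot k y0_mem hgy, ← g3, app_dot g hx hy, h45]
  have hzn : sqNorm z = 32 := by rw [hz, app_norm k hgy, app_norm g hy, n5]
  rw [dot_v0] at e0
  rw [dot_x0] at e1
  rw [dot_r5] at e2
  rw [dot_y0] at e3
  have s0 : Eqv [v, u, x, y] [x0, r5 pa, y0, z] := ⟨k * g, by
    simp only [List.map_cons, List.map_nil, List.cons.injEq, and_true, app_mul, g1, g2, g3, k1, k2, k3]
    exact ⟨trivial, trivial, trivial, hz.symm⟩⟩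
  rcases pa_cases hzm hzn (by omega) e2 with ⟨j, hj, h4, h5, h6⟩ | ⟨O, hO, haO, hbO, h⟩ | ⟨hS, h4, h5, hc, hac, hbc⟩
  · have h1j : pt 1 ≠ j := by rintro rfl; omega
    obtain ⟨σ, hσ, f1, f2, f3, f4⟩ := exists_map_four (a := pa) (b := pb) (c := pt 1) (d := j) (a' := pa) (b' := pb)
      (c' := pt 1) (d' := pt 2) (by
        simp only [List.nodup_cons, List.mem_cons, List.not_mem_nil, or_false, not_or, List.nodup_nil, and_true,
          not_false_eq_true]
        exact ⟨⟨pa_ne_pb, p1_ne.1.symm, hj.1⟩, ⟨p1_ne.2.symm, h6⟩, h1j⟩) (by decide)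
    have s1 := Eqv.prm (s0.mem (mem4 hv hu hx hy)) hσ
    rw [norm_of_sg hj h4 h5] at s0 s1
    simp only [List.map_cons, List.map_nil, prm_x0 f1 f2, prm_r5, f1, y0, prm_add, prm_sg, f3, f4] at s1
    exact s0.trans s1
  · exfalso
    have f1 : z pa = 2 := by rw [h]; unfold r8; rw [if_pos haO]
    omega
  · exfalso; omega

end Cfsg.Agent.Lib.Golay
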