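import Cfsg.Agent.Lib.Golay.LeechOrder
import Cfsg.Agent.Lib.Golay.LeechIndex

/-!
The centre; generation by minimal vectors; the rank-24 lattice modulo 2.
-/

set_option autoImplicit false

namespace Cfsg.Agent.Lib.Golay

open scoped Pointwise
open Cfsg Finset

/-- an automorphism multiplying all frame vectors by a constant sign -/
theorem scalar_of_frame {z : Co0} {e : ℤ} (h : ∀ i, app z (sg i 8) = e • sg i 8) {x : Vec} (hx : x ∈ leechLattice) :
    app z x = e • x := by
  have e1 : (8 : ℤ) • app z x = (8 : ℤ) • (e • x) := by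
    rw [← app_zsmul z hx, smul_comm (8 : ℤ) e x, eight_smul, app_sum z _ _ (fun i _ => zsmul_mem (sg8_mem i) _), smul_sum]
    refine sum_congr rfl (fun i _ => ?_)
    rw [app_zsmul z (sg8_mem i), h i, smul_comm]
  ext k
  have := congrFun e1 k
  simp only [Pi.smul_apply, smul_eq_mul] at this
  simp only [Pi.smul_apply, smul_eq_mul]
  linarith

theorem exists_neg' : ∃ n : Co0, ∀ x ∈ leechLattice, app n x = (-1 : ℤ) • x := by
  obtain ⟨n, hn⟩ := exists_neg
  exact ⟨n, fun x hx => by rw [hn x hx, neg_smul, one_smul]⟩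

noncomputable def negEl : Co0 := exists_neg'.choose
theorem negEl_app {x : Vec} (hx : x ∈ leechLattice) : app negEl x = (-1 : ℤ) • x := exists_neg'.choose_spec x hx

theorem eq_of_scalar {z : Co0} {e : ℤ} (he : e = 1 ∨ e = -1) (h : ∀ x ∈ leechLattice, app z x = e • x) :
    z = 1 ∨ z = negEl := by
  rcases he with rfl | rfl
  · left
    apply ext_app
    intro x hx
    rw [h x hx, app_one, one_smul]
  · right
    apply ext_app
    intro x hx
    rw [h x hx, negEl_app hx]

theorem negEl_ne : (negEl : Co0) ≠ 1 := by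
  intro h
  have h1 := negEl_app v0_mem
  rw [h, app_one] at h1
  have := congrFun h1 pa
  rw [Pi.smul_apply, v0_pa] at this
  norm_num at this

theorem negEl_central : negEl ∈ Subgroup.center Co0 := by
  rw [Subgroup.mem_center_iff]
  intro g
  apply ext_app
  intro x hx
  rw [app_mul, app_mul, negEl_app hx, app_zsmul g hx, negEl_app (app_mem g hx)]

/-- for every point outside there is a word containing it and not the base point -/
theorem exists_word_sep {i j : GolayPt} (hij : i ≠ j) : ∃ c, IsWord c ∧ i ∈ c ∧ j ∉ c := by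
  obtain ⟨c, hc, e⟩ := exists_word_small (A := {i, j}) (E := {i}) (by rw [card_pair hij]; norm_num)
    (by intro k hk; simp only [mem_singleton] at hk; simp [hk])
  refine ⟨c, hc, ?_, ?_⟩
  · have := congrArg (fun s => i ∈ s) e
    simp only [mem_inter, mem_insert, mem_singleton, true_or, and_true, eq_iff_iff, iff_true] at this
    exact this
  · have := congrArg (fun s => j ∈ s) e
    simp only [mem_inter, mem_insert, mem_singleton, or_true, and_true, eq_iff_iff] at this
    intro h
    exact hij (this.1 h).symm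

theorem center_cases {z : Co0} (hz : z ∈ Subgroup.center Co0) : z = 1 ∨ z = negEl := by
  rw [Subgroup.mem_center_iff] at hz
  have comm : ∀ (g : Co0) {x : Vec}, x ∈ leechLattice → app z (app g x) = app g (app z x) := by
    intro g x _
    rw [← app_mul, ← app_mul, hz g]
  have h0 : ∀ i, i ≠ pa → app z (sg pa 8) i = 0 := by
    intro i hi
    obtain ⟨c, hc, hic, hac⟩ := exists_word_sep hi
    obtain ⟨g, hg⟩ := exists_sgn hc
    have e1 := comm g (sg8_mem pa)
    rw [hg _ (sg8_mem pa), sgn_sg_of_notMem hac, hg _ (app_mem z (sg8_mem pa))] at e1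
    have := congrFun e1 i
    unfold Golay.sgn at this
    rw [if_pos hic] at this
    omega
  have h1 : app z (sg pa 8) = sg pa (app z (sg pa 8) pa) := by
    ext k
    unfold sg
    by_cases hk : k = pa
    · subst hk; rw [if_pos rfl]
    · rw [if_neg hk]; exact h0 k hk
  have h2 : app z (sg pa 8) pa = 8 ∨ app z (sg pa 8) pa = -8 := by
    have := app_norm z (sg8_mem pa)
    rw [h1, norm_sg, norm_sg] at this
    have h3 : (app z (sg pa 8) pa - 8) * (app z (sg pa 8) pa + 8) = 0 := by linarith
    rcases mul_eq_zero.1 h3 with h | h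
    · left; omega
    · right; omega
  obtain ⟨e, he, h3⟩ : ∃ e : ℤ, (e = 1 ∨ e = -1) ∧ app z (sg pa 8) = e • sg pa 8 := by
    rcases h2 with h2 | h2
    · exact ⟨1, Or.inl rfl, by rw [h1, h2, one_smul]⟩
    · exact ⟨-1, Or.inr rfl, by rw [h1, h2, neg_smul, one_smul, sg_neg]⟩
  refine eq_of_scalar he (fun x hx => scalar_of_frame (fun i => ?_) hx)
  obtain ⟨g, hg⟩ := T64 (sg8_mem i) (norm_std (mem_std.2 ⟨i, Or.inl rfl⟩))
  have h4 : sg i 8 = app g⁻¹ (sg pa 8) := by
    symm; rw [app_eq_iff, inv_inv]; exact hg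
  rw [h4, comm _ (sg8_mem pa), h3, app_zsmul _ (sg8_mem pa)]

theorem center_eq : (Subgroup.center Co0 : Set Co0) = {1, negEl} := by
  ext z
  simp only [SetLike.mem_coe, Set.mem_insert_iff, Set.mem_singleton_iff]
  constructor
  · exact center_cases
  · rintro (rfl | rfl)
    · exact one_mem _
    · exact negEl_central

theorem card_center : Nat.card (Subgroup.center Co0) = 2 := by
  have : Nat.card (Subgroup.center Co0) = (Subgroup.center Co0 : Set Co0).ncard := rfl
  rw [this, center_eq, Set.ncard_pair negEl_ne.symm]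

/-! ### generation -/

theorem norm_r8_word (w : Finset GolayPt) : sqNorm (r8 w) = 4 * w.card := by
  unfold sqNorm r8
  have : ∀ p, (if p ∈ w then (2 : ℤ) else 0) ^ 2 = if p ∈ w then 4 else 0 := by
    intro p; split_ifs <;> norm_num
  rw [sum_congr rfl (fun p _ => this p), sum_ind]

theorem r8_disj {a b : Finset GolayPt} (h : Disjoint a b) : r8 (a ∪ b) = r8 a + r8 b := by
  ext p
  unfold r8
  simp only [Pi.add_apply, mem_union]
  by_cases h1 : p ∈ a
  · have h2 : p ∉ b := fun h2 => (disjoint_left.1 h) h1 h2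
    simp [h1, h2]
  · simp [h1]

section gen
variable {M : AddSubgroup Vec} (hM : ∀ x ∈ leechLattice, sqNorm x = 32 → x ∈ M)
include hM

theorem gen48 {u : Vec} (hu : u ∈ leechLattice) (hn : sqNorm u = 48) : u ∈ M := by
  obtain ⟨v, hv, h1, h2⟩ := dec48 hu hn
  have h3 := hM _ (sub_mem hu hv) (sub_norm hn h1 h2)
  have : u = v + (u - v) := by abel
  rw [this]; exact add_mem (hM v hv h1) h3

theorem gen64 {u : Vec} (hu : u ∈ leechLattice) (hn : sqNorm u = 64) : u ∈ M := by
  obtain ⟨v, hv, h1, h2⟩ := dec64 hu hn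
  have h3 := hM _ (sub_mem hu hv) (by rw [sqNorm_sub, dotInt_comm]; omega)
  have : u = v + (u - v) := by abel
  rw [this]; exact add_mem (hM v hv h1) h3

theorem gen_word16 {w : Finset GolayPt} (hw : IsWord w) (h24 : w.card ≠ 24) : r8 w ∈ M := by
  have hn := norm_r8_word w
  have hc := hw.card
  have hm := r8_word_mem hw
  rcases (by omega : w.card = 0 ∨ w.card = 8 ∨ w.card = 12 ∨ w.card = 16) with h | h | h | h
  · have : w = ∅ := card_eq_zero.1 h
    have h0 : r8 w = 0 := by
      rw [this]; ext p; unfold r8; simp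
    rw [h0]; exact zero_mem M
  · exact hM _ hm (by rw [hn, h]; norm_num)
  · exact gen48 hM hm (by rw [hn, h]; norm_num)
  · exact gen64 hM hm (by rw [hn, h]; norm_num)

theorem gen_word {w : Finset GolayPt} (hw : IsWord w) : r8 w ∈ M := by
  by_cases h : w.card = 24
  · have hu : w = univ := by
      rw [← card_eq_iff_eq_univ, h, card_golayPt]
    have h1 : univ = O13 ∪ O13ᶜ := (union_compl O13).symm
    rw [hu, h1, r8_disj disjoint_compl_right]
    have ho := mem_octads.1 O13_mem
    refine add_mem (gen_word16 hM ho.1 (by omega)) (gen_word16 hM ho.1.compl ?_)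
    rw [card_compl, ho.2, card_golayPt]; norm_num
  · exact gen_word16 hM hw h

theorem gen_even {x : Vec} (h : InL x 0) : x ∈ M := by
  have hw : IsWord (cls x 2) := h.2.2
  have h1 := gen_word hM hw
  have hz : ∀ i, ∃ z : ℤ, x i - r8 (cls x 2) i = 4 * z := by
    intro i
    have hi := h.1 i
    have hm : i ∈ cls x 2 ↔ _ := mem_cls
    unfold r8
    by_cases hc : i ∈ cls x 2
    · rw [if_pos hc]; have := hm.1 hc; exact ⟨(x i - 2) / 4, by omega⟩
    · rw [if_neg hc]; have := mt hm.2 hc; exact ⟨x i / 4, by omega⟩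
  choose z hz using hz
  have hsum : (∑ i, z i) % 2 = 0 := by
    have e1 : ∑ i, x i - 2 * ((cls x 2).card : ℤ) = 4 * ∑ i, z i := by
      rw [mul_sum, ← sum_congr rfl (fun i _ => hz i), sum_sub_distrib]
      unfold r8
      rw [sum_ind]
    have e2 := h.2.1
    have e3 := hw.card_mod
    omega
  obtain ⟨t, ht⟩ : ∃ t, ∑ i, z i = 2 * t := ⟨(∑ i, z i) / 2, by omega⟩
  have hx : x = r8 (cls x 2) + (∑ i, z i • (sg i 4 - sg pa 4) + t • (sg pa 8)) := by
    ext k
    simp only [Pi.add_apply, Finset.sum_apply, Pi.smul_apply, Pi.sub_apply, smul_eq_mul]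
    have e1 : ∑ i, z i * (sg i 4 k - sg pa 4 k) = 4 * z k - (∑ i, z i) * sg pa 4 k := by
      have : ∀ i, z i * (sg i 4 k - sg pa 4 k) = (if k = i then 4 * z k else 0) - z i * sg pa 4 k := by
        intro i
        unfold sg
        by_cases hk : k = i
        · subst hk; rw [if_pos rfl, if_pos rfl]; split_ifs <;> ring
        · rw [if_neg hk, if_neg hk]; split_ifs <;> ring
      rw [sum_congr rfl (fun i _ => this i), sum_sub_distrib, sum_ite_eq, if_pos (mem_univ _), sum_mul]
    rw [e1, ht]
    have e2 := hz k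
    unfold sg
    split_ifs <;> linarith
  rw [hx]
  refine add_mem h1 (add_mem (sum_mem (fun i _ => zsmul_mem ?_ _)) (zsmul_mem ?_ _))
  · by_cases hi : i = pa
    · rw [hi, sub_self]; exact zero_mem M
    · have e1 : sg i 4 - sg pa 4 = sg i 4 + sg pa (-4) := by rw [sg_neg, sub_eq_add_neg]
      rw [e1]
      exact hM _ (sg_add_mem hi (Or.inl rfl) (Or.inr rfl)) (sqNorm_sg_add hi (Or.inl rfl) (Or.inr rfl))
  · exact gen64 hM (sg8_mem pa) (norm_std (mem_std.2 ⟨pa, Or.inl rfl⟩))

theorem gen_min : leechLattice ≤ M := by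
  intro x hx
  rcases mem_leech'.1 hx with h | h
  · exact gen_even hM h
  · have h1 : rO pa ∈ M := hM _ (rO_mem pa) (by decide +kernel)
    have h2 : x - rO pa ∈ leechLattice := sub_mem hx (rO_mem pa)
    have h3 : InL (x - rO pa) 0 := by
      rcases mem_leech'.1 h2 with h4 | h4
      · exact h4
      · exfalso
        have e1 := h.1 pb
        have e2 := h4.1 pb
        simp only [Pi.sub_apply] at e2
        unfold rO at e2
        rw [if_neg pa_ne_pb.symm] at e2
        omega
    have : x = rO pa + (x - rO pa) := by abel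
    rw [this]; exact add_mem h1 (gen_even hM h3)

end gen

end Cfsg.Agent.Lib.Golay
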