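import Cfsg.Agent.Lib.Golay.LeechMod2

/-!
Every class of the rank-24 lattice modulo 2 has a short representative.
-/

set_option autoImplicit false

namespace Cfsg.Agent.Lib.Golay

open scoped Pointwise
open Cfsg Finset

/-- doubling -/
def dbl : Vec →+ Vec where
  toFun x := x + x
  map_zero' := by simp
  map_add' x y := by abel

theorem dbl_inj : Function.Injective dbl := by
  intro x y h
  ext k
  have := congrFun h k
  simp only [dbl, AddMonoidHom.coe_mk, ZeroHom.coe_mk, Pi.add_apply] at this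
  omega

/-- reduction modulo 2 -/
def red : Vec →+ (GolayPt → ZMod 2) where
  toFun x := fun i => ((x i : ℤ) : ZMod 2)
  map_zero' := by ext i; simp
  map_add' x y := by ext i; simp

theorem red_surj : Function.Surjective red := by
  intro v
  refine ⟨fun i => ((v i).val : ℤ), ?_⟩
  ext i
  simp [red]

theorem ker_red : red.ker = AddSubgroup.map dbl ⊤ := by
  ext x
  rw [AddMonoidHom.mem_ker, AddSubgroup.mem_map, funext_iff]
  constructor
  · intro h
    refine ⟨fun i => x i / 2, AddSubgroup.mem_top _, ?_⟩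
    ext i
    have := (intCast_zmod2 _).1 (h i)
    simp only [dbl, AddMonoidHom.coe_mk, ZeroHom.coe_mk, Pi.add_apply]
    omega
  · rintro ⟨y, -, rfl⟩ i
    refine (intCast_zmod2 _).2 ?_
    simp only [dbl, AddMonoidHom.coe_mk, ZeroHom.coe_mk, Pi.add_apply]
    omega

theorem index_ker_red : red.ker.index = 2 ^ 24 := by
  rw [AddSubgroup.index_ker, AddMonoidHom.range_eq_top.2 red_surj, AddSubgroup.card_top, Nat.card_eq_fintype_card,
    Fintype.card_fun, ZMod.card, card_golayPt]

/-- twice the lattice -/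
def L2 : AddSubgroup Vec := leechLattice.map dbl

theorem mem_L2 {x : Vec} : x ∈ L2 ↔ ∃ z ∈ leechLattice, x = z + z := by
  unfold L2
  rw [AddSubgroup.mem_map]
  constructor
  · rintro ⟨z, hz, rfl⟩; exact ⟨z, hz, rfl⟩
  · rintro ⟨z, hz, rfl⟩; exact ⟨z, hz, rfl⟩

theorem L2_le : L2 ≤ leechLattice := by
  intro x hx
  obtain ⟨z, hz, rfl⟩ := mem_L2.1 hx
  exact add_mem hz hz

theorem relIndex_L2 : L2.relIndex leechLattice = 2 ^ 24 := by
  have h1 := AddSubgroup.relIndex_mul_index L2_le
  have h2 : L2.relIndex (AddSubgroup.map dbl ⊤) = 2 ^ 36 := by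
    unfold L2
    rw [AddSubgroup.relIndex_map_map_of_injective _ _ dbl_inj, AddSubgroup.relIndex_top_right, index_leech]
  have h3 : L2.index = 2 ^ 36 * 2 ^ 24 := by
    rw [← AddSubgroup.relIndex_mul_index (H := L2) (K := AddSubgroup.map dbl ⊤) (AddSubgroup.map_mono le_top), h2,
      ← ker_red, index_ker_red]
  rw [h3, index_leech, mul_comm] at h1
  exact Nat.eq_of_mul_eq_mul_left (pow_pos (by norm_num) 36) h1

/-- the classes modulo 2 -/
abbrev QL : Type := leechLattice ⧸ (L2.addSubgroupOf leechLattice)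

theorem card_QL : Nat.card QL = 2 ^ 24 := relIndex_L2

noncomputable def qm (v : leechLattice) : QL := QuotientAddGroup.mk v

theorem qm_eq {v w : leechLattice} : qm v = qm w ↔ ∃ z ∈ leechLattice, (v : Vec) - w = z + z := by
  unfold qm
  rw [QuotientAddGroup.eq, AddSubgroup.mem_addSubgroupOf, mem_L2]
  constructor
  · rintro ⟨z, hz, h⟩
    refine ⟨-z, neg_mem hz, ?_⟩
    have h' : -(v : Vec) + w = z + z := h
    have : (v : Vec) - w = -(-(v : Vec) + w) := by abel
    rw [this, h']; abel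
  · rintro ⟨z, hz, h⟩
    refine ⟨-z, neg_mem hz, ?_⟩
    show -(v : Vec) + w = -z + -z
    have : -(v : Vec) + w = -((v : Vec) - w) := by abel
    rw [this, h]; abel

/-- number of classes represented by a set of vectors with constant multiplicity -/
theorem image_card {S : Set leechLattice} {k n : ℕ} (hn : S.ncard = n) (hn0 : n ≠ 0)
    (h : ∀ v ∈ S, {w | w ∈ S ∧ qm w = qm v}.ncard = k) : k * (qm '' S).ncard = n := by
  classical
  have hfin : S.Finite := Set.finite_of_ncard_ne_zero (by omega)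
  have h1 : S.ncard = hfin.toFinset.card := Set.ncard_eq_toFinset_card S hfin
  have h2 : (qm '' S).ncard = (hfin.toFinset.image qm).card := by
    rw [← Set.ncard_coe_finset]
    congr 1
    ext x; simp
  rw [← hn, h1, h2, card_eq_sum_card_image qm hfin.toFinset]
  rw [sum_congr rfl (fun b hb => ?_), sum_const, smul_eq_mul, mul_comm]
  show _ = k
  obtain ⟨v, hv, rfl⟩ := mem_image.1 hb
  have hv' : v ∈ S := by simpa using hv
  rw [← h v hv', ← Set.ncard_coe_finset]
  congr 1
  ext w
  simp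

theorem fib_small {n : ℤ} (hn : n ≤ 63) (hn0 : 0 < n) (v : leechLattice) (hv : sqNorm (v : Vec) = n) :
    {w : leechLattice | w ∈ {w : leechLattice | sqNorm (w : Vec) = n} ∧ qm w = qm v}.ncard = 2 := by
  have hne : v ≠ -v := by
    intro h
    have h1 := congrArg Subtype.val h
    have h2 : (v : Vec) = 0 := by
      ext k
      have := congrFun h1 k
      simp only [AddSubgroup.coe_neg, Pi.neg_apply] at this
      show (v : Vec) k = 0
      omega
    rw [h2] at hv
    simp [sqNorm] at hv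
    omega
  rw [← Set.ncard_pair hne]
  congr 1
  ext w
  simp only [Set.mem_setOf_eq, Set.mem_insert_iff, Set.mem_singleton_iff]
  constructor
  · rintro ⟨h1, h2⟩
    obtain ⟨z, hz, h3⟩ := qm_eq.1 h2
    rcases congr_cases v.2 hz (by omega) (by omega) h3 with h | h | ⟨h, -⟩
    · exact Or.inl (Subtype.ext h)
    · exact Or.inr (Subtype.ext h)
    · omega
  · rintro (rfl | rfl)
    · exact ⟨hv, rfl⟩
    · refine ⟨?_, qm_eq.2 ⟨-v, neg_mem v.2, ?_⟩⟩
      · show sqNorm (-(v : Vec)) = n
        rw [sqNorm_neg, hv]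
      · show -(v : Vec) - v = -(v : Vec) + -(v : Vec)
        abel

theorem ncard_cross {x : Vec} (hx : x ∈ leechLattice) (hn : sqNorm x = 64) : (cross x).ncard = 48 := by
  obtain ⟨g, hg⟩ := T64 hx hn
  have h1 := cross_app g hx
  rw [hg, cross_t0] at h1
  rw [← Set.ncard_image_of_injective (cross x) (app_injective g), ← h1]
  exact ncard_std

theorem fib64 (v : leechLattice) (hv : sqNorm (v : Vec) = 64) :
    {w : leechLattice | w ∈ {w : leechLattice | sqNorm (w : Vec) = 64} ∧ qm w = qm v}.ncard = 48 := by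
  rw [← ncard_cross v.2 hv]
  have : {w : leechLattice | w ∈ {w : leechLattice | sqNorm (w : Vec) = 64} ∧ qm w = qm v} =
      {w : leechLattice | (w : Vec) ∈ cross v} := by
    ext w
    unfold cross
    simp only [Set.mem_setOf_eq, hv]
    constructor
    · rintro ⟨h1, h2⟩
      obtain ⟨z, hz, h3⟩ := qm_eq.1 h2.symm
      exact ⟨w.2, h1, z, hz, by rw [two_smul_vec]; exact h3⟩
    · rintro ⟨h1, h2, z, hz, h3⟩
      rw [two_smul_vec] at h3
      exact ⟨h2, (qm_eq.2 ⟨z, hz, h3⟩).symm⟩
  rw [this, ncard_sub _ (fun x => x ∈ cross (v : Vec)) (fun x => Iff.rfl)]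
  congr 1
  ext x
  exact ⟨fun h => h.2, fun h => ⟨h.1, h⟩⟩

def Sn (n : ℤ) : Set leechLattice := {v | sqNorm (v : Vec) = n}

theorem card_im32 : (qm '' Sn 32).ncard = 98280 := by
  have h := image_card (S := Sn 32) (k := 2) (n := 196560) (by
    unfold Sn; rw [ncard_sub _ (fun x => sqNorm x = 32) (fun x => Iff.rfl), c_32]) (by norm_num)
    (fun v hv => fib_small (by norm_num) (by norm_num) v hv)
  omega

theorem card_im48 : (qm '' Sn 48).ncard = 8386560 := by
  have h := image_card (S := Sn 48) (k := 2) (n := 16773120) (by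
    unfold Sn; rw [ncard_sub _ (fun x => sqNorm x = 48) (fun x => Iff.rfl), c_48]) (by norm_num)
    (fun v hv => fib_small (by norm_num) (by norm_num) v hv)
  omega

theorem card_im64 : (qm '' Sn 64).ncard = 8292375 := by
  have h := image_card (S := Sn 64) (k := 48) (n := 398034000) (by
    unfold Sn; rw [ncard_sub _ (fun x => sqNorm x = 64) (fun x => Iff.rfl), c_64]) (by norm_num)
    (fun v hv => fib64 v hv)
  omega

theorem disj_im {m n : ℤ} (hm : m ≤ 64) (hn : n ≤ 64) (hmn : m ≠ n) : Disjoint (qm '' Sn m) (qm '' Sn n) := by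
  rw [Set.disjoint_left]
  rintro _ ⟨v, hv, rfl⟩ ⟨w, hw, h⟩
  have hv' : sqNorm (v : Vec) = m := hv
  have hw' : sqNorm (w : Vec) = n := hw
  obtain ⟨z, hz, h3⟩ := qm_eq.1 h
  rcases congr_cases v.2 hz (by omega) (by omega) h3 with h | h | ⟨h, h', -⟩
  · rw [h] at hw'; omega
  · rw [h, sqNorm_neg] at hw'; omega
  · omega

theorem finite_QL : Finite QL := Nat.finite_of_card_ne_zero (by rw [card_QL]; norm_num)

theorem all_classes (q : QL) : q = qm 0 ∨ q ∈ qm '' Sn 32 ∨ q ∈ qm '' Sn 48 ∨ q ∈ qm '' Sn 64 := by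
  have := finite_QL
  have h0 : Sn 0 = {0} := by
    ext v
    unfold Sn
    simp only [Set.mem_setOf_eq, Set.mem_singleton_iff]
    constructor
    · intro h; exact Subtype.ext (sqNorm_eq_zero h)
    · rintro rfl; show sqNorm (0 : Vec) = 0; simp [sqNorm]
  have hu : qm '' Sn 0 ∪ (qm '' Sn 32 ∪ (qm '' Sn 48 ∪ qm '' Sn 64)) = Set.univ := by
    apply Set.eq_of_subset_of_ncard_le (Set.subset_univ _)
    rw [Set.ncard_univ, card_QL]
    have f : ∀ s : Set QL, s.Finite := fun s => s.toFinite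
    rw [Set.ncard_union_eq _ (f _) (f _), Set.ncard_union_eq _ (f _) (f _), Set.ncard_union_eq _ (f _) (f _),
      card_im32, card_im48, card_im64, h0, Set.image_singleton, Set.ncard_singleton]
    · norm_num
    · exact disj_im (by norm_num) (by norm_num) (by norm_num)
    · rw [Set.disjoint_union_right]
      exact ⟨disj_im (by norm_num) (by norm_num) (by norm_num), disj_im (by norm_num) (by norm_num) (by norm_num)⟩
    · rw [Set.disjoint_union_right, Set.disjoint_union_right]
      exact ⟨disj_im (by norm_num) (by norm_num) (by norm_num), disj_im (by norm_num) (by norm_num) (by norm_num),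
        disj_im (by norm_num) (by norm_num) (by norm_num)⟩
  have hq : q ∈ qm '' Sn 0 ∪ (qm '' Sn 32 ∪ (qm '' Sn 48 ∪ qm '' Sn 64)) := by rw [hu]; exact Set.mem_univ q
  rw [h0, Set.image_singleton] at hq
  rcases hq with h | h | h | h
  · exact Or.inl h
  · exact Or.inr (Or.inl h)
  · exact Or.inr (Or.inr (Or.inl h))
  · exact Or.inr (Or.inr (Or.inr h))

/-- short representatives -/
theorem short_rep {x : Vec} (hx : x ∈ leechLattice) : ∃ y ∈ leechLattice, (sqNorm y = 0 ∨ sqNorm y = 32 ∨ sqNorm y = 48 ∨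
    sqNorm y = 64) ∧ ∃ z ∈ leechLattice, x - y = z + z := by
  rcases all_classes (qm ⟨x, hx⟩) with h | ⟨v, hv, h⟩ | ⟨v, hv, h⟩ | ⟨v, hv, h⟩
  · obtain ⟨z, hz, h3⟩ := qm_eq.1 h
    exact ⟨0, zero_mem _, Or.inl (by simp [sqNorm]), z, hz, h3⟩
  · obtain ⟨z, hz, h3⟩ := qm_eq.1 h.symm
    exact ⟨v, v.2, Or.inr (Or.inl hv), z, hz, h3⟩
  · obtain ⟨z, hz, h3⟩ := qm_eq.1 h.symm
    exact ⟨v, v.2, Or.inr (Or.inr (Or.inl hv)), z, hz, h3⟩
  · obtain ⟨z, hz, h3⟩ := qm_eq.1 h.symm
    exact ⟨v, v.2, Or.inr (Or.inr (Or.inr hv)), z, hz, h3⟩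

/-- automorphisms trivial modulo 2 are central -/
theorem kernel_mod2 {g : Co0} (h : ∀ x ∈ leechLattice, ∃ z ∈ leechLattice, app g x - x = z + z) :
    g ∈ Subgroup.center Co0 := by
  have hmin : ∀ x ∈ leechLattice, sqNorm x = 32 → app g x = x ∨ app g x = -x := by
    intro x hx hn
    obtain ⟨z, hz, h1⟩ := h x hx
    rcases congr_cases hx hz (by rw [app_norm g hx, hn]; norm_num) (by omega) h1 with h | h | ⟨h, h', -⟩
    · exact Or.inl h
    · exact Or.inr h
    · omega
  have pm : ∀ x ∈ leechLattice, sqNorm x = 32 → ∃ e : ℤ, (e = 1 ∨ e = -1) ∧ app g x = e • x := by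
    intro x hx hn
    rcases hmin x hx hn with h | h
    · exact ⟨1, Or.inl rfl, by rw [h, one_smul]⟩
    · exact ⟨-1, Or.inr rfl, by rw [h, neg_smul, one_smul]⟩
  have m : ∀ {i j : GolayPt} (s t : ℤ), i ≠ j → (s = 4 ∨ s = -4) → (t = 4 ∨ t = -4) →
      ∃ e : ℤ, (e = 1 ∨ e = -1) ∧ app g (sg i s + sg j t) = e • (sg i s + sg j t) := by
    intro i j s t hij hs ht
    exact pm _ (sg_add_mem hij hs ht) (sqNorm_sg_add hij hs ht)
  -- the sign of 4e_a + 4e_b
  obtain ⟨e, he, h1⟩ := m (i := pa) (j := pb) 4 4 pa_ne_pb (Or.inl rfl) (Or.inl rfl)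
  have hframe : ∀ i, app g (sg i 8) = e • sg i 8 := by
    -- comparing two vectors sharing a coordinate
    have share : ∀ {i j k : GolayPt} (s t r : ℤ), i ≠ j → i ≠ k → j ≠ k → (s = 4 ∨ s = -4) → (t = 4 ∨ t = -4) →
        (r = 4 ∨ r = -4) → app g (sg i s + sg j t) = e • (sg i s + sg j t) →
        app g (sg i s + sg k r) = e • (sg i s + sg k r) := by
      intro i j k s t r hij hik hjk hs ht hr h1
      obtain ⟨f, hf, h2⟩ := m (i := i) (j := k) s r hik hs hr
      obtain ⟨d, hd, h3⟩ := m (i := j) (j := k) (-t) r hjk (by omega) hr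
      have e1 : sg i s + sg k r = (sg i s + sg j t) + (sg j (-t) + sg k r) := by
        rw [sg_neg]; abel
      have e2 := congrArg (app g) e1
      rw [app_add g (sg_add_mem hij hs ht) (sg_add_mem hjk (by omega) hr), h1, h2, h3] at e2
      have e3 := congrFun e2 i
      unfold sg at e3
      simp only [Pi.smul_apply, Pi.add_apply, if_true, if_neg hij, if_neg hik, add_zero, smul_eq_mul, mul_zero] at e3
      have : f = e := by rcases hs with rfl | rfl <;> omega
      rw [← this]; exact h2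
    intro i
    -- 4e_i + 4e_j and 4e_i - 4e_j
    have fin : ∀ (i j : GolayPt), i ≠ j → (∀ t : ℤ, (t = 4 ∨ t = -4) → app g (sg i 4 + sg j t) = e • (sg i 4 + sg j t)) →
        app g (sg i 8) = e • sg i 8 := by
      intro i j hij h
      have e1 : sg i 8 = (sg i 4 + sg j 4) + (sg i 4 + sg j (-4)) := by
        ext k; unfold sg; simp only [Pi.add_apply]; split_ifs <;> norm_num
      rw [e1, app_add g (sg_add_mem hij (Or.inl rfl) (Or.inl rfl)) (sg_add_mem hij (Or.inl rfl) (Or.inr rfl)),
        h 4 (Or.inl rfl), h (-4) (Or.inr rfl), ← smul_add]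
    have h1' : app g (sg pb 4 + sg pa 4) = e • (sg pb 4 + sg pa 4) := by
      rw [add_comm (sg pb 4)]; exact h1
    have n1 : pt 1 ≠ pa := by decide
    have n2 : pt 1 ≠ pb := by decide
    by_cases hia : i = pa
    · subst hia
      exact fin pa (pt 1) n1.symm (fun t ht => share 4 4 t pa_ne_pb n1.symm n2.symm (Or.inl rfl) (Or.inl rfl) ht h1)
    · have h2 : app g (sg i 4 + sg pa 4) = e • (sg i 4 + sg pa 4) := by
        by_cases hib : i = pb
        · subst hib; exact h1'
        · rw [add_comm (sg i 4)]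
          exact share 4 4 4 pa_ne_pb (Ne.symm hia) (Ne.symm hib) (Or.inl rfl) (Or.inl rfl) (Or.inl rfl) h1
      by_cases hib : i = pb
      · exact fin i (pt 1) (by rw [hib]; exact n2.symm) (fun t ht => share 4 4 t hia (by rw [hib]; exact n2.symm)
          n1.symm (Or.inl rfl) (Or.inl rfl) ht h2)
      · exact fin i pb hib (fun t ht => share 4 4 t hia hib pa_ne_pb (Or.inl rfl) (Or.inl rfl) ht h2)
  rcases eq_of_scalar he (fun x hx => scalar_of_frame hframe hx) with h | h
  · rw [h]; exact one_mem _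
  · rw [h]; exact negEl_central

/-- invariant subgroups between 2L and L -/
theorem irred_mod2 (M : AddSubgroup Vec) (h2 : ∀ v ∈ leechLattice, v + v ∈ M)
    (hinv : ∀ g : Co0, ∀ v ∈ leechLattice, v ∈ M → app g v ∈ M) {x : Vec} (hx : x ∈ leechLattice) (hxM : x ∈ M)
    (hx2 : ∀ w ∈ leechLattice, x ≠ w + w) : leechLattice ≤ M := by
  obtain ⟨y, hy, hn, z, hz, e⟩ := short_rep hx
  have hyM : y ∈ M := by
    have : y = x - (z + z) := by rw [← e]; abel
    rw [this]; exact sub_mem hxM (h2 z hz)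
  have key32 : (∃ w ∈ leechLattice, sqNorm w = 32 ∧ w ∈ M) → leechLattice ≤ M := by
    rintro ⟨w, hw, hwn, hwM⟩
    apply gen_min
    intro u hu hun
    obtain ⟨g, hg⟩ := toV0 hw hwn
    obtain ⟨k, hk⟩ := toV0 hu hun
    have : u = app k⁻¹ (app g w) := by rw [hg, ← hk, app_inv_app]
    rw [this]
    exact hinv _ _ (app_mem g hw) (hinv g w hw hwM)
  rcases hn with hn | hn | hn | hn
  · exfalso
    have := sqNorm_eq_zero hn
    rw [this, sub_zero] at e
    exact hx2 z hz e
  · exact key32 ⟨y, hy, hn, hyM⟩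
  · have h48 : ∀ u ∈ leechLattice, sqNorm u = 48 → u ∈ M := by
      intro u hu hun
      obtain ⟨g, hg⟩ := toR5 hy hn
      obtain ⟨k, hk⟩ := toR5 hu hun
      have : u = app k⁻¹ (app g y) := by rw [hg, ← hk, app_inv_app]
      rw [this]
      exact hinv _ _ (app_mem g hy) (hinv g y hy hyM)
    refine key32 ⟨v0, v0_mem, norm_v0, ?_⟩
    have : v0 = r5 pa - r5 pb := by
      unfold v0 r5 sg
      ext k
      simp only [Pi.add_apply, Pi.sub_apply]
      by_cases h1 : k = pa
      · have h2 : k ≠ pb := by rw [h1]; exact pa_ne_pb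
        simp [h1, pa_ne_pb]
      · by_cases h3 : k = pb
        · simp [h3, pa_ne_pb.symm]
        · simp [h1, h3]
    rw [this]
    exact sub_mem (h48 _ (r5_mem _) (norm_r5 _)) (h48 _ (r5_mem _) (norm_r5 _))
  · have h64 : ∀ u ∈ leechLattice, sqNorm u = 64 → u ∈ M := by
      intro u hu hun
      obtain ⟨g, hg⟩ := T64 hy hn
      obtain ⟨k, hk⟩ := T64 hu hun
      have : u = app k⁻¹ (app g y) := by rw [hg, ← hk, app_inv_app]
      rw [this]
      exact hinv _ _ (app_mem g hy) (hinv g y hy hyM)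
    have ha : pa ∈ O13 := by decide +kernel
    have hm := sub_mem (sg8_mem pa) (r8_mem O13_mem)
    have hn8 : sqNorm (r8 O13) = 32 := by rw [norm_r8_word, (mem_octads.1 O13_mem).2]; norm_num
    have hn' : sqNorm (sg pa 8 - r8 O13) = 64 := by
      rw [sqNorm_sub, dot_sg, norm_sg, hn8]
      have : r8 O13 pa = 2 := by unfold r8; rw [if_pos ha]
      rw [this]; norm_num
    refine key32 ⟨r8 O13, r8_mem O13_mem, hn8, ?_⟩
    have : r8 O13 = sg pa 8 - (sg pa 8 - r8 O13) := by abel
    rw [this]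
    exact sub_mem (h64 _ (sg8_mem pa) (norm_std (mem_std.2 ⟨pa, Or.inl rfl⟩))) (h64 _ hm hn')

end Cfsg.Agent.Lib.Golay
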