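import Cfsg.Agent.Lib.Golay.Leech64
import Cfsg.Prelude.Def_SporadicCombinatorics

/-!
Crosses and monomial automorphisms of the rank-24 lattice.
-/

set_option autoImplicit false

namespace Cfsg.Agent.Lib.Golay

open scoped Pointwise
open Cfsg Finset

theorem mem_std {y : Vec} : y ∈ stdCross ↔ ∃ i, y = sg i 8 ∨ y = sg i (-8) := by
  unfold stdCross
  constructor
  · rintro ⟨i, s, hs, rfl⟩
    refine ⟨i, ?_⟩
    rcases hs with rfl | rfl
    · left; ext k; unfold sg; rw [Pi.single_apply]
    · right; ext k; unfold sg; rw [Pi.single_apply]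
  · rintro ⟨i, h | h⟩
    · exact ⟨i, 8, Or.inl rfl, by rw [h]; ext k; unfold sg; rw [Pi.single_apply]⟩
    · exact ⟨i, -8, Or.inr rfl, by rw [h]; ext k; unfold sg; rw [Pi.single_apply]⟩

theorem sg8_mem (i : GolayPt) : sg i 8 ∈ leechLattice := by
  refine mem_leech.2 ⟨0, ?_, ?_, ?_⟩
  · intro p; unfold sg; split_ifs <;> omega
  · unfold sg
    rw [sum_ite_eq', if_pos (mem_univ _)]; norm_num
  · have : cls (sg i 8) (0 + 2) = ∅ := by
      ext p
      rw [mem_cls]
      unfold sg
      simp only [Finset.notMem_empty, iff_false]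
      split_ifs <;> omega
    rw [this]; exact isWord_empty

theorem sg_neg (i : GolayPt) (s : ℤ) : sg i (-s) = - sg i s := by
  ext k; unfold sg; simp only [Pi.neg_apply]; split_ifs <;> simp

theorem std_mem_L {y : Vec} (h : y ∈ stdCross) : y ∈ leechLattice := by
  obtain ⟨i, rfl | rfl⟩ := mem_std.1 h
  · exact sg8_mem i
  · rw [sg_neg]; exact neg_mem (sg8_mem i)

theorem norm_sg (i : GolayPt) (s : ℤ) : sqNorm (sg i s) = s ^ 2 := by
  rw [← dotInt_self, dot_sg]; unfold sg; rw [if_pos rfl]; ring

theorem norm_std {y : Vec} (h : y ∈ stdCross) : sqNorm y = 64 := by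
  obtain ⟨i, rfl | rfl⟩ := mem_std.1 h <;> rw [norm_sg] <;> norm_num

theorem two_smul_vec (x : Vec) : (2 • x : Vec) = x + x := two_nsmul x

theorem norm_two (x : Vec) : sqNorm (x + x) = 4 * sqNorm x := by
  rw [sqNorm_add, dotInt_self]; ring

theorem norm_ge {x : Vec} (hx : x ∈ leechLattice) : sqNorm x = 0 ∨ 32 ≤ sqNorm x := by
  by_cases h : x = 0
  · left; rw [h]; simp [sqNorm]
  · exact Or.inr (min_norm hx h)

theorem norm16 {x : Vec} (hx : x ∈ leechLattice) : sqNorm x % 16 = 0 := by
  rcases mem_leech'.1 hx with h | h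
  · obtain ⟨t, ht⟩ := sqNorm_even h
    have h2 : IsWord (cls x 2) := h.2.2
    have := h2.card_mod
    omega
  · obtain ⟨t, ht⟩ := sqNorm_odd h
    have h1 := h.2.1
    have h2 : IsWord (cls x 3) := h.2.2
    have := h2.card_mod
    omega

/-- two short vectors congruent modulo twice the lattice -/
theorem congr_cases {x y z : Vec} (hy : y ∈ leechLattice) (hz : z ∈ leechLattice)
    (hxn : sqNorm x ≤ 64) (hyn : sqNorm y ≤ 64) (h : x - y = z + z) :
    x = y ∨ x = -y ∨ (sqNorm x = 64 ∧ sqNorm y = 64 ∧ dotInt x y = 0 ∧ sqNorm z = 32) := by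
  have h1 : sqNorm (x - y) = 4 * sqNorm z := by rw [h, norm_two]
  have hz' : z + y ∈ leechLattice := add_mem hz hy
  have h2 : x + y = (z + y) + (z + y) := by
    have : x = z + z + y := by rw [← h]; abel
    rw [this]; abel
  have h3 : sqNorm (x + y) = 4 * sqNorm (z + y) := by rw [h2, norm_two]
  rw [sqNorm_sub] at h1
  rw [sqNorm_add] at h3
  rcases norm_ge hz with h4 | h4
  · left
    have := sqNorm_eq_zero h4
    rw [this, add_zero] at h
    exact sub_eq_zero.1 h
  · rcases norm_ge hz' with h5 | h5
    · right; left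
      have := sqNorm_eq_zero h5
      rw [this, add_zero] at h2
      exact eq_neg_of_add_eq_zero_left h2
    · right; right
      have h6 : 0 ≤ sqNorm x := sum_nonneg (fun _ _ => sq_nonneg _)
      refine ⟨by omega, by omega, by omega, by omega⟩

theorem cross_t0 : cross t0 = stdCross := by
  have ht : t0 ∈ leechLattice := sg8_mem pa
  have htn : sqNorm t0 = 64 := by unfold t0; rw [norm_sg]; norm_num
  ext y
  unfold cross
  rw [Set.mem_setOf_eq, htn]
  constructor
  · rintro ⟨hy, hn, z, hz, h⟩
    rw [two_smul_vec] at h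
    rcases congr_cases hy hz (le_of_eq htn) (le_of_eq hn) h with h1 | h1 | ⟨h1, h2, h3, h4⟩
    · rw [← h1]; exact mem_std.2 ⟨pa, Or.inl rfl⟩
    · rw [show y = -t0 by rw [h1, neg_neg]]
      exact mem_std.2 ⟨pa, Or.inr (by rw [sg_neg]; rfl)⟩
    · unfold t0 at h3
      rw [dot_sg] at h3
      have hya : y pa = 0 := by omega
      have h5 := congrFun h pa
      have h6 : z pa = 4 := by
        unfold t0 sg at h5
        simp only [Pi.sub_apply, Pi.add_apply, if_true] at h5
        omega
      obtain ⟨j, hj⟩ := sh4_of hz h4 (p := pa) (by rw [h6]; norm_num)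
      have h7 : y = t0 - (z + z) := by rw [← h]; abel
      refine mem_std.2 ⟨j, ?_⟩
      rw [hj.norm, h6] at h7
      rcases hj.2.2.1 with h8 | h8
      · right
        rw [h8] at h7
        rw [h7]
        ext k; unfold t0 sg
        simp only [Pi.sub_apply, Pi.add_apply]
        split_ifs <;> norm_num
      · left
        rw [h8] at h7
        rw [h7]
        ext k; unfold t0 sg
        simp only [Pi.sub_apply, Pi.add_apply]
        split_ifs <;> norm_num
  · intro hy
    refine ⟨std_mem_L hy, norm_std hy, ?_⟩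
    obtain ⟨i, h⟩ := mem_std.1 hy
    by_cases hi : pa = i
    · rw [← hi] at h
      rcases h with h | h
      · refine ⟨0, zero_mem _, ?_⟩
        rw [h]; unfold t0; simp
      · refine ⟨sg pa 8, sg8_mem pa, ?_⟩
        rw [h, sg_neg, two_smul_vec]; unfold t0; abel
    · rcases h with h | h
      · refine ⟨sg pa 4 + sg i (-4), sg_add_mem hi (Or.inl rfl) (Or.inr rfl), ?_⟩
        rw [h, two_smul_vec]
        ext k; unfold t0 sg
        simp only [Pi.sub_apply, Pi.add_apply]
        split_ifs <;> norm_num
      · refine ⟨sg pa 4 + sg i 4, sg_add_mem hi (Or.inl rfl) (Or.inl rfl), ?_⟩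
        rw [h, two_smul_vec]
        ext k; unfold t0 sg
        simp only [Pi.sub_apply, Pi.add_apply]
        split_ifs <;> norm_num

theorem cross_app (g : Co0) {x : Vec} (hx : x ∈ leechLattice) : cross (app g x) = app g '' cross x := by
  ext y
  unfold cross
  rw [Set.mem_image, Set.mem_setOf_eq]
  constructor
  · rintro ⟨hy, hn, z, hz, h⟩
    refine ⟨app g⁻¹ y, ⟨app_mem _ hy, ?_, app g⁻¹ z, app_mem _ hz, ?_⟩, app_app_inv g y⟩
    · rw [app_norm _ hy, hn, app_norm g hx]
    · have := congrArg (app g⁻¹) h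
      rw [app_sub g⁻¹ (app_mem g hx) hy, app_inv_app, app_nsmul g⁻¹ hz] at this
      exact this
  · rintro ⟨w, ⟨hw, hn, z, hz, h⟩, rfl⟩
    refine ⟨app_mem g hw, by rw [app_norm g hw, app_norm g hx, hn], app g z, app_mem g hz, ?_⟩
    rw [← app_sub g hx hw, h, app_nsmul g hz]

theorem ncard_std : (stdCross : Set Vec).ncard = 48 := by
  have e : (stdCross : Set Vec) = (fun p : GolayPt × Bool => sg p.1 (if p.2 then 8 else -8)) '' Set.univ := by
    ext y
    rw [mem_std, Set.mem_image]
    constructor
    · rintro ⟨i, h | h⟩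
      · exact ⟨(i, true), Set.mem_univ _, by rw [h]; rfl⟩
      · exact ⟨(i, false), Set.mem_univ _, by rw [h]; rfl⟩
    · rintro ⟨⟨i, b⟩, -, h⟩
      refine ⟨i, ?_⟩
      cases b
      · right; rw [← h]; rfl
      · left; rw [← h]; rfl
  rw [e, Set.ncard_image_of_injective, Set.ncard_univ, Nat.card_eq_fintype_card, Fintype.card_prod, card_golayPt]
  · rfl
  · rintro ⟨i, b⟩ ⟨j, c⟩ h
    have h1 := congrFun h i
    unfold sg at h1
    simp only [if_true] at h1
    by_cases hij : i = j
    · subst hij
      simp only [if_true] at h1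
      cases b <;> cases c <;> simp at h1 ⊢
    · exfalso
      rw [if_neg hij] at h1
      cases b <;> simp at h1

theorem app_sum (g : Co0) {ι : Type*} (s : Finset ι) (f : ι → Vec) (hf : ∀ i ∈ s, f i ∈ leechLattice) :
    app g (∑ i ∈ s, f i) = ∑ i ∈ s, app g (f i) := by
  classical
  induction s using Finset.induction_on with
  | empty => rw [sum_empty, sum_empty, app_zero]
  | insert a s ha ih =>
    rw [sum_insert ha, sum_insert ha, app_add g (hf a (mem_insert_self _ _))
      (sum_mem (fun i hi => hf i (mem_insert_of_mem hi))), ih (fun i hi => hf i (mem_insert_of_mem hi))]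

theorem eight_smul (x : Vec) : (8 : ℤ) • x = ∑ i, x i • sg i 8 := by
  ext k
  rw [Finset.sum_apply, Pi.smul_apply]
  have : ∀ i, (x i • sg i 8) k = if k = i then 8 * x k else 0 := by
    intro i
    rw [Pi.smul_apply]
    unfold sg
    by_cases h : k = i
    · subst h; simp; ring
    · simp [h]
  rw [sum_congr rfl (fun i _ => this i), sum_ite_eq, if_pos (mem_univ _)]
  rfl

/-- twice the characteristic vector of a word -/
theorem r8_word_mem {w : Finset GolayPt} (hw : IsWord w) : r8 w ∈ leechLattice := by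
  refine mem_leech.2 ⟨0, ?_, ?_, ?_⟩
  · intro p; unfold r8; split_ifs <;> omega
  · unfold r8
    rw [sum_ind]
    have := hw.card_mod
    omega
  · have : cls (r8 w) (0 + 2) = w := by
      ext p
      rw [mem_cls]
      unfold r8
      split_ifs with h
      · simp [h]
      · simp [h]
    rw [this]; exact hw

/-- automorphisms preserving the standard cross are monomial -/
theorem mono {g : Co0} (h : ∀ x ∈ (stdCross : Set Vec), app g x ∈ (stdCross : Set Vec)) :
    ∃ c : Finset GolayPt, ∃ σ : Equiv.Perm GolayPt, IsWord c ∧ σ ∈ M24 ∧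
      ∀ x ∈ leechLattice, app g x = sgn c (prm σ x) := by
  classical
  have h1 : ∀ i, ∃ j, ∃ s : ℤ, (s = 1 ∨ s = -1) ∧ app g (sg i 8) = sg j (8 * s) := by
    intro i
    obtain ⟨j, hj | hj⟩ := mem_std.1 (h _ (mem_std.2 ⟨i, Or.inl rfl⟩))
    · exact ⟨j, 1, Or.inl rfl, by rw [hj]; rfl⟩
    · exact ⟨j, -1, Or.inr rfl, by rw [hj]; rfl⟩
  choose j s hs hj using h1
  have hinj : Function.Injective j := by
    intro a b hab
    by_contra hne
    have e1 := app_dot g (sg8_mem a) (sg8_mem b)
    rw [hj a, hj b, dot_sg, dot_sg] at e1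
    unfold sg at e1
    rw [if_pos hab, if_neg hne] at e1
    rcases hs a with h1 | h1 <;> rcases hs b with h2 | h2 <;> rw [h1, h2] at e1 <;> norm_num at e1
  have hbij : Function.Bijective j := Finite.injective_iff_bijective.1 hinj
  let σ : Equiv.Perm GolayPt := Equiv.ofBijective j hbij
  have hσ : ∀ i, σ i = j i := fun i => rfl
  let c : Finset GolayPt := univ.filter (fun k => s (σ.symm k) = -1)
  have hc : ∀ k, k ∈ c ↔ s (σ.symm k) = -1 := fun k => by simp [c]
  have hmain : ∀ x ∈ leechLattice, app g x = sgn c (prm σ x) := by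
    intro x hx
    have e1 : (8 : ℤ) • app g x = ∑ i, x i • sg (j i) (8 * s i) := by
      rw [← app_zsmul g hx, eight_smul, app_sum g _ _ (fun i _ => zsmul_mem (sg8_mem i) _)]
      refine sum_congr rfl (fun i _ => ?_)
      rw [app_zsmul g (sg8_mem i), hj i]
    ext k
    have e2 := congrFun e1 k
    rw [Finset.sum_apply, Pi.smul_apply] at e2
    have e3 : ∀ i, (x i • sg (j i) (8 * s i)) k = if i = σ.symm k then 8 * (s (σ.symm k) * x (σ.symm k)) else 0 := by
      intro i
      rw [Pi.smul_apply]
      unfold sg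
      by_cases hi : i = σ.symm k
      · have : k = j i := by rw [hi, ← hσ, Equiv.apply_symm_apply]
        rw [if_pos this, if_pos hi, ← hi, smul_eq_mul]; ring
      · have : k ≠ j i := by
          intro e; apply hi; rw [e, ← hσ, Equiv.symm_apply_apply]
        rw [if_neg this, if_neg hi, smul_zero]
    rw [sum_congr rfl (fun i _ => e3 i), sum_ite_eq', if_pos (mem_univ _), smul_eq_mul] at e2
    have e4 : app g x k = s (σ.symm k) * x (σ.symm k) := by linarith
    have e5 : prm σ x k = x (σ.symm k) := rfl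
    rw [e4]
    unfold Golay.sgn
    rw [e5]
    by_cases hk : k ∈ c
    · rw [if_pos hk, (hc k).1 hk]; ring
    · rw [if_neg hk]
      have := hs (σ.symm k)
      have h5 := mt (hc k).2 hk
      rw [show s (σ.symm k) = 1 by tauto]; ring
  refine ⟨c, σ, ?_, ?_, hmain⟩
  · have e1 := app_mem g (rO_mem pa)
    rw [hmain _ (rO_mem pa), prm_rO] at e1
    have hval : ∀ k, rO (σ pa) k % 4 = 1 := by
      intro k; unfold rO; split_ifs <;> norm_num
    rcases mem_leech'.1 e1 with hI | hI
    · exfalso
      have h2 := hI.1 pa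
      have h3 := hval pa
      unfold Golay.sgn at h2
      split_ifs at h2 <;> omega
    · have h2 : IsWord (cls (Golay.sgn c (rO (σ pa))) (1 + 2)) := hI.2.2
      have h3 : cls (Golay.sgn c (rO (σ pa))) (1 + 2) = c := by
        ext k
        rw [mem_cls]
        have h3 := hval k
        unfold Golay.sgn
        split_ifs with hk
        · simp only [hk, iff_true]; omega
        · simp only [hk, iff_false]; omega
      rw [h3] at h2; exact h2
  · apply mem_M24_of_octads
    intro o ho
    have ho' := mem_octads.1 ho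
    have e1 := app_mem g (r8_mem ho)
    rw [hmain _ (r8_mem ho), prm_r8] at e1
    refine mem_octads.2 ⟨?_, by rw [Finset.card_smul_finset, ho'.2]⟩
    rcases mem_leech'.1 e1 with hI | hI
    · have h3 : cls (Golay.sgn c (r8 (σ • o))) (0 + 2) = σ • o := by
        ext k
        rw [mem_cls]
        unfold Golay.sgn r8
        split_ifs with h1 h2 h2
        · simp [h2]
        · simp [h2]
        · simp [h2]
        · simp [h2]
      have := hI.2.2
      rwa [h3] at this
    · exfalso
      have h2 := hI.1 pa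
      unfold Golay.sgn r8 at h2
      split_ifs at h2 <;> omega

end Cfsg.Agent.Lib.Golay
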