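import Cfsg.Agent.Lib.Golay.LeechMono

/-!
The order of the automorphism group of the rank-24 lattice.
-/

set_option autoImplicit false

namespace Cfsg.Agent.Lib.Golay

open scoped Pointwise
open Cfsg Finset

/-- the monomial automorphism with given signs and permutation -/
theorem exists_mono {c : Finset GolayPt} (hc : IsWord c) {σ : Equiv.Perm GolayPt} (hσ : σ ∈ M24) :
    ∃ g : Co0, ∀ x ∈ leechLattice, app g x = sgn c (prm σ x) := by
  obtain ⟨a, ha⟩ := exists_sgn hc
  obtain ⟨b, hb⟩ := exists_prm hσ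
  refine ⟨a * b, fun x hx => ?_⟩
  rw [app_mul, hb x hx, ha]
  rw [← hb x hx]; exact app_mem b hx

noncomputable def monoEl (p : {c : Finset GolayPt // IsWord c} × M24) : Co0 := (exists_mono p.1.2 p.2.2).choose

theorem monoEl_app (p : {c : Finset GolayPt // IsWord c} × M24) {x : Vec} (hx : x ∈ leechLattice) :
    app (monoEl p) x = sgn p.1.1 (prm p.2.1 x) := (exists_mono p.1.2 p.2.2).choose_spec x hx

theorem monoEl_sg (p : {c : Finset GolayPt // IsWord c} × M24) (i : GolayPt) :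
    app (monoEl p) (sg i 8) = sg (p.2.1 i) (if p.2.1 i ∈ p.1.1 then -8 else 8) := by
  rw [monoEl_app p (sg8_mem i), prm_sg]
  split_ifs with h
  · ext k
    unfold Golay.sgn sg
    by_cases hk : k = p.2.1 i
    · subst hk; simp [h]
    · simp [hk]
  · exact sgn_sg_of_notMem h 8

theorem sg_inj {i j : GolayPt} {s t : ℤ} (hs : s ≠ 0) (h : sg i s = sg j t) : i = j ∧ s = t := by
  have h1 := congrFun h i
  unfold sg at h1
  rw [if_pos rfl] at h1
  by_cases hij : i = j
  · rw [if_pos hij] at h1; exact ⟨hij, h1⟩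
  · rw [if_neg hij] at h1; exact absurd h1 hs

theorem monoEl_inj : Function.Injective monoEl := by
  rintro ⟨⟨c, hc⟩, ⟨σ, hσ⟩⟩ ⟨⟨d, hd⟩, ⟨τ, hτ⟩⟩ h
  have h1 : ∀ i, σ i = τ i ∧ (if σ i ∈ c then -8 else 8 : ℤ) = if τ i ∈ d then -8 else 8 := by
    intro i
    have e1 := monoEl_sg (⟨⟨c, hc⟩, ⟨σ, hσ⟩⟩ : {c : Finset GolayPt // IsWord c} × M24) i
    have e2 := monoEl_sg (⟨⟨d, hd⟩, ⟨τ, hτ⟩⟩ : {c : Finset GolayPt // IsWord c} × M24) i
    rw [h] at e1
    exact sg_inj (by split_ifs <;> norm_num) (e1.symm.trans e2)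
  have h2 : σ = τ := Equiv.ext (fun i => (h1 i).1)
  subst h2
  have h3 : c = d := by
    ext k
    obtain ⟨i, rfl⟩ := σ.surjective k
    have := (h1 i).2
    by_cases e1 : σ i ∈ c <;> by_cases e2 : σ i ∈ d <;> simp [e1, e2] at this ⊢
  subst h3
  rfl

theorem monoEl_std (p : {c : Finset GolayPt // IsWord c} × M24) {x : Vec} (hx : x ∈ (stdCross : Set Vec)) :
    app (monoEl p) x ∈ (stdCross : Set Vec) := by
  obtain ⟨i, rfl | rfl⟩ := mem_std.1 hx
  · rw [monoEl_sg]
    refine mem_std.2 ⟨p.2.1 i, ?_⟩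
    split_ifs
    · exact Or.inr rfl
    · exact Or.inl rfl
  · rw [sg_neg, app_neg _ (sg8_mem i), monoEl_sg, ← sg_neg]
    refine mem_std.2 ⟨p.2.1 i, ?_⟩
    split_ifs
    · exact Or.inl rfl
    · exact Or.inr rfl

theorem mono_iff {g : Co0} : (∀ x ∈ (stdCross : Set Vec), app g x ∈ (stdCross : Set Vec)) ↔ ∃ p, monoEl p = g := by
  constructor
  · intro h
    obtain ⟨c, σ, hc, hσ, hg⟩ := mono h
    refine ⟨⟨⟨c, hc⟩, ⟨σ, hσ⟩⟩, ?_⟩
    apply ext_app
    intro x hx
    rw [monoEl_app _ hx, hg x hx]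
  · rintro ⟨p, rfl⟩ x hx
    exact monoEl_std p hx

theorem card_wd : Nat.card {c : Finset GolayPt // IsWord c} = 4096 := by
  have h := ncard_words_pred (F := fun _ => True) (f := fun _ => true) (by intro s; simp)
  have h2 : countB (fun _ => true) 0 12 = 4096 := by decide +kernel
  rw [h2] at h
  rw [← h]
  have : {s : Finset GolayPt | IsWord s ∧ True} = {s | IsWord s} := by ext; simp
  rw [this]; rfl

/-- the monomial subgroup: the stabiliser of the standard cross -/
def monoN : Subgroup Co0 where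
  carrier := {g | ∀ x ∈ (stdCross : Set Vec), app g x ∈ (stdCross : Set Vec)}
  one_mem' := by intro x hx; rw [app_one]; exact hx
  mul_mem' := by
    intro a b ha hb x hx
    rw [app_mul]; exact ha _ (hb _ hx)
  inv_mem' := by
    intro a ha x hx
    have hfin : (stdCross : Set Vec).Finite := Set.finite_of_ncard_ne_zero (by rw [ncard_std]; norm_num)
    have h1 : app a '' (stdCross : Set Vec) = stdCross := by
      apply Set.eq_of_subset_of_ncard_le
      · rintro _ ⟨y, hy, rfl⟩; exact ha y hy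
      · rw [Set.ncard_image_of_injective _ (app_injective a)]
      · exact hfin
    rw [← h1] at hx
    obtain ⟨y, hy, rfl⟩ := hx
    rw [app_inv_app]; exact hy

theorem mem_monoN {g : Co0} : g ∈ monoN ↔ ∀ x ∈ (stdCross : Set Vec), app g x ∈ (stdCross : Set Vec) := Iff.rfl

theorem card_monoN : Nat.card monoN = 4096 * 244823040 := by
  have e : ({c : Finset GolayPt // IsWord c} × M24) ≃ monoN :=
    Equiv.ofBijective (fun p => ⟨monoEl p, mem_monoN.2 (mono_iff.2 ⟨p, rfl⟩)⟩) (by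
      constructor
      · intro p q h
        exact monoEl_inj (congrArg Subtype.val h)
      · rintro ⟨g, hg⟩
        obtain ⟨p, hp⟩ := mono_iff.1 (mem_monoN.1 hg)
        exact ⟨p, Subtype.ext hp⟩)
  rw [← Nat.card_congr e, Nat.card_prod, card_wd, card_M24]

/-- the standard vector as a lattice element -/
def t0L : leechLattice := ⟨t0, sg8_mem pa⟩

theorem stab_le_monoN {g : Co0} (h : g • t0L = t0L) : g ∈ monoN := by
  have h1 : app g t0 = t0 := smul_eq_iff_app.1 h
  intro x hx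
  have h2 := cross_app g (sg8_mem pa)
  have h3 : app g (sg pa 8) = sg pa 8 := h1
  rw [h3] at h2
  have h4 : cross (sg pa 8) = stdCross := cross_t0
  rw [h4] at h2
  rw [h2]; exact ⟨x, hx, rfl⟩

theorem card_orbit_stab {G X : Type*} [Group G] [MulAction G X] (x : X) :
    Nat.card G = (MulAction.orbit G x).ncard * Nat.card (MulAction.stabilizer G x) := by
  rw [← Nat.card_congr (MulAction.orbitProdStabilizerEquivGroup G x), Nat.card_prod]
  rfl

theorem orbit_t0 : MulAction.orbit Co0 t0L = {v : leechLattice | sqNorm (v : Vec) = 64} := by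
  ext v
  rw [MulAction.mem_orbit_iff]
  constructor
  · rintro ⟨g, rfl⟩
    show sqNorm (((g • t0L : leechLattice)) : Vec) = 64
    rw [← app_coe, app_norm g t0L.2]
    exact norm_std (mem_std.2 ⟨pa, Or.inl rfl⟩)
  · intro hv
    obtain ⟨g, hg⟩ := T64 v.2 hv
    refine ⟨g⁻¹, smul_eq_iff_app.2 ?_⟩
    rw [app_eq_iff, inv_inv]; exact hg

theorem c_64 : {x : Vec | x ∈ leechLattice ∧ sqNorm x = 64}.ncard = 398034000 := by
  rw [← count_box 8 (2 ^ 80) 64 398034000 (by decide) (by decide +kernel) (by decide +kernel)]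
  congr 1
  ext x
  exact ⟨fun h => ⟨h.1, bd h.2 (by norm_num), h.2⟩, fun h => ⟨h.1, h.2.2⟩⟩

theorem c_48 : {x : Vec | x ∈ leechLattice ∧ sqNorm x = 48}.ncard = 16773120 := by
  rw [← count_box 6 (2 ^ 64) 48 16773120 (by decide) (by decide +kernel) (by decide +kernel)]
  congr 1
  ext x
  exact ⟨fun h => ⟨h.1, bd h.2 (by norm_num), h.2⟩, fun h => ⟨h.1, h.2.2⟩⟩

theorem c_32 : {x : Vec | x ∈ leechLattice ∧ sqNorm x = 32}.ncard = 196560 := by
  rw [← count_box 5 (2 ^ 64) 32 196560 (by decide) (by decide +kernel) (by decide +kernel)]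
  congr 1
  ext x
  exact ⟨fun h => ⟨h.1, bd h.2 (by norm_num), h.2⟩, fun h => ⟨h.1, h.2.2⟩⟩

/-- N is transitive on the standard cross -/
theorem orbitN : MulAction.orbit monoN t0L = {v : leechLattice | (v : Vec) ∈ (stdCross : Set Vec)} := by
  ext v
  rw [MulAction.mem_orbit_iff]
  constructor
  · rintro ⟨g, rfl⟩
    show (((g : Co0) • t0L : leechLattice) : Vec) ∈ (stdCross : Set Vec)
    rw [← app_coe]
    exact g.2 _ (mem_std.2 ⟨pa, Or.inl rfl⟩)
  · intro hv
    obtain ⟨i, hi⟩ := mem_std.1 hv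
    have key : ∃ h : Co0, h ∈ monoN ∧ app h t0 = v := by
      obtain ⟨σ, hσ, hσi⟩ : ∃ σ ∈ M24, σ pa = i := by
        obtain ⟨σ, hσ, hm⟩ := exists_map_le5 (n := 1) (by norm_num) (x := fun _ => pa) (y := fun _ => i)
          (by intro a ha b hb; omega) (by intro a ha b hb; omega)
        exact ⟨σ, hσ, hm 0 (by norm_num)⟩
      rcases hi with hi | hi
      · refine ⟨monoEl ⟨⟨∅, isWord_empty⟩, ⟨σ, hσ⟩⟩, mono_iff.2 ⟨_, rfl⟩, ?_⟩
        have := monoEl_sg ⟨⟨∅, isWord_empty⟩, ⟨σ, hσ⟩⟩ pa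
        simp only [hσi, notMem_empty, if_false] at this
        rw [hi]; exact this
      · refine ⟨monoEl ⟨⟨univ, by have := isWord_empty.compl; simpa using this⟩, ⟨σ, hσ⟩⟩, mono_iff.2 ⟨_, rfl⟩, ?_⟩
        have := monoEl_sg ⟨⟨univ, by have := isWord_empty.compl; simpa using this⟩, ⟨σ, hσ⟩⟩ pa
        simp only [hσi, mem_univ, if_true] at this
        rw [hi]; exact this
    obtain ⟨h, hh, e⟩ := key
    exact ⟨⟨h, hh⟩, smul_eq_iff_app.2 e⟩

theorem card_stabN : Nat.card (MulAction.stabilizer monoN t0L) = Nat.card (MulAction.stabilizer Co0 t0L) := by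
  refine Nat.card_congr (Equiv.ofBijective (fun g => ⟨(g : monoN), ?_⟩) ⟨?_, ?_⟩)
  · exact g.2
  · intro a b h
    have := congrArg Subtype.val h
    exact Subtype.ext (Subtype.ext this)
  · rintro ⟨g, hg⟩
    exact ⟨⟨⟨g, stab_le_monoN hg⟩, hg⟩, rfl⟩

theorem card_stab_t0 : Nat.card (MulAction.stabilizer Co0 t0L) * 48 = 4096 * 244823040 := by
  have h := card_orbit_stab (G := monoN) t0L
  rw [card_monoN, orbitN, card_stabN] at h
  have h2 : {v : leechLattice | (v : Vec) ∈ (stdCross : Set Vec)}.ncard = 48 := by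
    rw [ncard_sub _ (fun x => x ∈ (stdCross : Set Vec)) (fun x => Iff.rfl), ← ncard_std]
    congr 1
    ext x
    exact ⟨fun h => h.2, fun h => ⟨std_mem_L h, h⟩⟩
  rw [h2] at h
  rw [h, mul_comm]

theorem card_Co0 : Nat.card Co0 = 8315553613086720000 := by
  rw [card_orbit_stab (G := Co0) t0L, orbit_t0, ncard_sub _ (fun x => sqNorm x = 64) (fun x => Iff.rfl), c_64]
  have := card_stab_t0
  omega

end Cfsg.Agent.Lib.Golay
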