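import Cfsg.Agent.Lib.Golay.LeechTwo

/-!
Normal 2-subgroups of the stabiliser of a minimal vector up to sign.
-/

set_option autoImplicit false
set_option linter.style.haveILetI false

namespace Cfsg.Agent.Lib.Golay

open scoped Pointwise
open Cfsg Finset

theorem dvd_card_of_orbits {G α : Type*} [Group G] [MulAction G α] [Finite α] (n : ℕ)
    (h : ∀ a : α, n ∣ Nat.card (MulAction.orbit G a)) : n ∣ Nat.card α := by
  classical
  haveI := Fintype.ofFinite α
  rw [Nat.card_congr (MulAction.selfEquivSigmaOrbits G α), Nat.card_sigma]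
  exact dvd_sum (fun ω _ => h ω.out)

theorem mem_monoN_of {g : Co0} {x : Vec} (hx : x ∈ (stdCross : Set Vec)) (h : app g x ∈ (stdCross : Set Vec)) :
    g ∈ monoN := by
  have hc : ∀ {y : Vec}, y ∈ (stdCross : Set Vec) → cross y = stdCross := by
    intro y hy
    have hyL : y ∈ leechLattice := std_mem_L hy
    obtain ⟨k, hk, e⟩ : ∃ k ∈ monoN, app k t0 = y := by
      have : (⟨y, hyL⟩ : leechLattice) ∈ MulAction.orbit monoN t0L := by rw [orbitN]; exact hy
      obtain ⟨k, hk⟩ := MulAction.mem_orbit_iff.1 this
      exact ⟨k, k.2, smul_eq_iff_app.1 hk⟩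
    have e' : cross (app k t0) = app k '' cross t0 := cross_app k (sg8_mem pa)
    rw [← e, e', cross_t0]
    ext w
    constructor
    · rintro ⟨u, hu, rfl⟩
      exact mem_monoN.1 hk u hu
    · intro hw
      exact ⟨app k⁻¹ w, mem_monoN.1 (inv_mem hk) w hw, app_app_inv k w⟩
  intro u hu
  have h1 := cross_app g (std_mem_L hx)
  rw [hc hx, hc h] at h1
  rw [h1]; exact ⟨u, hu, rfl⟩

/-- an element acting as a sign on each of the minimal vectors orthogonal to a minimal vector is a scalar -/
theorem eigen32 {t : Co0} (h0 : app t v0 = v0 ∨ app t v0 = -v0)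
    (h : ∀ w ∈ leechLattice, sqNorm w = 32 → dotInt v0 w = 0 → app t w = w ∨ app t w = -w) : t = 1 ∨ t = negEl := by
  have key : ∀ {t : Co0}, (app t v0 = v0 ∨ app t v0 = -v0) →
      (∀ w ∈ leechLattice, sqNorm w = 32 → dotInt v0 w = 0 → app t w = w ∨ app t w = -w) → app t x0 = x0 → t = 1 := by
    intro t h0 h hx
    have hm : t ∈ monoN := by
      apply mem_monoN_of (x := t0) (mem_std.2 ⟨pa, Or.inl rfl⟩)
      rw [t0_eq, app_add t v0_mem x0_mem, hx]
      rcases h0 with h0 | h0 <;> rw [h0]
      · rw [← t0_eq]; exact mem_std.2 ⟨pa, Or.inl rfl⟩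
      · refine mem_std.2 ⟨pb, Or.inl ?_⟩
        ext k; unfold v0 x0 sg
        simp only [Pi.add_apply, Pi.neg_apply]
        split_ifs with h1 h2 <;> norm_num
    obtain ⟨c, σ, hc, hσ, hg⟩ := mono (mem_monoN.1 hm)
    have hw : ∀ i j, i ≠ j → i ≠ pa → i ≠ pb → j ≠ pa → j ≠ pb → (σ i = i ∨ σ i = j) ∧ (σ i ∈ c ↔ σ j ∈ c) := by
      intro i j hij hia hib hja hjb
      have hwm : sg i 4 + sg j 4 ∈ leechLattice := sg_add_mem hij (Or.inl rfl) (Or.inl rfl)
      have e1 := h _ hwm (sqNorm_sg_add hij (Or.inl rfl) (Or.inl rfl)) (by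
        rw [dot_v0]; unfold sg; simp only [Pi.add_apply]
        rw [if_neg (Ne.symm hia), if_neg (Ne.symm hja), if_neg (Ne.symm hib), if_neg (Ne.symm hjb)]; norm_num)
      rw [hg _ hwm, prm_add, prm_sg, prm_sg] at e1
      have hsij : σ i ≠ σ j := fun e => hij (σ.injective e)
      have f1 : (sg (σ i) 4 + sg (σ j) 4) (σ i) = 4 := by
        unfold sg; simp only [Pi.add_apply]; rw [if_neg hsij]; norm_num
      have f2 : (sg (σ i) 4 + sg (σ j) 4) (σ j) = 4 := by
        unfold sg; simp only [Pi.add_apply]; rw [if_neg hsij.symm]; norm_num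
      have f3 : ∀ k, (sg i 4 + sg j 4) k = 4 ∨ (sg i 4 + sg j 4) k = 0 ∧ k ≠ i ∧ k ≠ j := by
        intro k; unfold sg; simp only [Pi.add_apply]
        by_cases k1 : k = i
        · left; rw [if_pos k1, if_neg (by rw [k1]; exact hij)]; norm_num
        · by_cases k2 : k = j
          · left; rw [if_neg k1, if_pos k2]; norm_num
          · right; rw [if_neg k1, if_neg k2]; exact ⟨by norm_num, k1, k2⟩
      have e2 : ∀ k, (Golay.sgn c (sg (σ i) 4 + sg (σ j) 4)) k = (sg i 4 + sg j 4) k ∧ (∀ k, (Golay.sgn c (sg (σ i) 4 + sg (σ j) 4)) k = (sg i 4 + sg j 4) k) ∨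
          (Golay.sgn c (sg (σ i) 4 + sg (σ j) 4)) k = -(sg i 4 + sg j 4) k ∧ (∀ k, (Golay.sgn c (sg (σ i) 4 + sg (σ j) 4)) k = -(sg i 4 + sg j 4) k) := by
        intro k
        rcases e1 with e | e
        · left; exact ⟨congrFun e k, congrFun e⟩
        · right; exact ⟨congrFun e k, congrFun e⟩
      have g1 : (Golay.sgn c (sg (σ i) 4 + sg (σ j) 4)) (σ i) = if σ i ∈ c then -4 else 4 := by
        unfold Golay.sgn; rw [f1]
      have g2 : (Golay.sgn c (sg (σ i) 4 + sg (σ j) 4)) (σ j) = if σ j ∈ c then -4 else 4 := by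
        unfold Golay.sgn; rw [f2]
      rcases e2 (σ i) with ⟨_, e3⟩ | ⟨_, e3⟩
      · have a1 := e3 (σ i)
        have a2 := e3 (σ j)
        rw [g1] at a1
        rw [g2] at a2
        constructor
        · rcases f3 (σ i) with b | ⟨b, _, _⟩
          · by_contra hcon
            push Not at hcon
            unfold sg at b; simp only [Pi.add_apply] at b
            rw [if_neg hcon.1, if_neg hcon.2] at b; norm_num at b
          · rw [b] at a1; split_ifs at a1 <;> norm_num at a1
        · rcases f3 (σ i) with b | ⟨b, _, _⟩ <;> rcases f3 (σ j) with b' | ⟨b', _, _⟩ <;> rw [b] at a1 <;> rw [b'] at a2 <;>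
            split_ifs at a1 a2 with c1 c2 <;> first | (exfalso; omega) | simp [c1, c2]
      · have a1 := e3 (σ i)
        have a2 := e3 (σ j)
        rw [g1] at a1
        rw [g2] at a2
        constructor
        · rcases f3 (σ i) with b | ⟨b, _, _⟩
          · by_contra hcon
            push Not at hcon
            unfold sg at b; simp only [Pi.add_apply] at b
            rw [if_neg hcon.1, if_neg hcon.2] at b; norm_num at b
          · rw [b] at a1; split_ifs at a1 <;> norm_num at a1
        · rcases f3 (σ i) with b | ⟨b, _, _⟩ <;> rcases f3 (σ j) with b' | ⟨b', _, _⟩ <;> rw [b] at a1 <;> rw [b'] at a2 <;>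
            split_ifs at a1 a2 with c1 c2 <;> first | (exfalso; omega) | simp [c1, c2]
    have hfix : ∀ i, i ≠ pa → i ≠ pb → σ i = i := by
      intro i hia hib
      obtain ⟨j, hj, k, hk, hjk⟩ : ∃ j, (j ≠ i ∧ j ≠ pa ∧ j ≠ pb) ∧ ∃ k, (k ≠ i ∧ k ≠ pa ∧ k ≠ pb) ∧ j ≠ k := by
        obtain ⟨j, hj⟩ : ∃ j, j ∉ ({i, pa, pb} : Finset GolayPt) := by
          by_contra hcon
          push Not at hcon
          have h1 : (univ : Finset GolayPt).card ≤ ({i, pa, pb} : Finset GolayPt).card := card_le_card (fun j _ => hcon j)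
          have h2 := card_le_three (a := i) (b := pa) (c := pb)
          rw [card_univ, card_golayPt] at h1
          omega
        obtain ⟨k, hk⟩ : ∃ k, k ∉ ({j, i, pa, pb} : Finset GolayPt) := by
          by_contra hcon
          push Not at hcon
          have h1 : (univ : Finset GolayPt).card ≤ ({j, i, pa, pb} : Finset GolayPt).card := card_le_card (fun j _ => hcon j)
          have h2 := card_le_four (a := j) (b := i) (c := pa) (d := pb)
          rw [card_univ, card_golayPt] at h1
          omega
        simp only [mem_insert, mem_singleton, not_or] at hj hk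
        exact ⟨j, hj, k, hk.2, Ne.symm hk.1⟩
      rcases (hw i j hj.1.symm hia hib hj.2.1 hj.2.2).1 with h1 | h1
      · exact h1
      · rcases (hw i k hk.1.symm hia hib hk.2.1 hk.2.2).1 with h2 | h2
        · exact h2
        · exact absurd (h1.symm.trans h2) hjk
    have hpa : σ pa = pa ∨ σ pa = pb := by
      by_contra hcon
      push Not at hcon
      have := hfix _ hcon.1 hcon.2
      exact hcon.1 (σ.injective this)
    have hpb : σ pb = pa ∨ σ pb = pb := by
      by_contra hcon
      push Not at hcon
      have := hfix _ hcon.1 hcon.2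
      exact hcon.2 (σ.injective this)
    have hpab : σ pa ≠ σ pb := fun e => pa_ne_pb (σ.injective e)
    have hx1 : prm σ x0 = x0 := by
      unfold x0
      rw [prm_add, prm_sg, prm_sg]
      rcases hpa with h1 | h1 <;> rcases hpb with h2 | h2
      · exact absurd (h1.trans h2.symm) hpab
      · rw [h1, h2]
      · rw [h1, h2]; exact add_comm _ _
      · exact absurd (h1.trans h2.symm) hpab
    have hcp : pa ∉ c ∧ pb ∉ c := by
      have e := hg _ x0_mem
      rw [hx, hx1] at e
      constructor
      · intro hp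
        have := congrFun e pa
        unfold Golay.sgn at this
        rw [if_pos hp, x0_pa] at this; norm_num at this
      · intro hp
        have := congrFun e pb
        unfold Golay.sgn at this
        rw [if_pos hp, x0_pb] at this; norm_num at this
    have hc0 : c = ∅ := by
      by_contra hne
      obtain ⟨i, hi⟩ := nonempty_iff_ne_empty.2 hne
      have hia : i ≠ pa := fun e => hcp.1 (e ▸ hi)
      have hib : i ≠ pb := fun e => hcp.2 (e ▸ hi)
      have hall : ∀ j, j ≠ pa → j ≠ pb → j ∈ c := by
        intro j hja hjb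
        by_cases hij : i = j
        · rw [← hij]; exact hi
        · have := (hw i j hij hia hib hja hjb).2
          rw [hfix i hia hib, hfix j hja hjb] at this
          exact this.1 hi
      have : c = {pa, pb}ᶜ := by
        ext j
        rw [mem_compl, mem_insert, mem_singleton, not_or]
        exact ⟨fun hj => ⟨fun e => hcp.1 (e ▸ hj), fun e => hcp.2 (e ▸ hj)⟩, fun hj => hall j hj.1 hj.2⟩
      have hcard : c.card = 22 := by rw [this]; decide +kernel
      have := hc.card_mod
      omega
    have hσ1 : ∀ x ∈ leechLattice, app t x = prm σ x := by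
      intro x hx; rw [hg x hx, hc0, sgn_empty]
    by_cases hswap : σ pa = pa
    · have hb : σ pb = pb := by
        rcases hpb with h1 | h1
        · exact absurd (hswap.trans h1.symm) hpab
        · exact h1
      have : σ = 1 := by
        apply Equiv.ext
        intro i
        by_cases h1 : i = pa
        · rw [h1]; exact hswap
        · by_cases h2 : i = pb
          · rw [h2]; exact hb
          · exact hfix i h1 h2
      apply ext_app
      intro x hx
      rw [hσ1 x hx, this, app_one]; rfl
    · exfalso
      have ha : σ pa = pb := hpa.resolve_left hswap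
      have hb : σ pb = pa := by
        rcases hpb with h1 | h1
        · exact h1
        · exact absurd (ha.trans h1.symm) hpab
      obtain ⟨w, hw, haw, hbw⟩ := exists_word_sep pa_ne_pb
      have h1 : r8 w - prm σ (r8 w) ∈ leechLattice := by
        rw [← hσ1 _ (r8_word_mem hw)]; exact sub_mem (r8_word_mem hw) (app_mem t (r8_word_mem hw))
      have h2 : r8 w - prm σ (r8 w) = sg pa 2 + sg pb (-2) := by
        ext k
        have e : prm σ (r8 w) k = r8 w (σ⁻¹ k) := rfl
        rw [Pi.sub_apply, e]
        have ha' : σ⁻¹ pb = pa := by rw [Equiv.Perm.inv_eq_iff_eq, ha]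
        have hb' : σ⁻¹ pa = pb := by rw [Equiv.Perm.inv_eq_iff_eq, hb]
        by_cases k1 : k = pa
        · rw [k1, hb']; unfold r8 sg; simp only [Pi.add_apply]
          rw [if_pos haw, if_neg hbw, if_neg pa_ne_pb]; norm_num
        · by_cases k2 : k = pb
          · rw [k2, ha']; unfold r8 sg; simp only [Pi.add_apply]
            rw [if_pos haw, if_neg hbw, if_neg pa_ne_pb.symm]; norm_num
          · have : σ⁻¹ k = k := by rw [Equiv.Perm.inv_eq_iff_eq, hfix k k1 k2]
            rw [this]; unfold sg; simp only [Pi.add_apply]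
            rw [if_neg k1, if_neg k2]; norm_num
      have h3 := norm16 h1
      rw [h2] at h3
      revert h3
      decide +kernel
  rcases h x0 x0_mem norm_x0 dot_v0_x0 with hx | hx
  · left; exact key h0 h hx
  · right
    have h1 : negEl * t = 1 := by
      apply key
      · rw [app_mul, negEl_app' (app_mem t v0_mem)]
        rcases h0 with h0 | h0 <;> rw [h0]
        · right; rfl
        · left; rw [neg_neg]
      · intro w hw hn hd
        rw [app_mul, negEl_app' (app_mem t hw)]
        rcases h w hw hn hd with h0 | h0 <;> rw [h0]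
        · right; rfl
        · left; rw [neg_neg]
      · rw [app_mul, negEl_app' (app_mem t x0_mem), hx, neg_neg]
    have h2 : t = negEl * (negEl * t) := by rw [← mul_assoc, negEl_sq, one_mul]
    rw [h2, h1, mul_one]

/-- the minimal vectors orthogonal to the base vector -/
def X32 (T : Subgroup Co0) (hst : ∀ t ∈ T, app t v0 = v0 ∨ app t v0 = -v0) : SubMulAction T leechLattice where
  carrier := {w | sqNorm (w : Vec) = 32 ∧ dotInt v0 w = 0}
  smul_mem' := by
    rintro t w ⟨h1, h2⟩
    have e : (((t • w : leechLattice)) : Vec) = app (t : Co0) w := (app_coe (t : Co0) w).symm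
    constructor
    · show sqNorm (((t • w : leechLattice)) : Vec) = 32
      rw [e, app_norm _ w.2, h1]
    · show dotInt v0 (((t • w : leechLattice)) : Vec) = 0
      rw [e]
      rcases hst t t.2 with h | h
      · nth_rw 1 [← h]
        rw [app_dot _ v0_mem w.2, h2]
      · have h' : v0 = -app (t : Co0) v0 := by rw [h, neg_neg]
        rw [h', dotInt_neg_left, app_dot _ v0_mem w.2, h2, neg_zero]

theorem card_X32 (T : Subgroup Co0) (hst : ∀ t ∈ T, app t v0 = v0 ∨ app t v0 = -v0) : Nat.card (X32 T hst) = 93150 := by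
  show {w : leechLattice | sqNorm (w : Vec) = 32 ∧ dotInt v0 w = 0}.ncard = 93150
  rw [ncard_sub _ (fun x => sqNorm x = 32 ∧ dotInt v0 x = 0) (fun x => Iff.rfl), c_v0_0]

theorem two32 {T : Subgroup Co0} (hT : IsPGroup 2 T) (hneg : negEl ∈ T)
    (hst : ∀ t ∈ T, app t v0 = v0 ∨ app t v0 = -v0)
    (hn : ∀ g : Co0, app g v0 = v0 → ∀ t ∈ T, g * t * g⁻¹ ∈ T) : ∀ t ∈ T, t = 1 ∨ t = negEl := by
  haveI : Finite Co0 := Nat.finite_of_card_ne_zero (by rw [card_Co0]; norm_num)
  haveI : Fact (Nat.Prime 2) := ⟨Nat.prime_two⟩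
  haveI : Finite (X32 T hst) := Nat.finite_of_card_ne_zero (by rw [card_X32]; norm_num)
  obtain ⟨w, hw⟩ : ∃ w : X32 T hst, ¬ 4 ∣ Nat.card (MulAction.orbit T w) := by
    by_contra hcon
    push Not at hcon
    have := dvd_card_of_orbits (G := T) 4 hcon
    rw [card_X32] at this
    norm_num at this
  have hwn : sqNorm ((w : leechLattice) : Vec) = 32 := w.2.1
  have hwd : dotInt v0 ((w : leechLattice) : Vec) = 0 := w.2.2
  have hwe : ∀ t ∈ T, app t (w : leechLattice) = (w : leechLattice) ∨ app t (w : leechLattice) = -((w : leechLattice) : Vec) := by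
    obtain ⟨n, hcard⟩ := IsPGroup.card_orbit hT w
    have hn2 : n ≤ 1 := by
      by_contra hn
      apply hw
      rw [hcard, show (4 : ℕ) = 2 ^ 2 by norm_num]
      exact pow_dvd_pow 2 (by omega)
    have hle : Nat.card (MulAction.orbit T w) ≤ 2 := by
      rw [hcard]
      interval_cases n <;> norm_num
    intro t ht
    by_contra hcon
    push Not at hcon
    have hw0 : ((w : leechLattice) : Vec) ≠ -((w : leechLattice) : Vec) := by
      intro e
      have : ((w : leechLattice) : Vec) = 0 := by
        ext k; have := congrFun e k; simp only [Pi.neg_apply] at this; simp only [Pi.zero_apply]; omega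
      rw [this] at hwn
      simp [sqNorm] at hwn
    have h1 : ({w, (⟨negEl, hneg⟩ : T) • w, (⟨t, ht⟩ : T) • w} : Set (X32 T hst)) ⊆ MulAction.orbit T w := by
      intro y hy
      rcases hy with rfl | rfl | rfl
      · exact MulAction.mem_orbit_self _
      · exact MulAction.mem_orbit _ _
      · exact MulAction.mem_orbit _ _
    have c1 : (((((⟨negEl, hneg⟩ : T) • w : X32 T hst) : leechLattice)) : Vec) = -((w : leechLattice) : Vec) := by
      have : (((((⟨negEl, hneg⟩ : T) • w : X32 T hst) : leechLattice)) : Vec) = app negEl (w : leechLattice) := (app_coe negEl _).symm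
      rw [this, negEl_app' (w : leechLattice).2]
    have c2 : (((((⟨t, ht⟩ : T) • w : X32 T hst) : leechLattice)) : Vec) = app t (w : leechLattice) := (app_coe t _).symm
    have h2 : ({w, (⟨negEl, hneg⟩ : T) • w, (⟨t, ht⟩ : T) • w} : Set (X32 T hst)).ncard = 3 := by
      refine Set.ncard_eq_three.2 ⟨_, _, _, ?_, ?_, ?_, rfl⟩
      · intro e
        have := congrArg (fun z : X32 T hst => ((z : leechLattice) : Vec)) e
        simp only [c1] at this
        exact hw0 this
      · intro e
        have := congrArg (fun z : X32 T hst => ((z : leechLattice) : Vec)) e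
        simp only [c2] at this
        exact hcon.1 this.symm
      · intro e
        have := congrArg (fun z : X32 T hst => ((z : leechLattice) : Vec)) e
        simp only [c1, c2] at this
        exact hcon.2 this.symm
    have h3 := Set.ncard_le_ncard h1 (Set.toFinite _)
    have h4 : (MulAction.orbit T w).ncard = Nat.card (MulAction.orbit T w) := rfl
    omega
  intro t ht
  apply eigen32 (hst t ht)
  intro u hu hun hud
  obtain ⟨g1, hg1⟩ := orthPair v0_mem (w : leechLattice).2 norm_v0 hwn hwd
  obtain ⟨g2, hg2⟩ := orthPair v0_mem hu norm_v0 hun hud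
  simp only [List.map_cons, List.map_nil, List.cons.injEq, and_true] at hg1 hg2
  set g := g2⁻¹ * g1 with hg
  have e1 : app g v0 = v0 := by rw [hg, app_mul, hg1.1, ← app_eq_iff]; exact hg2.1
  have e2 : app g (w : leechLattice) = u := by rw [hg, app_mul, hg1.2, ← app_eq_iff]; exact hg2.2
  have e3 : app g⁻¹ v0 = v0 := by rw [← app_eq_iff]; exact e1
  have h5 := hn g⁻¹ e3 t ht
  rw [inv_inv] at h5
  have h6 := hwe _ h5
  have h7 : app t u = app g (app (g⁻¹ * t * g) (w : leechLattice)) := by
    rw [← app_mul, ← e2, ← app_mul]; congr 1; group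
  rw [h7]
  rcases h6 with h6 | h6 <;> rw [h6]
  · left; exact e2
  · right; rw [app_neg g (w : leechLattice).2, e2]

end Cfsg.Agent.Lib.Golay
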