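import Cfsg.Agent.Lib.FpfCrit
import Cfsg.Agent.Lib.Golay.LeechTwo2
import Cfsg.Agent.Lib.Golay.LeechHS
import Cfsg.Agent.Lib.Golay.LeechMcL2
import Cfsg.Prelude.Def_Sporadic

/-!
Orders of the stabilisers, simplicity of the stabilisers of short vectors.
-/

set_option autoImplicit false
set_option linter.style.haveILetI false

namespace Cfsg.Agent.Lib.Golay

open scoped Pointwise
open Cfsg Finset

theorem finCo0 : Finite Co0 := Nat.finite_of_card_ne_zero (by rw [card_Co0]; norm_num)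

theorem card_mul_inf_stab {G X : Type*} [Group G] [MulAction G X] (H : Subgroup G) (w : X) :
    Nat.card H = (MulAction.orbit H w).ncard * Nat.card (H ⊓ MulAction.stabilizer G w : Subgroup G) := by
  rw [card_orbit_stab (G := H) w]
  congr 1
  refine Nat.card_congr (Equiv.ofBijective (fun g => ⟨((g : H) : G), (g : H).2, ?_⟩) ⟨?_, ?_⟩)
  · exact g.2
  · intro a b h
    have h' : ((a : H) : G) = ((b : H) : G) := by
      have := congrArg (fun z : (H ⊓ MulAction.stabilizer G w : Subgroup G) => (z : G)) h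
      exact this
    exact Subtype.ext (Subtype.ext h')
  · rintro ⟨g, hg1, hg2⟩
    exact ⟨⟨⟨g, hg1⟩, hg2⟩, rfl⟩

theorem card_stab32 (v : leechLattice) (hv : sqNorm (v : Vec) = 32) : Nat.card (MulAction.stabilizer Co0 v) = 42305421312000 := by
  have h := card_orbit_stab (G := Co0) v
  have h1 : MulAction.orbit Co0 v = {w : leechLattice | sqNorm (w : Vec) = 32} := by
    ext w
    rw [MulAction.mem_orbit_iff]
    constructor
    · rintro ⟨g, rfl⟩
      show sqNorm (((g • v : leechLattice)) : Vec) = 32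
      rw [← app_coe, app_norm g v.2, hv]
    · intro hw
      exact Eqv.one ((min_trans v.2 hv).trans (min_trans w.2 hw).symm)
  rw [h1, ncard_sub _ (fun x => sqNorm x = 32) (fun x => Iff.rfl), c_32, card_Co0] at h
  omega

theorem card_stab48 (v : leechLattice) (hv : sqNorm (v : Vec) = 48) : Nat.card (MulAction.stabilizer Co0 v) = 495766656000 := by
  have h := card_orbit_stab (G := Co0) v
  have h1 : MulAction.orbit Co0 v = {w : leechLattice | sqNorm (w : Vec) = 48} := by
    ext w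
    rw [MulAction.mem_orbit_iff]
    constructor
    · rintro ⟨g, rfl⟩
      show sqNorm (((g • v : leechLattice)) : Vec) = 48
      rw [← app_coe, app_norm g v.2, hv]
    · intro hw
      obtain ⟨g, hg⟩ := toR5 v.2 hv
      obtain ⟨k, hk⟩ := toR5 w.2 hw
      exact ⟨k⁻¹ * g, smul_eq_iff_app.2 (by rw [app_mul, hg, ← hk, app_inv_app])⟩
  rw [h1, ncard_sub _ (fun x => sqNorm x = 48) (fun x => Iff.rfl), c_48, card_Co0] at h
  omega

theorem card_mcl (v w : leechLattice) (hv : sqNorm (v : Vec) = 32) (hw : sqNorm (w : Vec) = 32) (hd : dotInt (v : Vec) w = -8) :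
    Nat.card (MulAction.stabilizer Co0 v ⊓ MulAction.stabilizer Co0 w : Subgroup Co0) = 898128000 := by
  have h := card_mul_inf_stab (MulAction.stabilizer Co0 v) w
  have h1 : MulAction.orbit (MulAction.stabilizer Co0 v) w = {x : leechLattice | sqNorm (x : Vec) = 32 ∧ dotInt (v : Vec) x = -8} := by
    ext x
    rw [MulAction.mem_orbit_iff]
    constructor
    · rintro ⟨g, rfl⟩
      have e : (((g • w : leechLattice)) : Vec) = app (g : Co0) w := (app_coe (g : Co0) w).symm
      have e2 : app (g : Co0) (v : Vec) = v := smul_eq_iff_app.1 g.2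
      refine ⟨?_, ?_⟩
      · rw [e, app_norm _ w.2, hw]
      · rw [e]
        have h3 := app_dot (g : Co0) v.2 w.2
        rw [e2, hd] at h3
        exact h3
    · rintro ⟨hx, hxd⟩
      obtain ⟨g, g1, g2⟩ := Eqv.two ((T8 v.2 w.2 hv hw hd).trans (T8 v.2 x.2 hv hx hxd).symm)
      exact ⟨⟨g, g1⟩, g2⟩
  obtain ⟨g, hg⟩ := toV0 v.2 hv
  rw [h1, ncard_sub _ (fun x => sqNorm x = 32 ∧ dotInt (v : Vec) x = -8) (fun x => Iff.rfl),
    (ncard_dot1 g v.2 hg _ _).trans c_v0_8, card_stab32 v hv] at h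
  omega

theorem card_hs (v x : leechLattice) (hv : sqNorm (v : Vec) = 48) (hx : sqNorm (x : Vec) = 32) (hd : dotInt (v : Vec) x = -16) :
    Nat.card (MulAction.stabilizer Co0 v ⊓ MulAction.stabilizer Co0 x : Subgroup Co0) = 44352000 := by
  have h := card_mul_inf_stab (MulAction.stabilizer Co0 v) x
  have h1 : MulAction.orbit (MulAction.stabilizer Co0 v) x = {y : leechLattice | sqNorm (y : Vec) = 32 ∧ dotInt (v : Vec) y = -16} := by
    ext y
    rw [MulAction.mem_orbit_iff]
    constructor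
    · rintro ⟨g, rfl⟩
      have e : (((g • x : leechLattice)) : Vec) = app (g : Co0) x := (app_coe (g : Co0) x).symm
      have e2 : app (g : Co0) (v : Vec) = v := smul_eq_iff_app.1 g.2
      refine ⟨?_, ?_⟩
      · rw [e, app_norm _ x.2, hx]
      · rw [e]
        have h3 := app_dot (g : Co0) v.2 x.2
        rw [e2, hd] at h3
        exact h3
    · rintro ⟨hy, hyd⟩
      rw [dotInt_comm] at hd hyd
      obtain ⟨g, g1, g2⟩ := Eqv.two ((TH x.2 v.2 hx hv hd).trans (TH y.2 v.2 hy hv hyd).symm)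
      exact ⟨⟨g, g2⟩, g1⟩
  obtain ⟨g, hg⟩ := toR5 v.2 hv
  rw [h1, ncard_sub _ (fun x => sqNorm x = 32 ∧ dotInt (v : Vec) x = -16) (fun x => Iff.rfl),
    (ncard_dot1 g v.2 hg _ _).trans c_11178, card_stab48 v hv] at h
  omega

/-- elements of order 23 in the stabiliser of a vector -/
theorem exists_C23 {w v : leechLattice} {k : Co0} (hk : k • w = v) (hw : tEl • w = w) (hw0 : -(w : Vec) ≠ w) :
    ∃ t : MulAction.stabilizer Co0 v, orderOf t = 23 ∧ ∀ g, g * t = t * g → g ∈ Subgroup.zpowers t := by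
  have ht : k * tEl * k⁻¹ ∈ MulAction.stabilizer Co0 v := by
    rw [MulAction.mem_stabilizer_iff, mul_smul, mul_smul, ← hk, inv_smul_smul, hw]
  refine ⟨⟨_, ht⟩, ?_, ?_⟩
  · haveI := fact23
    apply orderOf_eq_prime
    · apply Subtype.ext
      show (k * tEl * k⁻¹) ^ 23 = 1
      rw [conj_pow, tEl_pow.2 (dvd_refl _)]; group
    · intro h
      have h1 : k * tEl * k⁻¹ = 1 := congrArg Subtype.val h
      rw [mul_inv_eq_one, mul_eq_left] at h1
      have := tEl_pow.1 (show tEl ^ 1 = 1 by rw [pow_one]; exact h1)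
      omega
  · rintro ⟨g, hg⟩ h
    have h1 : g * (k * tEl * k⁻¹) = (k * tEl * k⁻¹) * g := congrArg Subtype.val h
    have h2 : (k⁻¹ * g * k) * tEl = tEl * (k⁻¹ * g * k) := by
      calc (k⁻¹ * g * k) * tEl = k⁻¹ * (g * (k * tEl * k⁻¹)) * k := by group
        _ = k⁻¹ * ((k * tEl * k⁻¹) * g) * k := by rw [h1]
        _ = tEl * (k⁻¹ * g * k) := by group
    obtain ⟨j, hj | hj⟩ := comm_tEl h2
    · rw [Subgroup.mem_zpowers_iff]
      refine ⟨j, ?_⟩
      apply Subtype.ext
      rw [zpow_natCast]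
      show (k * tEl * k⁻¹) ^ j = g
      rw [conj_pow, ← hj]; group
    · exfalso
      have h3 : (k⁻¹ * g * k) • w = w := by
        rw [mul_smul, mul_smul, hk, MulAction.mem_stabilizer_iff.1 hg, ← hk, inv_smul_smul]
      rw [hj, mul_smul] at h3
      have h4 : ∀ n : ℕ, tEl ^ n • w = w := by
        intro n
        induction n with
        | zero => rw [pow_zero, one_smul]
        | succ n ih => rw [pow_succ, mul_smul, hw, ih]
      rw [h4, smul_eq_iff_app, negEl_app' w.2] at h3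
      exact hw0 h3

theorem primes_of_dvd {q : ℕ} (hq : q.Prime) (h : q ∣ 2 ^ 22 * 3 ^ 9 * 5 ^ 4 * 7 ^ 2 * 11 * 13 * 23) :
    q = 2 ∨ q = 3 ∨ q = 5 ∨ q = 7 ∨ q = 11 ∨ q = 13 ∨ q = 23 := by
  have hh : ∀ {r : ℕ}, r.Prime → q ∣ r → q = r := fun hr h => (Nat.prime_dvd_prime_iff_eq hq hr).1 h
  rcases (Nat.Prime.dvd_mul hq).1 h with h | h
  · rcases (Nat.Prime.dvd_mul hq).1 h with h | h
    · rcases (Nat.Prime.dvd_mul hq).1 h with h | h
      · rcases (Nat.Prime.dvd_mul hq).1 h with h | h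
        · rcases (Nat.Prime.dvd_mul hq).1 h with h | h
          · rcases (Nat.Prime.dvd_mul hq).1 h with h | h
            · exact Or.inl (hh (by norm_num) (hq.dvd_of_dvd_pow h))
            · exact Or.inr (Or.inl (hh (by norm_num) (hq.dvd_of_dvd_pow h)))
          · exact Or.inr (Or.inr (Or.inl (hh (by norm_num) (hq.dvd_of_dvd_pow h))))
        · exact Or.inr (Or.inr (Or.inr (Or.inl (hh (by norm_num) (hq.dvd_of_dvd_pow h)))))
      · exact Or.inr (Or.inr (Or.inr (Or.inr (Or.inl (hh (by norm_num) h)))))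
    · exact Or.inr (Or.inr (Or.inr (Or.inr (Or.inr (Or.inl (hh (by norm_num) h))))))
  · exact Or.inr (Or.inr (Or.inr (Or.inr (Or.inr (Or.inr (hh (by norm_num) h))))))

/-- bounding an exponent -/
theorem exp_le {q k m : ℕ} (n : ℕ) (h : q ^ k ∣ m) (h' : ¬ q ^ (n + 1) ∣ m) : k ≤ n := by
  by_contra hc
  exact h' ((pow_dvd_pow q (by omega)).trans h)

theorem num23 {q k : ℕ} (hq : q.Prime) (hk : 0 < k) (h : q ^ k ∣ 4157776806543360000) (hm : q ^ k % 23 = 1) : q = 2 ∧ k = 11 := by
  have hq' : q ∣ 2 ^ 22 * 3 ^ 9 * 5 ^ 4 * 7 ^ 2 * 11 * 13 * 23 :=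
    (dvd_pow_self q hk.ne').trans (h.trans (by norm_num))
  rcases primes_of_dvd hq hq' with rfl | rfl | rfl | rfl | rfl | rfl | rfl
  · have := exp_le 21 h (by norm_num)
    interval_cases k <;> first | (exfalso; revert hm; norm_num; done) | exact ⟨rfl, rfl⟩
  · have := exp_le 9 h (by norm_num)
    exfalso; interval_cases k <;> (revert hm; norm_num)
  · have := exp_le 4 h (by norm_num)
    exfalso; interval_cases k <;> (revert hm; norm_num)
  · have := exp_le 2 h (by norm_num)
    exfalso; interval_cases k <;> (revert hm; norm_num)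
  · have := exp_le 1 h (by norm_num)
    exfalso; interval_cases k; revert hm; norm_num
  · have := exp_le 1 h (by norm_num)
    exfalso; interval_cases k; revert hm; norm_num
  · have := exp_le 1 h (by norm_num)
    exfalso; interval_cases k; revert hm; norm_num

theorem num11 {q k : ℕ} (hq : q.Prime) (hk : 0 < k) (h : q ^ k ∣ 2 ^ 9 * 3 ^ 6 * 5 ^ 3 * 7 * 11) (hm : q ^ k % 11 = 1) :
    q = 3 ∧ k = 5 := by
  have hq' : q ∣ 2 ^ 22 * 3 ^ 9 * 5 ^ 4 * 7 ^ 2 * 11 * 13 * 23 :=
    (dvd_pow_self q hk.ne').trans (h.trans (by norm_num))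
  rcases primes_of_dvd hq hq' with rfl | rfl | rfl | rfl | rfl | rfl | rfl
  · have := exp_le 9 h (by norm_num)
    exfalso; interval_cases k <;> (revert hm; norm_num)
  · have := exp_le 6 h (by norm_num)
    interval_cases k <;> first | (exfalso; revert hm; norm_num; done) | exact ⟨rfl, rfl⟩
  · have := exp_le 3 h (by norm_num)
    exfalso; interval_cases k <;> (revert hm; norm_num)
  · have := exp_le 1 h (by norm_num)
    exfalso; interval_cases k; revert hm; norm_num
  · have := exp_le 1 h (by norm_num)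
    exfalso; interval_cases k; revert hm; norm_num
  · have := exp_le 0 h (by norm_num)
    omega
  · have := exp_le 0 h (by norm_num)
    omega

theorem isSimple_co3 (v : leechLattice) (hv : sqNorm (v : Vec) = 48) : IsSimpleGroup (MulAction.stabilizer Co0 v) := by
  haveI := fact23
  haveI := finCo0
  obtain ⟨k, hk⟩ := toR5 v.2 hv
  obtain ⟨k', hk'⟩ := toR5 (r5_mem pa) (norm_r5 pa)
  obtain ⟨t, ht, hC⟩ := exists_C23 (w := ⟨r5 pa, r5_mem pa⟩) (v := v) (k := k⁻¹ * k')
    (smul_eq_iff_app.2 (by rw [app_mul, hk', ← hk, app_inv_app]))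
    (smul_eq_iff_app.2 (by show app tEl (r5 pa) = r5 pa; rw [tEl_app (r5_mem pa), r5_fix]))
    (by intro h
        have := congrFun h pa
        simp only [Pi.neg_apply] at this
        rw [r5_self] at this; norm_num at this)
  have hc := card_stab48 v hv
  refine FpfCrit.isSimple (p := 23) ht hC (by rw [hc]; norm_num) (by rw [hc]; norm_num) (by rw [hc]; norm_num) ?_
  intro N hN hp
  by_contra hne
  have h1 : Nat.card N ≠ 1 := fun h => hne (Subgroup.card_eq_one.1 h)
  obtain ⟨q, hq, hqN⟩ := Nat.exists_prime_and_dvd h1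
  obtain ⟨m, hm, hm1, hm2⟩ := FpfCrit.prime_pow ht hC hN hp hq hqN
  rw [hc] at hm1
  obtain ⟨rfl, rfl⟩ := num23 hq hm (hm1.trans (by norm_num)) hm2
  revert hm1; norm_num

theorem isSimple_co2 (v : leechLattice) (hv : sqNorm (v : Vec) = 32) : IsSimpleGroup (MulAction.stabilizer Co0 v) := by
  haveI := fact23
  haveI := finCo0
  suffices hs : IsSimpleGroup (MulAction.stabilizer Co0 (⟨v0, v0_mem⟩ : leechLattice)) by
    obtain ⟨g, hg⟩ := Eqv.one (v := v) (w := ⟨v0, v0_mem⟩) (min_trans v.2 hv)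
    exact (MulAction.stabilizerEquivStabilizer hg.symm).isSimpleGroup
  obtain ⟨k, hk⟩ := Eqv.one (v := ⟨rO pa, rO_mem pa⟩) (w := ⟨v0, v0_mem⟩) (min_trans (rO_mem pa) (by decide +kernel))
  obtain ⟨t, ht, hC⟩ := exists_C23 (w := ⟨rO pa, rO_mem pa⟩) hk
    (smul_eq_iff_app.2 (by show app tEl (rO pa) = rO pa; rw [tEl_app (rO_mem pa), rO_fix]))
    (by intro h
        have := congrFun h pa
        revert this
        decide +kernel)
  have hc := card_stab32 ⟨v0, v0_mem⟩ norm_v0
  refine FpfCrit.isSimple (p := 23) ht hC (by rw [hc]; norm_num) (by rw [hc]; norm_num) (by rw [hc]; norm_num) ?_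
  intro N hN hp
  by_contra hne
  have hpg : IsPGroup 2 N := by
    have h2 : ∀ q : ℕ, q.Prime → q ∣ Nat.card N → q = 2 := by
      intro q hq hqN
      obtain ⟨m, hm, hm1, hm2⟩ := FpfCrit.prime_pow ht hC hN hp hq hqN
      rw [hc] at hm1
      exact (num23 hq hm (hm1.trans (by norm_num)) hm2).1
    refine IsPGroup.of_card (n := (Nat.card N).primeFactorsList.length) ?_
    exact Nat.eq_prime_pow_of_unique_prime_dvd Nat.card_pos.ne' (fun {d} hd hd' => h2 d hd hd')
  -- the group generated by N and the centre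
  let N' : Subgroup Co0 := N.map (MulAction.stabilizer Co0 (⟨v0, v0_mem⟩ : leechLattice)).subtype
  let T : Subgroup Co0 := (N'.map (QuotientGroup.mk' (Subgroup.center Co0))).comap (QuotientGroup.mk' (Subgroup.center Co0))
  have hTm : ∀ t : Co0, t ∈ T ↔ ∃ n ∈ N', t = n ∨ t = negEl * n := by
    intro t
    constructor
    · rintro ⟨n, hn, h⟩
      exact ⟨n, hn, mk_eq.1 h.symm⟩
    · rintro ⟨n, hn, h⟩
      exact ⟨n, hn, (mk_eq.2 h).symm⟩
  have hN'p : ∀ n ∈ N', ∃ m, n ^ 2 ^ m = 1 := by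
    rintro _ ⟨n, hn, rfl⟩
    obtain ⟨m, hm⟩ := hpg ⟨n, hn⟩
    refine ⟨m, ?_⟩
    have := congrArg (fun z : N => ((z : MulAction.stabilizer Co0 (⟨v0, v0_mem⟩ : leechLattice)) : Co0)) hm
    exact this
  have hN's : ∀ n ∈ N', app n v0 = v0 := by
    rintro _ ⟨n, hn, rfl⟩
    exact smul_eq_iff_app.1 n.2
  have hN'n : ∀ g : Co0, app g v0 = v0 → ∀ n ∈ N', g * n * g⁻¹ ∈ N' := by
    rintro g hg _ ⟨n, hn, rfl⟩
    have hg' : g ∈ MulAction.stabilizer Co0 (⟨v0, v0_mem⟩ : leechLattice) := smul_eq_iff_app.2 hg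
    exact ⟨⟨g, hg'⟩ * n * ⟨g, hg'⟩⁻¹, hN.conj_mem n hn _, rfl⟩
  have hT : ∀ t ∈ T, t = 1 ∨ t = negEl := by
    apply two32
    · rintro ⟨t, ht⟩
      obtain ⟨n, hn, h⟩ := (hTm t).1 ht
      obtain ⟨m, hm⟩ := hN'p n hn
      refine ⟨m + 1, ?_⟩
      apply Subtype.ext
      show t ^ 2 ^ (m + 1) = 1
      rcases h with h | h <;> rw [h]
      · rw [pow_succ, pow_mul, hm, one_pow]
      · rw [(show Commute negEl n from negEl_comm n).mul_pow, pow_succ, pow_mul n, hm, one_pow, mul_one, mul_comm (2 ^ m),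
          pow_mul, pow_two, negEl_sq, one_pow]
    · exact (hTm _).2 ⟨1, one_mem _, Or.inr (by rw [mul_one])⟩
    · intro t ht
      obtain ⟨n, hn, h⟩ := (hTm t).1 ht
      rcases h with h | h <;> rw [h]
      · left; exact hN's n hn
      · right; rw [app_mul, hN's n hn, negEl_app' v0_mem]
    · intro g hg t ht
      obtain ⟨n, hn, h⟩ := (hTm t).1 ht
      refine (hTm _).2 ⟨g * n * g⁻¹, hN'n g hg n hn, ?_⟩
      rcases h with h | h <;> rw [h]
      · left; rfl
      · right; rw [← mul_assoc, ← negEl_comm g]; group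
  apply hne
  rw [eq_bot_iff]
  intro n hn
  rw [Subgroup.mem_bot]
  apply Subtype.ext
  have hn' : (n : Co0) ∈ N' := ⟨n, hn, rfl⟩
  rcases hT (n : Co0) ((hTm _).2 ⟨n, hn', Or.inl rfl⟩) with h | h
  · exact h
  · exfalso
    have h1 := hN's _ hn'
    rw [h, negEl_app' v0_mem] at h1
    have := congrFun h1 pa
    rw [Pi.neg_apply, v0_pa] at this
    norm_num at this

end Cfsg.Agent.Lib.Golay
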