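import Cfsg.Agent.Lib.Golay.LeechTrans

/-!
The automorphism group of the rank-24 lattice is transitive on pairs of orthogonal minimal vectors (conclusion).
-/

set_option autoImplicit false

namespace Cfsg.Agent.Lib.Golay

open scoped Pointwise
open Cfsg Finset

def z3 : ℕ → ℤ := fun i => ([2, -2, 2, -2, 0, 2, 0, 0, 0, 0, 0, 0, 0, 0, 2, 0, 0, 2, 0, 0, 0, 0, 0, 2] : List ℤ).getD i 0
def z3' : ℕ → ℤ := fun i => ([0, -4, 0, -4] : List ℤ).getD i 0
def z4 : ℕ → ℤ := fun i => ([0, 0, 0, -2, 0, 2, 0, 0, -2, 0, 0, 2, 2, 0, 2, 0, 0, 2, 2, 0, 0, 0, 0, 0] : List ℤ).getD i 0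
def z4' : ℕ → ℤ := fun i => ([0, 0, 0, -4, 0, 0, 0, 0, -4] : List ℤ).getD i 0
def z5 : ℕ → ℤ := fun i => ([1, 3, 1, 1, 1, 1, 1, 1, 1, 1, 1, 1, -1, -1, -1, -1, -1, 1, 1, -1, 1, 1, -1, 1] : List ℤ).getD i 0
def z5' : ℕ → ℤ := fun i => ([-2, 0, -2, 0, 2, 0, 0, 0, 0, 0, 0, 0, -2, 0, 2, -2, 0, 0, 0, -2, 0, 0, 0, -2] : List ℤ).getD i 0

theorem z3_mem : V z3 ∈ leechLattice := inLat_mem (m := 0) (by decide +kernel)
theorem z4_mem : V z4 ∈ leechLattice := inLat_mem (m := 0) (by decide +kernel)
theorem z5_mem : V z5 ∈ leechLattice := inLat_mem (m := 1) (by decide +kernel)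

theorem xi_z3 : xi 2 (V z3) = V z3' := xi_V (by decide +kernel)
theorem xi_z4 : xi 3 (V z4) = V z4' := xi_V (by decide +kernel)
theorem xi_z5 : xi 1 (V z5) = V z5' := xi_V (by decide +kernel)

theorem sh_z3 : Sh8 (V z3) (tq 0 ∪ tq 1) := ⟨O8_mem, by decide +kernel, by decide +kernel⟩
theorem sh_z4 : Sh8 (V z4) (tq 1 ∪ tq 2) := ⟨O9_mem, by decide +kernel, by decide +kernel⟩
theorem sh_z5 : ShO (V z5) (pt 1) := ⟨by decide +kernel, by decide +kernel⟩
theorem sh_z3' : Sh4 (V z3') (pt 1) (pt 3) := ⟨by decide, by decide +kernel, by decide +kernel, by decide +kernel⟩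
theorem sh_z4' : Sh4 (V z4') (pt 3) (pt 8) := ⟨by decide, by decide +kernel, by decide +kernel, by decide +kernel⟩

theorem z3'_mem : V z3' ∈ leechLattice := by rw [← xi_z3]; exact xi_mem z3_mem 2
theorem z4'_mem : V z4' ∈ leechLattice := by rw [← xi_z4]; exact xi_mem z4_mem 3
theorem z5'_mem : V z5' ∈ leechLattice := by rw [← xi_z5]; exact xi_mem z5_mem 1

theorem chain8in : Eqv [v0, r8 (tq 0 ∪ tq 1)] [v0, x0] := by
  have s1 := (fuse8in z3_mem sh_z3 (by decide +kernel) (by decide +kernel)).symm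
  have s2 := Eqv.xi (mem2 v0_mem z3_mem) 2
  simp only [List.map_cons, List.map_nil, xi_v0 (by decide : (2 : Fin 6) ≠ 0), xi_z3] at s2
  exact s1.trans (s2.trans (fuse4 z3'_mem sh_z3' (by decide) (by decide) (by decide) (by decide)))

theorem chain8out : Eqv [v0, r8 (tq 1 ∪ tq 2)] [v0, x0] := by
  have s1 := (fuse8out z4_mem sh_z4 (by decide +kernel) (by decide +kernel)).symm
  have s2 := Eqv.xi (mem2 v0_mem z4_mem) 3
  simp only [List.map_cons, List.map_nil, xi_v0 (by decide : (3 : Fin 6) ≠ 0), xi_z4] at s2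
  exact s1.trans (s2.trans (fuse4 z4'_mem sh_z4' (by decide) (by decide) (by decide) (by decide)))

theorem even_pos {w : Vec} (hw : w ∈ leechLattice) (hn : sqNorm w = 32) (hev : w pa % 2 = 0) (hab : w pa = w pb)
    (hpos : 0 ≤ w pa) : Eqv [v0, w] [v0, x0] := by
  rcases shape32 hw hn with ⟨i, j, h⟩ | ⟨O, h⟩ | ⟨j, h⟩
  · by_cases ha : w pa = 0
    · have hi : ∀ k, w k = 0 → i ≠ k ∧ j ≠ k := by
        intro k hk
        constructor
        · rintro rfl; have := h.2.1; omega
        · rintro rfl; have := h.2.2.1; omega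
      exact fuse4 hw h (hi pa ha).1 (hi pb (hab ▸ ha)).1 (hi pa ha).2 (hi pb (hab ▸ ha)).2
    · have hb : w pb ≠ 0 := by rw [← hab]; exact ha
      have h1 : pa = i ∨ pa = j := by
        by_contra hc; push Not at hc; exact ha (h.2.2.2 pa hc.1 hc.2)
      have h2 : pb = i ∨ pb = j := by
        by_contra hc; push Not at hc; exact hb (h.2.2.2 pb hc.1 hc.2)
      have hwx : w = x0 := by
        rw [h.norm]
        unfold x0
        rcases h1 with h1 | h1 <;> rcases h2 with h2 | h2
        · exact absurd (h1.trans h2.symm) pa_ne_pb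
        · rw [← h1, ← h2]
          have h3 := h.2.1
          have h4 := h.2.2.1
          rw [← h1] at h3
          rw [← h2] at h4
          have h5 : w pa = 4 := by omega
          have h6 : w pb = 4 := by omega
          rw [h5, h6]
        · rw [← h1, ← h2]
          have h3 := h.2.1
          have h4 := h.2.2.1
          rw [← h2] at h3
          rw [← h1] at h4
          have h5 : w pa = 4 := by omega
          have h6 : w pb = 4 := by omega
          rw [h5, h6, add_comm]
        · exact absurd (h1.trans h2.symm) pa_ne_pb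
      rw [hwx]; exact Eqv.refl _
  · by_cases ha : w pa = 0
    · have hi : ∀ k, w k = 0 → k ∉ O := by
        intro k hk hkO; have := h.2.1 k hkO; omega
      exact (fuse8out hw h (hi pa ha) (hi pb (hab ▸ ha))).trans chain8out
    · have h1 : w pa = 2 := by
        by_cases hO : pa ∈ O
        · have := h.2.1 _ hO; omega
        · exact absurd (h.2.2 _ hO) ha
      exact (fuse8in hw h h1 (hab ▸ h1)).trans chain8in
  · exfalso
    have := h.2 pa
    have := h.1
    by_cases hj : pa = j
    · subst hj; omega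
    · have := h.2 pa hj; omega

theorem dot_v0_eq {w w' : Vec} (hw : w ∈ leechLattice) (h : Eqv [v0, w] [v0, w']) : w' pa - w' pb = w pa - w pb := by
  obtain ⟨g, hg⟩ := h
  simp only [List.map_cons, List.map_nil, List.cons.injEq, and_true] at hg
  have h1 := app_dot g v0_mem hw
  rw [hg.1, hg.2, dot_v0, dot_v0] at h1
  omega

theorem norm_of_eqv {v v' w w' : Vec} (hw : w ∈ leechLattice) (h : Eqv [v, w] [v', w']) : sqNorm w' = sqNorm w := by
  obtain ⟨g, hg⟩ := h
  simp only [List.map_cons, List.map_nil, List.cons.injEq, and_true] at hg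
  rw [← hg.2]; exact app_norm g hw

theorem even_all {w : Vec} (hw : w ∈ leechLattice) (hn : sqNorm w = 32) (hev : w pa % 2 = 0) (hab : w pa = w pb) :
    Eqv [v0, w] [v0, x0] := by
  by_cases hpos : 0 ≤ w pa
  · exact even_pos hw hn hev hab hpos
  · obtain ⟨w', hw', s, h1, h2⟩ := flip hw
    refine s.trans (even_pos hw' ?_ (by omega) (by omega) (by omega))
    rw [norm_of_eqv hw s, hn]

theorem orth_trans {w : Vec} (hw : w ∈ leechLattice) (hn : sqNorm w = 32) (hd : dotInt v0 w = 0) :
    Eqv [v0, w] [v0, x0] := by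
  rw [dot_v0] at hd
  have hab : w pa = w pb := by omega
  by_cases hev : w pa % 2 = 0
  · exact even_all hw hn hev hab
  · -- odd vectors
    have key : ∀ w : Vec, w ∈ leechLattice → sqNorm w = 32 → w pa = w pb → w pa % 2 ≠ 0 → 0 ≤ w pa →
        Eqv [v0, w] [v0, x0] := by
      intro w hw hn hab hev hpos
      rcases shape32 hw hn with ⟨i, j, h⟩ | ⟨O, h⟩ | ⟨j, h⟩
      · exfalso
        have h1 := h.2.1
        have h2 := h.2.2.1
        by_cases h3 : pa = i
        · rw [← h3] at h1; omega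
        · by_cases h4 : pa = j
          · rw [← h4] at h2; omega
          · have := h.2.2.2 _ h3 h4; omega
      · exfalso
        by_cases hO : pa ∈ O
        · have := h.2.1 _ hO; omega
        · have := h.2.2 _ hO; omega
      · have h1 : w pa = 1 := by
          by_cases h3 : pa = j
          · have h4 := h.1
            rw [← h3] at h4
            have h5 := h.2 pb (by rw [← h3]; exact pa_ne_pb.symm)
            omega
          · have := h.2 _ h3; omega
        have s1 := fuseO hw h h1 (hab ▸ h1)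
        have s2 := (fuseO z5_mem sh_z5 (by decide +kernel) (by decide +kernel)).symm
        have s3 := Eqv.xi (mem2 v0_mem z5_mem) 1
        simp only [List.map_cons, List.map_nil, xi_v0 (by decide : (1 : Fin 6) ≠ 0), xi_z5] at s3
        refine s1.trans (s2.trans (s3.trans (even_all z5'_mem ?_ (by decide +kernel) (by decide +kernel))))
        rw [norm_V]; decide +kernel
    by_cases hpos : 0 ≤ w pa
    · exact key w hw hn hab hev hpos
    · obtain ⟨w', hw', s, h1, h2⟩ := flip hw
      refine s.trans (key w' hw' ?_ (by omega) (by omega) (by omega))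
      rw [norm_of_eqv hw s, hn]

theorem mem1 {x : Vec} (hx : x ∈ leechLattice) : ∀ z ∈ [x], z ∈ leechLattice := by
  intro z hz; rw [List.mem_singleton] at hz; rw [hz]; exact hx

theorem min_Sh4 {x : Vec} (hx : x ∈ leechLattice) {i j : GolayPt} (h : Sh4 x i j) : Eqv [x] [v0] := by
  obtain ⟨c, hc, -, e⟩ := h.sgn (Z := ∅) (by simp) (by simp)
  have s1 := Eqv.sgn (mem1 hx) hc
  simp only [List.map_cons, List.map_nil, e] at s1
  obtain ⟨σ, hσ, h1, h2⟩ := exists_map_pair (p := i) (q := j) (p' := pa) (q' := pb) h.1 pa_ne_pb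
  have s2 := Eqv.prm (s1.mem (mem1 hx)) hσ
  simp only [List.map_cons, List.map_nil, prm_add, prm_sg, h1, h2] at s2
  obtain ⟨c', hc', e'⟩ := exists_word_small (A := {pa, pb}) (E := {pb}) (by decide) (by decide)
  have hb' : pb ∈ c' := by
    have := congrArg (fun s => pb ∈ s) e'
    simp at this; exact this
  have ha' : pa ∉ c' := by
    intro ha
    have := congrArg (fun s => pa ∈ s) e'
    simp only [mem_inter, mem_insert, true_or, and_true, mem_singleton] at this
    exact pa_ne_pb (this.mp ha)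
  have s3 := Eqv.sgn (s2.mem (s1.mem (mem1 hx))) hc'
  simp only [List.map_cons, List.map_nil, sgn_add, sgn_sg_of_notMem ha', sgn_sg_of_mem hb'] at s3
  exact s1.trans (s2.trans s3)

theorem min_Sh8 {x : Vec} (hx : x ∈ leechLattice) {O : Finset GolayPt} (h : Sh8 x O) : Eqv [x] [v0] := by
  have key : ∀ {x : Vec} (_ : x ∈ leechLattice) {O : Finset GolayPt} (_ : Sh8 x O), Eqv [x] [r8 (tq 0 ∪ tq 1)] := by
    intro x hx O h
    obtain ⟨c, hc, -, e⟩ := h.sgn hx (Z := ∅) (by simp) (by simp)
    have s1 := Eqv.sgn (mem1 hx) hc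
    simp only [List.map_cons, List.map_nil, e] at s1
    obtain ⟨σ, hσ, h1⟩ := octads_transitive h.1 O8_mem
    have s2 := Eqv.prm (s1.mem (mem1 hx)) hσ
    simp only [List.map_cons, List.map_nil, prm_r8, h1] at s2
    exact s1.trans s2
  have s1 := (key hx h).trans (key z3_mem sh_z3).symm
  have s2 := Eqv.xi (mem1 z3_mem) 2
  simp only [List.map_cons, List.map_nil, xi_z3] at s2
  exact s1.trans (s2.trans (min_Sh4 z3'_mem sh_z3'))

theorem min_trans {x : Vec} (hx : x ∈ leechLattice) (hn : sqNorm x = 32) : Eqv [x] [v0] := by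
  rcases shape32 hx hn with ⟨i, j, h⟩ | ⟨O, h⟩ | ⟨j, h⟩
  · exact min_Sh4 hx h
  · exact min_Sh8 hx h
  · have key : ∀ {x : Vec} (_ : x ∈ leechLattice) {j : GolayPt} (_ : ShO x j), Eqv [x] [rO pa] := by
      intro x hx j h
      have s1 := Eqv.sgn (mem1 hx) (h.inL hx).2.2
      simp only [List.map_cons, List.map_nil] at s1
      rw [show (1 : ℤ) + 2 = 3 by norm_num, h.sgn] at s1
      obtain ⟨σ, hσ, h1, -⟩ := exists_map_pair (p := j) (q := if j = pa then pb else pa) (p' := pa) (q' := pb)
        (by split_ifs with h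
            · rw [h]; exact pa_ne_pb
            · exact h) pa_ne_pb
      have s2 := Eqv.prm (s1.mem (mem1 hx)) hσ
      simp only [List.map_cons, List.map_nil, prm_rO, h1] at s2
      exact s1.trans s2
    have s1 := (key hx h).trans (key z5_mem sh_z5).symm
    have s2 := Eqv.xi (mem1 z5_mem) 1
    simp only [List.map_cons, List.map_nil, xi_z5] at s2
    refine s1.trans (s2.trans ?_)
    have hO : Sh8 (V z5') (univ.filter (fun p => V z5' p ≠ 0)) := by
      refine ⟨?_, by decide +kernel, by decide +kernel⟩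
      have e : (univ.filter (fun p => V z5' p ≠ 0)) = st (bitsAux (fun i => !(z5' i == 0)) 24) := by
        ext p
        rw [mem_filter, mem_st, testBit_bitsAux]
        simp only [mem_univ, true_and, ix_lt, decide_true, Bool.true_and, Bool.not_eq_true', beq_eq_false_iff_ne]
        rfl
      rw [e, st_mem_octads (bitsAux_lt _ _)]
      decide +kernel
    exact min_Sh8 z5'_mem hO

/-- transitivity on pairs of orthogonal minimal vectors -/
theorem orthPair {v w : Vec} (hv : v ∈ leechLattice) (hw : w ∈ leechLattice) (hvn : sqNorm v = 32)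
    (hwn : sqNorm w = 32) (hd : dotInt v w = 0) : Eqv [v, w] [v0, x0] := by
  obtain ⟨g, hg⟩ := min_trans hv hvn
  simp only [List.map_cons, List.map_nil, List.cons.injEq, and_true] at hg
  have h1 : Eqv [v, w] [v0, app g w] := ⟨g, by simp [hg]⟩
  refine h1.trans (orth_trans (app_mem g hw) ?_ ?_)
  · rw [app_norm g hw, hwn]
  · rw [← hg, app_dot g hv hw, hd]

theorem Eqv.one {v w : leechLattice} (h : Eqv [(v : Vec)] [(w : Vec)]) : ∃ g : Co0, g • v = w := by
  obtain ⟨g, hg⟩ := h
  simp only [List.map_cons, List.map_nil, List.cons.injEq, and_true] at hg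
  exact ⟨g, smul_eq_iff_app.2 hg⟩

theorem Eqv.two {v w v' w' : leechLattice} (h : Eqv [(v : Vec), (w : Vec)] [(v' : Vec), (w' : Vec)]) :
    ∃ g : Co0, g • v = v' ∧ g • w = w' := by
  obtain ⟨g, hg⟩ := h
  simp only [List.map_cons, List.map_nil, List.cons.injEq, and_true] at hg
  exact ⟨g, smul_eq_iff_app.2 hg.1, smul_eq_iff_app.2 hg.2⟩

theorem Eqv.three {v w u v' w' u' : leechLattice} (h : Eqv [(v : Vec), (w : Vec), (u : Vec)]
    [(v' : Vec), (w' : Vec), (u' : Vec)]) : ∃ g : Co0, g • v = v' ∧ g • w = w' ∧ g • u = u' := by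
  obtain ⟨g, hg⟩ := h
  simp only [List.map_cons, List.map_nil, List.cons.injEq, and_true] at hg
  exact ⟨g, smul_eq_iff_app.2 hg.1, smul_eq_iff_app.2 hg.2.1, smul_eq_iff_app.2 hg.2.2⟩

theorem Eqv.four {v w u t v' w' u' t' : leechLattice} (h : Eqv [(v : Vec), (w : Vec), (u : Vec), (t : Vec)]
    [(v' : Vec), (w' : Vec), (u' : Vec), (t' : Vec)]) :
    ∃ g : Co0, g • v = v' ∧ g • w = w' ∧ g • u = u' ∧ g • t = t' := by
  obtain ⟨g, hg⟩ := h
  simp only [List.map_cons, List.map_nil, List.cons.injEq, and_true] at hg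
  exact ⟨g, smul_eq_iff_app.2 hg.1, smul_eq_iff_app.2 hg.2.1, smul_eq_iff_app.2 hg.2.2.1,
    smul_eq_iff_app.2 hg.2.2.2⟩

end Cfsg.Agent.Lib.Golay
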