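import Cfsg.Agent.Lib.Golay.LeechVec

/-!
Shapes of short vectors of the rank-24 lattice.
-/

set_option autoImplicit false

namespace Cfsg.Agent.Lib.Golay

open scoped Pointwise
open Cfsg Finset

/-- number of coordinates of absolute value `a` -/
def cnt (x : Vec) (a : ℤ) : ℤ := ((univ.filter (fun i => |x i| = a)).card : ℤ)

theorem cnt_nonneg (x : Vec) (a : ℤ) : 0 ≤ cnt x a := Int.natCast_nonneg _

theorem coord_bound {x : Vec} (h : sqNorm x ≤ 64) (i : GolayPt) : -8 ≤ x i ∧ x i ≤ 8 := by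
  have h1 : x i ^ 2 ≤ sqNorm x := single_le_sum (f := fun i => x i ^ 2) (fun _ _ => sq_nonneg _) (mem_univ i)
  constructor <;> nlinarith

theorem sum_ite_cnt (x : Vec) (a b : ℤ) : ∑ i, (if |x i| = a then b else 0) = b * cnt x a := by
  rw [← sum_filter, sum_const, nsmul_eq_mul, mul_comm]; rfl

theorem even_cnt {x : Vec} (h : InL x 0) (hn : sqNorm x ≤ 64) :
    sqNorm x = 4 * cnt x 2 + 16 * cnt x 4 + 36 * cnt x 6 + 64 * cnt x 8 ∧
    24 = cnt x 0 + cnt x 2 + cnt x 4 + cnt x 6 + cnt x 8 ∧ cnt x 2 + cnt x 6 = (cls x 2).card := by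
  have hb := coord_bound hn
  have hev : ∀ i, x i % 2 = 0 := fun i => by have := h.1 i; omega
  refine ⟨?_, ?_, ?_⟩
  · unfold sqNorm
    rw [← sum_ite_cnt x 2 4, ← sum_ite_cnt x 4 16, ← sum_ite_cnt x 6 36, ← sum_ite_cnt x 8 64,
      ← sum_add_distrib, ← sum_add_distrib, ← sum_add_distrib]
    refine sum_congr rfl (fun i _ => ?_)
    have h1 := hb i
    have h2 := hev i
    obtain ⟨h3, h4⟩ := h1
    generalize x i = y at *
    interval_cases y <;> first | omega | simp
  · have h24 : (24 : ℤ) = ∑ _i : GolayPt, (1 : ℤ) := by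
      rw [sum_const, card_univ, card_golayPt]; rfl
    rw [h24]
    have e : ∀ a, cnt x a = ∑ i, (if |x i| = a then (1 : ℤ) else 0) := fun a => by
      rw [sum_ite_cnt]; ring
    rw [e, e, e, e, e, ← sum_add_distrib, ← sum_add_distrib, ← sum_add_distrib, ← sum_add_distrib]
    refine sum_congr rfl (fun i _ => ?_)
    have h1 := hb i
    have h2 := hev i
    obtain ⟨h3, h4⟩ := h1
    generalize x i = y at *
    interval_cases y <;> first | omega | simp
  · have e : ∀ a, cnt x a = ∑ i, (if |x i| = a then (1 : ℤ) else 0) := fun a => by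
      rw [sum_ite_cnt]; ring
    have e2 : ((cls x 2).card : ℤ) = ∑ i, (if (x i - 2) % 4 = 0 then (1 : ℤ) else 0) := by
      rw [sum_boole]
      congr 2
      ext i
      rw [mem_cls, mem_filter]; simp
    rw [e, e, e2, ← sum_add_distrib]
    refine sum_congr rfl (fun i _ => ?_)
    have h1 := hb i
    have h2 := hev i
    obtain ⟨h3, h4⟩ := h1
    generalize x i = y at *
    interval_cases y <;> first | omega | simp

theorem odd_cnt {x : Vec} (h : InL x 1) (hn : sqNorm x ≤ 64) :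
    sqNorm x = cnt x 1 + 9 * cnt x 3 + 25 * cnt x 5 + 49 * cnt x 7 ∧
    24 = cnt x 1 + cnt x 3 + cnt x 5 + cnt x 7 := by
  have hb := coord_bound hn
  have hev : ∀ i, x i % 2 = 1 := fun i => by have := h.1 i; omega
  refine ⟨?_, ?_⟩
  · unfold sqNorm
    rw [show cnt x 1 = 1 * cnt x 1 by ring, ← sum_ite_cnt x 1 1, ← sum_ite_cnt x 3 9, ← sum_ite_cnt x 5 25,
      ← sum_ite_cnt x 7 49, ← sum_add_distrib, ← sum_add_distrib, ← sum_add_distrib]
    refine sum_congr rfl (fun i _ => ?_)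
    have h1 := hb i
    have h2 := hev i
    obtain ⟨h3, h4⟩ := h1
    generalize x i = y at *
    interval_cases y <;> first | omega | simp
  · have h24 : (24 : ℤ) = ∑ _i : GolayPt, (1 : ℤ) := by
      rw [sum_const, card_univ, card_golayPt]; rfl
    rw [h24]
    have e : ∀ a, cnt x a = ∑ i, (if |x i| = a then (1 : ℤ) else 0) := fun a => by
      rw [sum_ite_cnt]; ring
    rw [e, e, e, e, ← sum_add_distrib, ← sum_add_distrib, ← sum_add_distrib]
    refine sum_congr rfl (fun i _ => ?_)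
    have h1 := hb i
    have h2 := hev i
    obtain ⟨h3, h4⟩ := h1
    generalize x i = y at *
    interval_cases y <;> first | omega | simp

theorem cnt_zero_iff {x : Vec} {a : ℤ} : cnt x a = 0 ↔ ∀ i, |x i| ≠ a := by
  unfold cnt
  rw [Int.natCast_eq_zero, card_eq_zero, filter_eq_empty_iff]
  exact ⟨fun h i => h (mem_univ i), fun h i _ => h i⟩

theorem cnt_one {x : Vec} {a : ℤ} (h : cnt x a = 1) : ∃ i, |x i| = a ∧ ∀ j, j ≠ i → |x j| ≠ a := by
  have h1 : (univ.filter (fun i => |x i| = a)).card = 1 := by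
    unfold cnt at h; omega
  obtain ⟨i, hi⟩ := card_eq_one.1 h1
  have h2 : ∀ j, |x j| = a ↔ j = i := by
    intro j
    have := congrArg (fun s => j ∈ s) hi
    simpa using this
  exact ⟨i, (h2 i).2 rfl, fun j hj h3 => hj ((h2 j).1 h3)⟩

theorem cnt_two {x : Vec} {a : ℤ} (h : cnt x a = 2) : ∃ i j, i ≠ j ∧ |x i| = a ∧ |x j| = a ∧
    ∀ k, k ≠ i → k ≠ j → |x k| ≠ a := by
  have h1 : (univ.filter (fun i => |x i| = a)).card = 2 := by
    unfold cnt at h; omega
  obtain ⟨i, j, hij, hi⟩ := card_eq_two.1 h1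
  have h2 : ∀ k, |x k| = a ↔ k = i ∨ k = j := by
    intro k
    have := congrArg (fun s => k ∈ s) hi
    simpa using this
  exact ⟨i, j, hij, (h2 i).2 (Or.inl rfl), (h2 j).2 (Or.inr rfl), fun k hk hk' h3 =>
    ((h2 k).1 h3).elim hk hk'⟩

theorem abs_cases {a b : ℤ} (h : |a| = b) : a = b ∨ a = -b := by
  rcases abs_choice a with h1 | h1 <;> omega

theorem abs_eq_of {a b : ℤ} (hb : 0 ≤ b) (h : a = b ∨ a = -b) : |a| = b := by
  rcases h with rfl | rfl
  · exact abs_of_nonneg hb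
  · rw [abs_neg, abs_of_nonneg hb]

/-- two coordinates ±4 -/
def Sh4 (x : Vec) (i j : GolayPt) : Prop :=
  i ≠ j ∧ (x i = 4 ∨ x i = -4) ∧ (x j = 4 ∨ x j = -4) ∧ ∀ k, k ≠ i → k ≠ j → x k = 0

/-- eight coordinates ±2 on an octad -/
def Sh8 (x : Vec) (O : Finset GolayPt) : Prop :=
  O ∈ octads ∧ (∀ i ∈ O, x i = 2 ∨ x i = -2) ∧ ∀ i, i ∉ O → x i = 0

/-- one coordinate ±3, the others ±1 -/
def ShO (x : Vec) (j : GolayPt) : Prop :=
  (x j = 3 ∨ x j = -3) ∧ ∀ k, k ≠ j → x k = 1 ∨ x k = -1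

theorem even_values {x : Vec} (h : InL x 0) (hn : sqNorm x ≤ 64) (i : GolayPt) :
    |x i| = 0 ∨ |x i| = 2 ∨ |x i| = 4 ∨ |x i| = 6 ∨ |x i| = 8 := by
  have h1 := coord_bound hn i
  have h2 := h.1 i
  have h3 := abs_cases (rfl : |x i| = |x i|)
  have h4 := abs_nonneg (x i)
  omega

theorem odd_values {x : Vec} (h : InL x 1) (hn : sqNorm x ≤ 64) (i : GolayPt) :
    |x i| = 1 ∨ |x i| = 3 ∨ |x i| = 5 ∨ |x i| = 7 := by
  have h1 := coord_bound hn i
  have h2 := h.1 i
  have h3 := abs_cases (rfl : |x i| = |x i|)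
  have h4 := abs_nonneg (x i)
  omega

theorem mem_cls2_iff {x : Vec} (h : InL x 0) (hn : sqNorm x ≤ 64) (i : GolayPt) :
    i ∈ cls x 2 ↔ |x i| = 2 ∨ |x i| = 6 := by
  rw [mem_cls]
  have h1 := coord_bound hn i
  have h2 := h.1 i
  have h3 := abs_cases (rfl : |x i| = |x i|)
  have h4 := abs_nonneg (x i)
  omega

theorem shape32 {x : Vec} (hx : x ∈ leechLattice) (hn : sqNorm x = 32) :
    (∃ i j, Sh4 x i j) ∨ (∃ O, Sh8 x O) ∨ ∃ j, ShO x j := by
  rcases mem_leech'.1 hx with h | h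
  · obtain ⟨e1, e2, e3⟩ := even_cnt h (by omega)
    have hw : IsWord (cls x 2) := h.2.2
    have hc := hw.card
    have n0 := cnt_nonneg x 0
    have n2 := cnt_nonneg x 2
    have n4 := cnt_nonneg x 4
    have n6 := cnt_nonneg x 6
    have n8 := cnt_nonneg x 8
    have hv := even_values h (by omega : sqNorm x ≤ 64)
    rcases (by omega : (cnt x 4 = 2 ∧ cnt x 2 = 0 ∧ cnt x 6 = 0 ∧ cnt x 8 = 0) ∨
      ((cls x 2).card = 8 ∧ cnt x 4 = 0 ∧ cnt x 6 = 0 ∧ cnt x 8 = 0)) with ⟨h4, h2, h6, h8⟩ | ⟨hc8, h4, h6, h8⟩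
    · left
      obtain ⟨i, j, hij, hi, hj, hk⟩ := cnt_two h4
      rw [cnt_zero_iff] at h2 h6 h8
      refine ⟨i, j, hij, abs_cases hi, abs_cases hj, fun k h1 h3 => ?_⟩
      have := hv k; have := hk k h1 h3; have := h2 k; have := h6 k; have := h8 k
      exact abs_eq_zero.1 (by tauto)
    · right; left
      rw [cnt_zero_iff] at h4 h6 h8
      refine ⟨cls x 2, mem_octads.2 ⟨hw, hc8⟩, fun i hi => ?_, fun i hi => ?_⟩
      · rw [mem_cls2_iff h (by omega)] at hi
        have := h6 i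
        exact abs_cases (by tauto)
      · rw [mem_cls2_iff h (by omega)] at hi
        have := hv i; have := h4 i; have := h6 i; have := h8 i
        exact abs_eq_zero.1 (by tauto)
  · right; right
    obtain ⟨e1, e2⟩ := odd_cnt h (by omega)
    have n1 := cnt_nonneg x 1
    have n3 := cnt_nonneg x 3
    have n5 := cnt_nonneg x 5
    have n7 := cnt_nonneg x 7
    have hv := odd_values h (by omega : sqNorm x ≤ 64)
    obtain ⟨h3, h5, h7⟩ : cnt x 3 = 1 ∧ cnt x 5 = 0 ∧ cnt x 7 = 0 := by omega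
    obtain ⟨j, hj, hk⟩ := cnt_one h3
    rw [cnt_zero_iff] at h5 h7
    refine ⟨j, abs_cases hj, fun k hkj => ?_⟩
    have := hv k; have := hk k hkj; have := h5 k; have := h7 k
    exact abs_cases (by tauto)

/-- parity of the number of negative entries on an octad vector -/
theorem Sh8.minus_even {x : Vec} (hx : x ∈ leechLattice) {O : Finset GolayPt} (h : Sh8 x O) :
    (O.filter (fun i => x i = -2)).card % 2 = 0 := by
  obtain ⟨hO, h2, h0⟩ := h
  rw [mem_octads] at hO
  have hI : InL x 0 := by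
    rcases mem_leech'.1 hx with hI | hI
    · exact hI
    · exfalso
      obtain ⟨i, hi⟩ : ∃ i, i ∉ O := by
        by_contra hc
        push Not at hc
        have : O = univ := by ext i; simp [hc i]
        have h3 := hO.2
        rw [this, card_univ, card_golayPt] at h3
        omega
      have := hI.1 i
      rw [h0 i hi] at this
      omega
  have h3 : ∑ i, x i = 2 * O.card - 4 * (O.filter (fun i => x i = -2)).card := by
    have e1 : ∑ i, x i = ∑ i ∈ O, x i := by
      symm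
      apply sum_subset (subset_univ O)
      intro i _ hi; exact h0 i hi
    have e2 : ∀ i ∈ O, x i = 2 - (if x i = -2 then 4 else 0) := by
      intro i hi
      rcases h2 i hi with h3 | h3
      · rw [h3]; norm_num
      · rw [h3]; norm_num
    rw [e1, sum_congr rfl e2, sum_sub_distrib, sum_const, ← sum_filter, sum_const]
    simp only [nsmul_eq_mul]
    push_cast
    ring
  have h4 := hI.2.1
  rw [h3, hO.2] at h4
  push_cast at h4
  omega

end Cfsg.Agent.Lib.Golay
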