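import Cfsg.Agent.Lib.Golay.LeechPairs

/-!
Shapes of the vectors of norms 48 and 64; auxiliary minimal vectors.
-/

set_option autoImplicit false

namespace Cfsg.Agent.Lib.Golay

open scoped Pointwise
open Cfsg Finset

theorem exists_octad_five {A : Finset GolayPt} (hA : A.card = 5) : ∃ O ∈ octads, A ⊆ O := by
  obtain ⟨O, hO, -⟩ := steiner.2 A hA
  exact ⟨O, hO.1, hO.2⟩

/-- the octad vector with prescribed even set of negative entries -/
theorem mk8 {O E : Finset GolayPt} (hO : O ∈ octads) (hE : E ⊆ O) (hev : E.card % 2 = 0) :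
    ∃ x ∈ leechLattice, sqNorm x = 32 ∧ (∀ k ∈ E, x k = -2) ∧ (∀ k ∈ O, k ∉ E → x k = 2) ∧ ∀ k, k ∉ O → x k = 0 := by
  obtain ⟨c, hc, e⟩ := exists_word_octad hO (Z := ∅) (E := E) (by simp) (by rw [union_empty]; exact hE)
    (by rw [inter_eq_left.2 hE]; exact hev)
  rw [union_empty] at e
  have hk : ∀ k ∈ O, (k ∈ c ↔ k ∈ E) := by
    intro k hk
    have := congrArg (fun s => k ∈ s) e
    simp only [mem_inter, hk, and_true] at this
    rw [this]
  refine ⟨sgn c (r8 O), sgn_mem (r8_mem hO) hc, ?_, ?_, ?_, ?_⟩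
  · rw [sqNorm_sgn]
    unfold sqNorm r8
    have : ∀ p, (if p ∈ O then (2 : ℤ) else 0) ^ 2 = if p ∈ O then 4 else 0 := by
      intro p; split_ifs <;> norm_num
    rw [sum_congr rfl (fun p _ => this p), sum_ind, (mem_octads.1 hO).2]; norm_num
  · intro k hkE
    unfold Golay.sgn r8
    rw [if_pos ((hk k (hE hkE)).2 hkE), if_pos (hE hkE)]
  · intro k hkO hkE
    unfold Golay.sgn r8
    rw [if_neg (fun h => hkE ((hk k hkO).1 h)), if_pos hkO]
  · intro k hkO
    unfold Golay.sgn r8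
    rw [if_neg hkO]; simp

theorem sqNorm_sg_add {i j : GolayPt} (hij : i ≠ j) {s t : ℤ} (hs : s = 4 ∨ s = -4) (ht : t = 4 ∨ t = -4) :
    sqNorm (sg i s + sg j t) = 32 := by
  rw [← dotInt_self, dotInt_add_left, dot_sg, dot_sg]
  unfold sg
  simp only [Pi.add_apply, if_true, if_neg hij, if_neg hij.symm]
  rcases hs with rfl | rfl <;> rcases ht with rfl | rfl <;> norm_num

theorem dot_sg_add (i j : GolayPt) (s t : ℤ) (x : Vec) : dotInt (sg i s + sg j t) x = s * x i + t * x j := by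
  rw [dotInt_add_left, dot_sg, dot_sg]

/-- a vector (±4, ±4) whose product with `u` is the sum of absolute values times 4 -/
theorem mk4 (u : Vec) {i j : GolayPt} (hij : i ≠ j) : ∃ x ∈ leechLattice, sqNorm x = 32 ∧
    dotInt x u = 4 * |u i| + 4 * |u j| ∧ ∀ k, k ≠ i → k ≠ j → x k = 0 := by
  refine ⟨sg i (if 0 ≤ u i then 4 else -4) + sg j (if 0 ≤ u j then 4 else -4), sg_add_mem hij ?_ ?_,
    sqNorm_sg_add hij ?_ ?_, ?_, ?_⟩
  · split_ifs <;> simp
  · split_ifs <;> simp
  · split_ifs <;> simp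
  · split_ifs <;> simp
  · rw [dot_sg_add]
    split_ifs with h1 h2 h2
    · rw [abs_of_nonneg h1, abs_of_nonneg h2]
    · rw [abs_of_nonneg h1, abs_of_neg (not_le.1 h2)]; ring
    · rw [abs_of_neg (not_le.1 h1), abs_of_nonneg h2]; ring
    · rw [abs_of_neg (not_le.1 h1), abs_of_neg (not_le.1 h2)]; ring
  · intro k hi hj
    unfold sg
    simp [hi, hj]

/-! ### norm 48 -/

/-- twelve coordinates ±2 on a dodecad -/
def T12 (x : Vec) (D : Finset GolayPt) : Prop :=
  D ∈ dodecads ∧ (∀ i ∈ D, |x i| = 2) ∧ ∀ i, i ∉ D → x i = 0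

/-- eight coordinates ±2 on an octad and one ±4 -/
def T84 (x : Vec) (O : Finset GolayPt) (k : GolayPt) : Prop :=
  O ∈ octads ∧ k ∉ O ∧ |x k| = 4 ∧ (∀ i ∈ O, |x i| = 2) ∧ ∀ i, i ∉ O → i ≠ k → x i = 0

/-- three coordinates ±3, the others ±1 -/
def T333 (x : Vec) (i j k : GolayPt) : Prop :=
  i ≠ j ∧ i ≠ k ∧ j ≠ k ∧ |x i| = 3 ∧ |x j| = 3 ∧ |x k| = 3 ∧ ∀ l, l ≠ i → l ≠ j → l ≠ k → |x l| = 1

/-- one coordinate ±5, the others ±1 -/
def T5 (x : Vec) (i : GolayPt) : Prop := |x i| = 5 ∧ ∀ l, l ≠ i → |x l| = 1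

theorem cnt_three {x : Vec} {a : ℤ} (h : cnt x a = 3) : ∃ i j l, i ≠ j ∧ i ≠ l ∧ j ≠ l ∧ |x i| = a ∧ |x j| = a ∧
    |x l| = a ∧ ∀ k, k ≠ i → k ≠ j → k ≠ l → |x k| ≠ a := by
  have h1 : (univ.filter (fun i => |x i| = a)).card = 3 := by
    unfold cnt at h; omega
  obtain ⟨i, j, l, hij, hil, hjl, hi⟩ := card_eq_three.1 h1
  have h2 : ∀ k, |x k| = a ↔ k = i ∨ k = j ∨ k = l := by
    intro k
    have := congrArg (fun s => k ∈ s) hi
    simpa using this
  exact ⟨i, j, l, hij, hil, hjl, (h2 i).2 (Or.inl rfl), (h2 j).2 (Or.inr (Or.inl rfl)),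
    (h2 l).2 (Or.inr (Or.inr rfl)), fun k hk hk' hk'' h3 => by
      rcases (h2 k).1 h3 with h | h | h
      · exact hk h
      · exact hk' h
      · exact hk'' h⟩

theorem shape48 {x : Vec} (hx : x ∈ leechLattice) (hn : sqNorm x = 48) :
    (∃ D, T12 x D) ∨ (∃ O k, T84 x O k) ∨ (∃ i j k, T333 x i j k) ∨ ∃ i, T5 x i := by
  rcases mem_leech'.1 hx with h | h
  · obtain ⟨e1, e2, e3⟩ := even_cnt h (by omega)
    have hw : IsWord (cls x 2) := h.2.2
    have hc := hw.card
    have n0 := cnt_nonneg x 0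
    have n2 := cnt_nonneg x 2
    have n4 := cnt_nonneg x 4
    have n6 := cnt_nonneg x 6
    have n8 := cnt_nonneg x 8
    have hv := even_values h (by omega : sqNorm x ≤ 64)
    have hm := mem_cls2_iff h (by omega : sqNorm x ≤ 64)
    -- the case of no class-2 coordinates is impossible
    rcases (by omega : ((cls x 2).card = 12 ∧ cnt x 4 = 0 ∧ cnt x 6 = 0 ∧ cnt x 8 = 0) ∨
      ((cls x 2).card = 8 ∧ cnt x 4 = 1 ∧ cnt x 6 = 0 ∧ cnt x 8 = 0) ∨
      (cnt x 4 = 3 ∧ cnt x 2 = 0 ∧ cnt x 6 = 0 ∧ cnt x 8 = 0)) with ⟨hc8, h4, h6, h8⟩ | ⟨hc8, h4, h6, h8⟩ |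
        ⟨h4, h2, h6, h8⟩
    · left
      rw [cnt_zero_iff] at h4 h6 h8
      refine ⟨cls x 2, mem_dodecads.2 ⟨hw, hc8⟩, fun i hi => ?_, fun i hi => ?_⟩
      · rw [hm] at hi
        have := h6 i
        tauto
      · rw [hm] at hi
        have := hv i; have := h4 i; have := h6 i; have := h8 i
        exact abs_eq_zero.1 (by tauto)
    · right; left
      obtain ⟨k, hk, hk'⟩ := cnt_one h4
      rw [cnt_zero_iff] at h6 h8
      refine ⟨cls x 2, k, mem_octads.2 ⟨hw, hc8⟩, ?_, hk, fun i hi => ?_, fun i hi hik => ?_⟩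
      · rw [hm]; omega
      · rw [hm] at hi
        have := h6 i
        tauto
      · rw [hm] at hi
        have := hv i; have := hk' i hik; have := h6 i; have := h8 i
        exact abs_eq_zero.1 (by tauto)
    · exfalso
      obtain ⟨i, j, l, hij, hil, hjl, hi, hj, hl, hk⟩ := cnt_three h4
      rw [cnt_zero_iff] at h2 h6 h8
      have hs : ∑ p, x p = x i + x j + x l := by
        have h5 : ∀ p, x p = (if p = i then x i else 0) + (if p = j then x j else 0) + (if p = l then x l else 0) := by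
          intro p
          by_cases h1 : p = i
          · subst h1; simp [hij, hil]
          · by_cases h3 : p = j
            · subst h3; simp [h1, hjl]
            · by_cases h7 : p = l
              · subst h7; simp [h1, h3]
              · simp only [h1, h3, h7, if_false, add_zero]
                have := hv p; have := h2 p; have := h6 p; have := h8 p; have := hk p h1 h3 h7
                exact abs_eq_zero.1 (by tauto)
        rw [sum_congr rfl (fun p _ => h5 p)]
        simp only [sum_add_distrib, sum_ite_eq', mem_univ, if_true]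
      have h5 := h.2.1
      rw [hs] at h5
      have := abs_cases hi; have := abs_cases hj; have := abs_cases hl
      omega
  · obtain ⟨e1, e2⟩ := odd_cnt h (by omega)
    have n1 := cnt_nonneg x 1
    have n3 := cnt_nonneg x 3
    have n5 := cnt_nonneg x 5
    have n7 := cnt_nonneg x 7
    have hv := odd_values h (by omega : sqNorm x ≤ 64)
    right; right
    rcases (by omega : (cnt x 3 = 3 ∧ cnt x 5 = 0 ∧ cnt x 7 = 0) ∨ (cnt x 3 = 0 ∧ cnt x 5 = 1 ∧ cnt x 7 = 0)) with
      ⟨h3, h5, h7⟩ | ⟨h3, h5, h7⟩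
    · left
      obtain ⟨i, j, l, hij, hil, hjl, hi, hj, hl, hk⟩ := cnt_three h3
      rw [cnt_zero_iff] at h5 h7
      refine ⟨i, j, l, hij, hil, hjl, hi, hj, hl, fun p h1 h2 h4 => ?_⟩
      have := hv p; have := h5 p; have := h7 p; have := hk p h1 h2 h4
      tauto
    · right
      obtain ⟨i, hi, hk⟩ := cnt_one h5
      rw [cnt_zero_iff] at h3 h7
      refine ⟨i, hi, fun p h1 => ?_⟩
      have := hv p; have := h3 p; have := h7 p; have := hk p h1
      tauto

end Cfsg.Agent.Lib.Golay
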