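import Cfsg.Agent.Lib.Golay.OctStab

/-!
Transitivity of octad stabilisers on points inside and outside.
-/

set_option autoImplicit false

namespace Cfsg.Agent.Lib.Golay

open scoped Pointwise
open Cfsg

def tO2 : List ℕ := [0xbdab49ca307b9ac5a928398a418820, 0xbda6aaacb048da8951ec31e2470820, 0xbb646628b69ba0f4d4f45a06488820, 0xbc1f251e2d596c6aa193a246470820, 0xbc28c4cdcd40ed532e477a8a488820, 0xbb595924763c61451a6f42ca470820, 0xbb56745236a8e097ccca931c428820, 0xbb1f499c49a94d65a20a935c41c420, 0xbc12ba18ad946c79b11553dc418820, 0xba6a7448465b98d7aad3a40642c420, 0xbb5135bdd63160aa1ea964a2418820, 0xbd8e932070515ab63e92acdc488820, 0xbc1487d46d63ad33c9664d22428820, 0xbd8cf3b1d0a45b24254b9d46428820, 0xb99725504c78d30acda83d8a474420]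
def tO3 : List ℕ := [0xbdab49ca307b9ac5a928398a418820, 0xbd1556a44b616723d9f0419c488023, 0xbb2486d46f806765a8f4498a4889c0, 0xbad106be349166cb1d35519c410c20, 0xbaa087b63598a4c3d934598642b820, 0xba512ab4749c61652cef61844095c0, 0xbcd2892e2c505f5b1e14698642804e, 0xbc9ab654b380528b1e8a7980413a23, 0xbd5747a4aa60a53b1da8818648802e, 0xbbd6dab0aa48a083da93919c408223, 0xbb5095ca34795553da0c9980408c4e, 0xba2aa4b4509c592b1deba18042b823, 0xbc28b4bca8945933d9aaa980410c2e, 0xb9e9594e2868dec52d30b184471420]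
def tO4 : List ℕ := [0xbdab49ca307b9ac5a928398a418820, 0xbb4f4aac7653a12625e899a2428041, 0xbaed4634679812fac24851a242b822, 0xb9e6a824ad63aa87ca8bb184400623, 0xba9903ca29782c89b695599c410465, 0xbc28b4bca8945933d9aaa980410c2e, 0xbb14d3bcab902d4ac113499c408871, 0x29ed82232a16a9b1d935986413837]

theorem tO2_ok : tO2.all (fun c => pres c && act c oct0 == oct0 && img c 4 == 4) = true := by decide +kernel
theorem tO3_ok : tO3.all (fun c => pres c && act c oct0 == oct0 && img c 4 == 4 && img c 6 == 6) = true := by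
  decide +kernel
theorem tO4_ok : tO4.all (fun c => pres c && act c oct0 == oct0 && img c 4 == 4 && img c 6 == 6) = true := by
  decide +kernel
theorem tO2_cov : ∀ i < 24, oct0.testBit i = false → i ≠ 4 → ∃ c ∈ tO2, img c 6 = i := by decide +kernel
theorem tO3_cov : ∀ i < 24, oct0.testBit i = false → i ≠ 4 → i ≠ 6 → ∃ c ∈ tO3, img c 7 = i := by decide +kernel
theorem tO4_cov : ∀ i < 24, oct0.testBit i = true → ∃ c ∈ tO4, img c 0 = i := by decide +kernel

theorem act_oct0 {c : ℕ} (hc : pres c = true) (h : act c oct0 = oct0) : pm c • st oct0 = st oct0 := by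
  rw [pm_smul_st (pres_valid hc), h]

theorem notMem_st {m : ℕ} {p : GolayPt} : p ∉ st m ↔ m.testBit (ix p) = false := by
  rw [mem_st, Bool.not_eq_true]

theorem smul_eq_of_fix {O : Finset GolayPt} {k : Equiv.Perm GolayPt} (h1 : ∀ x ∈ O, k x = x) : k • O = O := by
  ext x
  rw [mem_smul_iff]
  constructor
  · intro hx
    have h3 := h1 _ hx
    rw [Equiv.apply_symm_apply] at h3
    rw [h3]; exact hx
  · intro hx
    have h4 : k.symm x = x := by
      conv_lhs => rw [← h1 x hx]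
      exact Equiv.symm_apply_apply k x
    rw [h4]; exact hx

theorem out_std1 {O : Finset GolayPt} (hO : O ∈ octads) {p : GolayPt} (hp : p ∉ O) :
    ∃ g ∈ M24, g • st oct0 = O ∧ g (pt 4) = p := by
  obtain ⟨g, hg, e⟩ := octads_transitive oct0_mem hO
  have h0 : g (pt 4) ∉ O := by
    rw [← e, mem_smul_iff]
    show g.symm (g (pt 4)) ∉ st oct0
    rw [Equiv.symm_apply_apply]; decide +kernel
  obtain ⟨k, hk, h1, h2⟩ := fixOct_trans hO h0 hp
  refine ⟨k * g, M24.mul_mem hk hg, ?_, h2⟩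
  rw [mul_smul, e, smul_eq_of_fix h1]

theorem out_std2 {O : Finset GolayPt} (hO : O ∈ octads) {p q : GolayPt} (hp : p ∉ O) (hq : q ∉ O) (hpq : p ≠ q) :
    ∃ g ∈ M24, g • st oct0 = O ∧ g (pt 4) = p ∧ g (pt 6) = q := by
  obtain ⟨g, hg, e, h0⟩ := out_std1 hO hp
  have h1 : oct0.testBit (ix (g.symm q)) = false := by
    rw [← notMem_st, ← mem_smul_iff, e]; exact hq
  have h2 : ix (g.symm q) ≠ 4 := by
    intro h
    apply hpq
    rw [← h0, ← h, pt_ix]
    exact Equiv.apply_symm_apply g q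
  obtain ⟨c, hc, h3⟩ := tO2_cov _ (ix_lt _) h1 h2
  have h4 := List.all_eq_true.1 tO2_ok c hc
  simp only [Bool.and_eq_true, beq_iff_eq] at h4
  have hv := pres_valid h4.1.1
  refine ⟨g * pm c, M24.mul_mem hg (pm_mem_M24 h4.1.1), ?_, ?_, ?_⟩
  · rw [mul_smul, act_oct0 h4.1.1 h4.1.2, e]
  · rw [Equiv.Perm.mul_apply, pm_pt hv (by norm_num), h4.2, h0]
  · rw [Equiv.Perm.mul_apply, pm_pt hv (by norm_num), h3, pt_ix]
    exact Equiv.apply_symm_apply g q

theorem out_std3 {O : Finset GolayPt} (hO : O ∈ octads) {p q r : GolayPt} (hp : p ∉ O) (hq : q ∉ O) (hr : r ∉ O)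
    (hpq : p ≠ q) (hpr : p ≠ r) (hqr : q ≠ r) :
    ∃ g ∈ M24, g • st oct0 = O ∧ g (pt 4) = p ∧ g (pt 6) = q ∧ g (pt 7) = r := by
  obtain ⟨g, hg, e, h0, h0'⟩ := out_std2 hO hp hq hpq
  have h1 : oct0.testBit (ix (g.symm r)) = false := by
    rw [← notMem_st, ← mem_smul_iff, e]; exact hr
  have h2 : ix (g.symm r) ≠ 4 := by
    intro h
    apply hpr
    rw [← h0, ← h, pt_ix]
    exact Equiv.apply_symm_apply g r
  have h2' : ix (g.symm r) ≠ 6 := by
    intro h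
    apply hqr
    rw [← h0', ← h, pt_ix]
    exact Equiv.apply_symm_apply g r
  obtain ⟨c, hc, h3⟩ := tO3_cov _ (ix_lt _) h1 h2 h2'
  have h4 := List.all_eq_true.1 tO3_ok c hc
  simp only [Bool.and_eq_true, beq_iff_eq] at h4
  have hv := pres_valid h4.1.1.1
  refine ⟨g * pm c, M24.mul_mem hg (pm_mem_M24 h4.1.1.1), ?_, ?_, ?_, ?_⟩
  · rw [mul_smul, act_oct0 h4.1.1.1 h4.1.1.2, e]
  · rw [Equiv.Perm.mul_apply, pm_pt hv (by norm_num), h4.1.2, h0]
  · rw [Equiv.Perm.mul_apply, pm_pt hv (by norm_num), h4.2, h0']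
  · rw [Equiv.Perm.mul_apply, pm_pt hv (by norm_num), h3, pt_ix]
    exact Equiv.apply_symm_apply g r

theorem out_std2_in {O : Finset GolayPt} (hO : O ∈ octads) {p q x : GolayPt} (hp : p ∉ O) (hq : q ∉ O) (hx : x ∈ O)
    (hpq : p ≠ q) :
    ∃ g ∈ M24, g • st oct0 = O ∧ g (pt 4) = p ∧ g (pt 6) = q ∧ g (pt 0) = x := by
  obtain ⟨g, hg, e, h0, h0'⟩ := out_std2 hO hp hq hpq
  have h1 : oct0.testBit (ix (g.symm x)) = true := by
    rw [← mem_st, ← mem_smul_iff, e]; exact hx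
  obtain ⟨c, hc, h3⟩ := tO4_cov _ (ix_lt _) h1
  have h4 := List.all_eq_true.1 tO4_ok c hc
  simp only [Bool.and_eq_true, beq_iff_eq] at h4
  have hv := pres_valid h4.1.1.1
  refine ⟨g * pm c, M24.mul_mem hg (pm_mem_M24 h4.1.1.1), ?_, ?_, ?_, ?_⟩
  · rw [mul_smul, act_oct0 h4.1.1.1 h4.1.1.2, e]
  · rw [Equiv.Perm.mul_apply, pm_pt hv (by norm_num), h4.1.2, h0]
  · rw [Equiv.Perm.mul_apply, pm_pt hv (by norm_num), h4.2, h0']
  · rw [Equiv.Perm.mul_apply, pm_pt hv (by norm_num), h3, pt_ix]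
    exact Equiv.apply_symm_apply g x

section
variable {O O' : Finset GolayPt} (hO : O ∈ octads) (hO' : O' ∈ octads)
include hO hO'

theorem oct_out2 {p q p' q' : GolayPt} (hp : p ∉ O) (hq : q ∉ O) (hpq : p ≠ q)
    (hp' : p' ∉ O') (hq' : q' ∉ O') (hpq' : p' ≠ q') : ∃ g ∈ M24, g • O = O' ∧ g p = p' ∧ g q = q' := by
  obtain ⟨g, hg, h1, h2, h3⟩ := out_std2 hO hp hq hpq
  obtain ⟨k, hk, h1', h2', h3'⟩ := out_std2 hO' hp' hq' hpq'
  refine ⟨k * g⁻¹, M24.mul_mem hk (M24.inv_mem hg), ?_, ?_, ?_⟩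
  · rw [mul_smul, ← h1, inv_smul_smul, h1']
  · rw [← h2]; show k (g.symm (g _)) = _; rw [Equiv.symm_apply_apply, h2']
  · rw [← h3]; show k (g.symm (g _)) = _; rw [Equiv.symm_apply_apply, h3']

theorem oct_out3 {p q r p' q' r' : GolayPt} (hp : p ∉ O) (hq : q ∉ O) (hr : r ∉ O) (hpq : p ≠ q) (hpr : p ≠ r)
    (hqr : q ≠ r) (hp' : p' ∉ O') (hq' : q' ∉ O') (hr' : r' ∉ O') (hpq' : p' ≠ q') (hpr' : p' ≠ r')
    (hqr' : q' ≠ r') : ∃ g ∈ M24, g • O = O' ∧ g p = p' ∧ g q = q' ∧ g r = r' := by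
  obtain ⟨g, hg, h1, h2, h3, h4⟩ := out_std3 hO hp hq hr hpq hpr hqr
  obtain ⟨k, hk, h1', h2', h3', h4'⟩ := out_std3 hO' hp' hq' hr' hpq' hpr' hqr'
  refine ⟨k * g⁻¹, M24.mul_mem hk (M24.inv_mem hg), ?_, ?_, ?_, ?_⟩
  · rw [mul_smul, ← h1, inv_smul_smul, h1']
  · rw [← h2]; show k (g.symm (g _)) = _; rw [Equiv.symm_apply_apply, h2']
  · rw [← h3]; show k (g.symm (g _)) = _; rw [Equiv.symm_apply_apply, h3']
  · rw [← h4]; show k (g.symm (g _)) = _; rw [Equiv.symm_apply_apply, h4']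

theorem oct_out2_in {p q x p' q' x' : GolayPt} (hp : p ∉ O) (hq : q ∉ O) (hx : x ∈ O) (hpq : p ≠ q)
    (hp' : p' ∉ O') (hq' : q' ∉ O') (hx' : x' ∈ O') (hpq' : p' ≠ q') :
    ∃ g ∈ M24, g • O = O' ∧ g p = p' ∧ g q = q' ∧ g x = x' := by
  obtain ⟨g, hg, h1, h2, h3, h4⟩ := out_std2_in hO hp hq hx hpq
  obtain ⟨k, hk, h1', h2', h3', h4'⟩ := out_std2_in hO' hp' hq' hx' hpq'
  refine ⟨k * g⁻¹, M24.mul_mem hk (M24.inv_mem hg), ?_, ?_, ?_, ?_⟩
  · rw [mul_smul, ← h1, inv_smul_smul, h1']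
  · rw [← h2]; show k (g.symm (g _)) = _; rw [Equiv.symm_apply_apply, h2']
  · rw [← h3]; show k (g.symm (g _)) = _; rw [Equiv.symm_apply_apply, h3']
  · rw [← h4]; show k (g.symm (g _)) = _; rw [Equiv.symm_apply_apply, h4']

/-- transitivity on sequences of at most five points inside -/
theorem oct_in {k : ℕ} (hk : k ≤ 5) {x y : ℕ → GolayPt} (hx : ∀ i < k, x i ∈ O) (hxd : ∀ i < k, ∀ j < i, x j ≠ x i)
    (hy : ∀ i < k, y i ∈ O') (hyd : ∀ i < k, ∀ j < i, y j ≠ y i) :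
    ∃ g ∈ M24, g • O = O' ∧ ∀ i < k, g (x i) = y i := by
  have hext : ∀ {O : Finset GolayPt} (_ : O ∈ octads) {x : ℕ → GolayPt} (_ : ∀ i < k, x i ∈ O)
      (_ : ∀ i < k, ∀ j < i, x j ≠ x i), ∃ z : ℕ → GolayPt, (∀ i < k, z i = x i) ∧ (∀ i < 5, z i ∈ O) ∧
        ∀ i < 5, ∀ j < i, z j ≠ z i := by
    intro O hO x hx hxd
    obtain ⟨w, hw1, hw2⟩ := exists_seq5 (n := 5 - k) (s := O \ ((Finset.range k).image x)) (by
      have h1 : ((Finset.range k).image x).card ≤ k := le_trans Finset.card_image_le (by simp)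
      have h3 : ((Finset.range k).image x) ⊆ O := by
        intro p hp
        obtain ⟨i, hi, rfl⟩ := Finset.mem_image.1 hp
        exact hx i (Finset.mem_range.1 hi)
      rw [Finset.card_sdiff_of_subset h3, (mem_octads.1 hO).2]
      omega)
    have hw3 : ∀ i < 5 - k, w i ∈ O ∧ ∀ j < k, x j ≠ w i := by
      intro i hi
      have h4 := hw1 i hi
      rw [Finset.mem_sdiff] at h4
      exact ⟨h4.1, fun j hj e => h4.2 (e ▸ Finset.mem_image_of_mem x (Finset.mem_range.2 hj))⟩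
    refine ⟨fun i => if i < k then x i else w (i - k), fun i hi => by simp [hi], ?_, ?_⟩
    · intro i hi
      show (if i < k then x i else w (i - k)) ∈ O
      split_ifs with h
      · exact hx i h
      · exact (hw3 (i - k) (by omega)).1
    · intro i hi j hj
      show (if j < k then x j else w (j - k)) ≠ (if i < k then x i else w (i - k))
      split_ifs with h1 h2 h2
      · exact hxd i h2 j hj
      · exact (hw3 (i - k) (by omega)).2 j h1
      · omega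
      · exact hw2 (i - k) (by omega) (j - k) (by omega)
  obtain ⟨z, z1, z2, z3⟩ := hext hO hx hxd
  obtain ⟨w, w1, w2, w3⟩ := hext hO' hy hyd
  obtain ⟨g, hg, h⟩ := exists_map_seq5 z w z3 w3
  refine ⟨g, hg, ?_, fun i hi => by rw [← z1 i hi, h i (by omega), w1 i hi]⟩
  refine octad_eq (smul_mem_octads hg hO) hO' ?_
  have h1 : (Finset.range 5).image w ⊆ g • O ∩ O' := by
    intro p hp
    obtain ⟨i, hi, rfl⟩ := Finset.mem_image.1 hp
    rw [Finset.mem_range] at hi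
    rw [Finset.mem_inter]
    refine ⟨?_, w2 i hi⟩
    rw [← h i hi, mem_smul_iff]
    show g.symm (g (z i)) ∈ O
    rw [Equiv.symm_apply_apply]; exact z2 i hi
  have h2 : ((Finset.range 5).image w).card = 5 := by
    rw [Finset.card_image_of_injOn, Finset.card_range]
    intro i hi j hj e
    simp only [Finset.coe_range, Set.mem_Iio] at hi hj
    by_contra hne
    rcases Nat.lt_or_gt_of_ne hne with h3 | h3
    · exact w3 j hj i h3 e
    · exact w3 i hi j h3 e.symm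
  rw [← h2]
  exact Finset.card_le_card h1

/-- sequences inside and one point outside -/
theorem oct_in_out {k : ℕ} (hk : k ≤ 5) {x y : ℕ → GolayPt} (hx : ∀ i < k, x i ∈ O)
    (hxd : ∀ i < k, ∀ j < i, x j ≠ x i) (hy : ∀ i < k, y i ∈ O') (hyd : ∀ i < k, ∀ j < i, y j ≠ y i)
    {p q : GolayPt} (hp : p ∉ O) (hq : q ∉ O') :
    ∃ g ∈ M24, g • O = O' ∧ (∀ i < k, g (x i) = y i) ∧ g p = q := by
  obtain ⟨g, hg, e, h⟩ := oct_in hO hO' hk hx hxd hy hyd
  have hgp : g p ∉ O' := by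
    rw [← e, mem_smul_iff]
    show g.symm (g p) ∉ O
    rw [Equiv.symm_apply_apply]; exact hp
  obtain ⟨l, hl, h1, h2⟩ := fixOct_trans hO' hgp hq
  have h3 : l • O' = O' := smul_eq_of_fix h1
  refine ⟨l * g, M24.mul_mem hl hg, by rw [mul_smul, e, h3], fun i hi => ?_, h2⟩
  rw [Equiv.Perm.mul_apply, h i hi, h1 _ (hy i hi)]

end

end Cfsg.Agent.Lib.Golay
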