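import Cfsg.Agent.Lib.Golay.LeechShape
import Cfsg.Agent.Lib.Golay.Oct2
import Cfsg.Agent.Lib.Golay.Elem

/-!
The automorphism group of the rank-24 lattice is transitive on pairs of orthogonal minimal vectors.
-/

set_option autoImplicit false

namespace Cfsg.Agent.Lib.Golay

open scoped Pointwise
open Cfsg Finset

/-! ### equivalence of tuples of vectors -/

/-- two lists of vectors correspond under a lattice automorphism -/
def Eqv (l l' : List Vec) : Prop := ∃ g : Co0, l.map (app g) = l'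

theorem Eqv.refl (l : List Vec) : Eqv l l := ⟨1, by
  conv_rhs => rw [← List.map_id l]
  apply List.map_congr_left
  intro x _; exact app_one x⟩

theorem Eqv.symm {l l' : List Vec} (h : Eqv l l') : Eqv l' l := by
  obtain ⟨g, rfl⟩ := h
  refine ⟨g⁻¹, ?_⟩
  rw [List.map_map]
  conv_rhs => rw [← List.map_id l]
  apply List.map_congr_left
  intro x _; exact app_inv_app g x

theorem Eqv.trans {l l' l'' : List Vec} (h : Eqv l l') (h' : Eqv l' l'') : Eqv l l'' := by
  obtain ⟨g, rfl⟩ := h
  obtain ⟨k, rfl⟩ := h'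
  refine ⟨k * g, ?_⟩
  rw [List.map_map]
  apply List.map_congr_left
  intro x _; exact app_mul k g x

theorem Eqv.sgn {l : List Vec} (hl : ∀ x ∈ l, x ∈ leechLattice) {c : Finset GolayPt} (hc : IsWord c) :
    Eqv l (l.map (sgn c)) := by
  obtain ⟨g, hg⟩ := exists_sgn hc
  exact ⟨g, List.map_congr_left (fun x hx => hg x (hl x hx))⟩

theorem Eqv.prm {l : List Vec} (hl : ∀ x ∈ l, x ∈ leechLattice) {σ : Equiv.Perm GolayPt} (hσ : σ ∈ M24) :
    Eqv l (l.map (prm σ)) := by
  obtain ⟨g, hg⟩ := exists_prm hσ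
  exact ⟨g, List.map_congr_left (fun x hx => hg x (hl x hx))⟩

theorem Eqv.xi {l : List Vec} (hl : ∀ x ∈ l, x ∈ leechLattice) (J : Fin 6) : Eqv l (l.map (xi J)) := by
  obtain ⟨g, hg⟩ := exists_xi J
  exact ⟨g, List.map_congr_left (fun x hx => hg x (hl x hx))⟩

theorem Eqv.neg {l : List Vec} (hl : ∀ x ∈ l, x ∈ leechLattice) : Eqv l (l.map (fun x => -x)) := by
  obtain ⟨g, hg⟩ := exists_neg
  exact ⟨g, List.map_congr_left (fun x hx => hg x (hl x hx))⟩

/-! ### action on special vectors -/

/-- a vector with one nonzero coordinate -/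
def sg (i : GolayPt) (s : ℤ) : Vec := fun p => if p = i then s else 0

theorem prm_sg (σ : Equiv.Perm GolayPt) (i : GolayPt) (s : ℤ) : prm σ (sg i s) = sg (σ i) s := by
  ext p
  show (if σ.symm p = i then s else 0) = if p = σ i then s else 0
  simp only [Equiv.symm_apply_eq]

theorem prm_add (σ : Equiv.Perm GolayPt) (x y : Vec) : prm σ (x + y) = prm σ x + prm σ y := rfl

theorem sgn_add (c : Finset GolayPt) (x y : Vec) : sgn c (x + y) = sgn c x + sgn c y := by
  ext p
  unfold Golay.sgn
  simp only [Pi.add_apply]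
  split_ifs <;> ring

theorem sgn_sg_of_notMem {c : Finset GolayPt} {i : GolayPt} (h : i ∉ c) (s : ℤ) : sgn c (sg i s) = sg i s := by
  ext p
  unfold Golay.sgn sg
  by_cases hp : p = i
  · rw [if_neg (by rw [hp]; exact h)]
  · simp [hp]

theorem sgn_sg_of_mem {c : Finset GolayPt} {i : GolayPt} (h : i ∈ c) (s : ℤ) : sgn c (sg i s) = sg i (-s) := by
  ext p
  unfold Golay.sgn sg
  by_cases hp : p = i
  · rw [if_pos (by rw [hp]; exact h)]; simp [hp]
  · simp [hp]

/-- the vector with 2 on a set -/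
def r8 (O : Finset GolayPt) : Vec := fun p => if p ∈ O then 2 else 0

/-- the vector with -3 at one point and 1 elsewhere -/
def rO (j : GolayPt) : Vec := fun p => if p = j then -3 else 1

theorem prm_r8 (σ : Equiv.Perm GolayPt) (O : Finset GolayPt) : prm σ (r8 O) = r8 (σ • O) := by
  ext p
  show (if σ.symm p ∈ O then (2 : ℤ) else 0) = if p ∈ σ • O then 2 else 0
  simp only [mem_smul_iff]

theorem prm_rO (σ : Equiv.Perm GolayPt) (j : GolayPt) : prm σ (rO j) = rO (σ j) := by
  ext p
  show (if σ.symm p = j then (-3 : ℤ) else 1) = if p = σ j then -3 else 1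
  simp only [Equiv.symm_apply_eq]

theorem Sh4.norm {x : Vec} {i j : GolayPt} (h : Sh4 x i j) : x = sg i (x i) + sg j (x j) := by
  obtain ⟨hij, h1, h2, h3⟩ := h
  ext p
  unfold sg
  simp only [Pi.add_apply]
  by_cases hi : p = i
  · subst hi; simp [hij]
  · by_cases hj : p = j
    · subst hj; simp [hi]
    · simp [hi, hj, h3 p hi hj]

theorem sg_add_mem {i j : GolayPt} (hij : i ≠ j) {s t : ℤ} (hs : s = 4 ∨ s = -4) (ht : t = 4 ∨ t = -4) :
    sg i s + sg j t ∈ leechLattice := by
  refine mem_leech.2 ⟨0, ?_, ?_, ?_⟩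
  · intro p
    unfold sg
    simp only [Pi.add_apply]
    split_ifs <;> omega
  · have h1 : ∑ p, (sg i s + sg j t) p = s + t := by
      simp only [Pi.add_apply, sum_add_distrib]
      unfold sg
      simp
    rw [h1]; omega
  · have : cls (sg i s + sg j t) (0 + 2) = ∅ := by
      ext p
      rw [mem_cls]
      unfold sg
      simp only [Pi.add_apply, Finset.notMem_empty, iff_false]
      split_ifs with h1 h2 h2
      · exact absurd (h1.symm.trans h2) hij
      · omega
      · omega
      · omega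
    rw [this]; exact isWord_empty

/-- sign normalisation for the shape (4,4), keeping a few points -/
theorem Sh4.sgn {x : Vec} {i j : GolayPt} (h : Sh4 x i j) {Z : Finset GolayPt} (hZ : Z.card ≤ 5)
    (hp : ∀ k ∈ Z, 0 ≤ x k) : ∃ c, IsWord c ∧ (∀ k ∈ Z, k ∉ c) ∧ sgn c x = sg i 4 + sg j 4 := by
  obtain ⟨c, hc, e⟩ := exists_word_small (A := {i, j} ∪ Z) (E := ({i, j} : Finset GolayPt).filter (fun k => x k = -4))
    (by have := card_union_le ({i, j} : Finset GolayPt) Z
        have := card_le_two (a := i) (b := j); omega)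
    (by intro k hk; rw [mem_filter] at hk; exact mem_union_left _ hk.1)
  have hkey : ∀ k, k ∈ ({i, j} : Finset GolayPt) ∪ Z → (k ∈ c ↔ (k = i ∨ k = j) ∧ x k = -4) := by
    intro k hk
    have := congrArg (fun s => k ∈ s) e
    simp only [mem_inter, hk, and_true, mem_filter, mem_insert, mem_singleton] at this
    rw [this]
  refine ⟨c, hc, fun k hk hkc => ?_, ?_⟩
  · have h1 := (hkey k (mem_union_right _ hk)).1 hkc
    have h2 := hp k hk
    omega
  · have hki := hkey i (mem_union_left _ (by simp))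
    have hkj := hkey j (mem_union_left _ (by simp))
    conv_lhs => rw [h.norm]
    rw [sgn_add]
    obtain ⟨hij, h1, h2, h3⟩ := h
    congr 1
    · rcases h1 with h1 | h1
      · rw [h1, sgn_sg_of_notMem]
        intro hc; have := hki.1 hc; omega
      · rw [h1, sgn_sg_of_mem (hki.2 ⟨Or.inl rfl, h1⟩)]; norm_num
    · rcases h2 with h2 | h2
      · rw [h2, sgn_sg_of_notMem]
        intro hc; have := hkj.1 hc; omega
      · rw [h2, sgn_sg_of_mem (hkj.2 ⟨Or.inr rfl, h2⟩)]; norm_num

/-- sign normalisation for octad vectors, keeping a few points -/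
theorem Sh8.sgn {x : Vec} (hx : x ∈ leechLattice) {O : Finset GolayPt} (h : Sh8 x O) {Z : Finset GolayPt}
    (hZ : (Z \ O).card < 4) (hp : ∀ k ∈ Z, 0 ≤ x k) :
    ∃ c, IsWord c ∧ (∀ k ∈ Z, k ∉ c) ∧ Golay.sgn c x = r8 O := by
  have hev := h.minus_even hx
  obtain ⟨hO, h2, h0⟩ := h
  obtain ⟨c, hc, e⟩ := exists_word_octad hO hZ (E := O.filter (fun i => x i = -2))
    (by intro k hk; rw [mem_filter] at hk; exact mem_union_left _ hk.1)
    (by
      have : O.filter (fun i => x i = -2) ∩ O = O.filter (fun i => x i = -2) := by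
        rw [inter_eq_left]; exact filter_subset _ _
      rw [this]; exact hev)
  have hkey : ∀ k, k ∈ O ∪ (Z \ O) → (k ∈ c ↔ k ∈ O ∧ x k = -2) := by
    intro k hk
    have := congrArg (fun s => k ∈ s) e
    simp only [mem_inter, hk, and_true, mem_filter] at this
    rw [this]
  refine ⟨c, hc, fun k hk hkc => ?_, ?_⟩
  · have hkm : k ∈ O ∪ (Z \ O) := by
      by_cases hkO : k ∈ O
      · exact mem_union_left _ hkO
      · exact mem_union_right _ (mem_sdiff.2 ⟨hk, hkO⟩)
    have h1 := (hkey k hkm).1 hkc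
    have h2 := hp k hk
    omega
  · ext p
    unfold Golay.sgn r8
    by_cases hpO : p ∈ O
    · have h3 := hkey p (mem_union_left _ hpO)
      rw [if_pos hpO]
      rcases h2 p hpO with h4 | h4
      · rw [if_neg (fun hc => by have := h3.1 hc; omega), h4]
      · rw [if_pos (h3.2 ⟨hpO, h4⟩), h4]; norm_num
    · rw [if_neg hpO, h0 p hpO]; simp

/-- sign normalisation for odd minimal vectors -/
theorem ShO.sgn {x : Vec} {j : GolayPt} (h : ShO x j) : Golay.sgn (cls x 3) x = rO j := by
  obtain ⟨h1, h2⟩ := h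
  ext p
  unfold Golay.sgn rO
  by_cases hp : p = j
  · subst hp
    rw [if_pos rfl]
    rcases h1 with h1 | h1
    · rw [if_pos (by rw [mem_cls, h1]; norm_num), h1]
    · rw [if_neg (by rw [mem_cls, h1]; norm_num), h1]
  · rw [if_neg hp]
    rcases h2 p hp with h3 | h3
    · rw [if_neg (by rw [mem_cls, h3]; norm_num), h3]
    · rw [if_pos (by rw [mem_cls, h3]; norm_num), h3]; norm_num

theorem ShO.inL {x : Vec} (hx : x ∈ leechLattice) {j : GolayPt} (h : ShO x j) : InL x 1 := by
  rcases mem_leech'.1 hx with hI | hI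
  · exfalso
    have := hI.1 j
    rcases h.1 with h1 | h1 <;> rw [h1] at this <;> omega
  · exact hI

theorem r8_mem {O : Finset GolayPt} (hO : O ∈ octads) : r8 O ∈ leechLattice := by
  have hw := mem_octads.1 hO
  refine mem_leech.2 ⟨0, ?_, ?_, ?_⟩
  · intro p; unfold r8; split_ifs <;> omega
  · have : ∑ p, r8 O p = 16 := by
      unfold r8
      rw [← sum_filter, sum_const, filter_mem_eq_inter, univ_inter, hw.2]; norm_num
    rw [this]; norm_num
  · have : cls (r8 O) (0 + 2) = O := by
      ext p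
      rw [mem_cls]
      unfold r8
      split_ifs with h <;> simp [h]
    rw [this]; exact hw.1

theorem rO_mem (j : GolayPt) : rO j ∈ leechLattice := by
  refine mem_leech.2 ⟨1, ?_, ?_, ?_⟩
  · intro p; unfold rO; split_ifs <;> omega
  · have : ∑ p, rO j p = 20 := by
      have h1 : ∀ p, rO j p = 1 + (if p = j then -4 else 0) := by
        intro p; unfold rO; split_ifs <;> norm_num
      rw [sum_congr rfl (fun p _ => h1 p), sum_add_distrib, sum_const, card_univ, card_golayPt]
      simp
    rw [this]; norm_num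
  · have : cls (rO j) (1 + 2) = ∅ := by
      ext p
      rw [mem_cls]
      unfold rO
      split_ifs <;> simp
    rw [this]; exact isWord_empty

/-! ### base vectors -/

/-- first base point -/
abbrev pa : GolayPt := pt 23

/-- second base point -/
abbrev pb : GolayPt := pt 0

theorem pa_ne_pb : pa ≠ pb := by decide

/-- the vector (4, -4, 0, ...) -/
def v0 : Vec := sg pa 4 + sg pb (-4)

/-- the vector (4, 4, 0, ...) -/
def x0 : Vec := sg pa 4 + sg pb 4

theorem v0_mem : v0 ∈ leechLattice := sg_add_mem pa_ne_pb (Or.inl rfl) (Or.inr rfl)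
theorem x0_mem : x0 ∈ leechLattice := sg_add_mem pa_ne_pb (Or.inl rfl) (Or.inl rfl)

theorem dot_sg (i : GolayPt) (s : ℤ) (x : Vec) : dotInt (sg i s) x = s * x i := by
  unfold dotInt sg
  simp

theorem dot_v0 (x : Vec) : dotInt v0 x = 4 * x pa - 4 * x pb := by
  unfold v0
  rw [dotInt_add_left, dot_sg, dot_sg]; ring

theorem dot_x0 (x : Vec) : dotInt x0 x = 4 * x pa + 4 * x pb := by
  unfold x0
  rw [dotInt_add_left, dot_sg, dot_sg]

theorem sgn_v0 {c : Finset GolayPt} (ha : pa ∉ c) (hb : pb ∉ c) : sgn c v0 = v0 := by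
  unfold v0
  rw [sgn_add, sgn_sg_of_notMem ha, sgn_sg_of_notMem hb]

theorem sgn_x0 {c : Finset GolayPt} (ha : pa ∉ c) (hb : pb ∉ c) : sgn c x0 = x0 := by
  unfold x0
  rw [sgn_add, sgn_sg_of_notMem ha, sgn_sg_of_notMem hb]

theorem prm_v0 {σ : Equiv.Perm GolayPt} (ha : σ pa = pa) (hb : σ pb = pb) : prm σ v0 = v0 := by
  unfold v0
  rw [prm_add, prm_sg, prm_sg, ha, hb]

theorem prm_x0 {σ : Equiv.Perm GolayPt} (ha : σ pa = pa) (hb : σ pb = pb) : prm σ x0 = x0 := by
  unfold x0
  rw [prm_add, prm_sg, prm_sg, ha, hb]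

theorem tau_pa : tau pa = 0 := by decide +kernel
theorem tau_pb : tau pb = 0 := by decide +kernel

theorem xi_v0 {J : Fin 6} (hJ : J ≠ 0) : xi J v0 = v0 := by
  have h0 : ∀ j, tS v0 j = 0 := by
    intro j
    unfold tS v0 sg
    simp only [Pi.add_apply, sum_add_distrib, sum_ite_eq']
    have ha : pa ∈ tq j ↔ j = 0 := by unfold tq; rw [mem_filter, tau_pa]; simp [eq_comm]
    have hb : pb ∈ tq j ↔ j = 0 := by unfold tq; rw [mem_filter, tau_pb]; simp [eq_comm]
    rw [if_congr ha rfl rfl, if_congr hb rfl rfl]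
    split_ifs <;> norm_num
  ext p
  unfold Golay.xi tH
  rw [h0]
  simp only [Int.zero_ediv, sub_zero]
  by_cases hp : tau p = J
  · rw [if_pos hp]
    have h1 : p ≠ pa := by rintro rfl; exact hJ (hp.symm.trans tau_pa)
    have h2 : p ≠ pb := by rintro rfl; exact hJ (hp.symm.trans tau_pb)
    unfold v0 sg
    simp [h1, h2]
  · rw [if_neg hp]

/-- flipping: there is an automorphism fixing `v0` and sending `w` to a vector with opposite base coordinates -/
theorem flip {w : Vec} (hw : w ∈ leechLattice) : ∃ w' : Vec, w' ∈ leechLattice ∧ Eqv [v0, w] [v0, w'] ∧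
    w' pa = -w pb ∧ w' pb = -w pa := by
  obtain ⟨σ, hσ, h1, h2⟩ := exists_map_pair (p := pa) (q := pb) (p' := pb) (q' := pa) pa_ne_pb pa_ne_pb.symm
  obtain ⟨g, hg⟩ := exists_prm hσ
  obtain ⟨k, hk⟩ := exists_neg
  have h3 := app_mem g hw
  have h4 := app_mem g v0_mem
  refine ⟨app k (app g w), app_mem k h3, ⟨k * g, ?_⟩, ?_, ?_⟩
  · simp only [List.map_cons, List.map_nil, app_mul]
    congr 1
    rw [hk _ h4, hg _ v0_mem]
    unfold v0
    rw [prm_add, prm_sg, prm_sg, h1, h2]
    ext p
    unfold sg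
    simp only [Pi.neg_apply, Pi.add_apply]
    split_ifs <;> norm_num
  · rw [hk _ h3, hg _ hw, Pi.neg_apply]
    conv_lhs => rw [← h2]
    rw [prm_apply]
  · rw [hk _ h3, hg _ hw, Pi.neg_apply]
    conv_lhs => rw [← h1]
    rw [prm_apply]

theorem Eqv.mem {l l' : List Vec} (h : Eqv l l') (hl : ∀ x ∈ l, x ∈ leechLattice) : ∀ x ∈ l', x ∈ leechLattice := by
  obtain ⟨g, rfl⟩ := h
  intro x hx
  obtain ⟨y, hy, rfl⟩ := List.mem_map.1 hx
  exact app_mem g (hl y hy)

/-- the shape (4,4) away from the base points -/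
theorem fuse4 {w : Vec} (hw : w ∈ leechLattice) {i j : GolayPt} (h : Sh4 w i j) (hia : i ≠ pa) (hib : i ≠ pb)
    (hja : j ≠ pa) (hjb : j ≠ pb) : Eqv [v0, w] [v0, x0] := by
  have ha0 : w pa = 0 := h.2.2.2 pa hia.symm hja.symm
  have hb0 : w pb = 0 := h.2.2.2 pb hib.symm hjb.symm
  obtain ⟨c, hc, hZ, e⟩ := h.sgn (Z := {pa, pb}) (by decide) (by
    intro k hk
    simp only [mem_insert, mem_singleton] at hk
    rcases hk with rfl | rfl
    · rw [ha0]
    · rw [hb0])
  have hmem : ∀ x ∈ [v0, w], x ∈ leechLattice := by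
    intro x hx; simp only [List.mem_cons, List.not_mem_nil, or_false] at hx
    rcases hx with rfl | rfl
    · exact v0_mem
    · exact hw
  have s1 := Eqv.sgn hmem hc
  simp only [List.map_cons, List.map_nil, e, sgn_v0 (hZ pa (by simp)) (hZ pb (by simp))] at s1
  obtain ⟨σ, hσ, h1, h2, h3, h4⟩ := exists_map_four (a := pa) (b := pb) (c := i) (d := j) (a' := pa) (b' := pb)
    (c' := pt 1) (d' := pt 2) (by
      simp only [List.nodup_cons, List.mem_cons, List.not_mem_nil, or_false, not_or, List.nodup_nil, and_true,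
        not_false_eq_true]
      exact ⟨⟨pa_ne_pb, hia.symm, hja.symm⟩, ⟨hib.symm, hjb.symm⟩, h.1⟩) (by decide)
  have s2 := Eqv.prm (s1.mem hmem) hσ
  simp only [List.map_cons, List.map_nil, prm_add, prm_sg, h3, h4, prm_v0 h1 h2] at s2
  have s3 := Eqv.xi (s2.mem (s1.mem hmem)) 1
  simp only [List.map_cons, List.map_nil, xi_v0 (by decide : (1 : Fin 6) ≠ 0)] at s3
  have e3 : xi 1 (sg (pt 1) 4 + sg (pt 2) 4) = -x0 := by
    have e4 : sg (pt 1) 4 + sg (pt 2) 4 = V (fun i => if i = 1 ∨ i = 2 then 4 else 0) := by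
      ext p; revert p; decide +kernel
    have e5 : -x0 = V (fun i => if i = 23 ∨ i = 0 then -4 else 0) := by
      ext p; revert p; decide +kernel
    rw [e4, e5]
    exact xi_V (by decide +kernel)
  rw [e3] at s3
  obtain ⟨w', hw', s4, h5, h6⟩ := flip (neg_mem x0_mem)
  have e6 : w' = x0 := by
    have h7 : sqNorm w' = 32 := by
      obtain ⟨g, hg⟩ := s4
      simp only [List.map_cons, List.map_nil, List.cons.injEq, and_true] at hg
      rw [← hg.2, app_norm g (neg_mem x0_mem), sqNorm_neg]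
      rw [← dotInt_self, dot_x0]; decide +kernel
    have hx1 : x0 pa = 4 := by decide +kernel
    have hx2 : x0 pb = 4 := by decide +kernel
    rw [Pi.neg_apply, hx2] at h5
    rw [Pi.neg_apply, hx1] at h6
    have h8 : sqNorm (w' - x0) = 0 := by
      rw [sqNorm_sub, dotInt_comm, dot_x0, h5, h6, h7]
      rw [← dotInt_self, dot_x0, hx1, hx2]; norm_num
    exact sub_eq_zero.1 (sqNorm_eq_zero h8)
  rw [e6] at s4
  exact s1.trans (s2.trans (s3.trans s4))

theorem O8_mem : tq 0 ∪ tq 1 ∈ octads := mem_octads.2 ⟨isWord_pair (by decide), by decide +kernel⟩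
theorem O9_mem : tq 1 ∪ tq 2 ∈ octads := mem_octads.2 ⟨isWord_pair (by decide), by decide +kernel⟩

theorem mem2 {x y : Vec} (hx : x ∈ leechLattice) (hy : y ∈ leechLattice) : ∀ z ∈ [x, y], z ∈ leechLattice := by
  intro z hz; simp only [List.mem_cons, List.not_mem_nil, or_false] at hz
  rcases hz with rfl | rfl
  · exact hx
  · exact hy

/-- octad vectors through the base points -/
theorem fuse8in {w : Vec} (hw : w ∈ leechLattice) {O : Finset GolayPt} (h : Sh8 w O) (ha : w pa = 2) (hb : w pb = 2) :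
    Eqv [v0, w] [v0, r8 (tq 0 ∪ tq 1)] := by
  have haO : pa ∈ O := by by_contra hc; have := h.2.2 _ hc; omega
  have hbO : pb ∈ O := by by_contra hc; have := h.2.2 _ hc; omega
  obtain ⟨c, hc, hZ, e⟩ := h.sgn hw (Z := {pa, pb}) (by
      refine lt_of_le_of_lt (card_le_card sdiff_subset) ?_
      decide) (by
    intro k hk
    simp only [mem_insert, mem_singleton] at hk
    rcases hk with rfl | rfl
    · rw [ha]; norm_num
    · rw [hb]; norm_num)
  have hmem := mem2 v0_mem hw
  have s1 := Eqv.sgn hmem hc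
  simp only [List.map_cons, List.map_nil, e, sgn_v0 (hZ pa (by simp)) (hZ pb (by simp))] at s1
  obtain ⟨σ, hσ, h1, h2⟩ := oct_in h.1 O8_mem (k := 2) (by norm_num) (x := fun i => if i = 0 then pa else pb)
    (y := fun i => if i = 0 then pa else pb)
    (by intro i _; show (if i = 0 then pa else pb) ∈ O; split_ifs <;> assumption)
    (by intro i hi j hj; interval_cases i <;> interval_cases j; exact pa_ne_pb)
    (by intro i _; show (if i = 0 then pa else pb) ∈ tq 0 ∪ tq 1; split_ifs <;> decide +kernel)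
    (by intro i hi j hj; interval_cases i <;> interval_cases j; exact pa_ne_pb)
  have s2 := Eqv.prm (s1.mem hmem) hσ
  simp only [List.map_cons, List.map_nil, prm_r8, h1,
    prm_v0 (show σ pa = pa from h2 0 (by norm_num)) (show σ pb = pb from h2 1 (by norm_num))] at s2
  exact s1.trans s2

/-- octad vectors away from the base points -/
theorem fuse8out {w : Vec} (hw : w ∈ leechLattice) {O : Finset GolayPt} (h : Sh8 w O) (ha : pa ∉ O) (hb : pb ∉ O) :
    Eqv [v0, w] [v0, r8 (tq 1 ∪ tq 2)] := by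
  obtain ⟨c, hc, hZ, e⟩ := h.sgn hw (Z := {pa, pb}) (by
      refine lt_of_le_of_lt (card_le_card sdiff_subset) ?_
      decide) (by
    intro k hk
    simp only [mem_insert, mem_singleton] at hk
    rcases hk with rfl | rfl
    · rw [h.2.2 _ ha]
    · rw [h.2.2 _ hb])
  have hmem := mem2 v0_mem hw
  have s1 := Eqv.sgn hmem hc
  simp only [List.map_cons, List.map_nil, e, sgn_v0 (hZ pa (by simp)) (hZ pb (by simp))] at s1
  obtain ⟨σ, hσ, h1, h2, h3⟩ := oct_out2 h.1 O9_mem ha hb pa_ne_pb (p' := pa) (q' := pb) (by decide +kernel)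
    (by decide +kernel) pa_ne_pb
  have s2 := Eqv.prm (s1.mem hmem) hσ
  simp only [List.map_cons, List.map_nil, prm_r8, h1, prm_v0 h2 h3] at s2
  exact s1.trans s2

/-- odd vectors with base coordinates 1 -/
theorem fuseO {w : Vec} (hw : w ∈ leechLattice) {j : GolayPt} (h : ShO w j) (ha : w pa = 1) (hb : w pb = 1) :
    Eqv [v0, w] [v0, rO (pt 1)] := by
  have hI := h.inL hw
  have hc : IsWord (cls w 3) := hI.2.2
  have hac : pa ∉ cls w 3 := by rw [mem_cls, ha]; norm_num
  have hbc : pb ∉ cls w 3 := by rw [mem_cls, hb]; norm_num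
  have hja : j ≠ pa := by rintro rfl; have := h.1; omega
  have hjb : j ≠ pb := by rintro rfl; have := h.1; omega
  have hmem := mem2 v0_mem hw
  have s1 := Eqv.sgn hmem hc
  simp only [List.map_cons, List.map_nil, h.sgn, sgn_v0 hac hbc] at s1
  obtain ⟨σ, hσ, h1, h2, h3, -⟩ := exists_map_four (a := pa) (b := pb) (c := j) (d := if j = pt 1 then pt 2 else pt 1)
    (a' := pa) (b' := pb) (c' := pt 1) (d' := pt 2) (by
      simp only [List.nodup_cons, List.mem_cons, List.not_mem_nil, or_false, not_or, List.nodup_nil, and_true,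
        not_false_eq_true]
      refine ⟨⟨pa_ne_pb, hja.symm, ?_⟩, ⟨hjb.symm, ?_⟩, ?_⟩
      · split_ifs <;> decide
      · split_ifs <;> decide
      · split_ifs with h
        · rw [h]; decide
        · exact h) (by decide)
  have s2 := Eqv.prm (s1.mem hmem) hσ
  simp only [List.map_cons, List.map_nil, prm_rO, h3, prm_v0 h1 h2] at s2
  exact s1.trans s2

end Cfsg.Agent.Lib.Golay
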