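import Cfsg.Agent.Lib.Golay.LeechShape2

/-!
Pairs and triples of short vectors of the rank-24 lattice up to automorphisms.
-/

set_option autoImplicit false

namespace Cfsg.Agent.Lib.Golay

open scoped Pointwise
open Cfsg Finset

theorem frame {v x : Vec} (hv : v ∈ leechLattice) (hx : x ∈ leechLattice) (hvn : sqNorm v = 32)
    (hxn : sqNorm x = 32) (hd : dotInt v x = 0) : ∃ g : Co0, app g v = v0 ∧ app g x = x0 := by
  obtain ⟨g, hg⟩ := orthPair hv hx hvn hxn hd
  simp only [List.map_cons, List.map_nil, List.cons.injEq, and_true] at hg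
  exact ⟨g, hg⟩

theorem toV0 {v : Vec} (hv : v ∈ leechLattice) (hvn : sqNorm v = 32) : ∃ g : Co0, app g v = v0 := by
  obtain ⟨g, hg⟩ := min_trans hv hvn
  simp only [List.map_cons, List.map_nil, List.cons.injEq, and_true] at hg
  exact ⟨g, hg⟩

theorem v0_pa : v0 pa = 4 := by decide +kernel
theorem v0_pb : v0 pb = -4 := by decide +kernel
theorem x0_pa : x0 pa = 4 := by decide +kernel
theorem x0_pb : x0 pb = 4 := by decide +kernel
theorem norm_v0 : sqNorm v0 = 32 := by rw [← dotInt_self, dot_v0, v0_pa, v0_pb]; norm_num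
theorem norm_x0 : sqNorm x0 = 32 := by rw [← dotInt_self, dot_x0, x0_pa, x0_pb]; norm_num
theorem dot_v0_x0 : dotInt v0 x0 = 0 := by rw [dot_v0, x0_pa, x0_pb]; norm_num

theorem mem3 {x y z : Vec} (hx : x ∈ leechLattice) (hy : y ∈ leechLattice) (hz : z ∈ leechLattice) :
    ∀ t ∈ [x, y, z], t ∈ leechLattice := by
  intro t ht; simp only [List.mem_cons, List.not_mem_nil, or_false] at ht
  rcases ht with rfl | rfl | rfl <;> assumption

/-- extending an equivalence by a vector found after moving the first one -/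
theorem exists_after {v w : Vec} (hv : v ∈ leechLattice) (hw : w ∈ leechLattice) (hvn : sqNorm v = 32)
    {P : ℤ → Prop} (n : ℤ)
    (h : ∀ w' ∈ leechLattice, sqNorm w' = sqNorm w → dotInt v0 w' = dotInt v w →
      ∃ x ∈ leechLattice, sqNorm x = n ∧ dotInt v0 x = 0 ∧ P (dotInt x w')) :
    ∃ x ∈ leechLattice, sqNorm x = n ∧ dotInt v x = 0 ∧ P (dotInt x w) := by
  obtain ⟨g, hg⟩ := toV0 hv hvn
  obtain ⟨x, hx, h1, h2, h3⟩ := h (app g w) (app_mem g hw) (app_norm g hw) (by rw [← hg, app_dot g hv hw])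
  refine ⟨app g⁻¹ x, app_mem _ hx, by rw [app_norm _ hx, h1], ?_, ?_⟩
  · have h4 := app_dot g hv (app_mem g⁻¹ hx)
    rw [app_app_inv, hg] at h4
    rw [← h4, h2]
  · have h4 := app_dot g (app_mem g⁻¹ hx) hw
    rw [app_app_inv] at h4
    rw [← h4]; exact h3

theorem dot_eq_sum_of_zero {x w : Vec} {O : Finset GolayPt} (h : ∀ k, k ∉ O → x k = 0) :
    dotInt x w = ∑ k ∈ O, x k * w k := by
  unfold dotInt
  symm
  apply sum_subset (subset_univ O)
  intro k _ hk
  rw [h k hk, zero_mul]

/-! ### inner product -16 -/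

theorem card_erase_ge {O : Finset GolayPt} {a : GolayPt} : O.card ≤ (O.erase a).card + 1 := by
  have := pred_card_le_card_erase (s := O) (a := a)
  omega

theorem help16 {w : Vec} (hw : w ∈ leechLattice) (hn : sqNorm w = 32) (hd : dotInt v0 w = -16) :
    ∃ x ∈ leechLattice, sqNorm x = 32 ∧ dotInt v0 x = 0 ∧ dotInt x w = 16 := by
  rw [dot_v0] at hd
  rcases shape32 hw hn with ⟨i, j, h⟩ | ⟨O, h⟩ | ⟨j, h⟩
  · have hval : ∀ k, w k = 4 ∨ w k = -4 ∨ w k = 0 := by
      intro k
      by_cases h1 : k = i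
      · subst h1; have := h.2.1; omega
      · by_cases h2 : k = j
        · subst h2; have := h.2.2.1; omega
        · exact Or.inr (Or.inr (h.2.2.2 k h1 h2))
    have h1 := hval pa
    have h2 := hval pb
    rcases (by omega : (w pa = 0 ∧ w pb = 4) ∨ (w pa = -4 ∧ w pb = 0)) with ⟨h3, h4⟩ | ⟨h3, h4⟩
    · exact ⟨x0, x0_mem, norm_x0, dot_v0_x0, by rw [dot_x0, h3, h4]; norm_num⟩
    · exact ⟨-x0, neg_mem x0_mem, by rw [sqNorm_neg, norm_x0], by rw [dotInt_neg_right, dot_v0_x0]; norm_num,
        by rw [dotInt_neg_left, dot_x0, h3, h4]; norm_num⟩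
  · have hval : ∀ k, |w k| = 2 ↔ k ∈ O := by
      intro k
      constructor
      · intro h1
        by_contra h2
        rw [h.2.2 k h2] at h1; norm_num at h1
      · intro h1; exact abs_eq_of (by norm_num) (h.2.1 k h1)
    -- two further points of the octad
    obtain ⟨k, hk, l, hl, hkl⟩ : ∃ k ∈ (O.erase pa).erase pb, ∃ l ∈ (O.erase pa).erase pb, k ≠ l := by
      apply one_lt_card.1
      have h1 := card_erase_ge (O := O) (a := pa)
      have h2 := card_erase_ge (O := O.erase pa) (a := pb)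
      have := (mem_octads.1 h.1).2
      omega
    rw [mem_erase, mem_erase] at hk hl
    obtain ⟨x, hx, h1, h2, h3⟩ := mk4 w hkl
    refine ⟨x, hx, h1, ?_, ?_⟩
    · rw [dot_v0, h3 pa hk.2.1.symm hl.2.1.symm, h3 pb hk.1.symm hl.1.symm]; norm_num
    · rw [h2, (hval k).2 hk.2.2, (hval l).2 hl.2.2]; norm_num
  · have hab : (pa = j ∨ pb = j) := by
      by_contra hc
      push Not at hc
      have h1 := h.2 pa hc.1
      have h2 := h.2 pb hc.2
      omega
    have hI := h.inL hw
    have hO9 := O9_mem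
    have ha : pa ∉ tq 1 ∪ tq 2 := by decide +kernel
    have hb : pb ∉ tq 1 ∪ tq 2 := by decide +kernel
    have hj : j ∉ tq 1 ∪ tq 2 := by rcases hab with rfl | rfl <;> assumption
    refine ⟨sgn (cls w 3) (r8 (tq 1 ∪ tq 2)), sgn_mem (r8_mem hO9) hI.2.2, ?_, ?_, ?_⟩
    · rw [sqNorm_sgn]; decide +kernel
    · rw [dot_v0]
      unfold Golay.sgn r8
      simp [ha, hb]
    · have hz : ∀ k, k ∉ tq 1 ∪ tq 2 → sgn (cls w 3) (r8 (tq 1 ∪ tq 2)) k = 0 := by
        intro k hk
        unfold Golay.sgn r8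
        rw [if_neg hk]; simp
      rw [dot_eq_sum_of_zero hz]
      have h1 : ∀ k ∈ tq 1 ∪ tq 2, sgn (cls w 3) (r8 (tq 1 ∪ tq 2)) k * w k = 2 := by
        intro k hk
        have hkj : k ≠ j := by rintro rfl; exact hj hk
        unfold Golay.sgn r8
        rcases h.2 k hkj with h2 | h2
        · rw [if_neg (by rw [mem_cls, h2]; norm_num), if_pos hk, h2]; norm_num
        · rw [if_pos (by rw [mem_cls, h2]; norm_num), if_pos hk, h2]; norm_num
      rw [sum_congr rfl h1, sum_const, (mem_octads.1 hO9).2]; norm_num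

theorem T16 {v w : Vec} (hv : v ∈ leechLattice) (hw : w ∈ leechLattice) (hvn : sqNorm v = 32)
    (hwn : sqNorm w = 32) (hd : dotInt v w = -16) : Eqv [v, w] [v0, sg pb 4 + sg (pt 1) 4] := by
  obtain ⟨x, hx, h1, h2, h3⟩ := exists_after hv hw hvn (P := fun t => t = 16) 32 (fun w' hw' e1 e2 =>
    help16 hw' (e1.trans hwn) (e2.trans hd))
  obtain ⟨g, g1, g2⟩ := frame hv hx hvn h1 h2
  have hgw := app_mem g hw
  have e1 : dotInt v0 (app g w) = -16 := by rw [← g1, app_dot g hv hw, hd]
  have e2 : dotInt x0 (app g w) = 16 := by rw [← g2, app_dot g hx hw, h3]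
  rw [dot_v0] at e1
  rw [dot_x0] at e2
  have e3 : app g w pa = 0 := by omega
  have e4 : app g w pb = 4 := by omega
  have s0 : Eqv [v, w] [v0, app g w] := ⟨g, by simp [g1]⟩
  rcases shape32 hgw (by rw [app_norm g hw, hwn]) with ⟨i, j, h⟩ | ⟨O, h⟩ | ⟨j, h⟩
  · -- one of the points is pb
    have key : ∀ i j, Sh4 (app g w) i j → i = pb → Eqv [v0, app g w] [v0, sg pb 4 + sg (pt 1) 4] := by
      intro i j h hi
      subst hi
      have hja : j ≠ pa := by rintro rfl; have := h.2.2.1; omega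
      obtain ⟨c, hc, hZ, e⟩ := h.sgn (Z := {pa, pb}) (by decide) (by
        intro k hk
        simp only [mem_insert, mem_singleton] at hk
        rcases hk with rfl | rfl
        · rw [e3]
        · rw [e4]; norm_num)
      have s1 := Eqv.sgn (mem2 v0_mem hgw) hc
      simp only [List.map_cons, List.map_nil, e, sgn_v0 (hZ pa (by simp)) (hZ pb (by simp))] at s1
      obtain ⟨σ, hσ, h1, h2, h3, -⟩ := exists_map_four (a := pa) (b := pb) (c := j)
        (d := if j = pt 1 then pt 2 else pt 1) (a' := pa) (b' := pb) (c' := pt 1) (d' := pt 2) (by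
          simp only [List.nodup_cons, List.mem_cons, List.not_mem_nil, or_false, not_or, List.nodup_nil, and_true,
            not_false_eq_true]
          refine ⟨⟨pa_ne_pb, hja.symm, ?_⟩, ⟨h.1, ?_⟩, ?_⟩
          · split_ifs <;> decide
          · split_ifs <;> decide
          · split_ifs with h
            · rw [h]; decide
            · exact h) (by decide)
      have s2 := Eqv.prm (s1.mem (mem2 v0_mem hgw)) hσ
      simp only [List.map_cons, List.map_nil, prm_add, prm_sg, h2, h3, prm_v0 h1 h2] at s2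
      exact s1.trans s2
    refine s0.trans ?_
    by_cases hi : i = pb
    · exact key i j h hi
    · by_cases hj : j = pb
      · exact key j i ⟨h.1.symm, h.2.2.1, h.2.1, fun k h1 h2 => h.2.2.2 k h2 h1⟩ hj
      · have := h.2.2.2 pb (Ne.symm hi) (Ne.symm hj)
        omega
  · exfalso
    by_cases hO : pb ∈ O
    · have := h.2.1 _ hO; omega
    · have := h.2.2 _ hO; omega
  · exfalso
    by_cases hj : pb = j
    · have := h.1; rw [← hj] at this; omega
    · have := h.2 _ hj; omega

/-! ### inner product -8 -/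

/-- an octad containing the second base point but not the first one -/
def O10 : Finset GolayPt := st 0x149f

theorem O10_mem : O10 ∈ octads := (st_mem_octads (by norm_num)).2 (by decide +kernel)
theorem pa_O10 : pa ∉ O10 := by decide +kernel
theorem pb_O10 : pb ∈ O10 := by decide +kernel

theorem help8 {w : Vec} (hw : w ∈ leechLattice) (hn : sqNorm w = 32) (hd : dotInt v0 w = -8) :
    ∃ x ∈ leechLattice, sqNorm x = 32 ∧ dotInt v0 x = 0 ∧ dotInt x w = 8 := by
  rw [dot_v0] at hd
  rcases shape32 hw hn with ⟨i, j, h⟩ | ⟨O, h⟩ | ⟨j, h⟩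
  · exfalso
    have hval : ∀ k, w k = 4 ∨ w k = -4 ∨ w k = 0 := by
      intro k
      by_cases h1 : k = i
      · subst h1; have := h.2.1; omega
      · by_cases h2 : k = j
        · subst h2; have := h.2.2.1; omega
        · exact Or.inr (Or.inr (h.2.2.2 k h1 h2))
    have h1 := hval pa
    have h2 := hval pb
    omega
  · have hval : ∀ k, w k = 2 ∨ w k = -2 ∨ w k = 0 := by
      intro k
      by_cases h1 : k ∈ O
      · have := h.2.1 k h1; omega
      · exact Or.inr (Or.inr (h.2.2 k h1))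
    have h1 := hval pa
    have h2 := hval pb
    rcases (by omega : (w pa = 0 ∧ w pb = 2) ∨ (w pa = -2 ∧ w pb = 0)) with ⟨h3, h4⟩ | ⟨h3, h4⟩
    · exact ⟨x0, x0_mem, norm_x0, dot_v0_x0, by rw [dot_x0, h3, h4]; norm_num⟩
    · exact ⟨-x0, neg_mem x0_mem, by rw [sqNorm_neg, norm_x0], by rw [dotInt_neg_right, dot_v0_x0]; norm_num,
        by rw [dotInt_neg_left, dot_x0, h3, h4]; norm_num⟩
  · obtain ⟨k, hk, l, hl, hkl⟩ : ∃ k ∈ ({pt 1, pt 2, pt 3} : Finset GolayPt).erase j,
        ∃ l ∈ ({pt 1, pt 2, pt 3} : Finset GolayPt).erase j, k ≠ l := by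
      apply one_lt_card.1
      have h1 := card_erase_ge (O := ({pt 1, pt 2, pt 3} : Finset GolayPt)) (a := j)
      have : ({pt 1, pt 2, pt 3} : Finset GolayPt).card = 3 := by decide
      omega
    rw [mem_erase] at hk hl
    have hne : ∀ k ∈ ({pt 1, pt 2, pt 3} : Finset GolayPt), pa ≠ k ∧ pb ≠ k := by decide
    obtain ⟨x, hx, h1, h2, h3⟩ := mk4 w hkl
    have hab : ∀ k, k ≠ j → |w k| = 1 := fun k hk => abs_eq_of (by norm_num) (h.2 k hk)
    refine ⟨x, hx, h1, ?_, ?_⟩
    · rw [dot_v0, h3 pa (hne k hk.2).1 (hne l hl.2).1, h3 pb (hne k hk.2).2 (hne l hl.2).2]; norm_num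
    · rw [h2, hab k hk.1, hab l hl.1]; norm_num

theorem T8 {v w : Vec} (hv : v ∈ leechLattice) (hw : w ∈ leechLattice) (hvn : sqNorm v = 32)
    (hwn : sqNorm w = 32) (hd : dotInt v w = -8) : Eqv [v, w] [v0, r8 O10] := by
  obtain ⟨x, hx, h1, h2, h3⟩ := exists_after hv hw hvn (P := fun t => t = 8) 32 (fun w' hw' e1 e2 =>
    help8 hw' (e1.trans hwn) (e2.trans hd))
  obtain ⟨g, g1, g2⟩ := frame hv hx hvn h1 h2
  have hgw := app_mem g hw
  have e1 : dotInt v0 (app g w) = -8 := by rw [← g1, app_dot g hv hw, hd]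
  have e2 : dotInt x0 (app g w) = 8 := by rw [← g2, app_dot g hx hw, h3]
  rw [dot_v0] at e1
  rw [dot_x0] at e2
  have e3 : app g w pa = 0 := by omega
  have e4 : app g w pb = 2 := by omega
  have s0 : Eqv [v, w] [v0, app g w] := ⟨g, by simp [g1]⟩
  refine s0.trans ?_
  rcases shape32 hgw (by rw [app_norm g hw, hwn]) with ⟨i, j, h⟩ | ⟨O, h⟩ | ⟨j, h⟩
  · exfalso
    by_cases hi : pb = i
    · have := h.2.1; rw [← hi] at this; omega
    · by_cases hj : pb = j
      · have := h.2.2.1; rw [← hj] at this; omega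
      · have := h.2.2.2 _ hi hj; omega
  · have hbO : pb ∈ O := by by_contra hc; have := h.2.2 _ hc; omega
    have haO : pa ∉ O := by intro hc; have := h.2.1 _ hc; omega
    obtain ⟨c, hc, hZ, e⟩ := h.sgn hgw (Z := {pa, pb}) (by
        refine lt_of_le_of_lt (card_le_card sdiff_subset) ?_
        decide) (by
      intro k hk
      simp only [mem_insert, mem_singleton] at hk
      rcases hk with rfl | rfl
      · rw [e3]
      · rw [e4]; norm_num)
    have s1 := Eqv.sgn (mem2 v0_mem hgw) hc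
    simp only [List.map_cons, List.map_nil, e, sgn_v0 (hZ pa (by simp)) (hZ pb (by simp))] at s1
    obtain ⟨σ, hσ, h1, h2, h3⟩ := oct_in_out h.1 O10_mem (k := 1) (by norm_num) (x := fun _ => pb) (y := fun _ => pb)
      (fun _ _ => hbO) (by intro i hi j hj; omega) (fun _ _ => pb_O10) (by intro i hi j hj; omega) haO pa_O10
    have s2 := Eqv.prm (s1.mem (mem2 v0_mem hgw)) hσ
    simp only [List.map_cons, List.map_nil, prm_r8, h1, prm_v0 h3 (show σ pb = pb from h2 0 (by norm_num))] at s2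
    exact s1.trans s2
  · exfalso
    by_cases hj : pb = j
    · have := h.1; rw [← hj] at this; omega
    · have := h.2 _ hj; omega

end Cfsg.Agent.Lib.Golay
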