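import Cfsg.Agent.Lib.Golay.LeechCo1

/-!
Normal 2-subgroups of the stabilisers of classes modulo 2.
-/

set_option autoImplicit false
set_option linter.style.haveILetI false

namespace Cfsg.Agent.Lib.Golay

open scoped Pointwise
open Cfsg Finset

theorem sgn_symmDiff (c d : Finset GolayPt) (x : Vec) : sgn c (sgn d x) = sgn (symmDiff c d) x := by
  ext k
  unfold Golay.sgn
  by_cases h1 : k ∈ c <;> by_cases h2 : k ∈ d <;> simp [h1, h2, mem_symmDiff]

/-- the group of sign changes -/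
def Sg : Subgroup Co0 where
  carrier := {g | ∃ c, IsWord c ∧ ∀ x ∈ leechLattice, app g x = sgn c x}
  one_mem' := ⟨∅, isWord_empty, fun x _ => by rw [app_one, sgn_empty]⟩
  mul_mem' := by
    rintro g h ⟨c, hc, hg⟩ ⟨d, hd, hh⟩
    refine ⟨symmDiff c d, hc.symmDiff hd, fun x hx => ?_⟩
    rw [app_mul, hh x hx, hg _ (sgn_mem hx hd), sgn_symmDiff]
  inv_mem' := by
    rintro g ⟨c, hc, hg⟩
    refine ⟨c, hc, fun x hx => ?_⟩
    exact (app_eq_iff (g := g) (x := sgn c x) (y := x)).1 (by rw [hg _ (sgn_mem hx hc), sgn_sgn])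

theorem mem_Sg {g : Co0} : g ∈ Sg ↔ ∃ c, IsWord c ∧ ∀ x ∈ leechLattice, app g x = sgn c x := Iff.rfl

noncomputable def sgEl (c : {c : Finset GolayPt // IsWord c}) : Co0 := monoEl (c, 1)

theorem sgEl_app (c : {c : Finset GolayPt // IsWord c}) {x : Vec} (hx : x ∈ leechLattice) : app (sgEl c) x = sgn c x := by
  unfold sgEl
  rw [monoEl_app _ hx]; rfl

theorem card_Sg : Nat.card Sg = 4096 := by
  rw [← card_wd]
  symm
  refine Nat.card_congr (Equiv.ofBijective (fun c => ⟨sgEl c, c, c.2, fun x hx => sgEl_app c hx⟩) ⟨?_, ?_⟩)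
  · intro a b h
    have h1 : monoEl (a, 1) = monoEl (b, 1) := congrArg Subtype.val h
    exact congrArg Prod.fst (monoEl_inj h1)
  · rintro ⟨g, c, hc, hg⟩
    refine ⟨⟨c, hc⟩, Subtype.ext ?_⟩
    apply ext_app
    intro x hx
    rw [sgEl_app _ hx, hg x hx]

/-- the permutation part as a homomorphism -/
noncomputable def kap : M24 →* Co0 where
  toFun σ := monoEl (⟨∅, isWord_empty⟩, σ)
  map_one' := by
    apply ext_app
    intro x hx
    rw [monoEl_app _ hx, app_one, sgn_empty]; rfl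
  map_mul' := by
    intro σ τ
    apply ext_app
    intro x hx
    have h1 : ∀ (σ : M24), ∀ x ∈ leechLattice, app (monoEl (⟨∅, isWord_empty⟩, σ)) x = prm σ x := by
      intro σ x hx
      rw [monoEl_app _ hx, sgn_empty]
    rw [app_mul, h1 _ x hx, h1 τ x hx, h1 σ _ (by rw [← h1 τ x hx]; exact app_mem _ hx)]
    rfl

theorem kap_app (σ : M24) {x : Vec} (hx : x ∈ leechLattice) : app (kap σ) x = prm σ x := by
  show app (monoEl (⟨∅, isWord_empty⟩, σ)) x = _
  rw [monoEl_app _ hx, sgn_empty]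

def IsPi (g : Co0) (σ : M24) : Prop := ∀ i, app g (sg i 8) = sg ((σ : Equiv.Perm GolayPt) i) 8 ∨
  app g (sg i 8) = sg ((σ : Equiv.Perm GolayPt) i) (-8)

theorem isPi_of {g : Co0} {c : Finset GolayPt} {σ : Equiv.Perm GolayPt} (hσ : σ ∈ M24)
    (h : ∀ x ∈ leechLattice, app g x = sgn c (prm σ x)) : IsPi g ⟨σ, hσ⟩ := by
  intro i
  rw [h _ (sg8_mem i), prm_sg]
  by_cases hc : σ i ∈ c
  · right; exact sgn_sg_of_mem hc 8
  · left; exact sgn_sg_of_notMem hc 8

theorem IsPi.unique {g : Co0} {σ τ : M24} (h1 : IsPi g σ) (h2 : IsPi g τ) : σ = τ := by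
  apply Subtype.ext
  apply Equiv.ext
  intro i
  rcases h1 i with e1 | e1 <;> rcases h2 i with e2 | e2 <;> rw [e1] at e2
  · exact (sg_inj (by norm_num) e2).1
  · exact absurd (sg_inj (by norm_num) e2).2 (by norm_num)
  · exact absurd (sg_inj (by norm_num) e2).2 (by norm_num)
  · exact (sg_inj (by norm_num) e2).1

theorem IsPi.mul {g h : Co0} {σ τ : M24} (h1 : IsPi g σ) (h2 : IsPi h τ) : IsPi (g * h) (σ * τ) := by
  intro i
  have e : (((σ * τ : M24) : Equiv.Perm GolayPt)) i = (σ : Equiv.Perm GolayPt) ((τ : Equiv.Perm GolayPt) i) := rfl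
  rw [app_mul, e]
  rcases h2 i with h3 | h3 <;> rw [h3]
  · exact h1 _
  · rw [sg_neg, app_neg g (sg8_mem _)]
    rcases h1 ((τ : Equiv.Perm GolayPt) i) with h4 | h4 <;> rw [h4]
    · right; rw [sg_neg]
    · left; rw [sg_neg, neg_neg]

theorem exists_isPi (g : monoN) : ∃ σ, IsPi g σ := by
  obtain ⟨c, σ, hc, hσ, h⟩ := mono (mem_monoN.1 g.2)
  exact ⟨⟨σ, hσ⟩, isPi_of hσ h⟩

noncomputable def piN : monoN →* M24 := MonoidHom.mk' (fun g => (exists_isPi g).choose) (by
  intro g h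
  exact IsPi.unique (exists_isPi (g * h)).choose_spec ((exists_isPi g).choose_spec.mul (exists_isPi h).choose_spec))

theorem piN_spec (g : monoN) : IsPi g (piN g) := (exists_isPi g).choose_spec

theorem kap_mem (σ : M24) : kap σ ∈ monoN := mono_iff.2 ⟨_, rfl⟩

theorem Sg_le : Sg ≤ monoN := by
  rintro g ⟨c, hc, hg⟩
  rw [mem_monoN, mono_iff]
  refine ⟨(⟨c, hc⟩, 1), ?_⟩
  apply ext_app
  intro x hx
  rw [monoEl_app _ hx, hg x hx]; rfl

theorem piN_kap (σ : M24) : piN ⟨kap σ, kap_mem σ⟩ = σ := by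
  apply IsPi.unique (piN_spec _)
  have := isPi_of (g := kap σ) (c := ∅) σ.2 (fun x hx => by rw [kap_app σ hx, sgn_empty])
  exact this

theorem mem_Sg_iff (g : monoN) : (g : Co0) ∈ Sg ↔ piN g = 1 := by
  constructor
  · rintro ⟨c, hc, hg⟩
    apply IsPi.unique (piN_spec g)
    exact isPi_of (σ := 1) (one_mem _) (c := c) (fun x hx => by rw [hg x hx]; rfl)
  · intro h
    obtain ⟨c, σ, hc, hσ, hg⟩ := mono (mem_monoN.1 g.2)
    have h1 := IsPi.unique (isPi_of hσ hg) (piN_spec g)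
    rw [h] at h1
    have h2 : σ = 1 := congrArg Subtype.val h1
    refine ⟨c, hc, fun x hx => ?_⟩
    rw [hg x hx, h2]; rfl

theorem two64 {T : Subgroup Co0} (hT : IsPGroup 2 T) (hneg : negEl ∈ T) (hle : T ≤ monoN)
    (hn : ∀ g ∈ monoN, ∀ t ∈ T, g * t * g⁻¹ ∈ T) (hne : ∃ t ∈ T, t ≠ 1 ∧ t ≠ negEl) : T = Sg := by
  haveI : Finite Co0 := Nat.finite_of_card_ne_zero (by rw [card_Co0]; norm_num)
  have hsurj : Function.Surjective piN := fun σ => ⟨_, piN_kap σ⟩
  have hN : (T.subgroupOf monoN).Normal := ⟨fun t ht g => hn g g.2 t ht⟩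
  have hN2 : ((T.subgroupOf monoN).map piN).Normal := hN.map piN hsurj
  have hP : IsPGroup 2 ((T.subgroupOf monoN).map piN) := (hT.comap_subtype (K := monoN)).map piN
  haveI := isSimple_M24
  have hTS : T ≤ Sg := by
    rcases hN2.eq_bot_or_eq_top with h | h
    · intro t ht
      have : (⟨t, hle ht⟩ : monoN) ∈ T.subgroupOf monoN := ht
      have h2 : piN ⟨t, hle ht⟩ ∈ (T.subgroupOf monoN).map piN := Subgroup.mem_map_of_mem _ this
      rw [h, Subgroup.mem_bot] at h2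
      exact (mem_Sg_iff ⟨t, hle ht⟩).2 h2
    · exfalso
      rw [h] at hP
      have h3 : IsPGroup 2 M24 := hP.of_equiv Subgroup.topEquiv
      haveI : Fact (Nat.Prime 2) := ⟨Nat.prime_two⟩
      obtain ⟨n, hn⟩ := IsPGroup.iff_card.1 h3
      rw [card_M24] at hn
      have : 23 ∣ 2 ^ n := by rw [← hn]; norm_num
      have := (Nat.Prime.dvd_of_dvd_pow (by norm_num) this)
      omega
  have h1 := card_two_grp hT (fun x hx => hn tEl (mono_iff.2 ⟨_, rfl⟩) x hx) hneg
  have h2 : Nat.card T ∣ 4096 := by rw [← card_Sg]; exact Subgroup.card_dvd_of_le hTS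
  have h3 : Nat.card T = 2 ∨ Nat.card T = 4096 := by
    rw [show 4096 = 2 ^ 12 by norm_num, Nat.dvd_prime_pow Nat.prime_two] at h2
    obtain ⟨k, hk, h2⟩ := h2
    rw [h2] at h1 ⊢
    interval_cases k <;> revert h1 <;> decide
  rcases h3 with h3 | h3
  · exfalso
    obtain ⟨t, ht, t1, t2⟩ := hne
    have : ({1, negEl, t} : Set Co0).ncard ≤ (T : Set Co0).ncard := by
      apply Set.ncard_le_ncard _ (Set.toFinite _)
      intro y hy
      rcases hy with rfl | rfl | rfl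
      · exact one_mem _
      · exact hneg
      · exact ht
    rw [Set.ncard_eq_three.2 ⟨1, negEl, t, negEl_ne.symm, t1.symm, t2.symm, rfl⟩] at this
    have h4 : (T : Set Co0).ncard = 2 := h3
    omega
  · exact Subgroup.eq_of_le_of_card_ge hTS (by rw [h3, card_Sg])

end Cfsg.Agent.Lib.Golay
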