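import Cfsg.Agent.Lib.Golay.LeechOrders

/-!
Elements of order 11, simplicity of the two-vector stabilisers.
-/

set_option autoImplicit false
set_option linter.style.haveILetI false

namespace Cfsg.Agent.Lib.Golay

open scoped Pointwise
open Cfsg Finset

noncomputable def sU : Equiv.Perm GolayPt := pm cU
theorem sU_mem : sU ∈ M24 := mem_M24_U
noncomputable def uEl : Co0 := kap ⟨sU, sU_mem⟩

theorem uEl_app {x : Vec} (hx : x ∈ leechLattice) : app uEl x = prm sU x := kap_app _ hx

theorem uEl_pow {n : ℕ} : uEl ^ n = 1 ↔ 11 ∣ n := by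
  have h1 : orderOf sU = 11 := orderOf_U
  have e : uEl ^ n = kap (⟨sU, sU_mem⟩ ^ n) := (map_pow _ _ _).symm
  rw [← h1, orderOf_dvd_iff_pow_eq_one]
  constructor
  · intro h
    have h2 : kap (⟨sU, sU_mem⟩ ^ n) = 1 := by rw [← e, h]
    apply Equiv.ext
    intro p
    have e2 := kap_app (⟨sU, sU_mem⟩ ^ n) (sg8_mem p)
    rw [h2, app_one, prm_sg] at e2
    exact (sg_inj (by norm_num) e2).1.symm
  · intro h
    have : (⟨sU, sU_mem⟩ : M24) ^ n = 1 := Subtype.ext h
    rw [e, this, map_one]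

def gT : List ℕ := [1, 2, 2, 2, 2, 3, 2, 3, 2, 2, 3, 3, 2, 2, 3, 3, 2, 3, 2, 3, 3, 3, 3, 0]
def F4 (a b c d : ℤ) (i : ℕ) : ℤ := match gT.getD i 0 with
  | 0 => a
  | 1 => b
  | 2 => c
  | _ => d

theorem sU_pow {j : ℕ} (hj : j < 11) {i : ℕ} (hi : i < 24) : (sU ^ j) (pt i) = pt (img (pwU j) i) := by
  have h := (pwOK_spec (by norm_num) pwU_ok).1 j hj
  rw [pwU_one] at h
  apply ix_inj
  unfold sU
  rw [← h.2, ix_pm h.1, ix_pt hi, ix_pt (valid_lt h.1 hi)]

theorem sU_cases : ∀ i < 24, (i = 23) ∨ (i = 0) ∨ (∃ j < 11, img (pwU j) 1 = i ∧ gT.getD i 0 = 2) ∨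
    (∃ j < 11, img (pwU j) 5 = i ∧ gT.getD i 0 = 3) := by decide +kernel

theorem inv_pow {x : Vec} (h : prm sU x = x) : ∀ n : ℕ, ∀ p, x ((sU ^ n) p) = x p := by
  have h1 : ∀ p, x (sU p) = x p := by
    intro p
    have := congrFun h (sU p)
    have e : prm sU x (sU p) = x p := by
      show x (sU.symm (sU p)) = x p
      rw [Equiv.symm_apply_apply]
    rw [e] at this
    exact this.symm
  intro n
  induction n with
  | zero => intro p; rfl
  | succ n ih => intro p; rw [pow_succ', Equiv.Perm.mul_apply, h1, ih]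

theorem fix11 {x : Vec} (h : prm sU x = x) : x = V (F4 (x pa) (x pb) (x (pt 1)) (x (pt 5))) := by
  ext p
  have hp : p = pt (ix p) := (pt_ix p).symm
  generalize hi : ix p = i at hp
  have hi24 : i < 24 := by rw [← hi]; exact ix_lt p
  rw [hp, V_pt _ hi24]
  rcases sU_cases i hi24 with h1 | h1 | ⟨j, hj, h1, h2⟩ | ⟨j, hj, h1, h2⟩
  · rw [h1]; rfl
  · rw [h1]; rfl
  · have e : F4 (x pa) (x pb) (x (pt 1)) (x (pt 5)) i = x (pt 1) := by unfold F4; rw [h2]; rfl
    rw [e, ← h1, ← sU_pow hj (by norm_num), inv_pow h]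
  · have e : F4 (x pa) (x pb) (x (pt 1)) (x (pt 5)) i = x (pt 5) := by unfold F4; rw [h2]; rfl
    rw [e, ← h1, ← sU_pow hj (by norm_num), inv_pow h]

theorem norm_F4 (a b c d : ℤ) : sqNorm (V (F4 a b c d)) = a * a + b * b + 11 * (c * c) + 11 * (d * d) := by
  rw [norm_V]
  show 0 + b * b + c * c + c * c + c * c + c * c + d * d + c * c + d * d + c * c + c * c + d * d + d * d + c * c + c * c + d * d + d * d + c * c + d * d + c * c + d * d + d * d + d * d + d * d + a * a = _
  ring

theorem sum_F4 (a b c d : ℤ) : ∑ p, V (F4 a b c d) p = a + b + 11 * c + 11 * d := by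
  rw [sum_V]
  show 0 + b + c + c + c + c + d + c + d + c + c + d + d + c + c + d + d + c + d + c + d + d + d + d + a = _
  ring

theorem dot_rO (j : GolayPt) (x : Vec) : dotInt (rO j) x = ∑ p, x p - 4 * x j := by
  have : rO j = (fun _ => 1) + sg j (-4) := by
    ext k; unfold rO sg; simp only [Pi.add_apply]; split_ifs <;> norm_num
  rw [this, dotInt_add_left, dot_sg]
  unfold dotInt
  simp only [one_mul]; ring

theorem sgn_eq_self {c : Finset GolayPt} {y : Vec} (h : sgn c y = y) (h0 : ∀ k, y k ≠ 0) : c = ∅ := by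
  ext k
  simp only [notMem_empty, iff_false]
  intro hk
  have := congrFun h k
  unfold Golay.sgn at this
  rw [if_pos hk] at this
  exact h0 k (by omega)

def dodN : ℕ := 0x7acca1

theorem dodN_inv : ∀ i < 24, Nat.testBit dodN i = true → i ≠ 0 → Nat.testBit dodN (img cU i) = true ∧ img cU i ≠ 0 := by decide +kernel

theorem cU_ok : valid cU = true := by decide +kernel

theorem pow_dodN (n : ℕ) : (sU ^ n) (pt 5) ∈ st dodN ∧ ix ((sU ^ n) (pt 5)) ≠ 0 := by
  induction n with
  | zero => constructor <;> decide +kernel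
  | succ n ih =>
    rw [pow_succ', Equiv.Perm.mul_apply]
    have h := dodN_inv _ (ix_lt _) (mem_st.1 ih.1) ih.2
    have e : ix (sU ((sU ^ n) (pt 5))) = img cU (ix ((sU ^ n) (pt 5))) := by unfold sU; rw [ix_pm cU_ok]
    rw [mem_st, e]
    exact h

theorem dod_gT : ∀ i < 24, gT.getD i 0 = 3 → Nat.testBit dodU i = false := by decide +kernel

theorem dodU_perm {σ : Equiv.Perm GolayPt} (hσ : σ ∈ M24) (hb : σ pb = pb) (h : σ * sU = sU * σ) {j : ℕ} (hj : j < 11)
    (h1 : σ (pt 1) = pt (img (pwU j) 5)) : False := by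
  have hc : ∀ n : ℕ, σ * sU ^ n = sU ^ n * σ := fun n => (Commute.pow_right (show Commute σ sU from h) n)
  have hw : IsWord (st dodU) := (mem_dodecads.1 dodU_mem).1
  have h2 := hw.smul hσ
  have h3 : σ • st dodU ⊆ st dodN := by
    intro q hq
    obtain ⟨p, hp, rfl⟩ := mem_smul_finset.1 hq
    show σ p ∈ st dodN
    have hp' : p = pt (ix p) := (pt_ix p).symm
    rcases sU_cases (ix p) (ix_lt p) with e | e | ⟨i, hi, e, e2⟩ | ⟨i, hi, e, e2⟩
    · exfalso
      rw [mem_st, e] at hp
      revert hp; decide +kernel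
    · have : p = pb := by rw [hp', e]
      rw [this, hb]; decide +kernel
    · have : p = (sU ^ i) (pt 1) := by rw [hp', ← e, sU_pow hi (by norm_num)]
      rw [this, ← Equiv.Perm.mul_apply, hc, Equiv.Perm.mul_apply, h1, ← sU_pow hj (by norm_num), ← Equiv.Perm.mul_apply, ← pow_add]
      exact (pow_dodN _).1
    · exfalso
      rw [mem_st, dod_gT _ (ix_lt p) e2] at hp
      exact absurd hp (by simp)
  have h4 : σ • st dodU = st dodN := by
    apply eq_of_subset_of_card_le h3
    rw [card_smul_finset]; decide +kernel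
  rw [h4, isWord_st (by decide)] at h2
  revert h2; decide +kernel

theorem perm_comm11 {σ : Equiv.Perm GolayPt} (hσ : σ ∈ M24) (ha : σ pa = pa) (hb : σ pb = pb) (h : σ * sU = sU * σ) :
    ∃ j, σ = sU ^ j := by
  have hne : ∀ q, q ≠ pt 1 → σ q = q → σ (pt 1) ≠ q := by
    intro q hq hq2 e
    exact hq (σ.injective (hq2.trans e.symm))
  have hq : σ (pt 1) = pt (ix (σ (pt 1))) := (pt_ix _).symm
  rcases sU_cases (ix (σ (pt 1))) (ix_lt _) with e | e | ⟨j, hj, e, e2⟩ | ⟨j, hj, e, e2⟩
  · exact absurd (hq.trans (by rw [e])) (hne pa (by decide) ha)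
  · exact absurd (hq.trans (by rw [e])) (hne pb (by decide) hb)
  · refine ⟨j, ?_⟩
    set τ := (sU ^ j)⁻¹ * σ with hτ
    have hτm : τ ∈ M24 := mul_mem (inv_mem (pow_mem sU_mem j)) hσ
    have hc : ∀ n : ℕ, τ * sU ^ n = sU ^ n * τ := by
      intro n
      have h1 : Commute σ sU := h
      exact (((Commute.refl sU).pow_left j).inv_left.mul_left h1).pow_right n
    have h1 : τ (pt 1) = pt 1 := by
      rw [hτ, Equiv.Perm.mul_apply, hq, ← e, ← sU_pow hj (by norm_num)]
      exact Equiv.symm_apply_apply _ _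
    have hb' : τ pb = pb := by
      have hUb : ∀ n : ℕ, (sU ^ n) pb = pb := by
        intro n
        induction n with
        | zero => rfl
        | succ n ih =>
          rw [pow_succ, Equiv.Perm.mul_apply]
          have : sU pb = pb := by
            apply ix_inj; unfold sU; rw [ix_pm cU_ok]; decide +kernel
          rw [this, ih]
      rw [hτ, Equiv.Perm.mul_apply, hb, Equiv.Perm.inv_eq_iff_eq, hUb]
    have hfix : ∀ p ∈ st dodU, τ p = p := by
      intro p hp
      have hp' : p = pt (ix p) := (pt_ix p).symm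
      rcases sU_cases (ix p) (ix_lt p) with f | f | ⟨i, hi, f, f2⟩ | ⟨i, hi, f, f2⟩
      · exfalso
        rw [mem_st, f] at hp
        revert hp; decide +kernel
      · have : p = pb := by rw [hp', f]
        rw [this, hb']
      · have : p = (sU ^ i) (pt 1) := by rw [hp', ← f, sU_pow hi (by norm_num)]
        rw [this, ← Equiv.Perm.mul_apply, hc, Equiv.Perm.mul_apply, h1]
      · exfalso
        rw [mem_st, dod_gT _ (ix_lt p) f2] at hp
        exact absurd hp (by simp)
    have hτ1 : τ = 1 := by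
      apply fix_of_fix_dodecad dodU_mem hτm _ hfix
      apply eq_of_subset_of_card_le
      · intro q hq
        obtain ⟨p, hp, rfl⟩ := mem_smul_finset.1 hq
        show τ p ∈ _
        rw [hfix p hp]; exact hp
      · rw [card_smul_finset]
    rw [hτ, inv_mul_eq_one] at hτ1
    exact hτ1.symm
  · exact (dodU_perm hσ hb h hj (by rw [hq, ← e])).elim

/-- elements commuting with the element of order 11 and fixing enough vectors -/
theorem comm_uEl {g : Co0} (h : g * uEl = uEl * g) (h1 : app g v0 = v0) (h2 : app g x0 = x0) {y : Vec} (hy : y ∈ leechLattice)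
    (hy1 : app g y = y) (hy0 : ∀ k, y k ≠ 0) (hy2 : ∀ σ : Equiv.Perm GolayPt, σ pa = pa → σ pb = pb → prm σ y = y) :
    ∃ j : ℕ, g = uEl ^ j := by
  have ha : app g (sg pa 8) = sg pa 8 := by
    have : app g t0 = t0 := by rw [t0_eq, app_add g v0_mem x0_mem, h1, h2]
    exact this
  have hb : app g (sg pb 8) = sg pb 8 := by
    have e : sg pb 8 = x0 - v0 := by decide +kernel
    rw [e, app_sub g x0_mem v0_mem, h1, h2]
  have hm : g ∈ monoN := stab_le_monoN (smul_eq_iff_app.2 ha)
  obtain ⟨c, σ, hc, hσ, hg⟩ := mono (mem_monoN.1 hm)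
  have key : ∀ p, app g (sg p 8) = sg p 8 → σ p = p := by
    intro p hp
    rw [hg _ (sg8_mem p), prm_sg] at hp
    by_cases h3 : σ p ∈ c
    · rw [sgn_sg_of_mem h3] at hp
      exact (sg_inj (by norm_num) hp).1
    · rw [sgn_sg_of_notMem h3] at hp
      exact (sg_inj (by norm_num) hp).1
  have hσa := key pa ha
  have hσb := key pb hb
  have hc0 : c = ∅ := by
    apply sgn_eq_self (y := y) _ hy0
    have := hg y hy
    rw [hy1, hy2 σ hσa hσb] at this
    exact this.symm
  have hg' : ∀ x ∈ leechLattice, app g x = prm σ x := by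
    intro x hx; rw [hg x hx, hc0, sgn_empty]
  have h8 : σ * sU = sU * σ := by
    apply Equiv.ext
    intro p
    have e1 : app (g * uEl) (sg p 8) = app (uEl * g) (sg p 8) := by rw [h]
    rw [app_mul, app_mul, uEl_app (sg8_mem p), hg' _ (sg8_mem p), prm_sg, prm_sg, hg' _ (sg8_mem _),
      uEl_app (sg8_mem _), prm_sg, prm_sg] at e1
    exact (sg_inj (by norm_num) e1).1
  obtain ⟨j, hj⟩ := perm_comm11 hσ hσa hσb h8
  refine ⟨j, ?_⟩
  have e : uEl ^ j = kap (⟨sU, sU_mem⟩ ^ j) := (map_pow _ _ _).symm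
  apply ext_app
  intro x hx
  rw [e, kap_app _ hx, hg' x hx, hj]; rfl

theorem commU_fix {g : Co0} (h : g * uEl = uEl * g) {x : Vec} (hx : x ∈ leechLattice) (hxf : prm sU x = x) :
    prm sU (app g x) = app g x := by
  rw [← uEl_app (app_mem g hx), ← app_mul, ← h, app_mul, uEl_app hx, hxf]

theorem v0_fixU : prm sU v0 = v0 := by
  apply prm_v0 <;> (apply ix_inj; unfold sU; rw [ix_pm cU_ok]; decide +kernel)
theorem x0_fixU : prm sU x0 = x0 := by
  apply prm_x0 <;> (apply ix_inj; unfold sU; rw [ix_pm cU_ok]; decide +kernel)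

theorem int_cases {a c d : ℤ} (h : 2 * (a * a) + 11 * (c * c) + 11 * (d * d) = 32) : (a = 4 ∨ a = -4) ∧ c = 0 ∧ d = 0 := by
  have hc : -1 ≤ c ∧ c ≤ 1 := by constructor <;> nlinarith
  have hd : -1 ≤ d ∧ d ≤ 1 := by constructor <;> nlinarith
  have ha : -4 ≤ a ∧ a ≤ 4 := by constructor <;> nlinarith
  obtain ⟨hc1, hc2⟩ := hc
  obtain ⟨hd1, hd2⟩ := hd
  obtain ⟨ha1, ha2⟩ := ha
  interval_cases c <;> interval_cases d <;> interval_cases a <;> simp_all

theorem mcl_fix {g : Co0} (h : g * uEl = uEl * g) (h1 : app g (rO pa) = rO pa) (h2 : app g x0 = x0) : app g v0 = v0 := by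
  have hf := fix11 (commU_fix h v0_mem v0_fixU)
  have hn : sqNorm (app g v0) = 32 := by rw [app_norm g v0_mem, norm_v0]
  have hd1 : dotInt x0 (app g v0) = 0 := by
    have := app_dot g x0_mem v0_mem
    rw [h2, dotInt_comm x0 v0, dot_v0_x0] at this; exact this
  have hd2 : dotInt (rO pa) (app g v0) = -16 := by
    have := app_dot g (rO_mem pa) v0_mem
    rw [h1] at this
    rw [this]; decide +kernel
  rw [dot_x0] at hd1
  rw [dot_rO] at hd2
  generalize app g v0 = y at *
  rw [hf, norm_F4] at hn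
  have hs : ∑ p, y p = y pa + y pb + 11 * y (pt 1) + 11 * y (pt 5) := by
    nth_rw 1 [hf]; exact sum_F4 _ _ _ _
  rw [hs] at hd2
  have hb : y pb = - y pa := by omega
  rw [hb] at hn
  obtain ⟨ha, hc, hd⟩ := int_cases (a := y pa) (c := y (pt 1)) (d := y (pt 5)) (by linarith)
  rw [hf, hb, hc, hd]
  rw [hc, hd, hb] at hd2
  have ha' : y pa = 4 := by omega
  rw [ha']
  ext p
  revert p
  decide +kernel

theorem hs_fix {g : Co0} (h : g * uEl = uEl * g) (h1 : app g (r5 pb) = r5 pb) (h2 : app g v0 = v0) : app g x0 = x0 := by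
  have hf := fix11 (commU_fix h x0_mem x0_fixU)
  have hn : sqNorm (app g x0) = 32 := by rw [app_norm g x0_mem, norm_x0]
  have hd1 : dotInt v0 (app g x0) = 0 := by
    have := app_dot g v0_mem x0_mem
    rw [h2, dot_v0_x0] at this; exact this
  have hd2 : dotInt (r5 pb) (app g x0) = 24 := by
    have := app_dot g (r5_mem pb) x0_mem
    rw [h1] at this
    rw [this]; decide +kernel
  rw [dot_v0] at hd1
  rw [dot_r5] at hd2
  generalize app g x0 = y at *
  rw [hf, norm_F4] at hn
  have hs : ∑ p, y p = y pa + y pb + 11 * y (pt 1) + 11 * y (pt 5) := by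
    nth_rw 1 [hf]; exact sum_F4 _ _ _ _
  rw [hs] at hd2
  have hb : y pb = y pa := by omega
  rw [hb] at hn
  obtain ⟨ha, hc, hd⟩ := int_cases (a := y pa) (c := y (pt 1)) (d := y (pt 5)) (by linarith)
  rw [hf, hb, hc, hd]
  rw [hc, hd, hb] at hd2
  have ha' : y pa = 4 := by omega
  rw [ha']
  ext p
  revert p
  decide +kernel

end Cfsg.Agent.Lib.Golay
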