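import Cfsg.Agent.Lib.Golay.LeechXi
import Cfsg.Agent.Lib.Golay.Dual

/-!
Explicit vectors of the rank-24 lattice.
-/

set_option autoImplicit false

namespace Cfsg.Agent.Lib.Golay

open scoped Pointwise
open Cfsg Finset

/-- the vector with given coordinates -/
def V (f : ℕ → ℤ) : Vec := fun p => f (ix p)

theorem V_pt (f : ℕ → ℤ) {i : ℕ} (hi : i < 24) : V f (pt i) = f i := by
  unfold V; rw [ix_pt hi]

theorem V_congr {f g : ℕ → ℤ} (h : ∀ i < 24, f i = g i) : V f = V g := by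
  ext p; exact h _ (ix_lt p)

/-- list vectors -/
def L (l : List ℤ) : Vec := V (fun i => l.getD i 0)

/-- recursive sum -/
def sumTo (f : ℕ → ℤ) : ℕ → ℤ
  | 0 => 0
  | n + 1 => sumTo f n + f n

theorem sumTo_eq (f : ℕ → ℤ) (n : ℕ) : sumTo f n = ∑ i ∈ range n, f i := by
  induction n with
  | zero => rfl
  | succ n ih => rw [sumTo, ih, sum_range_succ]

theorem sum_ix {M : Type*} [AddCommMonoid M] (F : ℕ → M) : ∑ p : GolayPt, F (ix p) = ∑ i ∈ range 24, F i := by
  refine sum_bij' (fun p _ => ix p) (fun i _ => pt i) ?_ ?_ ?_ ?_ ?_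
  · intro p _; exact mem_range.2 (ix_lt p)
  · intro i _; exact mem_univ _
  · intro p _; exact pt_ix p
  · intro i hi; exact ix_pt (mem_range.1 hi)
  · intro p _; rfl

theorem sum_V (f : ℕ → ℤ) : ∑ p, V f p = sumTo f 24 := by
  rw [sumTo_eq]; exact sum_ix f

theorem dot_V (f g : ℕ → ℤ) : dotInt (V f) (V g) = sumTo (fun i => f i * g i) 24 := by
  rw [sumTo_eq]; exact sum_ix (fun i => f i * g i)

theorem norm_V (f : ℕ → ℤ) : sqNorm (V f) = sumTo (fun i => f i * f i) 24 := by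
  rw [← dotInt_self, dot_V]

/-- membership test -/
def inLat (m : ℤ) (f : ℕ → ℤ) : Bool := (List.range 24).all (fun i => (f i - m) % 2 == 0) &&
  (sumTo f 24 - 4 * m) % 8 == 0 && inCode (bitsAux (fun i => (f i - (m + 2)) % 4 == 0) 24)

theorem inLat_mem {m : ℤ} {f : ℕ → ℤ} (h : inLat m f = true) : V f ∈ leechLattice := by
  unfold inLat at h
  simp only [Bool.and_eq_true, beq_iff_eq, List.all_eq_true, List.mem_range] at h
  obtain ⟨⟨h1, h2⟩, h3⟩ := h
  refine mem_leech.2 ⟨m, fun p => h1 _ (ix_lt p), by rw [sum_V]; exact h2, ?_⟩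
  have h4 : cls (V f) (m + 2) = st (bitsAux (fun i => (f i - (m + 2)) % 4 == 0) 24) := by
    ext p
    rw [mem_cls, mem_st, testBit_bitsAux]
    simp only [ix_lt, decide_true, Bool.true_and, beq_iff_eq]
    rfl
  rw [h4]
  exact (isWord_st (bitsAux_lt _ _)).2 h3

theorem prm_V {c : ℕ} (hc : valid c = true) {f g : ℕ → ℤ} (h : ∀ i < 24, g (img c i) = f i) :
    prm (pm c) (V f) = V g := by
  ext p
  obtain ⟨q, rfl⟩ := (pm c).surjective p
  rw [prm_apply]
  unfold V
  rw [ix_pm hc, h _ (ix_lt q)]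

theorem sgn_V {m : ℕ} {f g : ℕ → ℤ} (h : ∀ i < 24, g i = if m.testBit i then -f i else f i) :
    sgn (st m) (V f) = V g := by
  ext p
  unfold sgn V
  rw [h _ (ix_lt p)]
  simp only [mem_st]

/-- tetrad sum of a coordinate function -/
def tSf (f : ℕ → ℤ) (j : Fin 6) : ℤ := sumTo (fun i => if tauN i = j then f i else 0) 24

theorem tS_V (f : ℕ → ℤ) (j : Fin 6) : tS (V f) j = tSf f j := by
  unfold tS tq tSf
  rw [sumTo_eq, sum_filter, ← sum_ix]
  rfl

theorem xi_V {J : Fin 6} {f g : ℕ → ℤ}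
    (h : ∀ i < 24, g i = if tauN i = J then -(f i - tSf f (tauN i) / 2) else f i - tSf f (tauN i) / 2) :
    xi J (V f) = V g := by
  ext p
  unfold xi tH
  rw [tS_V]
  show _ = g (ix p)
  rw [h _ (ix_lt p)]
  rfl

end Cfsg.Agent.Lib.Golay
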