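import Cfsg.Agent.Lib.Golay.LeechAut

/-!
The extra automorphism of the rank-24 lattice attached to the standard sextet.
-/

set_option autoImplicit false

namespace Cfsg.Agent.Lib.Golay

open scoped Pointwise
open Cfsg Finset

/-- tetrad number of a point index -/
def tauN (i : ℕ) : Fin 6 := ([0, 0, 0, 1, 5, 1, 4, 4, 2, 3, 3, 2, 2, 5, 1, 3, 5, 1, 2, 4, 3, 4, 5, 0] : List (Fin 6)).getD i 0

/-- tetrad number of a point -/
def tau (p : GolayPt) : Fin 6 := tauN (ix p)

/-- the tetrads -/
def tq (j : Fin 6) : Finset GolayPt := univ.filter (fun p => tau p = j)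

theorem tau_dat : ∀ b : Fin 6 → Bool, (univ.filter (fun j => b j = true)).card % 2 = 0 →
    inCode (bitsAux (fun i => b (tauN i)) 24) = true := by decide +kernel

theorem card_tq : ∀ j, (tq j).card = 4 := by decide +kernel

theorem filter_eq_st (b : Fin 6 → Bool) : univ.filter (fun p => b (tau p) = true) =
    st (bitsAux (fun i => b (tauN i)) 24) := by
  ext p
  rw [mem_filter, mem_st, testBit_bitsAux]
  simp only [mem_univ, true_and, ix_lt, decide_true, Bool.true_and]
  rfl

theorem bitsAux_lt (f : ℕ → Bool) (n : ℕ) : bitsAux f n < 2 ^ n := by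
  apply Nat.lt_of_testBit n
  · rw [testBit_bitsAux]; simp
  · exact Nat.testBit_two_pow_self
  · intro j hj
    rw [testBit_bitsAux, Nat.testBit_two_pow_of_ne (by omega)]
    have : ¬ j < n := by omega
    simp [this]

theorem isWord_tau {b : Fin 6 → Bool} (hb : (univ.filter (fun j => b j = true)).card % 2 = 0) :
    IsWord (univ.filter (fun p => b (tau p) = true)) := by
  rw [filter_eq_st]
  exact (isWord_st (bitsAux_lt _ _)).2 (tau_dat b hb)

/-- tetrad sums -/
def tS (x : Vec) (j : Fin 6) : ℤ := ∑ p ∈ tq j, x p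

/-- half tetrad sums -/
def tH (x : Vec) (j : Fin 6) : ℤ := tS x j / 2

theorem sum_tS (x : Vec) : ∑ j, tS x j = ∑ p, x p := by
  unfold tS tq
  exact sum_fiberwise univ tau x

theorem isWord_pair {j k : Fin 6} (hjk : j ≠ k) : IsWord (tq j ∪ tq k) := by
  have hc : (univ.filter (fun i => (decide (i = j) || decide (i = k)) = true)).card % 2 = 0 := by
    have : (univ.filter (fun i => (decide (i = j) || decide (i = k)) = true)) = {j, k} := by
      ext i
      simp
    rw [this, card_pair hjk]
  have hw := isWord_tau (b := fun i => decide (i = j) || decide (i = k)) hc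
  have h2 : (univ.filter (fun p => (decide (tau p = j) || decide (tau p = k)) = true)) = tq j ∪ tq k := by
    ext p
    unfold tq
    rw [mem_union, mem_filter, mem_filter, mem_filter]
    simp
  rw [← h2]; exact hw

theorem tq_disj {j k : Fin 6} (hjk : j ≠ k) : Disjoint (tq j) (tq k) := by
  rw [disjoint_left]
  intro p hp hp'
  unfold tq at hp hp'
  rw [mem_filter] at hp hp'
  exact hjk (hp.2.symm.trans hp'.2)

theorem tS_pair {x : Vec} (hx : x ∈ leechLattice) {j k : Fin 6} (hjk : j ≠ k) : (tS x j + tS x k) % 4 = 0 := by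
  obtain ⟨m, h⟩ := mem_leech.1 hx
  have h1 := sum_on_word h (isWord_pair hjk)
  rw [sum_union (tq_disj hjk)] at h1
  exact h1

theorem tS_even {x : Vec} (hx : x ∈ leechLattice) (j : Fin 6) : tS x j = 2 * tH x j := by
  obtain ⟨k, l, h1, h2, h3⟩ : ∃ k l : Fin 6, j ≠ k ∧ j ≠ l ∧ k ≠ l := by
    revert j; decide
  have e1 := tS_pair hx h1
  have e2 := tS_pair hx h2
  have e3 := tS_pair hx h3
  unfold tH
  omega

theorem tH_mod {x : Vec} (hx : x ∈ leechLattice) (j k : Fin 6) : (tH x j - tH x k) % 2 = 0 := by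
  by_cases h : j = k
  · rw [h]; simp
  · have e1 := tS_pair hx h
    rw [tS_even hx, tS_even hx] at e1
    omega

/-- the extra automorphism; the sign is changed on the tetrad `J` -/
def xi (J : Fin 6) (x : Vec) : Vec := fun p =>
  if tau p = J then -(x p - tH x (tau p)) else x p - tH x (tau p)

theorem sum_tq_const (j : Fin 6) (a : ℤ) : ∑ _p ∈ tq j, a = 4 * a := by
  rw [sum_const, card_tq]; simp

theorem tS_xi {x : Vec} (hx : x ∈ leechLattice) (J j : Fin 6) :
    tS (xi J x) j = if j = J then tS x j else -tS x j := by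
  have h1 : tS (xi J x) j = if j = J then -(tS x j - 4 * tH x j) else tS x j - 4 * tH x j := by
    unfold tS
    have h2 : ∀ p ∈ tq j, xi J x p = if j = J then -(x p - tH x j) else x p - tH x j := by
      intro p hp
      unfold tq at hp
      rw [mem_filter] at hp
      unfold xi
      rw [hp.2]
    rw [sum_congr rfl h2]
    split_ifs with h
    · rw [sum_neg_distrib, sum_sub_distrib, sum_tq_const]
    · rw [sum_sub_distrib, sum_tq_const]
  rw [h1, tS_even hx]
  split_ifs <;> ring

theorem xi_xi {x : Vec} (hx : x ∈ leechLattice) (J : Fin 6) (_h : xi J x ∈ leechLattice) : xi J (xi J x) = x := by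
  ext p
  have h1 : tH (xi J x) (tau p) = if tau p = J then tH x (tau p) else -tH x (tau p) := by
    have h2 := tS_xi hx J (tau p)
    have h3 := tS_even hx (tau p)
    unfold tH at h3 ⊢
    rw [h2]
    split_ifs <;> omega
  show (if tau p = J then -(xi J x p - tH (xi J x) (tau p)) else xi J x p - tH (xi J x) (tau p)) = x p
  rw [h1]
  unfold xi
  split_ifs <;> ring

theorem xi_add {x y : Vec} (hx : x ∈ leechLattice) (hy : y ∈ leechLattice) (J : Fin 6) :
    xi J (x + y) = xi J x + xi J y := by
  ext p
  have h1 : tH (x + y) (tau p) = tH x (tau p) + tH y (tau p) := by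
    have e1 := tS_even hx (tau p)
    have e2 := tS_even hy (tau p)
    have e3 : tS (x + y) (tau p) = tS x (tau p) + tS y (tau p) := by
      unfold tS
      rw [← sum_add_distrib]; rfl
    unfold tH at e1 e2 ⊢
    rw [e3]; omega
  unfold xi
  simp only [Pi.add_apply, h1]
  split_ifs <;> ring

theorem xi_norm {x : Vec} (hx : x ∈ leechLattice) (J : Fin 6) : sqNorm (xi J x) = sqNorm x := by
  have h1 : sqNorm (xi J x) = ∑ p, (x p - tH x (tau p)) ^ 2 := by
    unfold sqNorm xi
    refine sum_congr rfl (fun p _ => ?_)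
    split_ifs <;> ring
  rw [h1]
  unfold sqNorm
  rw [← sum_fiberwise univ tau, ← sum_fiberwise univ tau (fun i => x i ^ 2)]
  refine sum_congr rfl (fun j _ => ?_)
  have h2 : ∑ p ∈ univ with tau p = j, (x p - tH x (tau p)) ^ 2 =
      ∑ p ∈ tq j, (x p ^ 2 - 2 * tH x j * x p + tH x j ^ 2) := by
    refine sum_congr rfl (fun p hp => ?_)
    unfold tq at hp
    rw [mem_filter] at hp
    rw [hp.2]; ring
  rw [h2, sum_add_distrib, sum_sub_distrib, sum_tq_const, ← mul_sum]
  have h3 : ∑ i ∈ tq j, x i = 2 * tH x j := tS_even hx j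
  rw [h3]
  have h4 : ∑ p ∈ univ with tau p = j, x p ^ 2 = ∑ p ∈ tq j, x p ^ 2 := rfl
  rw [h4]; ring

theorem card_parity (e : Fin 6 → ℤ) :
    (((univ.filter (fun j => decide (e j % 2 = 1) = true)).card : ℤ) - ∑ j, e j) % 2 = 0 := by
  have h1 : ((univ.filter (fun j => decide (e j % 2 = 1) = true)).card : ℤ) = ∑ j, if e j % 2 = 1 then 1 else 0 := by
    simp only [decide_eq_true_eq]
    rw [sum_boole]
  rw [h1, ← sum_sub_distrib]
  have h2 : ∀ j, ∃ t : ℤ, (if e j % 2 = 1 then (1 : ℤ) else 0) - e j = 2 * t := by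
    intro j
    split_ifs with h
    · exact ⟨(1 - e j) / 2, by omega⟩
    · exact ⟨(-e j) / 2, by omega⟩
  choose t ht using h2
  rw [sum_congr rfl (fun j _ => ht j), ← mul_sum]
  omega

theorem xi_mem {x : Vec} (hx : x ∈ leechLattice) (J : Fin 6) : xi J x ∈ leechLattice := by
  obtain ⟨m, hm⟩ := mem_leech.1 hx
  obtain ⟨h1, h2, h3⟩ := hm
  refine mem_leech.2 ⟨m - tH x 0, ?_, ?_, ?_⟩
  · intro p
    have e1 := h1 p
    have e2 := tH_mod hx (tau p) 0
    unfold xi
    split_ifs <;> omega
  · have e1 : ∑ p, xi J x p = -∑ p, x p + 4 * tH x J := by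
      rw [← sum_tS, ← sum_tS]
      have e2 : ∀ j, tS (xi J x) j = -tS x j + (if j = J then 4 * tH x J else 0) := by
        intro j
        rw [tS_xi hx]
        split_ifs with h
        · rw [h, tS_even hx]; ring
        · ring
      rw [sum_congr rfl (fun j _ => e2 j), sum_add_distrib, sum_neg_distrib, sum_ite_eq' univ J]
      simp
    have e2 := tH_mod hx J 0
    rw [e1]; omega
  · let e : Fin 6 → ℤ := fun j => (tH x j - tH x 0) / 2 + (if j = J then m - tH x 0 else 0)
    let b : Fin 6 → Bool := fun j => decide (e j % 2 = 1)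
    have hb : IsWord (univ.filter (fun p => b (tau p) = true)) := by
      refine isWord_tau (b := b) ?_
      have e1 := card_parity e
      have e2 : ∑ j, e j = (∑ j, (tH x j - tH x 0) / 2) + (m - tH x 0) := by
        show ∑ j, ((tH x j - tH x 0) / 2 + (if j = J then m - tH x 0 else 0)) = _
        rw [sum_add_distrib, sum_ite_eq' univ J]; simp
      have e3 : 4 * ∑ j, (tH x j - tH x 0) / 2 = ∑ p, x p - 12 * tH x 0 := by
        rw [← sum_tS, mul_sum]
        have e4 : ∀ j, 4 * ((tH x j - tH x 0) / 2) = tS x j - 2 * tH x 0 := by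
          intro j
          have := tH_mod hx j 0
          rw [tS_even hx]; omega
        rw [sum_congr rfl (fun j _ => e4 j), sum_sub_distrib, sum_const, card_univ, Fintype.card_fin]
        simp only [nsmul_eq_mul]
        push_cast
        ring
      have e5 : (((univ.filter (fun j => b j = true)).card : ℤ)) % 2 = 0 := by
        show (((univ.filter (fun j => decide (e j % 2 = 1) = true)).card : ℤ)) % 2 = 0
        omega
      omega
    have hc : cls (xi J x) (m - tH x 0 + 2) = symmDiff (cls x (m + 2)) (univ.filter (fun p => b (tau p) = true)) := by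
      ext p
      rw [mem_symmDiff, mem_cls, mem_cls, mem_filter]
      have e1 := h1 p
      have e2 := tH_mod hx (tau p) 0
      have e3 : (b (tau p) = true) ↔ ((tH x (tau p) - tH x 0) / 2 + (if tau p = J then m - tH x 0 else 0)) % 2 = 1 :=
        decide_eq_true_iff
      rw [e3]
      simp only [mem_univ, true_and]
      unfold xi
      split_ifs <;> omega
    rw [hc]; exact h3.symmDiff hb

theorem isAut_xi (J : Fin 6) : IsAut (xi J) :=
  isAut_of_invol (fun _ hx => xi_mem hx J) (fun _ hx _ hy => xi_add hx hy J) (fun _ hx => xi_norm hx J)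
    (fun _ hx => xi_xi hx J (xi_mem hx J))

theorem exists_xi (J : Fin 6) : ∃ g : Co0, ∀ x ∈ leechLattice, app g x = xi J x := (isAut_xi J).exists

end Cfsg.Agent.Lib.Golay
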