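import Cfsg.Agent.Lib.Golay.M24Data

/-!
The order of the group of the length-24 code, and its stabiliser chain.
-/

set_option autoImplicit false

namespace Cfsg.Agent.Lib.Golay

open scoped Pointwise
open Cfsg

/-! ### A general orbit-stabiliser lemma -/

theorem card_inf_stab {G : Type*} [Group G] {X : Type*} [MulAction G X] (H : Subgroup G) (x : X) :
    Nat.card (MulAction.stabilizer H x) = Nat.card ↥(H ⊓ MulAction.stabilizer G x) := by
  refine Nat.card_congr ⟨fun g => ⟨(g : H), (g : H).2, g.2⟩, fun g => ⟨⟨(g : G), g.2.1⟩, g.2.2⟩, ?_, ?_⟩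
  · intro g; rfl
  · intro g; rfl

theorem card_eq_orbit_mul {G : Type*} [Group G] {X : Type*} [MulAction G X] (H : Subgroup G) (x : X) :
    Nat.card H = (MulAction.orbit H x).ncard * Nat.card ↥(H ⊓ MulAction.stabilizer G x) := by
  rw [← card_inf_stab, ← MulAction.index_stabilizer, mul_comm, Subgroup.card_mul_index]

/-! ### Fixed points -/

/-- all points of the mask `F` are fixed -/
def Fixes (g : Equiv.Perm GolayPt) (F : ℕ) : Prop := ∀ p ∈ st F, g p = p

theorem Fixes.or {g : Equiv.Perm GolayPt} {F F' : ℕ} (h : Fixes g F) (h' : Fixes g F') :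
    Fixes g (F ||| F') := by
  intro p hp
  rw [st_or, Finset.mem_union] at hp
  rcases hp with hp | hp
  · exact h p hp
  · exact h' p hp

theorem Fixes.smul_octad {g : Equiv.Perm GolayPt} (hg : g ∈ M24) {F : ℕ} (h : Fixes g F)
    {o : Finset GolayPt} (ho : o ∈ octads) (h5 : 5 ≤ (o ∩ st F).card) : g • o = o := by
  apply octad_eq (smul_mem_octads hg ho) ho
  refine le_trans h5 (Finset.card_le_card ?_)
  intro p hp
  rw [Finset.mem_inter] at hp ⊢
  refine ⟨?_, hp.1⟩
  rw [mem_smul_iff]
  have : g.symm p = p := by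
    rw [Equiv.symm_apply_eq]; exact (h p hp.2).symm
  rw [this]; exact hp.1

/-- `A` is known to be invariant: listed, or an octad containing five fixed points, or a complement of such -/
def invOK (I : List ℕ) (F A : ℕ) : Bool :=
  I.contains A || (inCode A && pc A == 8 && Nat.ble 5 (pc (A &&& F))) ||
    (inCode (A ^^^ 0xffffff) && pc (A ^^^ 0xffffff) == 8 && Nat.ble 5 (pc ((A ^^^ 0xffffff) &&& F)))

theorem smul_compl' (g : Equiv.Perm GolayPt) (s : Finset GolayPt) : g • sᶜ = (g • s)ᶜ := by
  ext p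
  simp only [mem_smul_iff, Finset.mem_compl]

theorem smul_inter' (g : Equiv.Perm GolayPt) (s t : Finset GolayPt) : g • (s ∩ t) = g • s ∩ g • t := by
  ext p
  simp only [mem_smul_iff, Finset.mem_inter]

theorem xor_full_xor {A : ℕ} : st (A ^^^ 0xffffff) = (st A)ᶜ := st_compl A

theorem invOK_spec {I : List ℕ} {F A : ℕ} {g : Equiv.Perm GolayPt} (hg : g ∈ M24)
    (hI : ∀ B ∈ I, g • st B = st B) (hF : Fixes g F) (h : invOK I F A = true) : g • st A = st A := by
  unfold invOK at h
  simp only [Bool.or_eq_true, Bool.and_eq_true, beq_iff_eq, Nat.ble_eq, List.contains_iff_mem] at h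
  rcases h with (h | ⟨⟨h1, h2⟩, h3⟩) | ⟨⟨h1, h2⟩, h3⟩
  · exact hI A h
  · apply hF.smul_octad hg
    · exact (st_mem_octads (inCode_lt h1)).2 ⟨h1, h2⟩
    · rw [← st_and, card_st]; exact h3
  · have h4 : g • st (A ^^^ 0xffffff) = st (A ^^^ 0xffffff) := by
      apply hF.smul_octad hg
      · exact (st_mem_octads (inCode_lt h1)).2 ⟨h1, h2⟩
      · rw [← st_and, card_st]; exact h3
    rw [st_compl, smul_compl'] at h4
    exact compl_inj_iff.1 h4

/-- running a certificate -/
def certOK (I : List ℕ) : List (ℕ × ℕ) → ℕ → Bool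
  | [], F => F == 0xffffff
  | (A, B) :: l, F => invOK I F A && invOK I F B && Nat.ble (pc ((A &&& B) &&& (F ^^^ 0xffffff))) 1 &&
      certOK I l (F ||| (A &&& B))

theorem fixes_step {F C : ℕ} {g : Equiv.Perm GolayPt} (hF : Fixes g F) (hC : g • st C = st C)
    (h1 : pc (C &&& (F ^^^ 0xffffff)) ≤ 1) : Fixes g (F ||| C) := by
  apply hF.or
  intro p hp
  by_cases hpF : p ∈ st F
  · exact hF p hpF
  · have hgp : g p ∈ st C := by rw [← hC, smul_mem_smul_iff']; exact hp
    have hgpF : g p ∉ st F := by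
      intro h
      have := hF _ h
      have := g.injective this
      rw [this] at h; exact hpF h
    have hc : (st C ∩ (st F)ᶜ).card ≤ 1 := by
      rw [← st_compl, ← st_and, card_st]; exact h1
    apply Finset.card_le_one.1 hc
    · simp [hgp, hgpF]
    · simp [hp, hpF]

theorem certOK_spec {I : List ℕ} {g : Equiv.Perm GolayPt} (hg : g ∈ M24)
    (hI : ∀ B ∈ I, g • st B = st B) (l : List (ℕ × ℕ)) {F : ℕ} (hF : Fixes g F)
    (h : certOK I l F = true) : g = 1 := by
  induction l generalizing F with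
  | nil =>
    simp only [certOK, beq_iff_eq] at h
    subst h
    ext p : 1
    exact hF p (by rw [st_full]; exact Finset.mem_univ _)
  | cons a l ih =>
    obtain ⟨A, B⟩ := a
    simp only [certOK, Bool.and_eq_true, Nat.ble_eq] at h
    obtain ⟨⟨⟨h1, h2⟩, h3⟩, h4⟩ := h
    refine ih (fixes_step hF ?_ h3) h4
    rw [st_and, smul_inter', invOK_spec hg hI hF h1, invOK_spec hg hI hF h2]

/-! ### The stabiliser chain -/

/-- masks of the first base points (23, 0, 1, 2, 3, 4, 5) -/
def bmask : ℕ → ℕ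
  | 0 => 0
  | 1 => 0x800000
  | 2 => 0x800001
  | 3 => 0x800003
  | 4 => 0x800007
  | 5 => 0x80000f
  | 6 => 0x80001f
  | _ => 0x80003f

/-- base points -/
def bpt : ℕ → ℕ
  | 0 => 23
  | n + 1 => n

/-- the chain of pointwise stabilisers of the base points -/
def chain (k : ℕ) : Subgroup (Equiv.Perm GolayPt) where
  carrier := {g | g ∈ M24 ∧ Fixes g (bmask k)}
  one_mem' := ⟨M24.one_mem, fun _ _ => rfl⟩
  mul_mem' := by
    rintro g h ⟨hg, hg'⟩ ⟨hh, hh'⟩
    refine ⟨M24.mul_mem hg hh, fun p hp => ?_⟩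
    rw [Equiv.Perm.mul_apply, hh' p hp, hg' p hp]
  inv_mem' := by
    rintro g ⟨hg, hg'⟩
    refine ⟨M24.inv_mem hg, fun p hp => ?_⟩
    rw [Equiv.Perm.inv_eq_iff_eq]; exact (hg' p hp).symm

theorem mem_chain {k : ℕ} {g : Equiv.Perm GolayPt} : g ∈ chain k ↔ g ∈ M24 ∧ Fixes g (bmask k) := Iff.rfl

theorem chain_zero : chain 0 = M24 := by
  ext g
  rw [mem_chain]
  constructor
  · exact fun h => h.1
  · intro h
    refine ⟨h, fun p hp => ?_⟩
    rw [bmask, st_zero] at hp
    exact absurd hp (Finset.notMem_empty p)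

theorem chain_succ {k : ℕ} (hk : k < 7) :
    chain (k + 1) = chain k ⊓ MulAction.stabilizer (Equiv.Perm GolayPt) (pt (bpt k)) := by
  have h1 : ∀ k < 7, st (bmask (k + 1)) = st (bmask k) ∪ {pt (bpt k)} := by decide +kernel
  ext g
  rw [Subgroup.mem_inf, mem_chain, mem_chain, MulAction.mem_stabilizer_iff]
  unfold Fixes
  rw [h1 k hk]
  constructor
  · rintro ⟨h2, h3⟩
    exact ⟨⟨h2, fun p hp => h3 p (Finset.mem_union_left _ hp)⟩,
      h3 _ (Finset.mem_union_right _ (Finset.mem_singleton_self _))⟩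
  · rintro ⟨⟨h2, h3⟩, h4⟩
    refine ⟨h2, fun p hp => ?_⟩
    rw [Finset.mem_union, Finset.mem_singleton] at hp
    rcases hp with hp | rfl
    · exact h3 p hp
    · exact h4

theorem cert7_ok : certOK [] cert7 (bmask 7) = true := by decide +kernel

theorem chain_seven : chain 7 = ⊥ := by
  rw [eq_bot_iff]
  rintro g ⟨hg, hF⟩
  exact Subgroup.mem_bot.2 (certOK_spec hg (by simp) cert7 hF cert7_ok)

/-- test that the codes in a list preserve the code and fix the points of `F` -/
def trOK (l : List ℕ) (F : ℕ) : Bool :=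
  l.all (fun c => pres c && (List.range 24).all (fun i => !F.testBit i || img c i == i))

theorem trOK_spec {l : List ℕ} {F : ℕ} (h : trOK l F = true) {c : ℕ} (hc : c ∈ l) :
    pres c = true ∧ Fixes (pm c) F := by
  unfold trOK at h
  rw [List.all_eq_true] at h
  have h1 := h c hc
  rw [Bool.and_eq_true, List.all_eq_true] at h1
  refine ⟨h1.1, fun p hp => ?_⟩
  apply ix_inj
  rw [ix_pm (pres_valid h1.1)]
  have h2 := h1.2 (ix p) (List.mem_range.2 (ix_lt p))
  rw [mem_st] at hp
  simpa [hp] using h2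

theorem tr0_ok : trOK tr0 (bmask 0) = true := by decide +kernel
theorem tr1_ok : trOK tr1 (bmask 1) = true := by decide +kernel
theorem tr2_ok : trOK tr2 (bmask 2) = true := by decide +kernel
theorem tr3_ok : trOK tr3 (bmask 3) = true := by decide +kernel
theorem tr4_ok : trOK tr4 (bmask 4) = true := by decide +kernel
theorem tr5_ok : trOK tr5 (bmask 5) = true := by decide +kernel
theorem tr6_ok : trOK tr6 (bmask 6) = true := by decide +kernel

/-- the transversals -/
def tr (k : ℕ) : List ℕ := [tr0, tr1, tr2, tr3, tr4, tr5, tr6].getD k []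

theorem tr_ok : ∀ k < 7, trOK (tr k) (bmask k) = true := by
  intro k hk
  interval_cases k
  · exact tr0_ok
  · exact tr1_ok
  · exact tr2_ok
  · exact tr3_ok
  · exact tr4_ok
  · exact tr5_ok
  · exact tr6_ok

/-- the masks of the basic orbits -/
def omask (k : ℕ) : ℕ := [0xffffff, 0x7fffff, 0x7ffffe, 0x7ffffc, 0x7ffff8, 0x7dbfd0, 0x024020].getD k 0

theorem orbit_covered : ∀ k < 7, ∀ i < 24, (omask k).testBit i = true →
    ∃ c ∈ tr k, img c (bpt k) = i := by decide +kernel

theorem pm_mem_chain {k : ℕ} (hk : k < 7) {c : ℕ} (hc : c ∈ tr k) : pm c ∈ chain k :=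
  ⟨pm_mem_M24 (trOK_spec (tr_ok k hk) hc).1, (trOK_spec (tr_ok k hk) hc).2⟩

theorem bpt_lt : ∀ k < 7, bpt k < 24 := by decide

theorem exists_chain_map {k : ℕ} (hk : k < 7) {p : GolayPt} (hp : p ∈ st (omask k)) :
    ∃ g ∈ chain k, g (pt (bpt k)) = p := by
  rw [mem_st] at hp
  obtain ⟨c, hc, e⟩ := orbit_covered k hk (ix p) (ix_lt p) hp
  refine ⟨pm c, pm_mem_chain hk hc, ?_⟩
  rw [pm_pt (pres_valid (trOK_spec (tr_ok k hk) hc).1) (bpt_lt k hk), e, pt_ix]

/-- the octad through the first five base points -/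
def oct0 : ℕ := 0x82402f

theorem oct0_mem : st oct0 ∈ octads := (st_mem_octads (by decide)).2 (by decide +kernel)

theorem chain_maps_to {k : ℕ} (hk : k < 7) {g : Equiv.Perm GolayPt} (hg : g ∈ chain k) :
    g (pt (bpt k)) ∈ st (omask k) := by
  obtain ⟨hg1, hg2⟩ := hg
  -- the image avoids the fixed points
  have hb : ∀ k < 7, pt (bpt k) ∉ st (bmask k) := by decide +kernel
  have havoid : g (pt (bpt k)) ∉ st (bmask k) := by
    intro h
    have h1 := hg2 _ h
    have := g.injective h1
    rw [this] at h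
    exact hb k hk h
  by_cases h5 : k < 5
  · have : ∀ k < 5, ∀ p : GolayPt, p ∉ st (bmask k) → p ∈ st (omask k) := by decide +kernel
    exact this k h5 _ havoid
  · have hO : g • st oct0 = st oct0 := by
      apply hg2.smul_octad hg1 oct0_mem
      rw [← st_and, card_st]
      have : k = 5 ∨ k = 6 := by omega
      rcases this with rfl | rfl <;> decide +kernel
    have : k = 5 ∨ k = 6 := by omega
    rcases this with rfl | rfl
    · have h1 : g (pt (bpt 5)) ∉ st oct0 := by
        rw [← hO, smul_mem_smul_iff']; decide +kernel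
      have : ∀ p : GolayPt, p ∉ st oct0 → p ∈ st (omask 5) := by decide +kernel
      exact this _ h1
    · have h1 : g (pt (bpt 6)) ∈ st oct0 := by
        rw [← hO, smul_mem_smul_iff']; decide +kernel
      have : ∀ p : GolayPt, p ∈ st oct0 → p ∉ st (bmask 6) → p ∈ st (omask 6) := by decide +kernel
      exact this _ h1 havoid

theorem orbit_chain {k : ℕ} (hk : k < 7) :
    MulAction.orbit (chain k) (pt (bpt k)) = (st (omask k) : Set GolayPt) := by
  ext p
  rw [Finset.mem_coe]
  constructor
  · rintro ⟨g, rfl⟩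
    exact chain_maps_to hk g.2
  · intro hp
    obtain ⟨g, hg, e⟩ := exists_chain_map hk hp
    exact ⟨⟨g, hg⟩, e⟩

theorem card_chain_succ {k : ℕ} (hk : k < 7) :
    Nat.card (chain k) = pc (omask k) * Nat.card (chain (k + 1)) := by
  rw [card_eq_orbit_mul (chain k) (pt (bpt k)), orbit_chain hk, Set.ncard_coe_finset, card_st,
    chain_succ hk]

theorem card_chain_seven : Nat.card (chain 7) = 1 := by
  rw [chain_seven]; exact Subgroup.card_bot

theorem pc_omask : pc (omask 0) = 24 ∧ pc (omask 1) = 23 ∧ pc (omask 2) = 22 ∧ pc (omask 3) = 21 ∧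
    pc (omask 4) = 20 ∧ pc (omask 5) = 16 ∧ pc (omask 6) = 3 := by decide +kernel

theorem card_chain_six : Nat.card (chain 6) = 3 := by
  rw [card_chain_succ (by norm_num), card_chain_seven, pc_omask.2.2.2.2.2.2]
theorem card_chain_five : Nat.card (chain 5) = 48 := by
  rw [card_chain_succ (by norm_num), card_chain_six, pc_omask.2.2.2.2.2.1]
theorem card_chain_four : Nat.card (chain 4) = 960 := by
  rw [card_chain_succ (by norm_num), card_chain_five, pc_omask.2.2.2.2.1]
theorem card_chain_three : Nat.card (chain 3) = 20160 := by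
  rw [card_chain_succ (by norm_num), card_chain_four, pc_omask.2.2.2.1]
theorem card_chain_two : Nat.card (chain 2) = 443520 := by
  rw [card_chain_succ (by norm_num), card_chain_three, pc_omask.2.2.1]
theorem card_chain_one : Nat.card (chain 1) = 10200960 := by
  rw [card_chain_succ (by norm_num), card_chain_two, pc_omask.2.1]

theorem card_M24 : Nat.card M24 = 244823040 := by
  rw [← chain_zero, card_chain_succ (by norm_num), card_chain_one, pc_omask.1]

end Cfsg.Agent.Lib.Golay
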