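import Cfsg.Agent.Lib.Golay.Sextet

/-!
Maximality of the stabilisers of two and three points and of a pair of complementary dodecads.
-/

set_option autoImplicit false

namespace Cfsg.Agent.Lib.Golay

open scoped Pointwise
open Cfsg Finset

theorem card_kinter (s : Finset GolayPt) {k i : ℕ} (hi : i ≤ k) :
    ((univ.powersetCard k).filter (fun y => (y ∩ s).card = i)).card =
      s.card.choose i * (24 - s.card).choose (k - i) := by
  have hc : (24 - s.card) = sᶜ.card := by rw [card_compl, card_golayPt]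
  rw [hc, ← card_powersetCard, ← card_powersetCard, ← card_product]
  apply card_bij' (fun y _ => (y ∩ s, y ∩ sᶜ)) (fun p _ => p.1 ∪ p.2)
  · intro y hy
    rw [mem_filter, mem_powersetCard_univ] at hy
    rw [mem_product, mem_powersetCard, mem_powersetCard]
    refine ⟨⟨inter_subset_right, hy.2⟩, inter_subset_right, ?_⟩
    have h1 : (y ∩ s).card + (y ∩ sᶜ).card = y.card := by
      rw [← sdiff_eq_inter_compl, card_inter_add_card_sdiff]
    show (y ∩ sᶜ).card = k - i
    omega
  · rintro ⟨a, b⟩ hab
    rw [mem_product, mem_powersetCard, mem_powersetCard] at hab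
    obtain ⟨⟨h1, h2⟩, h3, h4⟩ := hab
    have hd : Disjoint a b := disjoint_left.2 (fun x hx hx' => (mem_compl.1 (h3 hx')) (h1 hx))
    rw [mem_filter, mem_powersetCard_univ]
    constructor
    · show (a ∪ b).card = k
      rw [card_union_of_disjoint hd]
      change a.card = i at h2
      change b.card = k - i at h4
      omega
    · have : (a ∪ b) ∩ s = a := by
        ext x
        simp only [mem_inter, mem_union]
        constructor
        · rintro ⟨hx | hx, hxs⟩
          · exact hx
          · exact absurd hxs (mem_compl.1 (h3 hx))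
        · intro hx; exact ⟨Or.inl hx, h1 hx⟩
      show ((a ∪ b) ∩ s).card = i
      rw [this]; exact h2
  · intro y _
    show y ∩ s ∪ y ∩ sᶜ = y
    rw [← inter_union_distrib_left, union_compl, inter_univ]
  · rintro ⟨a, b⟩ hab
    rw [mem_product, mem_powersetCard, mem_powersetCard] at hab
    obtain ⟨⟨h1, h2⟩, h3, h4⟩ := hab
    change a ⊆ s at h1
    change b ⊆ sᶜ at h3
    ext x
    · simp only [mem_inter, mem_union]
      constructor
      · rintro ⟨hx | hx, hxs⟩
        · exact hx
        · exact absurd hxs (mem_compl.1 (h3 hx))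
      · intro hx; exact ⟨Or.inl hx, h1 hx⟩
    · simp only [mem_inter, mem_union, mem_compl]
      constructor
      · rintro ⟨hx | hx, hxs⟩
        · exact absurd (h1 hx) hxs
        · exact hx
      · intro hx; exact ⟨Or.inr hx, mem_compl.1 (h3 hx)⟩

theorem ncard_kinter (s : Finset GolayPt) {k i : ℕ} (hi : i ≤ k) :
    {y : Finset GolayPt | y.card = k ∧ (y ∩ s).card = i}.ncard = s.card.choose i * (24 - s.card).choose (k - i) := by
  rw [← card_kinter s hi, ← Set.ncard_coe_finset]
  congr 1
  ext y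
  simp [mem_powersetCard_univ]

/-- transitivity on pairs of sets with at most five points in total -/
theorem pair_trans {s y s' z : Finset GolayPt} (h1 : s.card = s'.card) (h2 : y.card = z.card)
    (h3 : (y ∩ s).card = (z ∩ s').card) (h5 : (s ∪ y).card ≤ 5) : ∃ g ∈ M24, g • s = s' ∧ g • y = z := by
  have e1 : (s \ y).card + (y ∩ s).card = s.card := by
    rw [inter_comm]; exact card_sdiff_add_card_inter s y
  have e2 : (s' \ z).card + (z ∩ s').card = s'.card := by
    rw [inter_comm]; exact card_sdiff_add_card_inter s' z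
  have e3 := card_sdiff_add_card_inter y s
  have e4 := card_sdiff_add_card_inter z s'
  have e5 := card_union_add_card_inter s y
  rw [inter_comm] at e5
  have d1 : ∀ s y : Finset GolayPt, Disjoint (y ∩ s) (s \ y) := by
    intro s y
    exact disjoint_left.2 (fun x hx hx' => (mem_sdiff.1 hx').2 (mem_inter.1 hx).1)
  have d2 : ∀ s y : Finset GolayPt, Disjoint (y ∩ s) (y \ s) := by
    intro s y
    exact disjoint_left.2 (fun x hx hx' => (mem_sdiff.1 hx').2 (mem_inter.1 hx).2)
  have d3 : ∀ s y : Finset GolayPt, Disjoint (s \ y) (y \ s) := by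
    intro s y
    exact disjoint_left.2 (fun x hx hx' => (mem_sdiff.1 hx').2 (mem_sdiff.1 hx).1)
  obtain ⟨g, hg, g1, g2, g3⟩ := exists_map_sets (d1 s y) (d2 s y) (d3 s y) (d1 s' z) (d2 s' z) (d3 s' z)
    h3 (by omega) (by omega) (by omega)
  have u1 : ∀ s y : Finset GolayPt, s = (y ∩ s) ∪ (s \ y) := by
    intro s y; ext x; by_cases hx : x ∈ s <;> by_cases hy : x ∈ y <;> simp [hx, hy]
  have u2 : ∀ s y : Finset GolayPt, y = (y ∩ s) ∪ (y \ s) := by
    intro s y; ext x; by_cases hx : x ∈ s <;> by_cases hy : x ∈ y <;> simp [hx, hy]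
  refine ⟨g, hg, ?_, ?_⟩
  · calc g • s = g • ((y ∩ s) ∪ (s \ y)) := congrArg (fun t => g • t) (u1 s y)
      _ = (z ∩ s') ∪ (s' \ z) := by rw [smul_finset_union, g1, g2]
      _ = s' := (u1 s' z).symm
  · calc g • y = g • ((y ∩ s) ∪ (y \ s)) := congrArg (fun t => g • t) (u2 s y)
      _ = (z ∩ s') ∪ (z \ s') := by rw [smul_finset_union, g1, g3]
      _ = z := (u2 s' z).symm

theorem smul_erase' (g : Equiv.Perm GolayPt) {y z : Finset GolayPt} {a b : GolayPt} (ha : a ∈ y) (hb : b ∈ z)
    (h1 : g • y.erase a = z.erase b) (h2 : g a = b) : g • y = z := by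
  rw [← insert_erase ha, ← insert_erase hb, smul_finset_insert, h1]
  congr 1

/-- two disjoint triples in a common octad -/
theorem triples_in {s y s' z : Finset GolayPt} (hs : s.card = 3) (hs' : s'.card = 3) (hy : y.card = 3)
    (hz : z.card = 3) (h1 : Disjoint s y) (h2 : Disjoint s' z) {o o' : Finset GolayPt} (ho : o ∈ octads)
    (ho' : o' ∈ octads) (h3 : s ∪ y ⊆ o) (h4 : s' ∪ z ⊆ o') : ∃ g ∈ M24, g • s = s' ∧ g • y = z := by
  obtain ⟨a, ha⟩ := card_pos.1 (show 0 < y.card by omega)
  obtain ⟨b, hb⟩ := card_pos.1 (show 0 < z.card by omega)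
  have hso := union_subset_iff.1 h3
  have hso' := union_subset_iff.1 h4
  obtain ⟨g, hg, g1, g2, g3, g4, _⟩ := exists_map_sets_in (A := s) (B := y.erase a) (C := ∅)
    (A' := s') (B' := z.erase b) (C' := ∅)
    (h1.mono_right (erase_subset _ _)) (disjoint_empty_right _) (disjoint_empty_right _)
    (h2.mono_right (erase_subset _ _)) (disjoint_empty_right _) (disjoint_empty_right _)
    (by omega) (by rw [card_erase_of_mem ha, card_erase_of_mem hb]; omega) rfl
    (by rw [card_erase_of_mem ha, card_empty]; omega) ho ho' hso.1 ((erase_subset _ _).trans hso.2)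
    (empty_subset _) hso'.1 ((erase_subset _ _).trans hso'.2) (empty_subset _) (hso.2 ha) (hso'.2 hb)
    (fun h => disjoint_left.1 h1 h ha) (notMem_erase _ _) (notMem_empty _)
    (fun h => disjoint_left.1 h2 h hb) (notMem_erase _ _) (notMem_empty _)
  exact ⟨g, hg, g1, smul_erase' g ha hb g2 g4⟩

theorem exists_octad5 {s : Finset GolayPt} (hs : s.card = 5) : ∃ o ∈ octads, s ⊆ o := by
  obtain ⟨o, ⟨h1, h2⟩, _⟩ := steiner.2 s hs
  exact ⟨o, h1, h2⟩

/-- two disjoint triples not in a common octad -/
theorem triples_out {s y s' z : Finset GolayPt} (hs : s.card = 3) (hs' : s'.card = 3) (hy : y.card = 3)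
    (hz : z.card = 3) (h1 : Disjoint s y) (h2 : Disjoint s' z) (h3 : ¬ ∃ o ∈ octads, s ∪ y ⊆ o)
    (h4 : ¬ ∃ o ∈ octads, s' ∪ z ⊆ o) : ∃ g ∈ M24, g • s = s' ∧ g • y = z := by
  obtain ⟨a, ha⟩ := card_pos.1 (show 0 < y.card by omega)
  obtain ⟨b, hb⟩ := card_pos.1 (show 0 < z.card by omega)
  have key : ∀ (s y : Finset GolayPt) (a : GolayPt), s.card = 3 → y.card = 3 → Disjoint s y → a ∈ y →
      (¬ ∃ o ∈ octads, s ∪ y ⊆ o) → ∃ o ∈ octads, s ⊆ o ∧ y.erase a ⊆ o ∧ a ∉ o := by
    intro s y a hs hy hd ha hn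
    obtain ⟨o, ho, h⟩ := exists_octad5 (s := s ∪ y.erase a) (by
      rw [card_union_of_disjoint (hd.mono_right (erase_subset _ _)), card_erase_of_mem ha, hs, hy])
    rw [union_subset_iff] at h
    refine ⟨o, ho, h.1, h.2, fun hao => hn ⟨o, ho, ?_⟩⟩
    rw [union_subset_iff]
    refine ⟨h.1, ?_⟩
    rw [← insert_erase ha, insert_subset_iff]
    exact ⟨hao, h.2⟩
  obtain ⟨o, ho, p1, p2, p3⟩ := key s y a hs hy h1 ha h3
  obtain ⟨o', ho', q1, q2, q3⟩ := key s' z b hs' hz h2 hb h4
  obtain ⟨g, hg, g1, g2, g3, g4, _⟩ := exists_map_sets_out (A := s) (B := y.erase a) (C := ∅)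
    (A' := s') (B' := z.erase b) (C' := ∅)
    (h1.mono_right (erase_subset _ _)) (disjoint_empty_right _) (disjoint_empty_right _)
    (h2.mono_right (erase_subset _ _)) (disjoint_empty_right _) (disjoint_empty_right _)
    (by omega) (by rw [card_erase_of_mem ha, card_erase_of_mem hb]; omega) rfl
    (by rw [card_erase_of_mem ha, card_empty]; omega) ho ho' p1 p2
    (empty_subset _) q1 q2 (empty_subset _) p3 q3
  exact ⟨g, hg, g1, smul_erase' g ha hb g2 g4⟩

theorem orbit_M24_card {s : Finset GolayPt} {k : ℕ} (hs : s.card = k) (hk : k ≤ 5) :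
    MulAction.orbit M24 s = {y | y.card = k} := by
  refine orbit_eq_of_forall M24 s _ ?_ ?_
  · intro g _
    show (g • s).card = k
    rw [card_smul_finset, hs]
  · intro y hy
    obtain ⟨g, hg, h, _⟩ := pair_trans (s := s) (y := ∅) (s' := y) (z := ∅) (by rw [hs]; exact Eq.symm hy) rfl (by simp)
      (by rw [union_empty]; omega)
    exact ⟨g, hg, h⟩

theorem isCoatom_pair {s : Finset GolayPt} (hs : s.card = 2) : IsCoatom (MulAction.stabilizer M24 s) := by
  have hle : ∀ y : Finset GolayPt, (y ∩ s).card ≤ 2 := fun y => by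
    rw [← hs]; exact card_le_card inter_subset_right
  refine Coatom.isCoatom_stabilizer s (fun y => 2 - (y ∩ s).card) 3 (fun i => [1, 44, 231].getD i 0) ?_ ?_ ?_ ?_ ?_
    (by decide) (by decide)
  · show 2 - (s ∩ s).card = 0
    rw [inter_self, hs]
  · intro y hy h
    rw [orbit_M24_card hs (by norm_num)] at hy
    have hy' : y.card = 2 := hy
    have := hle y
    exact eq_of_inter_card hy' hs (by omega)
  · intro y hy z hz h
    rw [orbit_M24_card hs (by norm_num)] at hy hz
    have hy' : y.card = 2 := hy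
    have hz' : z.card = 2 := hz
    have h1 := hle y
    have h2 := hle z
    obtain ⟨g, hg, e1, e2⟩ := pair_trans (s := s) (y := y) (s' := s) (z := z) rfl (by omega) (by omega) (by
      have := card_union_le s y; omega)
    exact ⟨⟨g, hg⟩, e1, e2⟩
  · intro y _
    show 2 - (y ∩ s).card < 3
    omega
  · intro i hi
    have h1 : {y | y ∈ MulAction.orbit M24 s ∧ 2 - (y ∩ s).card = i} =
        {y : Finset GolayPt | y.card = 2 ∧ (y ∩ s).card = 2 - i} := by
      ext y
      rw [Set.mem_setOf_eq, Set.mem_setOf_eq, orbit_M24_card hs (by norm_num)]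
      have := hle y
      exact and_congr_right (fun _ => by omega)
    show {y | y ∈ MulAction.orbit M24 s ∧ 2 - (y ∩ s).card = i}.ncard = _
    rw [h1, ncard_kinter s (by omega), hs]
    interval_cases i <;> decide +kernel

theorem ncard_triples_in {s : Finset GolayPt} (hs : s.card = 3) :
    {U : Finset GolayPt | U.card = 3 ∧ Disjoint s U ∧ (∃ o ∈ octads, s ∪ U ⊆ o)}.ncard = 210 := by
  classical
  have hfin : {U : Finset GolayPt | U.card = 3 ∧ Disjoint s U ∧ (∃ o ∈ octads, s ∪ U ⊆ o)}.Finite := Set.toFinite _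
  have h := Finset.card_mul_eq_card_mul (s := hfin.toFinset)
    (t := (Steiner.blk octads).filter (fun o => s ⊆ o))
    (fun (U o : Finset GolayPt) => U ⊆ o) (m := 1) (n := 10) ?_ ?_
  · have h21 : ((Steiner.blk octads).filter (fun o => s ⊆ o)).card = 21 := by
      have h := Steiner.card_through steiner (P := s) (by omega)
      rw [hs, card_golayPt] at h
      norm_num [Nat.choose] at h
      omega
    rw [h21] at h
    rw [Set.ncard_eq_toFinset_card _ hfin]
    omega
  · intro U hU
    rw [Set.Finite.mem_toFinset] at hU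
    obtain ⟨h1, h2, o, ho, h3⟩ := hU
    rw [union_subset_iff] at h3
    rw [card_eq_one]
    refine ⟨o, ?_⟩
    ext a
    simp only [bipartiteAbove, mem_filter, Steiner.mem_blk, mem_singleton]
    constructor
    · rintro ⟨⟨h4, h5⟩, h6⟩
      apply octad_eq h4 ho
      have : s ∪ U ⊆ a ∩ o := by
        rw [union_subset_iff]
        exact ⟨subset_inter h5 h3.1, subset_inter h6 h3.2⟩
      have := card_le_card this
      rw [card_union_of_disjoint h2] at this
      omega
    · rintro rfl; exact ⟨⟨ho, h3.1⟩, h3.2⟩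
  · intro o ho
    rw [mem_filter, Steiner.mem_blk] at ho
    have : bipartiteBelow (fun (U o : Finset GolayPt) => U ⊆ o) hfin.toFinset o = (o \ s).powersetCard 3 := by
      ext U
      simp only [bipartiteBelow, mem_filter, Set.Finite.mem_toFinset, Set.mem_setOf_eq, mem_powersetCard]
      constructor
      · rintro ⟨⟨h1, h2, _⟩, h3⟩
        exact ⟨subset_sdiff.2 ⟨h3, h2.symm⟩, h1⟩
      · rintro ⟨h1, h2⟩
        rw [subset_sdiff] at h1
        exact ⟨⟨h2, h1.2.symm, o, ho.1, union_subset ho.2 h1.1⟩, h1.1⟩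
    rw [this, card_powersetCard, card_sdiff_of_subset ho.2, octad_card ho.1, hs]
    rfl

theorem ncard_triples_out {s : Finset GolayPt} (hs : s.card = 3) :
    {U : Finset GolayPt | U.card = 3 ∧ Disjoint s U ∧ ¬ (∃ o ∈ octads, s ∪ U ⊆ o)}.ncard = 1120 := by
  have h1 := ncard_triples_in hs
  have h2 := ncard_kinter s (k := 3) (i := 0) (by norm_num)
  rw [hs] at h2
  have e : Nat.choose 3 0 * Nat.choose (24 - 3) (3 - 0) = 1330 := by decide +kernel
  rw [e] at h2
  have h3 : {y : Finset GolayPt | y.card = 3 ∧ (y ∩ s).card = 0} =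
      {U : Finset GolayPt | U.card = 3 ∧ Disjoint s U ∧ (∃ o ∈ octads, s ∪ U ⊆ o)} ∪
      {U : Finset GolayPt | U.card = 3 ∧ Disjoint s U ∧ ¬ (∃ o ∈ octads, s ∪ U ⊆ o)} := by
    ext y
    simp only [Set.mem_setOf_eq, Set.mem_union, card_eq_zero, ← disjoint_iff_inter_eq_empty]
    rw [disjoint_comm]
    by_cases hex : ∃ o ∈ octads, s ∪ y ⊆ o
    · simp only [hex, and_true, not_true_eq_false, and_false, or_false]
    · simp only [hex, and_false, not_false_eq_true, and_true, false_or]
  rw [h3, Set.ncard_union_eq (by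
    rw [Set.disjoint_left]
    rintro U ⟨_, _, h⟩ ⟨_, _, h'⟩
    exact h' h) (Set.toFinite _) (Set.toFinite _), h1] at h2
  omega

/-- class of a triple relative to another -/
noncomputable def clsT (s y : Finset GolayPt) : ℕ := by
  classical
  exact if (y ∩ s).card = 0 then (if ∃ o ∈ octads, s ∪ y ⊆ o then 3 else 4) else 3 - (y ∩ s).card

theorem isCoatom_triple {s : Finset GolayPt} (hs : s.card = 3) : IsCoatom (MulAction.stabilizer M24 s) := by
  classical
  have hle : ∀ y : Finset GolayPt, (y ∩ s).card ≤ 3 := fun y => by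
    rw [← hs]; exact card_le_card inter_subset_right
  have hcls : ∀ y, (clsT s y = 0 ↔ (y ∩ s).card = 3) ∧ (clsT s y = 1 ↔ (y ∩ s).card = 2) ∧
      (clsT s y = 2 ↔ (y ∩ s).card = 1) ∧ (clsT s y = 3 ↔ (y ∩ s).card = 0 ∧ ∃ o ∈ octads, s ∪ y ⊆ o) ∧
      (clsT s y = 4 ↔ (y ∩ s).card = 0 ∧ ¬ ∃ o ∈ octads, s ∪ y ⊆ o) ∧ clsT s y < 5 := by
    intro y
    have := hle y
    unfold clsT
    by_cases h0 : (y ∩ s).card = 0
    · by_cases h1 : ∃ o ∈ octads, s ∪ y ⊆ o
      · rw [if_pos h0, if_pos h1]; simp [h0, h1]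
      · rw [if_pos h0, if_neg h1]; simp [h0, h1]
    · rw [if_neg h0]
      refine ⟨by omega, by omega, by omega, ?_, ?_, by omega⟩
      · constructor
        · intro h; omega
        · intro h; exact absurd h.1 h0
      · constructor
        · intro h; omega
        · intro h; exact absurd h.1 h0
  refine Coatom.isCoatom_stabilizer s (clsT s) 5 (fun i => [1, 63, 630, 210, 1120].getD i 0) ?_ ?_ ?_ ?_ ?_
    (by decide +kernel) (by decide)
  · exact (hcls s).1.2 (by rw [inter_self, hs])
  · intro y hy h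
    rw [orbit_M24_card hs (by norm_num)] at hy
    exact eq_of_inter_card hy hs ((hcls y).1.1 h)
  · intro y hy z hz h
    rw [orbit_M24_card hs (by norm_num)] at hy hz
    have hy' : y.card = 3 := hy
    have hz' : z.card = 3 := hz
    obtain ⟨a0, a1, a2, a3, a4, a5⟩ := hcls y
    obtain ⟨b0, b1, b2, b3, b4, b5⟩ := hcls z
    have hmeet : 0 < (y ∩ s).card → (y ∩ s).card = (z ∩ s).card → ∃ g ∈ MulAction.stabilizer M24 s, g • y = z := by
      intro h1 h2
      obtain ⟨g, hg, e1, e2⟩ := pair_trans (s := s) (y := y) (s' := s) (z := z) rfl (by omega) h2 (by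
        have := card_union_add_card_inter s y
        rw [inter_comm] at this
        omega)
      exact ⟨⟨g, hg⟩, e1, e2⟩
    have hdis : ∀ y : Finset GolayPt, (y ∩ s).card = 0 → Disjoint s y := by
      intro y h
      rw [card_eq_zero, inter_comm, ← disjoint_iff_inter_eq_empty] at h
      exact h
    rcases (show clsT s y = 0 ∨ clsT s y = 1 ∨ clsT s y = 2 ∨ clsT s y = 3 ∨ clsT s y = 4 by omega) with k | k | k | k | k
    · have h1 := a0.1 k
      have h2 := b0.1 (by rw [← h]; exact k)
      exact hmeet (by omega) (by omega)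
    · have h1 := a1.1 k
      have h2 := b1.1 (by rw [← h]; exact k)
      exact hmeet (by omega) (by omega)
    · have h1 := a2.1 k
      have h2 := b2.1 (by rw [← h]; exact k)
      exact hmeet (by omega) (by omega)
    · obtain ⟨h1, o, ho, h1'⟩ := a3.1 k
      obtain ⟨h2, o', ho', h2'⟩ := b3.1 (by rw [← h]; exact k)
      obtain ⟨g, hg, e1, e2⟩ := triples_in hs hs hy' hz' (hdis y h1) (hdis z h2) ho ho' h1' h2'
      exact ⟨⟨g, hg⟩, e1, e2⟩
    · obtain ⟨h1, h1'⟩ := a4.1 k
      obtain ⟨h2, h2'⟩ := b4.1 (by rw [← h]; exact k)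
      obtain ⟨g, hg, e1, e2⟩ := triples_out hs hs hy' hz' (hdis y h1) (hdis z h2) h1' h2'
      exact ⟨⟨g, hg⟩, e1, e2⟩
  · intro y _
    exact (hcls y).2.2.2.2.2
  · intro i hi
    have key : ∀ (k : ℕ) (P : Finset GolayPt → Prop), (∀ y, clsT s y = k ↔ P y) →
        {y | y ∈ MulAction.orbit M24 s ∧ clsT s y = k} = {y : Finset GolayPt | y.card = 3 ∧ P y} := by
      intro k P h
      ext y
      rw [Set.mem_setOf_eq, Set.mem_setOf_eq, orbit_M24_card hs (by norm_num)]
      exact and_congr_right (fun _ => h y)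
    have hdd : ∀ y : Finset GolayPt, (y ∩ s).card = 0 ↔ Disjoint s y := by
      intro y
      rw [card_eq_zero, inter_comm, ← disjoint_iff_inter_eq_empty]
    interval_cases i
    · rw [key 0 _ (fun y => (hcls y).1), ncard_kinter s (by norm_num), hs]; decide +kernel
    · rw [key 1 _ (fun y => (hcls y).2.1), ncard_kinter s (by norm_num), hs]; decide +kernel
    · rw [key 2 _ (fun y => (hcls y).2.2.1), ncard_kinter s (by norm_num), hs]; decide +kernel
    · rw [key 3 _ (fun y => (hcls y).2.2.2.1.trans (and_congr_left' (hdd y)))]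
      exact ncard_triples_in hs
    · rw [key 4 _ (fun y => (hcls y).2.2.2.2.1.trans (and_congr_left' (hdd y)))]
      exact ncard_triples_out hs

/-! ### pairs of complementary dodecads -/

/-- the pair of a dodecad and its complement -/
def dpair (e : Finset GolayPt) : Finset (Finset GolayPt) := {e, eᶜ}

theorem mem_dpair {a e : Finset GolayPt} : a ∈ dpair e ↔ a = e ∨ a = eᶜ := by
  unfold dpair; rw [mem_insert, mem_singleton]

theorem smul_dpair (g : Equiv.Perm GolayPt) (e : Finset GolayPt) : g • dpair e = dpair (g • e) := by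
  unfold dpair
  rw [smul_finset_insert, smul_finset_singleton, smul_compl']

theorem dpair_compl (e : Finset GolayPt) : dpair eᶜ = dpair e := by
  unfold dpair; rw [compl_compl, pair_comm]

theorem dpair_eq_iff {e e' : Finset GolayPt} : dpair e = dpair e' ↔ e = e' ∨ e = e'ᶜ := by
  constructor
  · intro h
    have : e ∈ dpair e' := by rw [← h, mem_dpair]; exact Or.inl rfl
    exact mem_dpair.1 this
  · rintro (rfl | rfl)
    · rfl
    · exact dpair_compl e'

theorem orbit_dpair {d : Finset GolayPt} (hd : d ∈ dodecads) :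
    MulAction.orbit M24 (dpair d) = dpair '' dodecads := by
  refine orbit_eq_of_forall M24 _ _ ?_ ?_
  · intro g hg
    exact ⟨g • d, smul_mem_dodecads hg hd, (smul_dpair g d).symm⟩
  · rintro _ ⟨e, he, rfl⟩
    obtain ⟨g, hg, h⟩ := dodecads_transitive hd he
    exact ⟨g, hg, by rw [smul_dpair, h]⟩

/-- class of a pair relative to a dodecad -/
noncomputable def clsP (d : Finset GolayPt) (y : Finset (Finset GolayPt)) : ℕ := by
  classical
  exact if ∃ e ∈ y, (e ∩ d).card = 12 then 0 else if ∃ e ∈ y, (e ∩ d).card = 8 then 1 else 2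

theorem compl_inter_card {d e : Finset GolayPt} (hd : d.card = 12) : (eᶜ ∩ d).card = 12 - (e ∩ d).card := by
  have h1 : (eᶜ ∩ d).card + (e ∩ d).card = d.card := by
    rw [inter_comm, ← sdiff_eq_inter_compl, inter_comm e, card_sdiff_add_card_inter]
  omega

theorem clsP_dpair {d e : Finset GolayPt} (hd : d ∈ dodecads) (he : e ∈ dodecads) :
    (clsP d (dpair e) = 0 ↔ (e ∩ d).card = 12 ∨ (e ∩ d).card = 0) ∧
    (clsP d (dpair e) = 1 ↔ (e ∩ d).card = 8 ∨ (e ∩ d).card = 4) ∧
    (clsP d (dpair e) = 2 ↔ (e ∩ d).card = 6) ∧ clsP d (dpair e) < 3 := by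
  classical
  have h1 := dod_inter he hd
  have h2 := compl_inter_card (e := e) (mem_dodecads.1 hd).2
  have hex : ∀ n, (∃ a ∈ dpair e, (a ∩ d).card = n) ↔ ((e ∩ d).card = n ∨ 12 - (e ∩ d).card = n) := by
    intro n
    constructor
    · rintro ⟨a, ha, h⟩
      rcases mem_dpair.1 ha with rfl | rfl
      · exact Or.inl h
      · right; rw [← h2]; exact h
    · rintro (h | h)
      · exact ⟨e, mem_dpair.2 (Or.inl rfl), h⟩
      · exact ⟨eᶜ, mem_dpair.2 (Or.inr rfl), by rw [h2]; exact h⟩
  unfold clsP
  simp only [hex]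
  rcases h1 with h | h | h | h | h <;> rw [h] <;> simp

theorem isCoatom_dpair_std : IsCoatom (MulAction.stabilizer M24 (dpair (st dodU))) := by
  classical
  have hd := dodU_mem
  have hdc := (mem_dodecads.1 hd).2
  have horb := orbit_dpair hd
  refine Coatom.isCoatom_stabilizer (dpair (st dodU)) (clsP (st dodU)) 3 (fun i => [1, 495, 792].getD i 0) ?_ ?_ ?_ ?_ ?_
    (by decide +kernel) (by decide)
  · exact (clsP_dpair hd hd).1.2 (Or.inl (by rw [inter_self, hdc]))
  · intro y hy h
    rw [horb] at hy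
    obtain ⟨e, he, rfl⟩ := hy
    rw [dpair_eq_iff]
    have hec := (mem_dodecads.1 he).2
    rcases (clsP_dpair hd he).1.1 h with h1 | h1
    · exact Or.inl (eq_of_inter_card hec hdc h1)
    · right
      have h2 := compl_inter_card (e := e) hdc
      rw [h1] at h2
      have h3 := eq_of_inter_card (n := 12) (by rw [card_compl, card_golayPt, hec]) hdc h2
      rw [← h3, compl_compl]
  · intro y hy z hz h
    rw [horb] at hy hz
    obtain ⟨e, he, rfl⟩ := hy
    obtain ⟨e', he', rfl⟩ := hz
    have hec' := compl_dodecad he'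
    have hmove : ∀ a ∈ dodecads, (e ∩ st dodU).card = (a ∩ st dodU).card → dpair a = dpair e' →
        ∃ g ∈ MulAction.stabilizer M24 (dpair (st dodU)), g • dpair e = dpair e' := by
      intro a ha h1 h2
      obtain ⟨g, hg, e1, e2⟩ := dod_rel hd he ha (by rw [inter_comm, h1, inter_comm])
      refine ⟨⟨g, hg⟩, ?_, ?_⟩
      · show g • dpair (st dodU) = _
        rw [smul_dpair, e1]
      · show g • dpair e = _
        rw [smul_dpair, e2, h2]
    have hc2 := compl_inter_card (e := e') hdc
    obtain ⟨a0, a1, a2, a3⟩ := clsP_dpair hd he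
    obtain ⟨b0, b1, b2, b3⟩ := clsP_dpair hd he'
    have hcase : (e ∩ st dodU).card = (e' ∩ st dodU).card ∨ (e ∩ st dodU).card = (e'ᶜ ∩ st dodU).card := by
      rcases (show clsP (st dodU) (dpair e) = 0 ∨ clsP (st dodU) (dpair e) = 1 ∨ clsP (st dodU) (dpair e) = 2 by omega) with k | k | k
      · have h1 := a0.1 k
        have h2 := b0.1 (by rw [← h]; exact k)
        omega
      · have h1 := a1.1 k
        have h2 := b1.1 (by rw [← h]; exact k)
        omega
      · have h1 := a2.1 k
        have h2 := b2.1 (by rw [← h]; exact k)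
        omega
    rcases hcase with h1 | h1
    · exact hmove e' he' h1 rfl
    · exact hmove e'ᶜ hec' h1 (dpair_compl e')
  · intro y hy
    rw [horb] at hy
    obtain ⟨e, he, rfl⟩ := hy
    exact (clsP_dpair hd he).2.2.2
  · intro i hi
    obtain ⟨n12, n8, n6, n4, n0⟩ := ncard_dod_rel hd
    have himg : ∀ (k : ℕ) (Q : Finset GolayPt → Prop), (∀ e ∈ dodecads, Q e → clsP (st dodU) (dpair e) = k) →
        (∀ e ∈ dodecads, clsP (st dodU) (dpair e) = k → Q e ∨ Q eᶜ) →
        (∀ e ∈ dodecads, Q e → ¬ Q eᶜ) →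
        {y | y ∈ MulAction.orbit M24 (dpair (st dodU)) ∧ clsP (st dodU) y = k}.ncard =
          {e | e ∈ dodecads ∧ Q e}.ncard := by
      intro k Q q1 q2 q3
      have : {y | y ∈ MulAction.orbit M24 (dpair (st dodU)) ∧ clsP (st dodU) y = k} =
          dpair '' {e | e ∈ dodecads ∧ Q e} := by
        ext y
        constructor
        · rintro ⟨h1, h2⟩
          rw [horb] at h1
          obtain ⟨e, he, rfl⟩ := h1
          rcases q2 e he h2 with q | q
          · exact ⟨e, ⟨he, q⟩, rfl⟩
          · exact ⟨eᶜ, ⟨compl_dodecad he, q⟩, dpair_compl e⟩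
        · rintro ⟨e, ⟨he, q⟩, rfl⟩
          refine ⟨?_, q1 e he q⟩
          rw [horb]; exact ⟨e, he, rfl⟩
      rw [this, Set.ncard_image_of_injOn]
      rintro a ⟨ha, qa⟩ b ⟨hb, qb⟩ hab
      rcases dpair_eq_iff.1 hab with h | h
      · exact h
      · rw [h] at qa
        exact absurd qa (q3 b hb qb)
    interval_cases i
    · rw [himg 0 (fun e => (e ∩ st dodU).card = 12)]
      · exact n12
      · intro e he q; exact (clsP_dpair hd he).1.2 (Or.inl q)
      · intro e he q
        have := compl_inter_card (e := e) hdc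
        have := (clsP_dpair hd he).1.1 q
        omega
      · intro e he q
        have := compl_inter_card (e := e) hdc
        omega
    · rw [himg 1 (fun e => (e ∩ st dodU).card = 8)]
      · exact n8
      · intro e he q; exact (clsP_dpair hd he).2.1.2 (Or.inl q)
      · intro e he q
        have := compl_inter_card (e := e) hdc
        have := (clsP_dpair hd he).2.1.1 q
        omega
      · intro e he q
        have := compl_inter_card (e := e) hdc
        omega
    · rw [himg 2 (fun e => (e ∩ st dodU).card = 6 ∧ pt 23 ∈ e)]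
      · have h := ncard_words_pred (F := fun s => s.card = 12 ∧ (s ∩ st dodU).card = 6 ∧ pt 23 ∈ s)
          (f := fun m => pc m == 12 && pc (m &&& dodU) == 6 && m.testBit 23) (by
            intro s
            rw [Bool.and_eq_true, Bool.and_eq_true, beq_iff_eq, beq_iff_eq, card_eq_pc, pc_and_mk]
            have : (pt 23 ∈ s) ↔ (mk s).testBit 23 = true := by
              conv_lhs => rw [← st_mk s]
              rw [mem_st, ix_pt (by norm_num)]
            rw [this]; tauto)
        have e : countB (fun c => pc (comb c) == 12 && pc (comb c &&& dodU) == 6 && (comb c).testBit 23) 0 12 = 792 := by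
          decide +kernel
        rw [e] at h
        show _ = 792
        rw [← h]
        congr 1
        ext s
        simp only [Set.mem_setOf_eq, mem_dodecads]
        tauto
      · rintro e he ⟨q, _⟩; exact (clsP_dpair hd he).2.2.1.2 q
      · intro e he q
        have h1 := compl_inter_card (e := e) hdc
        have h2 := (clsP_dpair hd he).2.2.1.1 q
        by_cases h3 : pt 23 ∈ e
        · exact Or.inl ⟨h2, h3⟩
        · exact Or.inr ⟨by omega, mem_compl.2 h3⟩
      · rintro e he ⟨_, q⟩ ⟨_, q'⟩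
        exact (mem_compl.1 q') q

theorem isCoatom_dpair {d : Finset GolayPt} (hd : d ∈ dodecads) : IsCoatom (MulAction.stabilizer M24 (dpair d)) := by
  obtain ⟨g, hg, e⟩ := dodecads_transitive dodU_mem hd
  have h := Coatom.isCoatom_smul isCoatom_dpair_std (⟨g, hg⟩ : M24)
  have e2 : (⟨g, hg⟩ : M24) • dpair (st dodU) = dpair d := by
    show g • dpair (st dodU) = dpair d
    rw [smul_dpair, e]
  rwa [e2] at h

end Cfsg.Agent.Lib.Golay
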