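import Cfsg.Agent.Lib.Golay.Stab

/-!
Codes of permutations given by functions; enumeration of the elements normalising a cyclic group.
-/

set_option autoImplicit false

namespace Cfsg.Agent.Lib.Golay

open scoped Pointwise
open Cfsg

/-- code with given digits -/
def bldAux (f : ℕ → ℕ) : ℕ → ℕ
  | 0 => 0
  | n + 1 => bldAux f n ||| (f n <<< (5 * n))

/-- code with given digits -/
def bld (f : ℕ → ℕ) : ℕ := bldAux f 24

theorem bldAux_lt (f : ℕ → ℕ) (hf : ∀ i, f i < 32) (n : ℕ) : bldAux f n < 2 ^ (5 * n) := by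
  induction n with
  | zero => simp [bldAux]
  | succ n ih =>
    simp only [bldAux]
    apply Nat.or_lt_two_pow
    · exact lt_of_lt_of_le ih (Nat.pow_le_pow_right (by norm_num) (by omega))
    · rw [Nat.shiftLeft_eq]
      calc f n * 2 ^ (5 * n) < 32 * 2 ^ (5 * n) :=
            Nat.mul_lt_mul_of_pos_right (hf _) (by positivity)
        _ = 2 ^ (5 * (n + 1)) := by rw [show 5 * (n + 1) = 5 + 5 * n by ring, pow_add]; norm_num

theorem img_bldAux (f : ℕ → ℕ) (hf : ∀ i, f i < 32) : ∀ n i, i < n → img (bldAux f n) i = f i := by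
  intro n
  induction n with
  | zero => intro i hi; omega
  | succ n ih =>
    intro i hi
    have hlt := bldAux_lt f hf n
    simp only [bldAux]
    apply Nat.eq_of_testBit_eq
    intro j
    rw [img, Nat.testBit_and, Nat.testBit_shiftRight, Nat.testBit_or, Nat.testBit_shiftLeft]
    by_cases hin : i = n
    · subst hin
      have h1 : (bldAux f i).testBit (5 * i + j) = false :=
        Nat.testBit_lt_two_pow (lt_of_lt_of_le hlt (Nat.pow_le_pow_right (by norm_num) (by omega)))
      rw [h1]
      simp only [Bool.false_or, ge_iff_le, Nat.le_add_right, decide_true, Bool.true_and,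
        Nat.add_sub_cancel_left]
      by_cases hj : j < 5
      · have : Nat.testBit 31 j = true := by
          have h5 : ∀ j < 5, Nat.testBit 31 j = true := by decide
          exact h5 j hj
        rw [this, Bool.and_true]
      · have h2 : (f i).testBit j = false :=
          Nat.testBit_lt_two_pow (lt_of_lt_of_le (hf _) (by
            calc 32 = 2 ^ 5 := by norm_num
              _ ≤ 2 ^ j := Nat.pow_le_pow_right (by norm_num) (by omega)))
        rw [h2, Bool.false_and]
    · have hlt' : i < n := by omega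
      rw [← ih i hlt']
      by_cases hj : j < 5
      · have : ¬ 5 * n ≤ 5 * i + j := by omega
        simp only [ge_iff_le, this, decide_false, Bool.false_and, Bool.or_false]
        rw [img, Nat.testBit_and, Nat.testBit_shiftRight]
      · have : Nat.testBit 31 j = false :=
          Nat.testBit_lt_two_pow (lt_of_lt_of_le (by norm_num : 31 < 2 ^ 5)
            (Nat.pow_le_pow_right (by norm_num) (by omega)))
        rw [this, Bool.and_false]
        symm
        rw [img, Nat.testBit_and, this, Bool.and_false]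

theorem bldAux_congr {f f' : ℕ → ℕ} (n : ℕ) (h : ∀ i < n, f i = f' i) : bldAux f n = bldAux f' n := by
  induction n with
  | zero => rfl
  | succ n ih =>
    simp only [bldAux]
    rw [ih (fun i hi => h i (by omega)), h n (by omega)]

theorem bld_congr {f f' : ℕ → ℕ} (h : ∀ i < 24, f i = f' i) : bld f = bld f' := bldAux_congr 24 h

theorem img_bld (f : ℕ → ℕ) (hf : ∀ i < 24, f i < 32) {i : ℕ} (hi : i < 24) : img (bld f) i = f i := by
  have h1 : bld f = bld (fun i => if i < 24 then f i else 0) := bld_congr (fun i hi => by simp [hi])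
  rw [h1, bld, img_bldAux _ _ 24 i hi]
  · simp [hi]
  · intro j
    split_ifs with h
    · exact hf j h
    · norm_num

/-- the code of a permutation -/
def codeOf (g : Equiv.Perm GolayPt) : ℕ := bld (fun i => ix (g (pt i)))

theorem img_codeOf (g : Equiv.Perm GolayPt) {i : ℕ} (hi : i < 24) : img (codeOf g) i = ix (g (pt i)) :=
  img_bld _ (fun _ _ => lt_trans (ix_lt _) (by norm_num)) hi

theorem valid_codeOf (g : Equiv.Perm GolayPt) : valid (codeOf g) = true := by
  unfold valid
  rw [Bool.and_eq_true, List.all_eq_true, beq_iff_eq]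
  constructor
  · intro i hi
    rw [List.mem_range] at hi
    rw [Nat.blt_eq, img_codeOf g hi]
    exact ix_lt _
  · apply Nat.eq_of_testBit_eq
    intro j
    by_cases hj : j < 24
    · have h1 : Nat.testBit 0xffffff j = true := by revert j; decide
      rw [h1, testBit_imgMask]
      refine ⟨ix (g.symm (pt j)), ix_lt _, ?_⟩
      rw [img_codeOf _ (ix_lt _), pt_ix, Equiv.apply_symm_apply, ix_pt hj]
    · have h1 : Nat.testBit 0xffffff j = false :=
        Nat.testBit_lt_two_pow (lt_of_lt_of_le (by norm_num : 0xffffff < 2 ^ 24)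
            (Nat.pow_le_pow_right (by norm_num) (by omega)))
      rw [h1]
      by_contra hb
      rw [Bool.not_eq_false, testBit_imgMask] at hb
      obtain ⟨i, hi, e⟩ := hb
      rw [img_codeOf _ hi] at e
      have := ix_lt (g (pt i))
      omega

theorem pm_codeOf (g : Equiv.Perm GolayPt) : pm (codeOf g) = g := by
  ext p : 1
  apply ix_inj
  rw [ix_pm (valid_codeOf g), img_codeOf _ (ix_lt p), pt_ix]

theorem codeOf_pm_bld {f : ℕ → ℕ} (hf : ∀ i < 24, f i < 32) (hv : valid (bld f) = true) :
    codeOf (pm (bld f)) = bld f := by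
  apply bld_congr
  intro i hi
  rw [ix_pm hv, ix_pt hi, img_bld f hf hi]

theorem act_lt {c : ℕ} (hc : valid c = true) (m : ℕ) : act c m < 2 ^ 24 := by
  refine Nat.lt_of_testBit 24 ?_ (by decide) ?_
  · by_contra hb
    rw [Bool.not_eq_false, act, testBit_actAux] at hb
    obtain ⟨i, hi, _, e⟩ := hb
    have := valid_lt hc hi
    omega
  · intro j hj
    rw [Nat.testBit_two_pow_of_ne (by omega)]
    by_contra hb
    rw [Bool.not_eq_false, act, testBit_actAux] at hb
    obtain ⟨i, hi, _, e⟩ := hb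
    have := valid_lt hc hi
    omega

theorem pres_iff {c : ℕ} (hc : valid c = true) : pres c = true ↔ pm c ∈ M24 := by
  constructor
  · exact pm_mem_M24
  · intro h
    unfold pres
    rw [Bool.and_eq_true, List.all_eq_true]
    refine ⟨hc, fun r hr => ?_⟩
    have h1 : ∀ r ∈ rows, r < 2 ^ 24 ∧ inCode r = true := by decide +kernel
    rw [← isWord_st (act_lt hc r), ← pm_smul_st hc]
    exact IsWord.smul h ((isWord_st (h1 r hr).1).2 (h1 r hr).2)

/-! ### Enumeration -/

/-- cartesian product of lists -/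
def tup : List (List ℕ) → List (List ℕ)
  | [] => [[]]
  | l :: ls => l.flatMap (fun q => (tup ls).map (fun t => q :: t))

theorem mem_tup {qs : List ℕ} {ls : List (List ℕ)} : qs ∈ tup ls ↔ List.Forall₂ (fun q l => q ∈ l) qs ls := by
  induction ls generalizing qs with
  | nil =>
    simp only [tup, List.mem_singleton]
    constructor
    · rintro rfl; exact List.Forall₂.nil
    · intro h; cases h; rfl
  | cons l ls ih =>
    simp only [tup, List.mem_flatMap, List.mem_map]
    constructor
    · rintro ⟨q, hq, t, ht, rfl⟩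
      exact List.Forall₂.cons hq (ih.1 ht)
    · intro h
      cases h with
      | cons hq ht => exact ⟨_, hq, _, ih.2 ht, rfl⟩

/-- the permutation commuting `t` into `t'`, with prescribed images of the representatives of the cycles;
`pw j` is the code of the `j`-th power of `t'`, `tab i = (index of representative, exponent)` -/
def cand (pw : ℕ → ℕ) (tab : List (ℕ × ℕ)) (qs : List ℕ) : ℕ :=
  bld (fun i => img (pw (tab.getD i (0, 0)).2) (qs.getD (tab.getD i (0, 0)).1 0))

/-- the table `tab` is correct for the powers `pw` of `t` -/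
def tabOK (pw : ℕ → ℕ) (tab : List (ℕ × ℕ)) (reps : List ℕ) : Bool :=
  (List.range 24).all (fun i => valid (pw (tab.getD i (0, 0)).2) &&
    img (pw (tab.getD i (0, 0)).2) (reps.getD (tab.getD i (0, 0)).1 0) == i &&
    Nat.blt (tab.getD i (0, 0)).1 reps.length && reps.all (fun r => Nat.blt r 24))

theorem codeOf_eq_cand {pw pw' : ℕ → ℕ} {tab : List (ℕ × ℕ)} {reps : List ℕ} (htab : tabOK pw tab reps = true)
    {t t' g : Equiv.Perm GolayPt} {P : ℕ} (hlt : ∀ i < 24, (tab.getD i (0, 0)).2 < P)
    (hpw : ∀ j < P, valid (pw j) = true ∧ pm (pw j) = t ^ j)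
    (hpw' : ∀ j < P, valid (pw' j) = true ∧ pm (pw' j) = t' ^ j) (hg : g * t = t' * g) :
    codeOf g = cand pw' tab (reps.map (fun r => ix (g (pt r)))) := by
  have hgp : ∀ j : ℕ, g * t ^ j = t' ^ j * g := by
    intro j
    induction j with
    | zero => simp
    | succ j ih => rw [pow_succ, ← mul_assoc, ih, mul_assoc, hg, ← mul_assoc, ← pow_succ]
  unfold cand
  apply bld_congr
  intro i hi
  unfold tabOK at htab
  rw [List.all_eq_true] at htab
  have h1 := htab i (List.mem_range.2 hi)
  simp only [Bool.and_eq_true, beq_iff_eq, Nat.blt_eq, List.all_eq_true] at h1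
  obtain ⟨⟨⟨h1, h2⟩, h3⟩, h4⟩ := h1
  set j := (tab.getD i (0, 0)).2
  set ri := (tab.getD i (0, 0)).1
  have hr : reps.getD ri 0 = reps[ri] := by rw [List.getD_eq_getElem _ _ h3]
  have h5 : (reps.map (fun r => ix (g (pt r)))).getD ri 0 = ix (g (pt (reps.getD ri 0))) := by
    rw [hr, List.getD_eq_getElem _ _ (by rw [List.length_map]; exact h3), List.getElem_map]
  have h6 : reps.getD ri 0 < 24 := by
    rw [hr]
    exact h4 _ (List.getElem_mem h3)
  rw [h5, ← ix_pm (hpw' j (hlt i hi)).1, (hpw' j (hlt i hi)).2, ← Equiv.Perm.mul_apply, ← hgp,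
    Equiv.Perm.mul_apply, ← (hpw j (hlt i hi)).2, pm_pt h1 h6, h2]

theorem cand_lt {pw : ℕ → ℕ} {tab : List (ℕ × ℕ)} {qs : List ℕ} :
    ∀ i < 24, img (pw (tab.getD i (0, 0)).2) (qs.getD (tab.getD i (0, 0)).1 0) < 32 :=
  fun _ _ => img_lt _ _

/-- codes with the relation `c t = t' c` in a subgroup -/
def solList (inH : ℕ → Bool) (t t' : ℕ) (pw' : ℕ → ℕ) (tab : List (ℕ × ℕ)) (al : List (List ℕ)) : List ℕ :=
  ((tup al).map (cand pw' tab)).filter (fun c => valid c && inH c &&
    (List.range 24).all (fun i => img c (img t i) == img t' (img c i)))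

theorem mem_solList {inH : ℕ → Bool} {H : Subgroup (Equiv.Perm GolayPt)}
    (hH : ∀ c, valid c = true → (inH c = true ↔ pm c ∈ H))
    {t t' : ℕ} {pw pw' : ℕ → ℕ} {tab : List (ℕ × ℕ)} {reps : List ℕ} {al : List (List ℕ)} {P : ℕ}
    (ht : valid t = true) (ht' : valid t' = true)
    (htab : tabOK pw tab reps = true) (hlt : ∀ i < 24, (tab.getD i (0, 0)).2 < P)
    (hpw : ∀ j < P, valid (pw j) = true ∧ pm (pw j) = pm t ^ j)
    (hpw' : ∀ j < P, valid (pw' j) = true ∧ pm (pw' j) = pm t' ^ j)
    (hal : ∀ g ∈ H, g * pm t = pm t' * g → List.Forall₂ (fun r l => ix (g (pt r)) ∈ l) reps al)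
    (g : Equiv.Perm GolayPt) :
    (g ∈ H ∧ g * pm t = pm t' * g) ↔ codeOf g ∈ solList inH t t' pw' tab al := by
  unfold solList
  simp only [List.mem_filter, List.mem_map, Bool.and_eq_true, List.all_eq_true, beq_iff_eq, List.mem_range]
  constructor
  · rintro ⟨h1, h2⟩
    refine ⟨⟨reps.map (fun r => ix (g (pt r))), ?_, (codeOf_eq_cand htab hlt hpw hpw' h2).symm⟩,
      ⟨valid_codeOf g, (hH _ (valid_codeOf g)).2 (by rw [pm_codeOf]; exact h1)⟩, ?_⟩
    · rw [mem_tup, List.forall₂_map_left_iff]
      exact hal g h1 h2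
    · intro i hi
      have h3 := congrArg (fun f => f (pt i)) h2
      simp only [Equiv.Perm.mul_apply] at h3
      rw [pm_pt ht hi] at h3
      rw [img_codeOf _ (valid_lt ht hi), h3, ix_pm ht', img_codeOf _ hi]
  · rintro ⟨_, ⟨h1, h2⟩, h3⟩
    refine ⟨?_, ?_⟩
    · have := (hH _ h1).1 h2
      rwa [pm_codeOf] at this
    · ext p : 1
      apply ix_inj
      have h4 := h3 (ix p) (ix_lt p)
      rw [img_codeOf _ (valid_lt ht (ix_lt p)), img_codeOf _ (ix_lt p), pt_ix, ← pm_apply ht, ← ix_pm ht'] at h4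
      exact h4

theorem codeOf_pm_of_mem_solList {inH : ℕ → Bool} {t t' : ℕ} {pw' : ℕ → ℕ} {tab : List (ℕ × ℕ)}
    {al : List (List ℕ)} {c : ℕ} (hc : c ∈ solList inH t t' pw' tab al) : codeOf (pm c) = c := by
  unfold solList at hc
  simp only [List.mem_filter, List.mem_map, Bool.and_eq_true] at hc
  obtain ⟨⟨qs, _, rfl⟩, ⟨h1, _⟩, _⟩ := hc
  exact codeOf_pm_bld cand_lt h1

/-- counting a set of permutations by a list of canonical codes -/
theorem ncard_eq_length {S : Set (Equiv.Perm GolayPt)} {l : List ℕ} (hl : l.Nodup)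
    (hcan : ∀ c ∈ l, codeOf (pm c) = c) (h : ∀ g, g ∈ S ↔ codeOf g ∈ l) : S.ncard = l.length := by
  have h1 : S = pm '' {c | c ∈ l} := by
    ext g
    rw [h]
    constructor
    · intro hg; exact ⟨_, hg, pm_codeOf g⟩
    · rintro ⟨c, hc, rfl⟩
      rw [hcan c hc]; exact hc
  rw [h1, Set.ncard_image_of_injOn]
  · have h2 : {c | c ∈ l} = ((l.toFinset : Finset ℕ) : Set ℕ) := by
      ext c; simp
    rw [h2, Set.ncard_coe_finset, List.toFinset_card_of_nodup hl]
  · intro a ha b hb hab
    rw [← hcan a ha, ← hcan b hb]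
    exact congrArg codeOf hab

/-- codes normalising the group of order `p` generated by `t` -/
def normList (inH : ℕ → Bool) (p : ℕ) (pw : ℕ → ℕ) (tab : List (ℕ × ℕ)) (al : List (List ℕ)) : List ℕ :=
  (List.range p).flatMap (fun k => if k = 0 then [] else
    solList inH (pw 1) (pw k) (fun j => pw ((k * j) % p)) tab al)

/-- the list of powers is correct -/
def pwOK (p : ℕ) (pw : ℕ → ℕ) : Bool :=
  pw 0 == idc && (List.range p).all (fun j => valid (pw j) && comp (pw 1) (pw j) == (if j + 1 == p then idc else pw (j + 1)))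

theorem pwOK_spec {p : ℕ} (hp : 1 < p) {pw : ℕ → ℕ} (h : pwOK p pw = true) :
    (∀ j < p, valid (pw j) = true ∧ pm (pw j) = pm (pw 1) ^ j) ∧ pm (pw 1) ^ p = 1 := by
  unfold pwOK at h
  simp only [Bool.and_eq_true, beq_iff_eq, List.all_eq_true, List.mem_range] at h
  obtain ⟨h0, h1⟩ := h
  have h3 : ∀ j < p, valid (pw j) = true ∧ pm (pw j) = pm (pw 1) ^ j := by
    intro j
    induction j with
    | zero => intro _; rw [h0, pm_idc]; exact ⟨valid_idc, (pow_zero _).symm⟩
    | succ j ih =>
      intro hj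
      refine ⟨(h1 _ hj).1, ?_⟩
      have h2 := (h1 j (by omega)).2
      rw [if_neg (by omega)] at h2
      rw [← h2, pm_comp (h1 1 hp).1 (h1 j (by omega)).1, (ih (by omega)).2, ← pow_succ']
  refine ⟨h3, ?_⟩
  obtain ⟨q, rfl⟩ : ∃ q, p = q + 1 := ⟨p - 1, by omega⟩
  have h2 := (h1 q (by omega)).2
  rw [if_pos rfl] at h2
  rw [pow_succ', ← (h3 q (by omega)).2, ← pm_comp (h1 1 hp).1 (h1 q (by omega)).1, h2, pm_idc]

theorem ncard_norm {inH : ℕ → Bool} {H : Subgroup (Equiv.Perm GolayPt)}
    (hH : ∀ c, valid c = true → (inH c = true ↔ pm c ∈ H))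
    {p : ℕ} (hp : 1 < p) {pw : ℕ → ℕ} {tab : List (ℕ × ℕ)} {reps : List ℕ} {al : List (List ℕ)}
    (hpw : pwOK p pw = true)
    (htab : tabOK pw tab reps = true) (hlt : ∀ i < 24, (tab.getD i (0, 0)).2 < p)
    (hal : ∀ g ∈ H, ∀ k < p, 0 < k → g * pm (pw 1) = pm (pw 1) ^ k * g →
      List.Forall₂ (fun r l => ix (g (pt r)) ∈ l) reps al)
    (hnd : (normList inH p pw tab al).Nodup) :
    {g | g ∈ H ∧ ∃ k, 0 < k ∧ k < p ∧ g * pm (pw 1) = pm (pw 1) ^ k * g}.ncard =
      (normList inH p pw tab al).length := by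
  obtain ⟨h1, h2⟩ := pwOK_spec hp hpw
  apply ncard_eq_length hnd
  · intro c hc
    unfold normList at hc
    rw [List.mem_flatMap] at hc
    obtain ⟨k, _, hc⟩ := hc
    split_ifs at hc
    · simp at hc
    · exact codeOf_pm_of_mem_solList hc
  · intro g
    unfold normList
    rw [List.mem_flatMap, Set.mem_ofPred_eq]
    have key : ∀ k < p, 0 < k → ((g ∈ H ∧ g * pm (pw 1) = pm (pw 1) ^ k * g) ↔
        codeOf g ∈ solList inH (pw 1) (pw k) (fun j => pw ((k * j) % p)) tab al) := by
      intro k hk hk0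
      rw [← (h1 k hk).2]
      refine mem_solList hH (h1 1 hp).1 (h1 k hk).1 htab hlt h1 ?_ ?_ g
      · intro j hj
        have h4 : (k * j) % p < p := Nat.mod_lt _ (by omega)
        refine ⟨(h1 _ h4).1, ?_⟩
        rw [(h1 _ h4).2, (h1 k hk).2, ← pow_mul]
        conv_rhs => rw [← Nat.div_add_mod (k * j) p, pow_add, pow_mul, h2, one_pow, one_mul]
      · intro g hg h
        rw [(h1 k hk).2] at h
        exact hal g hg k hk hk0 h
    constructor
    · rintro ⟨hg, k, hk0, hk, h⟩
      refine ⟨k, List.mem_range.2 hk, ?_⟩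
      rw [if_neg (by omega)]
      exact (key k hk hk0).1 ⟨hg, h⟩
    · rintro ⟨k, hk, h⟩
      rw [List.mem_range] at hk
      by_cases hk0 : k = 0
      · rw [if_pos hk0] at h; simp at h
      · rw [if_neg hk0] at h
        have := (key k hk (by omega)).2 h
        exact ⟨this.1, k, by omega, hk, this.2⟩

/-- order of the normaliser of a cyclic subgroup of a subgroup -/
theorem card_normalizer_zpowers {G : Type*} [Group G] (H : Subgroup G) {t : G} (ht : t ∈ H)
    {p : ℕ} (hp : 1 < p) (hord : orderOf t = p) :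
    Nat.card ↥(Subgroup.normalizer ((Subgroup.zpowers (⟨t, ht⟩ : H) : Subgroup H) : Set H)) =
      {g | g ∈ H ∧ ∃ k, 0 < k ∧ k < p ∧ g * t = t ^ k * g}.ncard := by
  classical
  have hmem : ∀ g : H, g ∈ Subgroup.normalizer ((Subgroup.zpowers (⟨t, ht⟩ : H) : Subgroup H) : Set H) ↔
      ∃ k, 0 < k ∧ k < p ∧ (g : G) * t = t ^ k * g := by
    intro g
    set T : H := ⟨t, ht⟩ with hT
    have hordT : orderOf T = p := by rw [← hord, hT, Subgroup.orderOf_mk]
    have hfin : IsOfFinOrder T := orderOf_pos_iff.1 (by rw [hordT]; omega)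
    have hfin' : Finite (Subgroup.zpowers T) := by
      exact Set.Finite.to_subtype (finite_zpowers.2 hfin)
    constructor
    · intro hg
      rw [Subgroup.mem_normalizer_iff] at hg
      have h1 := (hg T).1 (Subgroup.mem_zpowers T)
      rw [← hfin.mem_powers_iff_mem_zpowers, hfin.mem_powers_iff_mem_range_orderOf, Finset.mem_image] at h1
      obtain ⟨k, hk, e⟩ := h1
      rw [Finset.mem_range, hordT] at hk
      have e' : (g : G) * t = t ^ k * g := by
        have := congrArg (fun x : H => (x : G) * g) e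
        simp only [Subgroup.coe_pow, Subgroup.coe_mul, Subgroup.coe_inv, hT, inv_mul_cancel_right] at this
        exact this.symm
      refine ⟨k, ?_, hk, e'⟩
      rcases Nat.eq_zero_or_pos k with h0 | h0
      · exfalso
        rw [h0, pow_zero, one_mul, mul_eq_left] at e'
        rw [e', orderOf_one] at hord
        omega
      · exact h0
    · rintro ⟨k, hk0, hk, e⟩
      have e1 : g * T * g⁻¹ = T ^ k := by
        apply Subtype.ext
        simp only [Subgroup.coe_pow, Subgroup.coe_mul, Subgroup.coe_inv, hT]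
        rw [mul_inv_eq_iff_eq_mul]; exact e
      rw [Subgroup.mem_normalizer_iff_map_conj_eq]
      have h2 : (Subgroup.zpowers T).map (MulAut.conj g : H →* H) ≤ Subgroup.zpowers T := by
        rw [MonoidHom.map_zpowers, Subgroup.zpowers_le]
        show g * T * g⁻¹ ∈ _
        rw [e1]
        exact Subgroup.pow_mem _ (Subgroup.mem_zpowers T) k
      refine Subgroup.eq_of_le_of_card_ge h2 ?_
      rw [Subgroup.card_map_of_injective (MulAut.conj g).injective]
  rw [← Nat.card_coe_set_eq]
  refine Nat.card_congr ⟨fun g => ⟨((g : H) : G), (g : H).2, (hmem g).1 g.2⟩,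
    fun g => ⟨⟨g, g.2.1⟩, (hmem _).2 g.2.2⟩, fun g => rfl, fun g => rfl⟩

end Cfsg.Agent.Lib.Golay
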