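import Cfsg.Agent.Lib.Golay.OctOrbData
import Cfsg.Agent.Lib.Coatom

/-!
Orbits of the stabiliser of an octad on octads and of the stabiliser of a dodecad on dodecads; maximality.
-/

set_option autoImplicit false

namespace Cfsg.Agent.Lib.Golay

open scoped Pointwise
open Cfsg

/-- roots for octads relative to the standard octad -/
def rootO (m : ℕ) : ℕ :=
  if pc (m &&& oct0) == 8 then 0x82402f else if pc (m &&& oct0) == 4 then 0x149f
    else if pc (m &&& oct0) == 2 then 0x3da1 else 0x527c0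

/-- roots for dodecads relative to the standard dodecad -/
def rootD (m : ℕ) : ℕ :=
  if pc (m &&& dodU) == 12 then 0x5335f else if pc (m &&& dodU) == 8 then 0x6fdd
    else if pc (m &&& dodU) == 6 then 0xdfba else if pc (m &&& dodU) == 4 then 0xfccb8 else 0xfacca0

theorem octS_ok : descOK octSG octST octSD (fun m => pc m == 8) rootO = true := by decide +kernel

theorem dodS_ok : descOK dodSG dodST dodSD (fun m => pc m == 12) rootD = true := by decide +kernel

/-- the standard octad stabiliser -/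
def hOct : Subgroup (Equiv.Perm GolayPt) := M24 ⊓ MulAction.stabilizer (Equiv.Perm GolayPt) (st oct0)

theorem octSG_ok : octSG.all (fun c => pres c && act c oct0 == oct0) = true := by decide +kernel
theorem dodSG_ok : dodSG.all (fun c => pres c && act c dodU == dodU) = true := by decide +kernel

theorem octSG_mem : ∀ c ∈ octSG, valid c = true ∧ pm c ∈ hOct := by
  intro c hc
  have h := octSG_ok
  rw [List.all_eq_true] at h
  have h1 := h c hc
  rw [Bool.and_eq_true] at h1
  have hv := pres_valid h1.1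
  exact ⟨hv, pm_mem_M24 h1.1, (pm_mem_stabSet hv (by decide)).1 h1.2⟩

theorem dodSG_mem : ∀ c ∈ dodSG, valid c = true ∧ pm c ∈ m12 := by
  intro c hc
  have h := dodSG_ok
  rw [List.all_eq_true] at h
  have h1 := h c hc
  rw [Bool.and_eq_true] at h1
  have hv := pres_valid h1.1
  exact ⟨hv, pm_mem_M24 h1.1, (pm_mem_stabSet hv (by decide)).1 h1.2⟩

theorem oct_root {o : Finset GolayPt} (ho : o ∈ octads) : ∃ g ∈ hOct, g • o = st (rootO (mk o)) := by
  rw [mem_octads] at ho
  exact desc_spec octS_ok inf_le_left octSG_mem o ho.1 (by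
    rw [beq_iff_eq, ← card_eq_pc]; exact ho.2)

theorem dod_root {o : Finset GolayPt} (ho : o ∈ dodecads) : ∃ g ∈ m12, g • o = st (rootD (mk o)) := by
  rw [mem_dodecads] at ho
  exact desc_spec dodS_ok inf_le_left dodSG_mem o ho.1 (by
    rw [beq_iff_eq, ← card_eq_pc]; exact ho.2)

theorem pc_and_mk (s : Finset GolayPt) (m : ℕ) : pc (mk s &&& m) = (s ∩ st m).card := by
  rw [← card_st, st_and, st_mk]

theorem oct_rel_std {a b : Finset GolayPt} (ha : a ∈ octads) (hb : b ∈ octads)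
    (h : (a ∩ st oct0).card = (b ∩ st oct0).card) : ∃ g ∈ hOct, g • a = b := by
  obtain ⟨g, hg, e⟩ := oct_root ha
  obtain ⟨k, hk, e'⟩ := oct_root hb
  have h1 : rootO (mk a) = rootO (mk b) := by
    unfold rootO; rw [pc_and_mk, pc_and_mk, h]
  refine ⟨k⁻¹ * g, hOct.mul_mem (hOct.inv_mem hk) hg, ?_⟩
  rw [mul_smul, e, h1, ← e', inv_smul_smul]

theorem dod_rel_std {a b : Finset GolayPt} (ha : a ∈ dodecads) (hb : b ∈ dodecads)
    (h : (a ∩ st dodU).card = (b ∩ st dodU).card) : ∃ g ∈ m12, g • a = b := by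
  obtain ⟨g, hg, e⟩ := dod_root ha
  obtain ⟨k, hk, e'⟩ := dod_root hb
  have h1 : rootD (mk a) = rootD (mk b) := by
    unfold rootD; rw [pc_and_mk, pc_and_mk, h]
  refine ⟨k⁻¹ * g, m12.mul_mem (m12.inv_mem hk) hg, ?_⟩
  rw [mul_smul, e, h1, ← e', inv_smul_smul]

theorem card_smul_inter (g : Equiv.Perm GolayPt) (a b : Finset GolayPt) : (g • a ∩ g • b).card = (a ∩ b).card := by
  rw [← smul_inter', Finset.card_smul_finset]

theorem oct_rel {o a b : Finset GolayPt} (ho : o ∈ octads) (ha : a ∈ octads) (hb : b ∈ octads)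
    (h : (o ∩ a).card = (o ∩ b).card) : ∃ g ∈ M24, g • o = o ∧ g • a = b := by
  obtain ⟨k, hk, e⟩ := octads_transitive ho oct0_mem
  obtain ⟨g, hg, e'⟩ := oct_rel_std (smul_mem_octads hk ha) (smul_mem_octads hk hb) (by
    rw [← e, card_smul_inter, card_smul_inter, Finset.inter_comm a, Finset.inter_comm b, h])
  have hg2 : g • st oct0 = st oct0 := hg.2
  refine ⟨k⁻¹ * g * k, M24.mul_mem (M24.mul_mem (M24.inv_mem hk) hg.1) hk, ?_, ?_⟩
  · rw [mul_smul, mul_smul, e, hg2, ← e, inv_smul_smul]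
  · rw [mul_smul, mul_smul, e', inv_smul_smul]

theorem dod_rel {o a b : Finset GolayPt} (ho : o ∈ dodecads) (ha : a ∈ dodecads) (hb : b ∈ dodecads)
    (h : (o ∩ a).card = (o ∩ b).card) : ∃ g ∈ M24, g • o = o ∧ g • a = b := by
  obtain ⟨k, hk, e⟩ := dodecads_transitive ho dodU_mem
  obtain ⟨g, hg, e'⟩ := dod_rel_std (smul_mem_dodecads hk ha) (smul_mem_dodecads hk hb) (by
    rw [← e, card_smul_inter, card_smul_inter, Finset.inter_comm a, Finset.inter_comm b, h])
  have hg2 : g • st dodU = st dodU := hg.2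
  refine ⟨k⁻¹ * g * k, M24.mul_mem (M24.mul_mem (M24.inv_mem hk) hg.1) hk, ?_, ?_⟩
  · rw [mul_smul, mul_smul, e, hg2, ← e, inv_smul_smul]
  · rw [mul_smul, mul_smul, e', inv_smul_smul]

/-! ### counts -/

/-- counting is invariant: a class of words defined through a word `d` -/
theorem ncard_rel {X : Set (Finset GolayPt)} (hX : ∀ g ∈ M24, ∀ s ∈ X, g • s ∈ X) {d d' : Finset GolayPt} {g : Equiv.Perm GolayPt}
    (hg : g ∈ M24) (e : g • d = d') (F : ℕ → Prop) :
    {o : Finset GolayPt | o ∈ X ∧ F (o ∩ d).card}.ncard = {o : Finset GolayPt | o ∈ X ∧ F (o ∩ d').card}.ncard := by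
  subst e
  have : {o : Finset GolayPt | o ∈ X ∧ F (o ∩ g • d).card} =
      (fun o => g • o) '' {o : Finset GolayPt | o ∈ X ∧ F (o ∩ d).card} := by
    ext o
    rw [Set.mem_image]
    constructor
    · rintro ⟨h1, h2⟩
      refine ⟨g⁻¹ • o, ⟨hX _ (M24.inv_mem hg) _ h1, ?_⟩, smul_inv_smul g o⟩
      rw [← card_smul_inter g, smul_inv_smul]; exact h2
    · rintro ⟨o', ⟨h1, h2⟩, rfl⟩
      refine ⟨hX _ hg _ h1, ?_⟩
      show F (g • o' ∩ g • d).card
      rw [card_smul_inter]; exact h2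
  rw [this, Set.ncard_image_of_injective _ (MulAction.injective g)]

theorem ncard_oct_std (i n : ℕ) (h : countB (fun c => pc (comb c) == 8 && pc (comb c &&& oct0) == i) 0 12 = n) :
    {o : Finset GolayPt | o ∈ octads ∧ (o ∩ st oct0).card = i}.ncard = n := by
  rw [← h, ← ncard_words_pred (F := fun s => s.card = 8 ∧ (s ∩ st oct0).card = i)
    (f := fun m => pc m == 8 && pc (m &&& oct0) == i)]
  · congr 1
    ext s
    simp only [Set.mem_setOf_eq, mem_octads]
    tauto
  · intro s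
    rw [Bool.and_eq_true, beq_iff_eq, beq_iff_eq, card_eq_pc, pc_and_mk]

theorem ncard_dod_std (i n : ℕ) (h : countB (fun c => pc (comb c) == 12 && pc (comb c &&& dodU) == i) 0 12 = n) :
    {o : Finset GolayPt | o ∈ dodecads ∧ (o ∩ st dodU).card = i}.ncard = n := by
  rw [← h, ← ncard_words_pred (F := fun s => s.card = 12 ∧ (s ∩ st dodU).card = i)
    (f := fun m => pc m == 12 && pc (m &&& dodU) == i)]
  · congr 1
    ext s
    simp only [Set.mem_setOf_eq, mem_dodecads]
    tauto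
  · intro s
    rw [Bool.and_eq_true, beq_iff_eq, beq_iff_eq, card_eq_pc, pc_and_mk]

theorem ncard_oct_rel {o : Finset GolayPt} (ho : o ∈ octads) :
    {a : Finset GolayPt | a ∈ octads ∧ (a ∩ o).card = 8}.ncard = 1 ∧
    {a : Finset GolayPt | a ∈ octads ∧ (a ∩ o).card = 4}.ncard = 280 ∧
    {a : Finset GolayPt | a ∈ octads ∧ (a ∩ o).card = 2}.ncard = 448 ∧
    {a : Finset GolayPt | a ∈ octads ∧ (a ∩ o).card = 0}.ncard = 30 := by
  obtain ⟨g, hg, e⟩ := octads_transitive ho oct0_mem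
  have hX : ∀ g ∈ M24, ∀ s ∈ octads, g • s ∈ octads := fun g hg s hs => smul_mem_octads hg hs
  refine ⟨?_, ?_, ?_, ?_⟩
  · rw [ncard_rel hX hg e (fun n => n = 8)]; exact ncard_oct_std 8 1 (by decide +kernel)
  · rw [ncard_rel hX hg e (fun n => n = 4)]; exact ncard_oct_std 4 280 (by decide +kernel)
  · rw [ncard_rel hX hg e (fun n => n = 2)]; exact ncard_oct_std 2 448 (by decide +kernel)
  · rw [ncard_rel hX hg e (fun n => n = 0)]; exact ncard_oct_std 0 30 (by decide +kernel)

theorem ncard_dod_rel {d : Finset GolayPt} (hd : d ∈ dodecads) :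
    {a : Finset GolayPt | a ∈ dodecads ∧ (a ∩ d).card = 12}.ncard = 1 ∧
    {a : Finset GolayPt | a ∈ dodecads ∧ (a ∩ d).card = 8}.ncard = 495 ∧
    {a : Finset GolayPt | a ∈ dodecads ∧ (a ∩ d).card = 6}.ncard = 1584 ∧
    {a : Finset GolayPt | a ∈ dodecads ∧ (a ∩ d).card = 4}.ncard = 495 ∧
    {a : Finset GolayPt | a ∈ dodecads ∧ (a ∩ d).card = 0}.ncard = 1 := by
  obtain ⟨g, hg, e⟩ := dodecads_transitive hd dodU_mem
  have hX : ∀ g ∈ M24, ∀ s ∈ dodecads, g • s ∈ dodecads := fun g hg s hs => smul_mem_dodecads hg hs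
  refine ⟨?_, ?_, ?_, ?_, ?_⟩
  · rw [ncard_rel hX hg e (fun n => n = 12)]; exact ncard_dod_std 12 1 (by decide +kernel)
  · rw [ncard_rel hX hg e (fun n => n = 8)]; exact ncard_dod_std 8 495 (by decide +kernel)
  · rw [ncard_rel hX hg e (fun n => n = 6)]; exact ncard_dod_std 6 1584 (by decide +kernel)
  · rw [ncard_rel hX hg e (fun n => n = 4)]; exact ncard_dod_std 4 495 (by decide +kernel)
  · rw [ncard_rel hX hg e (fun n => n = 0)]; exact ncard_dod_std 0 1 (by decide +kernel)

theorem dod_inter {d d' : Finset GolayPt} (hd : d ∈ dodecads) (hd' : d' ∈ dodecads) :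
    (d ∩ d').card = 0 ∨ (d ∩ d').card = 4 ∨ (d ∩ d').card = 6 ∨ (d ∩ d').card = 8 ∨ (d ∩ d').card = 12 := by
  obtain ⟨h1, h2⟩ := mem_dodecads.1 hd
  obtain ⟨h3, h4⟩ := mem_dodecads.1 hd'
  have h := card_symmDiff d d'
  have hw := (h1.symmDiff h3).card
  rw [h2, h4] at h
  omega

theorem eq_of_inter_card {n : ℕ} {a b : Finset GolayPt} (ha : a.card = n) (hb : b.card = n)
    (h : (a ∩ b).card = n) : a = b := by
  have h1 : a ∩ b = a := Finset.eq_of_subset_of_card_le Finset.inter_subset_left (by omega)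
  have h2 : a ∩ b = b := Finset.eq_of_subset_of_card_le Finset.inter_subset_right (by omega)
  rw [← h1, h2]

/-! ### maximality -/

theorem orbit_M24_octad {o : Finset GolayPt} (ho : o ∈ octads) : MulAction.orbit M24 o = octads :=
  orbit_eq_of_forall M24 o octads (fun _ hg => smul_mem_octads hg ho) (fun _ hy => octads_transitive ho hy)

/-- class of an octad relative to another -/
def clsO (o y : Finset GolayPt) : ℕ :=
  if (y ∩ o).card = 8 then 0 else if (y ∩ o).card = 4 then 1 else if (y ∩ o).card = 2 then 2 else 3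

theorem clsO_eq {o y : Finset GolayPt} (ho : o ∈ octads) (hy : y ∈ octads) :
    (clsO o y = 0 ↔ (y ∩ o).card = 8) ∧ (clsO o y = 1 ↔ (y ∩ o).card = 4) ∧ (clsO o y = 2 ↔ (y ∩ o).card = 2) ∧
      (clsO o y = 3 ↔ (y ∩ o).card = 0) := by
  have h := octad_inter hy ho
  unfold clsO
  rcases h with h | h | h | h <;> rw [h] <;> simp

theorem isCoatom_octad {o : Finset GolayPt} (ho : o ∈ octads) : IsCoatom (MulAction.stabilizer M24 o) := by
  have hoc : o.card = 8 := (mem_octads.1 ho).2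
  have hcount := ncard_oct_rel ho
  refine Coatom.isCoatom_stabilizer o (clsO o) 4 (fun i => [1, 280, 448, 30].getD i 0) ?_ ?_ ?_ ?_ ?_ (by decide)
    (by decide)
  · exact (clsO_eq ho ho).1.2 (by rw [Finset.inter_self, hoc])
  · intro y hy h
    rw [orbit_M24_octad ho] at hy
    have h1 := (clsO_eq ho hy).1.1 h
    exact eq_of_inter_card (mem_octads.1 hy).2 hoc h1
  · intro y hy z hz h
    rw [orbit_M24_octad ho] at hy hz
    have h1 : (y ∩ o).card = (z ∩ o).card := by
      obtain ⟨a0, a1, a2, a3⟩ := clsO_eq ho hy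
      obtain ⟨b0, b1, b2, b3⟩ := clsO_eq ho hz
      rcases octad_inter hy ho with k | k | k | k
      · rw [k, ← b3.1]; rw [← h]; exact a3.2 k
      · rw [k, ← b2.1]; rw [← h]; exact a2.2 k
      · rw [k, ← b1.1]; rw [← h]; exact a1.2 k
      · rw [k, ← b0.1]; rw [← h]; exact a0.2 k
    obtain ⟨g, hg, e1, e2⟩ := oct_rel ho hy hz (by rw [Finset.inter_comm o, Finset.inter_comm o, h1])
    exact ⟨⟨g, hg⟩, e1, e2⟩
  · intro y _
    unfold clsO
    split_ifs <;> norm_num
  · intro i hi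
    have key : ∀ k n : ℕ, (∀ y ∈ octads, clsO o y = k ↔ (y ∩ o).card = n) →
        {y | y ∈ MulAction.orbit M24 o ∧ clsO o y = k} = {a | a ∈ octads ∧ (a ∩ o).card = n} := by
      intro k n h
      ext y
      rw [Set.mem_setOf_eq, Set.mem_setOf_eq, orbit_M24_octad ho]
      exact and_congr_right (fun hy => h y hy)
    interval_cases i
    · rw [key 0 8 (fun y hy => (clsO_eq ho hy).1)]; exact hcount.1
    · rw [key 1 4 (fun y hy => (clsO_eq ho hy).2.1)]; exact hcount.2.1
    · rw [key 2 2 (fun y hy => (clsO_eq ho hy).2.2.1)]; exact hcount.2.2.1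
    · rw [key 3 0 (fun y hy => (clsO_eq ho hy).2.2.2)]; exact hcount.2.2.2

end Cfsg.Agent.Lib.Golay
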