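import Cfsg.Agent.Lib.Golay.SextetStruct2

/-!
The pointwise stabiliser of an octad and the octads disjoint from it.
-/

set_option autoImplicit false

namespace Cfsg.Agent.Lib.Golay

open scoped Pointwise
open Cfsg Finset

theorem fixOct_tr_dat : (let l := list48.filter (fun c => fixesB c oct0)
    (List.range 24).all (fun i => (List.range 24).all (fun j => oct0.testBit i || oct0.testBit j ||
      l.any (fun c => img c i == j)))) = true := by decide +kernel

theorem fixOct_trans0 {p q : GolayPt} (hp : p ∉ st oct0) (hq : q ∉ st oct0) : ∃ g ∈ M24, Fixes g oct0 ∧ g p = q := by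
  have h := fixOct_tr_dat
  simp only at h
  rw [List.all_eq_true] at h
  have h1 := h (ix p) (List.mem_range.2 (ix_lt p))
  rw [List.all_eq_true] at h1
  have h2 := h1 (ix q) (List.mem_range.2 (ix_lt q))
  rw [mem_st, Bool.not_eq_true] at hp hq
  rw [hp, hq, Bool.false_or, Bool.false_or, List.any_eq_true] at h2
  obtain ⟨c, hc, e⟩ := h2
  rw [beq_iff_eq] at e
  rw [List.mem_filter] at hc
  have hcv := (list48_spec c hc.1).1
  refine ⟨pm c, (list48_mem_chain c hc.1).1, (fixesB_iff hcv _).1 hc.2, ?_⟩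
  apply ix_inj
  rw [ix_pm hcv, e]

theorem fixOct_trans {o : Finset GolayPt} (ho : o ∈ octads) {p q : GolayPt} (hp : p ∉ o) (hq : q ∉ o) :
    ∃ g ∈ M24, (∀ x ∈ o, g x = x) ∧ g p = q := by
  obtain ⟨k, hk, rfl⟩ := octads_transitive oct0_mem ho
  have hp' : k⁻¹ p ∉ st oct0 := by
    intro h; apply hp; rw [mem_smul_iff]; exact h
  have hq' : k⁻¹ q ∉ st oct0 := by
    intro h; apply hq; rw [mem_smul_iff]; exact h
  obtain ⟨g, hg, h1, h2⟩ := fixOct_trans0 hp' hq'
  refine ⟨k * g * k⁻¹, M24.mul_mem (M24.mul_mem hk hg) (M24.inv_mem hk), ?_, ?_⟩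
  · intro x hx
    rw [mem_smul_iff] at hx
    rw [Equiv.Perm.mul_apply, Equiv.Perm.mul_apply]
    show k (g (k.symm x)) = x
    rw [h1 _ hx, Equiv.apply_symm_apply]
  · rw [Equiv.Perm.mul_apply, Equiv.Perm.mul_apply, h2]
    exact k.apply_symm_apply q

theorem fixOct_dis_dat : allB (fun w => !(pc (comb w) == 8) || !(comb w &&& oct0 == 0) ||
    (list48.filter (fun c => fixesB c oct0)).all (fun c => act c (comb w) == comb w ||
      act c (comb w) == 0xffffff ^^^ (oct0 ||| comb w))) 0 12 = true := by decide +kernel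

theorem disj_st {a b : ℕ} (hb : b < 2 ^ 24) : Disjoint (st a) (st b) ↔ b &&& a = 0 := by
  rw [Finset.disjoint_iff_inter_eq_empty, ← st_and, Nat.and_comm]
  constructor
  · intro h
    rw [← st_zero] at h
    exact st_inj (lt_of_le_of_lt Nat.and_le_left hb) (by norm_num) h
  · intro h; rw [h, st_zero]

theorem fixOct_disj {o : Finset GolayPt} (ho : o ∈ octads) {g : Equiv.Perm GolayPt} (hg : g ∈ M24)
    (hf : ∀ x ∈ o, g x = x) {a : Finset GolayPt} (ha : a ∈ octads) (hoa : Disjoint o a) :
    g • a = a ∨ g • a = (o ∪ a)ᶜ := by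
  obtain ⟨k, hk, rfl⟩ := octads_transitive oct0_mem ho
  have h1 : (k⁻¹ * g * k) ∈ M24 := M24.mul_mem (M24.mul_mem (M24.inv_mem hk) hg) hk
  have h2 : Fixes (k⁻¹ * g * k) oct0 := by
    intro p hp
    rw [Equiv.Perm.mul_apply, Equiv.Perm.mul_apply, hf (k p) ((smul_mem_smul_iff' k _ p).2 hp)]
    exact k.symm_apply_apply p
  have h3 := (mem_fixOct_iff _).1 ⟨h1, h2⟩
  obtain ⟨w, hw, e⟩ := exists_comb (s := k⁻¹ • a) (mem_octads.1 (smul_mem_octads (M24.inv_mem hk) ha)).1
  have h4 := of_allB fixOct_dis_dat (i := w) (Nat.zero_le _) (by simpa using hw)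
  simp only [Bool.or_eq_true, Bool.not_eq_true', beq_eq_false_iff_ne, ne_eq, List.all_eq_true, beq_iff_eq] at h4
  have hcv := valid_codeOf (k⁻¹ * g * k)
  rcases h4 with (h4 | h4) | h4
  · exfalso
    apply h4
    rw [← card_st, ← e, card_smul_finset]
    exact (mem_octads.1 ha).2
  · exfalso
    apply h4
    rw [← disj_st (comb_lt w), ← e, Finset.disjoint_iff_inter_eq_empty]
    rw [Finset.disjoint_iff_inter_eq_empty] at hoa
    have h5 : k • (st oct0 ∩ k⁻¹ • a) = ∅ := by rw [smul_inter', smul_inv_smul, hoa]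
    rw [smul_finset_eq_empty] at h5
    exact h5
  · have h5 := h4 _ h3
    have e2 : k • st (comb w) = a := by rw [← e, smul_inv_smul]
    have e3 : pm (codeOf (k⁻¹ * g * k)) • st (comb w) = k⁻¹ • g • a := by
      rw [pm_codeOf, mul_smul, mul_smul, e2]
    have e4 := pm_smul_st hcv (comb w)
    rw [e3] at e4
    rcases h5 with h5 | h5
    · left
      rw [h5, inv_smul_eq_iff, e2] at e4
      exact e4
    · right
      rw [h5, inv_smul_eq_iff, Nat.xor_comm, st_compl, st_or, smul_compl', smul_finset_union, e2] at e4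
      exact e4

/-- the octads disjoint from the standard one through the point 4 -/
def dis4 : List ℕ := [0x99590, 0xcb250, 0x182d50, 0x1d0a90, 0x20ab90, 0x258c50, 0x311350, 0x343490, 0x401ed0, 0x453910,
  0x51a610, 0x5481d0, 0x6920d0, 0x6c0710, 0x789810]

/-- these octads and their intersections -/
def dis4I : List ℕ := dis4.flatMap (fun a => dis4.map (fun b => a &&& b))

/-- certificate -/
def certD : List (ℕ × ℕ) := [(0x400610, 0x99590), (0x400610, 0x20ab90), (0x400610, 0x400610), (0x80510, 0x20ab90), (0x80510, 0x80510), (0x680010, 0x680010), (0x6c0710, 0x6c0710), (0x89010, 0x51a610), (0x89010, 0x89010), (0x301010, 0x301010), (0x789810, 0x789810), (0x2910, 0x2910), (0x51a610, 0x51a610), (0x99590, 0x99590), (0x182d50, 0x182d50), (0x8dc6, 0x7b42), (0x7b42, 0x7b42), (0x8dc6, 0x8dc6), (0x10f13, 0x10f13), (0x149f, 0x149f), (0x293e, 0x293e), (0x20ab9, 0x20ab9), (0xffeb60, 0xffeb60)]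

theorem certD_ok : certOK dis4I certD 0x10 = true := by decide +kernel

/-- an element fixing the point 4 and the octads through it disjoint from the standard one is trivial -/
theorem eq_one_of_dis4 {g : Equiv.Perm GolayPt} (hg : g ∈ M24) (h4 : g (pt 4) = pt 4)
    (h : ∀ a ∈ octads, Disjoint (st oct0) a → pt 4 ∈ a → g • a = a) : g = 1 := by
  have hd : ∀ a ∈ dis4, g • st a = st a := by
    have hdat : ∀ a ∈ dis4, (inCode a = true ∧ pc a = 8) ∧ a &&& oct0 = 0 ∧ a.testBit 4 = true ∧ a < 2 ^ 24 := by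
      decide +kernel
    intro a ha
    obtain ⟨h1, h2, h3, h5⟩ := hdat a ha
    apply h
    · rw [mem_octads, IsWord, card_st, mk_st h5]; exact h1
    · exact (disj_st h5).2 h2
    · rw [mem_st, ix_pt (by norm_num)]; exact h3
  refine certOK_spec hg (I := dis4I) ?_ certD (F := 0x10) ?_ certD_ok
  · intro B hB
    unfold dis4I at hB
    rw [List.mem_flatMap] at hB
    obtain ⟨a, ha, hB⟩ := hB
    rw [List.mem_map] at hB
    obtain ⟨b, hb, rfl⟩ := hB
    rw [st_and, smul_inter', hd a ha, hd b hb]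
  · intro p hp
    have : p = pt 4 := by revert hp; revert p; decide +kernel
    rw [this, h4]

end Cfsg.Agent.Lib.Golay
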