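import Cfsg.Agent.Lib.Golay.Fam2
import Cfsg.Agent.Lib.Golay.OrbSData

/-!
Orbits of the stabilisers of a sextet, a trio and an octad on sextets, trios and octads.
-/

set_option autoImplicit false

namespace Cfsg.Agent.Lib.Golay

open scoped Pointwise
open Cfsg Finset

/-- a subgroup `H` preserving `X` has exactly `r` orbits on `X`, with sizes `cnt 0, …, cnt (r-1)` -/
def OrbRes {Y : Type} [MulAction (Equiv.Perm GolayPt) Y] (H : Subgroup (Equiv.Perm GolayPt)) (X : Set Y) (r : ℕ)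
    (cnt : ℕ → ℕ) : Prop :=
  (∀ g ∈ H, ∀ y ∈ X, g • y ∈ X) ∧ ∃ f : Y → ℕ, (∀ g ∈ H, ∀ y, f (g • y) = f y) ∧ (∀ y ∈ X, f y < r) ∧
    (∀ y ∈ X, ∀ z ∈ X, f y = f z → ∃ g ∈ H, g • y = z) ∧ ∀ k < r, {y | y ∈ X ∧ f y = k}.ncard = cnt k

theorem smul_stab_conj {Y : Type} [MulAction (Equiv.Perm GolayPt) Y] {g : Equiv.Perm GolayPt} (hg : g ∈ M24) {s : Y}
    {h : Equiv.Perm GolayPt} : h ∈ M24 ⊓ MulAction.stabilizer (Equiv.Perm GolayPt) (g • s) ↔
      g⁻¹ * h * g ∈ M24 ⊓ MulAction.stabilizer (Equiv.Perm GolayPt) s := by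
  constructor
  · rintro ⟨h1, h2⟩
    refine ⟨M24.mul_mem (M24.mul_mem (M24.inv_mem hg) h1) hg, ?_⟩
    show (g⁻¹ * h * g) • s = s
    replace h2 : h • g • s = g • s := h2
    rw [mul_smul, mul_smul, h2, inv_smul_smul]
  · rintro ⟨h1, h2⟩
    have h3 : g * (g⁻¹ * h * g) * g⁻¹ = h := by group
    refine ⟨?_, ?_⟩
    · show h ∈ M24
      rw [← h3]; exact M24.mul_mem (M24.mul_mem hg h1) (M24.inv_mem hg)
    · replace h2 : (g⁻¹ * h * g) • s = s := h2
      rw [mul_smul, mul_smul, inv_smul_eq_iff] at h2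
      exact h2

theorem OrbRes.conj {Y Z : Type} [MulAction (Equiv.Perm GolayPt) Y] [MulAction (Equiv.Perm GolayPt) Z] {s : Z} {X : Set Y}
    {r : ℕ} {cnt : ℕ → ℕ}
    (h : OrbRes (M24 ⊓ MulAction.stabilizer (Equiv.Perm GolayPt) s) X r cnt)
    (hX : ∀ g ∈ M24, ∀ y ∈ X, g • y ∈ X) {g : Equiv.Perm GolayPt} (hg : g ∈ M24) :
    OrbRes (M24 ⊓ MulAction.stabilizer (Equiv.Perm GolayPt) (g • s)) X r cnt := by
  obtain ⟨_, f, f1, f2, f3, f4⟩ := h
  refine ⟨fun k hk y hy => hX k hk.1 y hy, fun y => f (g⁻¹ • y), ?_, ?_, ?_, ?_⟩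
  · intro k hk y
    rw [smul_stab_conj hg] at hk
    have := f1 _ hk (g⁻¹ • y)
    show f (g⁻¹ • k • y) = f (g⁻¹ • y)
    rw [← this, mul_smul, mul_smul, smul_inv_smul]
  · intro y hy
    exact f2 _ (hX _ (M24.inv_mem hg) _ hy)
  · intro y hy z hz hyz
    obtain ⟨k, hk, e⟩ := f3 _ (hX _ (M24.inv_mem hg) _ hy) _ (hX _ (M24.inv_mem hg) _ hz) hyz
    refine ⟨g * k * g⁻¹, ?_, ?_⟩
    · rw [smul_stab_conj hg]
      have : g⁻¹ * (g * k * g⁻¹) * g = k := by group
      rw [this]; exact hk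
    · rw [mul_smul, mul_smul, e, smul_inv_smul]
  · intro k hk
    rw [← f4 k hk]
    have : {y | y ∈ X ∧ f (g⁻¹ • y) = k} = (fun y => g • y) '' {y | y ∈ X ∧ f y = k} := by
      ext y
      constructor
      · rintro ⟨h1, h2⟩
        exact ⟨g⁻¹ • y, ⟨hX _ (M24.inv_mem hg) _ h1, h2⟩, smul_inv_smul g y⟩
      · rintro ⟨z, ⟨h1, h2⟩, rfl⟩
        refine ⟨hX _ hg _ h1, ?_⟩
        show f (g⁻¹ • g • z) = k
        rw [inv_smul_smul]; exact h2
    rw [this, Set.ncard_image_of_injective _ (MulAction.injective g)]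

/-- orbits of a stabiliser taken inside the subgroup `M24` -/
theorem orbit_sub {Y Z : Type} [MulAction (Equiv.Perm GolayPt) Y] [MulAction (Equiv.Perm GolayPt) Z] (s : Z) (y : Y) :
    MulAction.orbit ↥(MulAction.stabilizer M24 s) y =
      {z | ∃ g ∈ M24 ⊓ MulAction.stabilizer (Equiv.Perm GolayPt) s, g • y = z} := by
  ext z
  constructor
  · rintro ⟨g, rfl⟩
    exact ⟨(g : M24), ⟨(g : M24).2, g.2⟩, rfl⟩
  · rintro ⟨g, hg, rfl⟩
    exact ⟨⟨⟨g, hg.1⟩, hg.2⟩, rfl⟩

theorem OrbRes.orbits {Y Z : Type} [Nonempty Y] [MulAction (Equiv.Perm GolayPt) Y] [MulAction (Equiv.Perm GolayPt) Z] {s : Z}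
    {X : Set Y} {r : ℕ} {cnt : ℕ → ℕ}
    (h : OrbRes (M24 ⊓ MulAction.stabilizer (Equiv.Perm GolayPt) s) X r cnt) (hpos : ∀ k < r, 0 < cnt k) :
    ∃ (f : Y → ℕ) (x : ℕ → Y), (∀ k < r, x k ∈ X ∧ f (x k) = k ∧
      MulAction.orbit ↥(MulAction.stabilizer M24 s) (x k) = {y | y ∈ X ∧ f y = k} ∧
      (MulAction.orbit ↥(MulAction.stabilizer M24 s) (x k)).ncard = cnt k) ∧ (∀ y ∈ X, f y < r) ∧
      (∀ y ∈ X, MulAction.orbit ↥(MulAction.stabilizer M24 s) y = {z | z ∈ X ∧ f z = f y}) := by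
  obtain ⟨hX, f, f1, f2, f3, f4⟩ := h
  have horb : ∀ y ∈ X, MulAction.orbit ↥(MulAction.stabilizer M24 s) y = {z | z ∈ X ∧ f z = f y} := by
    intro y hy
    rw [orbit_sub]
    ext z
    constructor
    · rintro ⟨g, hg, rfl⟩
      exact ⟨hX g hg y hy, f1 g hg y⟩
    · rintro ⟨hz, h⟩
      exact f3 y hy z hz h.symm
  have hex : ∀ k, ∃ y : Y, k < r → y ∈ X ∧ f y = k := by
    intro k
    by_cases hk : k < r
    · have h1 := hpos k hk
      rw [← f4 k hk] at h1
      obtain ⟨y, hy⟩ := Set.nonempty_of_ncard_ne_zero (by omega : {y | y ∈ X ∧ f y = k}.ncard ≠ 0)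
      exact ⟨y, fun _ => hy⟩
    · by_cases hr : 0 < r
      · have h1 := hpos 0 hr
        rw [← f4 0 hr] at h1
        obtain ⟨y, hy⟩ := Set.nonempty_of_ncard_ne_zero (by omega : {y | y ∈ X ∧ f y = 0}.ncard ≠ 0)
        exact ⟨y, fun h => absurd h hk⟩
      · exact ⟨Classical.arbitrary Y, fun h => absurd h hk⟩
  choose x hx using hex
  refine ⟨f, x, ?_, f2, horb⟩
  intro k hk
  obtain ⟨h1, h2⟩ := hx k hk
  have h3 := horb _ h1
  rw [h2] at h3
  exact ⟨h1, h2, h3, by rw [h3]; exact f4 k hk⟩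

/-! ### generic results for the three kinds of families -/

/-- data check for the roots -/
def rootsS (roots : List ℕ) (la : List ℕ) (V L : List (List ℕ)) : Bool :=
  (List.range roots.length).all (fun k => isSextL (L.getD k []) && (L.getD k []).contains (roots.getD k 0) &&
    V.idxOf (pvecL la (L.getD k [])) == k)

/-- data check for the roots -/
def rootsT (roots : List ℕ) (la : List ℕ) (V : List (List ℕ)) : Bool :=
  (List.range roots.length).all (fun k => okT (roots.getD k 0) && lok (trioL (roots.getD k 0)) &&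
    V.idxOf (pvecL la (trioL (roots.getD k 0))) == k)

/-- data check for the roots -/
def rootsW (roots : List ℕ) (la : List ℕ) (V : List (List ℕ)) : Bool :=
  (List.range roots.length).all (fun k => V.idxOf (pvecL la [comb (roots.getD k 0)]) == k)

theorem okS_of {e : ℕ} (he : e < sextE.N) : okS (tabAt sextE.E sextE.w e) = true :=
  (sorted_spec (n := 11) (by norm_num) sextTab_ok).1 e he

theorem okT_of {e : ℕ} (he : e < trioE.N) : okT (tabAt trioE.E trioE.w e) = true :=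
  (sorted_spec (n := 12) (by norm_num) trioTab_ok).1 e he

theorem sext_res {H : Subgroup (Equiv.Perm GolayPt)} (hH : H ≤ M24) {la : List ℕ} (hla : lok la = true)
    (hHA : ∀ g ∈ H, g • fs la = fs la) {d : Desc} (hd : allB (descOKE 1771 24 sextTab sameS 12 d) 0 11 = true)
    (hg : ∀ c ∈ d.gens, pres c = true ∧ pm c ∈ H) {V L : List (List ℕ)} (hr : rootsS d.roots la V L = true)
    {r : ℕ} (hlen : d.roots.length = r) {cnt : ℕ → ℕ}
    (hc : ∀ k < r, countB (fun e => Nat.blt e 1771 && tabAt d.R 4 e == k) 0 11 = cnt k) :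
    OrbRes H sextets r cnt := by
  have hroot : ∀ k < d.roots.length, V.idxOf (pvec (fs la) (decS (d.roots.getD k 0))) = k := by
    intro k hk
    unfold rootsS at hr
    rw [List.all_eq_true] at hr
    have h1 := hr k (List.mem_range.2 hk)
    simp only [Bool.and_eq_true, beq_iff_eq, List.contains_iff_mem] at h1
    obtain ⟨⟨h1, h2⟩, h3⟩ := h1
    rw [decS_eq_fs h1 h2, pvec_fs hla, h3]
    unfold isSextL at h1
    simp only [Bool.and_eq_true] at h1
    exact h1.1.1.1
  have hinv : ∀ g ∈ H, ∀ y, V.idxOf (pvec (fs la) (g • y)) = V.idxOf (pvec (fs la) y) := by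
    intro g hg y
    rw [pvec_smul _ _ (hHA g hg)]
  obtain ⟨r1, r2, r3, r4⟩ := enum_orbits sextE (n := 11) (same := sameS) (pw := 12) (d := d) (by
    show 1771 ≤ 2 ^ 11; norm_num) hd (fun c hc => (hg c hc).2)
    (fun c hc e he e' he' h => sameS_spec (hg c hc).1 (okS_of he) (okS_of he') h)
    (fun y => V.idxOf (pvec (fs la) y)) hinv hroot
  refine ⟨fun g hg y hy => smul_mem_sextets (hH hg) hy, _, hinv, ?_, r3, ?_⟩
  · intro y hy
    rw [← hlen]; exact (r2 y hy).1
  · intro k hk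
    rw [← hc k hk]; exact r4 k

theorem trio_res {H : Subgroup (Equiv.Perm GolayPt)} (hH : H ≤ M24) {la : List ℕ} (hla : lok la = true)
    (hHA : ∀ g ∈ H, g • fs la = fs la) {d : Desc} (hd : allB (descOKE 3795 24 trioTab sameT 12 d) 0 12 = true)
    (hg : ∀ c ∈ d.gens, pres c = true ∧ pm c ∈ H) {V : List (List ℕ)} (hr : rootsT d.roots la V = true)
    {r : ℕ} (hlen : d.roots.length = r) {cnt : ℕ → ℕ}
    (hc : ∀ k < r, countB (fun e => Nat.blt e 3795 && tabAt d.R 4 e == k) 0 12 = cnt k) :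
    OrbRes H trios r cnt := by
  have hroot : ∀ k < d.roots.length, V.idxOf (pvec (fs la) (decT (d.roots.getD k 0))) = k := by
    intro k hk
    unfold rootsT at hr
    rw [List.all_eq_true] at hr
    have h1 := hr k (List.mem_range.2 hk)
    simp only [Bool.and_eq_true, beq_iff_eq] at h1
    obtain ⟨⟨h1, h2⟩, h3⟩ := h1
    rw [decT_eq_fs h1, pvec_fs hla h2, h3]
  have hinv : ∀ g ∈ H, ∀ y, V.idxOf (pvec (fs la) (g • y)) = V.idxOf (pvec (fs la) y) := by
    intro g hg y
    rw [pvec_smul _ _ (hHA g hg)]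
  obtain ⟨r1, r2, r3, r4⟩ := enum_orbits trioE (n := 12) (same := sameT) (pw := 12) (d := d) (by
    show 3795 ≤ 2 ^ 12; norm_num) hd (fun c hc => (hg c hc).2)
    (fun c hc e he e' he' h => sameT_spec (hg c hc).1 (okT_of he) (okT_of he') h)
    (fun y => V.idxOf (pvec (fs la) y)) hinv hroot
  refine ⟨fun g hg y hy => smul_mem_trios (hH hg) hy, _, hinv, ?_, r3, ?_⟩
  · intro y hy
    rw [← hlen]; exact (r2 y hy).1
  · intro k hk
    rw [← hc k hk]; exact r4 k

theorem oct_res {H : Subgroup (Equiv.Perm GolayPt)} (hH : H ≤ M24) {la : List ℕ} (hla : lok la = true)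
    (hHA : ∀ g ∈ H, g • fs la = fs la) {d : Desc} (hd : allB (descOKE 759 12 octTab sameW 12 d) 0 10 = true)
    (hg : ∀ c ∈ d.gens, pres c = true ∧ pm c ∈ H) {V : List (List ℕ)} (hr : rootsW d.roots la V = true)
    {r : ℕ} (hlen : d.roots.length = r) {cnt : ℕ → ℕ}
    (hc : ∀ k < r, countB (fun e => Nat.blt e 759 && tabAt d.R 4 e == k) 0 10 = cnt k) :
    OrbRes H octads r cnt := by
  have hroot : ∀ k < d.roots.length, V.idxOf (pvec (fs la) {decW (d.roots.getD k 0)}) = k := by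
    intro k hk
    unfold rootsW at hr
    rw [List.all_eq_true] at hr
    have h1 := hr k (List.mem_range.2 hk)
    rw [beq_iff_eq] at h1
    unfold decW
    rw [singleton_eq_fs, pvec_fs hla, h1]
    unfold lok
    rw [Bool.and_eq_true, decide_eq_true_eq, List.all_eq_true]
    refine ⟨List.nodup_singleton _, ?_⟩
    intro a ha
    rw [List.mem_singleton] at ha
    rw [ha, Nat.blt_eq]
    exact comb_lt _
  have hinv : ∀ g ∈ H, ∀ y : Finset GolayPt, V.idxOf (pvec (fs la) {g • y}) = V.idxOf (pvec (fs la) {y}) := by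
    intro g hg y
    rw [← smul_finset_singleton, pvec_smul _ _ (hHA g hg)]
  obtain ⟨r1, r2, r3, r4⟩ := enum_orbits octE (n := 10) (same := sameW) (pw := 12) (d := d) (by
    show 759 ≤ 2 ^ 10; norm_num) hd (fun c hc => (hg c hc).2)
    (fun c hc e he e' he' h => sameW_spec (hg c hc).1 h)
    (fun y => V.idxOf (pvec (fs la) {y})) hinv hroot
  refine ⟨fun g hg y hy => smul_mem_octads (hH hg) hy, _, hinv, ?_, r3, ?_⟩
  · intro y hy
    rw [← hlen]; exact (r2 y hy).1
  · intro k hk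
    rw [← hc k hk]; exact r4 k

/-! ### the three stabilisers -/

/-- the stabiliser of the standard sextet -/
def hSext : Subgroup (Equiv.Perm GolayPt) := M24 ⊓ MulAction.stabilizer (Equiv.Perm GolayPt) (fs sx0)

/-- the stabiliser of the standard trio -/
def hTrio : Subgroup (Equiv.Perm GolayPt) := M24 ⊓ MulAction.stabilizer (Equiv.Perm GolayPt) (fs (trioL tr00))

theorem sx0_ok : isSextL sx0 = true := by decide +kernel
theorem sx0_lok : lok sx0 = true := by decide +kernel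
theorem tr00_ok : okT tr00 = true := by decide +kernel
theorem tr00_lok : lok (trioL tr00) = true := by decide +kernel
theorem oct0_lok : lok [oct0] = true := by decide +kernel

/-- membership of codes in the sextet stabiliser: a tetrad goes to a tetrad -/
def inS0 (c : ℕ) : Bool := pres c && sx0.contains (act c (sx0.getD 0 0))

theorem inS0_mem {c : ℕ} (h : inS0 c = true) : pres c = true ∧ pm c ∈ hSext := by
  unfold inS0 at h
  rw [Bool.and_eq_true, List.contains_iff_mem] at h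
  refine ⟨h.1, pm_mem_M24 h.1, ?_⟩
  show pm c • fs sx0 = fs sx0
  have h0 : sx0.getD 0 0 ∈ sx0 := by decide
  have h1 := decS_eq_fs sx0_ok h0
  have hc : (st (sx0.getD 0 0)).card = 4 := by rw [card_st]; decide +kernel
  conv_lhs => rw [← h1]
  unfold decS
  rw [smul_sext (pm_mem_M24 h.1) hc, pm_smul_st (pres_valid h.1)]
  exact decS_eq_fs sx0_ok h.2

/-- membership of codes in the trio stabiliser -/
def inT0 (c : ℕ) : Bool := pres c && sameT c tr00 tr00

theorem inT0_mem {c : ℕ} (h : inT0 c = true) : pres c = true ∧ pm c ∈ hTrio := by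
  unfold inT0 at h
  rw [Bool.and_eq_true] at h
  refine ⟨h.1, pm_mem_M24 h.1, ?_⟩
  show pm c • fs (trioL tr00) = fs (trioL tr00)
  rw [← decT_eq_fs tr00_ok]
  exact sameT_spec h.1 tr00_ok tr00_ok h.2

/-- membership of codes in the octad stabiliser -/
def inO0 (c : ℕ) : Bool := pres c && act c oct0 == oct0

theorem inO0_mem {c : ℕ} (h : inO0 c = true) : pres c = true ∧ pm c ∈ hOct := by
  unfold inO0 at h
  rw [Bool.and_eq_true] at h
  have hv := pres_valid h.1
  exact ⟨h.1, pm_mem_M24 h.1, (pm_mem_stabSet hv (by decide)).1 h.2⟩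

theorem mem_of_all {l : List ℕ} {F : ℕ → Bool} {P : ℕ → Prop} (hF : ∀ c, F c = true → P c) (h : l.all F = true) :
    ∀ c ∈ l, P c := by
  rw [List.all_eq_true] at h
  exact fun c hc => hF c (h c hc)

end Cfsg.Agent.Lib.Golay
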