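import Cfsg.Agent.Lib.Golay.OrbS

/-!
Orbit lengths of the stabilisers of a sextet, a trio and an octad on sextets, trios and octads.
-/

set_option autoImplicit false

namespace Cfsg.Agent.Lib.Golay

open scoped Pointwise
open Cfsg Finset

theorem hSext_fs : ∀ g ∈ hSext, g • fs sx0 = fs sx0 := fun _ hg => hg.2

theorem hTrio_fs : ∀ g ∈ hTrio, g • fs (trioL tr00) = fs (trioL tr00) := fun _ hg => hg.2

theorem resSS : OrbRes hSext sextets 4 (fun k => [1, 90, 240, 1440].getD k 0) :=
  sext_res inf_le_left sx0_lok hSext_fs (d := dSS) (V := dSSV) (L := dSSL) (by decide +kernel)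
    (mem_of_all (fun _ => inS0_mem) (by decide +kernel)) (by decide +kernel) (by decide) (by decide +kernel)

theorem resST : OrbRes hSext trios 4 (fun k => [15, 180, 720, 2880].getD k 0) :=
  trio_res inf_le_left sx0_lok hSext_fs (d := dST) (V := dSTV) (by decide +kernel)
    (mem_of_all (fun _ => inS0_mem) (by decide +kernel)) (by decide +kernel) (by decide) (by decide +kernel)

theorem resSO : OrbRes hSext octads 3 (fun k => [15, 360, 384].getD k 0) :=
  oct_res inf_le_left sx0_lok hSext_fs (d := dSO) (V := dSOV) (by decide +kernel)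
    (mem_of_all (fun _ => inS0_mem) (by decide +kernel)) (by decide +kernel) (by decide) (by decide +kernel)

theorem resTT : OrbRes hTrio trios 5 (fun k => [1, 42, 56, 1008, 2688].getD k 0) :=
  trio_res inf_le_left tr00_lok hTrio_fs (d := dTT) (V := dTTV) (by decide +kernel)
    (mem_of_all (fun _ => inT0_mem) (by decide +kernel)) (by decide +kernel) (by decide) (by decide +kernel)

theorem resTS : OrbRes hTrio sextets 4 (fun k => [7, 84, 336, 1344].getD k 0) :=
  sext_res inf_le_left tr00_lok hTrio_fs (d := dTS) (V := dTSV) (L := dTSL) (by decide +kernel)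
    (mem_of_all (fun _ => inT0_mem) (by decide +kernel)) (by decide +kernel) (by decide) (by decide +kernel)

theorem resTO : OrbRes hTrio octads 3 (fun k => [3, 84, 672].getD k 0) :=
  oct_res inf_le_left tr00_lok hTrio_fs (d := dTO) (V := dTOV) (by decide +kernel)
    (mem_of_all (fun _ => inT0_mem) (by decide +kernel)) (by decide +kernel) (by decide) (by decide +kernel)

theorem hOct_fs : ∀ g ∈ hOct, g • fs [oct0] = fs [oct0] := by
  intro g hg
  rw [← singleton_eq_fs, smul_finset_singleton]
  rw [show g • st oct0 = st oct0 from hg.2]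

theorem resOT : OrbRes hOct trios 3 (fun k => [15, 420, 3360].getD k 0) :=
  trio_res inf_le_left oct0_lok hOct_fs (d := dOT) (V := dOTV) (by decide +kernel)
    (mem_of_all (fun _ => inO0_mem) (by decide +kernel)) (by decide +kernel) (by decide) (by decide +kernel)

theorem resOS : OrbRes hOct sextets 3 (fun k => [35, 840, 896].getD k 0) :=
  sext_res inf_le_left oct0_lok hOct_fs (d := dOS) (V := dOSV) (L := dOSL) (by decide +kernel)
    (mem_of_all (fun _ => inO0_mem) (by decide +kernel)) (by decide +kernel) (by decide) (by decide +kernel)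

end Cfsg.Agent.Lib.Golay
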