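import Cfsg.Agent.Lib.Golay.OutM24
import Cfsg.Agent.Lib.Golay.OutData

/-! Outer automorphisms of the smaller groups of the length-24 code. -/

set_option autoImplicit false

namespace Cfsg.Agent.Lib.Golay

open Cfsg
open Cfsg.Agent.Lib
open scoped Pointwise

theorem closure_eq_of_slp {K : Subgroup (Equiv.Perm GolayPt)} {s : Set (Equiv.Perm GolayPt)} {els : List ℕ}
    {steps : List (ℕ × ℕ × ℕ)} {lev : List (List ℕ)} {n0 : ℕ} (bs : List ℕ) (hs : s ⊆ (K : Set (Equiv.Perm GolayPt)))
    (hgen : ∀ i < n0, valid (els.getD i 0) = true ∧ pm (els.getD i 0) ∈ s)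
    (hok : slpOK els n0 steps = true) (hlen : n0 + steps.length = els.length)
    (hlev : ∀ k < bs.length, ∀ j ∈ lev.getD k [], j < els.length ∧
      ∀ l < k, img (els.getD j 0) (bs.getD l 0) = bs.getD l 0)
    (hcov : ∀ k < bs.length, ∀ g ∈ K, (∀ l < k, g (pt (bs.getD l 0)) = pt (bs.getD l 0)) →
      ∃ j ∈ lev.getD k [], img (els.getD j 0) (bs.getD k 0) = ix (g (pt (bs.getD k 0))))
    (hfin : ∀ g ∈ K, (∀ l < bs.length, g (pt (bs.getD l 0)) = pt (bs.getD l 0)) → g = 1)
    (hbs : ∀ l < bs.length, bs.getD l 0 < 24) : Subgroup.closure s = K := by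
  have hle : Subgroup.closure s ≤ K := (Subgroup.closure_le _).2 hs
  apply le_antisymm hle
  have hall := slpOK_spec (H := Subgroup.closure s) steps hok (fun i hi =>
    ⟨(hgen i hi).1, Subgroup.subset_closure (hgen i hi).2⟩)
  have key : ∀ j ≤ bs.length, ∀ g ∈ K, (∀ l < bs.length - j, g (pt (bs.getD l 0)) = pt (bs.getD l 0)) →
      g ∈ Subgroup.closure s := by
    intro j
    induction j with
    | zero =>
      intro _ g hg h
      rw [hfin g hg (fun l hl => h l (by simpa using hl))]
      exact Subgroup.one_mem _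
    | succ j ih =>
      intro hj g hg h
      have hk : bs.length - (j + 1) < bs.length := by omega
      obtain ⟨i, hi, hii⟩ := hcov _ hk g hg h
      obtain ⟨hi1, hi2⟩ := hlev _ hk i hi
      obtain ⟨hv, hx⟩ := hall i (by rw [hlen]; exact hi1)
      set x := pm (els.getD i 0) with hxd
      have hfx : ∀ l < bs.length - (j + 1), x (pt (bs.getD l 0)) = pt (bs.getD l 0) := by
        intro l hl
        rw [hxd, pm_pt hv (hbs l (by omega)), hi2 l hl]
      have hgx : x (pt (bs.getD (bs.length - (j + 1)) 0)) = g (pt (bs.getD (bs.length - (j + 1)) 0)) := by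
        rw [hxd, pm_pt hv (hbs _ hk), hii, pt_ix]
      have h1 : x⁻¹ * g ∈ Subgroup.closure s := by
        apply ih (by omega) _ (K.mul_mem (K.inv_mem (hle hx)) hg)
        intro l hl
        rw [Equiv.Perm.mul_apply, Equiv.Perm.inv_eq_iff_eq]
        by_cases hl' : l < bs.length - (j + 1)
        · rw [h l hl', hfx l hl']
        · have : l = bs.length - (j + 1) := by omega
          rw [this, hgx]
      have h2 := Subgroup.mul_mem _ hx h1
      rwa [mul_inv_cancel_left] at h2
  intro g hg
  exact key bs.length le_rfl g hg (fun l hl => by omega)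

/-- level-wise covering test: every point not excluded is an image -/
theorem cov_of {els : List ℕ} {lv : List ℕ} {b : ℕ} (ok : ℕ → Bool)
    (h : ∀ i < 24, ok i = true → ∃ j ∈ lv, img (els.getD j 0) b = i) {q : GolayPt} (hq : ok (ix q) = true) :
    ∃ j ∈ lv, img (els.getD j 0) b = ix q := h _ (ix_lt q) hq

/-! ### The group M23 -/

theorem fixes_of_base {g : Equiv.Perm GolayPt} {k : ℕ} (hk : k ≤ 7)
    (h : ∀ l < k, g (pt ([23, 0, 1, 2, 3, 4, 5].getD l 0)) = pt ([23, 0, 1, 2, 3, 4, 5].getD l 0)) :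
    Fixes g (bmask k) := by
  intro p hp
  have h1 : ∀ k ≤ 7, ∀ i < 24, (bmask k).testBit i = true → ∃ l < k, [23, 0, 1, 2, 3, 4, 5].getD l 0 = i := by
    decide +kernel
  rw [mem_st] at hp
  obtain ⟨l, hl, hl'⟩ := h1 k hk (ix p) (ix_lt p) hp
  have h2 := h l hl
  rw [hl', pt_ix] at h2
  exact h2

theorem bpt_eq : ∀ k < 7, bpt k = [23, 0, 1, 2, 3, 4, 5].getD k 0 := by decide

/-- generation of the subgroup fixing the first points by a straight-line program -/
theorem closure_eq_chain {K : Subgroup (Equiv.Perm GolayPt)} {s : Set (Equiv.Perm GolayPt)} {els : List ℕ}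
    {steps : List (ℕ × ℕ × ℕ)} {lev : List (List ℕ)} {n0 : ℕ} (hs : s ⊆ (K : Set (Equiv.Perm GolayPt)))
    (hK : K ≤ M24)
    (hgen : ∀ i < n0, valid (els.getD i 0) = true ∧ pm (els.getD i 0) ∈ s)
    (hok : slpOK els n0 steps = true) (hlen : n0 + steps.length = els.length)
    (hlev : ∀ k < 7, ∀ j ∈ lev.getD k [], j < els.length ∧
      ∀ l < k, img (els.getD j 0) ([23, 0, 1, 2, 3, 4, 5].getD l 0) = [23, 0, 1, 2, 3, 4, 5].getD l 0)
    (f : ℕ) (hf : ∀ k < f, ∀ g ∈ K, g (pt ([23, 0, 1, 2, 3, 4, 5].getD k 0)) = pt ([23, 0, 1, 2, 3, 4, 5].getD k 0))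
    (hcov1 : ∀ k < 7, k < f → ∃ j ∈ lev.getD k [], img (els.getD j 0) ([23, 0, 1, 2, 3, 4, 5].getD k 0) =
      [23, 0, 1, 2, 3, 4, 5].getD k 0)
    (hcov2 : ∀ k < 7, f ≤ k → ∀ i < 24, (omask k).testBit i = true → ∃ j ∈ lev.getD k [],
      img (els.getD j 0) ([23, 0, 1, 2, 3, 4, 5].getD k 0) = i) : Subgroup.closure s = K := by
  refine closure_eq_of_slp [23, 0, 1, 2, 3, 4, 5] hs hgen hok hlen hlev ?_ ?_ (by decide)
  · intro k hk g hg h
    by_cases hkf : k < f
    · obtain ⟨j, hj, e⟩ := hcov1 k hk hkf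
      refine ⟨j, hj, ?_⟩
      have hlt : ∀ k < 7, [23, 0, 1, 2, 3, 4, 5].getD k 0 < 24 := by decide
      rw [e, hf k hkf g hg, ix_pt (hlt k hk)]
    · have h1 := chain_maps_to (k := k) hk (g := g) ⟨hK hg, fixes_of_base (by have : k < 7 := hk; omega) h⟩
      rw [mem_st, bpt_eq k hk] at h1
      exact hcov2 k hk (by omega) _ (ix_lt _) h1
  · intro g hg h
    have h1 : g ∈ chain 7 := ⟨hK hg, fixes_of_base le_rfl h⟩
    rw [chain_seven] at h1
    exact h1

theorem closure23 : Subgroup.closure {pm cT, pm cD} = m23 := by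
  have hD : pm cD ∈ m23 := ⟨pm_mem_M24 cD_pres, (pm_mem_stab (by decide +kernel) (by norm_num)).1 (by decide +kernel)⟩
  refine closure_eq_chain (els := slpEls23) (steps := slpSteps23) (lev := slpLev23) (n0 := 2) ?_ inf_le_left ?_
    (by decide +kernel) (by decide +kernel) (by decide +kernel) 1 ?_ (by decide +kernel) (by decide +kernel)
  · rintro x (rfl | rfl)
    · exact mem_m23_T
    · exact hD
  · intro i hi
    have e0 : slpEls23.getD 0 0 = cT := by decide +kernel
    have e1 : slpEls23.getD 1 0 = cD := by decide +kernel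
    interval_cases i
    · rw [e0]; exact ⟨by decide +kernel, by simp⟩
    · rw [e1]; exact ⟨by decide +kernel, by simp⟩
  · intro k hk g hg
    have : k = 0 := by omega
    subst this
    exact hg.2

theorem closure22 : Subgroup.closure {pm cU, pm cD, pm cX22} = m22 := by
  refine closure_eq_chain (els := slpEls22) (steps := slpSteps22) (lev := slpLev22) (n0 := 3) ?_
    (inf_le_left.trans inf_le_left) ?_
    (by decide +kernel) (by decide +kernel) (by decide +kernel) 2 ?_ (by decide +kernel) (by decide +kernel)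
  · rintro x (rfl | rfl | rfl)
    · exact mem_m22_U
    · exact ⟨⟨pm_mem_M24 cD_pres, (pm_mem_stab (by decide +kernel) (by norm_num)).1 (by decide +kernel)⟩,
        (pm_mem_stab (by decide +kernel) (by norm_num)).1 (by decide +kernel)⟩
    · exact ⟨⟨pm_mem_M24 (by decide +kernel), (pm_mem_stab (by decide +kernel) (by norm_num)).1 (by decide +kernel)⟩,
        (pm_mem_stab (by decide +kernel) (by norm_num)).1 (by decide +kernel)⟩
  · intro i hi
    have e0 : slpEls22.getD 0 0 = cU := by decide +kernel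
    have e1 : slpEls22.getD 1 0 = cD := by decide +kernel
    have e2 : slpEls22.getD 2 0 = cX22 := by decide +kernel
    interval_cases i
    · rw [e0]; exact ⟨by decide +kernel, by simp⟩
    · rw [e1]; exact ⟨by decide +kernel, by simp⟩
    · rw [e2]; exact ⟨by decide +kernel, by simp⟩
  · intro k hk g hg
    interval_cases k
    · exact hg.1.2
    · exact hg.2

theorem closure12 : Subgroup.closure {pm cU, pm cZ} = m12 := by
  refine closure_eq_of_slp (els := slpEls12) (steps := slpSteps12) (lev := slpLev12) (n0 := 2) [0, 1, 2, 3, 4] ?_ ?_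
    (by decide +kernel) (by decide +kernel) (by decide +kernel) ?_ ?_ (by decide)
  · rintro x (rfl | rfl)
    · exact mem_m12_U
    · exact (inM12_iff (by decide +kernel)).1 (by decide +kernel)
  · intro i hi
    have e0 : slpEls12.getD 0 0 = cU := by decide +kernel
    have e1 : slpEls12.getD 1 0 = cZ := by decide +kernel
    interval_cases i
    · rw [e0]; exact ⟨by decide +kernel, by simp⟩
    · rw [e1]; exact ⟨by decide +kernel, by simp⟩
  · intro k hk g hg h
    have hset : g (pt ([0, 1, 2, 3, 4].getD k 0)) ∈ st dodU := by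
      have h1 := smul_mem_smul_iff' g (st dodU) (pt ([0, 1, 2, 3, 4].getD k 0))
      rw [show g • st dodU = st dodU from hg.2] at h1
      apply h1.2
      have : ∀ k < 5, pt ([0, 1, 2, 3, 4].getD k 0) ∈ st dodU := by decide +kernel
      exact this k hk
    have hne : ∀ l < k, ix (g (pt ([0, 1, 2, 3, 4].getD k 0))) ≠ [0, 1, 2, 3, 4].getD l 0 := by
      intro l hl e
      have h2 : g (pt ([0, 1, 2, 3, 4].getD k 0)) = g (pt ([0, 1, 2, 3, 4].getD l 0)) := by
        rw [h l hl]
        apply ix_inj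
        have hlt : ∀ k < 5, [0, 1, 2, 3, 4].getD k 0 < 24 := by decide
        rw [e, ix_pt (hlt l (by have : k < 5 := hk; omega))]
      have h3 := g.injective h2
      have h4 : ∀ k < 5, ∀ l < k, pt ([0, 1, 2, 3, 4].getD k 0) ≠ pt ([0, 1, 2, 3, 4].getD l 0) := by decide
      exact h4 k hk l hl h3
    rw [mem_st] at hset
    have h5 : ∀ k < 5, ∀ i < 24, (dodU.testBit i && (List.range k).all (fun l => !(i == [0, 1, 2, 3, 4].getD l 0))) = true →
        ∃ j ∈ slpLev12.getD k [], img (slpEls12.getD j 0) ([0, 1, 2, 3, 4].getD k 0) = i := by decide +kernel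
    apply h5 k hk _ (ix_lt _)
    rw [Bool.and_eq_true, List.all_eq_true]
    refine ⟨hset, fun l hl => ?_⟩
    simpa using hne l (List.mem_range.1 hl)
  · intro g hg h
    refine eq_one_of_dodecad dodU_mem (x := fun i => pt ([0, 1, 2, 3, 4].getD i 0)) ?_ ?_ hg.1 hg.2 h
    · decide
    · decide +kernel

theorem closure11 : Subgroup.closure {pm cU, pm cD, pm cX11} = m11 := by
  refine closure_eq_of_slp (els := slpEls11) (steps := slpSteps11) (lev := slpLev11) (n0 := 3) [0, 1, 2, 3, 4] ?_ ?_
    (by decide +kernel) (by decide +kernel) (by decide +kernel) ?_ ?_ (by decide)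
  · rintro x (rfl | rfl | rfl)
    · exact mem_m11_U
    · exact (inM11_iff (by decide +kernel)).1 (by decide +kernel)
    · exact (inM11_iff (by decide +kernel)).1 (by decide +kernel)
  · intro i hi
    have e0 : slpEls11.getD 0 0 = cU := by decide +kernel
    have e1 : slpEls11.getD 1 0 = cD := by decide +kernel
    have e2 : slpEls11.getD 2 0 = cX11 := by decide +kernel
    interval_cases i
    · rw [e0]; exact ⟨by decide +kernel, by simp⟩
    · rw [e1]; exact ⟨by decide +kernel, by simp⟩
    · rw [e2]; exact ⟨by decide +kernel, by simp⟩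
  · intro k hk g hg h
    have hset : g (pt ([0, 1, 2, 3, 4].getD k 0)) ∈ st dodU := by
      have h1 := smul_mem_smul_iff' g (st dodU) (pt ([0, 1, 2, 3, 4].getD k 0))
      rw [show g • st dodU = st dodU from hg.1.2] at h1
      apply h1.2
      have : ∀ k < 5, pt ([0, 1, 2, 3, 4].getD k 0) ∈ st dodU := by decide +kernel
      exact this k hk
    have h0 : g (pt 0) = pt 0 := hg.2
    by_cases hk0 : k = 0
    · subst hk0
      have h6 : ∃ j ∈ slpLev11.getD 0 [], img (slpEls11.getD j 0) 0 = 0 := by decide +kernel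
      obtain ⟨j, hj, e⟩ := h6
      refine ⟨j, hj, e.trans ?_⟩
      change 0 = ix (g (pt 0))
      rw [h0]; decide
    have hne : ∀ l < k, ix (g (pt ([0, 1, 2, 3, 4].getD k 0))) ≠ [0, 1, 2, 3, 4].getD l 0 := by
      intro l hl e
      have h2 : g (pt ([0, 1, 2, 3, 4].getD k 0)) = g (pt ([0, 1, 2, 3, 4].getD l 0)) := by
        rw [h l hl]
        apply ix_inj
        have hlt : ∀ k < 5, [0, 1, 2, 3, 4].getD k 0 < 24 := by decide
        rw [e, ix_pt (hlt l (by have : k < 5 := hk; omega))]
      have h3 := g.injective h2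
      have h4 : ∀ k < 5, ∀ l < k, pt ([0, 1, 2, 3, 4].getD k 0) ≠ pt ([0, 1, 2, 3, 4].getD l 0) := by decide
      exact h4 k hk l hl h3
    rw [mem_st] at hset
    have h5 : ∀ k < 5, ∀ i < 24, (!(k == 0) && dodU.testBit i &&
        (List.range k).all (fun l => !(i == [0, 1, 2, 3, 4].getD l 0))) = true →
        ∃ j ∈ slpLev11.getD k [], img (slpEls11.getD j 0) ([0, 1, 2, 3, 4].getD k 0) = i := by decide +kernel
    apply h5 k hk _ (ix_lt _)
    rw [Bool.and_eq_true, Bool.and_eq_true, List.all_eq_true]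
    refine ⟨⟨by simpa using hk0, hset⟩, fun l hl => ?_⟩
    simpa using hne l (List.mem_range.1 hl)
  · intro g hg h
    refine eq_one_of_dodecad dodU_mem (x := fun i => pt ([0, 1, 2, 3, 4].getD i 0)) ?_ ?_ hg.1.1 hg.1.2 h
    · decide
    · decide +kernel

end Cfsg.Agent.Lib.Golay
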