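import Cfsg.Agent.Lib.Golay.OutM

/-! Outer automorphisms of the smaller groups of the length-24 code: final results. -/

set_option autoImplicit false

namespace Cfsg.Agent.Lib.Golay

open Cfsg
open Cfsg.Agent.Lib
open scoped Pointwise

def pwD (j : ℕ) : ℕ := pwDl.getD j 0
def repsD : List ℕ := [23, 0, 3, 15, 1, 5, 8, 11]

theorem pwD_ok : pwOK 5 pwD = true := by decide +kernel
theorem tabD_ok : tabOK pwD tabD repsD = true := by decide +kernel
theorem pwD_one : pwD 1 = cD := by decide +kernel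
theorem fixD_ok : fixOK 5 pwD = true := by decide +kernel

theorem pm_pwD {j : ℕ} (hj : j < 5) : valid (pwD j) = true ∧ pm (pwD j) = pm cD ^ j := by
  obtain ⟨hp1, _⟩ := pwOK_spec (p := 5) (by norm_num) pwD_ok
  rw [pwD_one] at hp1
  exact hp1 j hj

theorem keyD {g : Equiv.Perm GolayPt} (hgk : g * pm cD = pm cD * g) (x : GolayPt) :
    img (pwD 1) (ix (g x)) = ix (g x) ↔ img (pwD 1) (ix x) = ix x := by
  have hfix := fix_iff (p := 5) (pw := pwD) (by norm_num) pwD_ok fixD_ok (k := 1) (by norm_num) (by norm_num)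
    (g := g) (by rw [pwD_one, pow_one]; exact hgk)
  rw [← ix_pm (by decide +kernel), ← ix_pm (by decide +kernel)]
  constructor
  · intro h; rw [(hfix x).1 (ix_inj h)]
  · intro h; rw [(hfix x).2 (ix_inj h)]

theorem lvs22_ok : lvsOK tabD 0 lvs22 = true := by decide +kernel
theorem lvs12_ok : lvsOK tabD 0 lvs12 = true := by decide +kernel

theorem halD22 {g : Equiv.Perm GolayPt} (hg : g ∈ m22) (hgk : g * pm cD = pm cD * g) :
    ∀ k < lvs22.length, ix (g (pt (repsD.getD k 0))) ∈ (lvs22.getD k ([], [])).1 := by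
  have h23 : g (pt 23) = pt 23 := hg.1.2
  have h0 : g (pt 0) = pt 0 := hg.2
  have d3' : ∀ q < 24, (!(img (pwD 1) q == q) || q == 23 || q == 0 || ((lvs22.getD 2 ([], [])).1.contains q &&
      (lvs22.getD 3 ([], [])).1.contains q)) = true := by decide +kernel
  have d3 : ∀ q < 24, img (pwD 1) q = q → q ≠ 23 → q ≠ 0 → q ∈ (lvs22.getD 2 ([], [])).1 ∧ q ∈ (lvs22.getD 3 ([], [])).1 := by
    intro q hq h1 h2 h3
    simpa [h1, h2, h3, List.contains_iff_mem] using d3' q hq
  have d1' : ∀ k < 8, ∀ q < 24, (Nat.blt k 4 || img (pwD 1) q == q || (lvs22.getD k ([], [])).1.contains q) = true := by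
    decide +kernel
  have d1 : ∀ k < 8, 4 ≤ k → ∀ q < 24, ¬ img (pwD 1) q = q → q ∈ (lvs22.getD k ([], [])).1 := by
    intro k hk h4 q hq h1
    have := d1' k hk q hq
    rw [Bool.or_eq_true, Bool.or_eq_true, Nat.blt_eq, beq_iff_eq, List.contains_iff_mem] at this
    rcases this with (h | h) | h
    · omega
    · exact absurd h h1
    · exact h
  have n1 : ∀ x, x ≠ pt 23 → ix (g x) ≠ 23 := by
    intro x hx h
    apply hx
    apply g.injective
    rw [h23]; exact ix_inj (h.trans (by decide))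
  have n2 : ∀ x, x ≠ pt 0 → ix (g x) ≠ 0 := by
    intro x hx h
    apply hx
    apply g.injective
    rw [h0]; exact ix_inj (h.trans (by decide))
  have hlen : lvs22.length = 8 := by decide
  intro k hk
  rw [hlen] at hk
  by_cases h4 : 4 ≤ k
  · apply d1 k hk h4 _ (ix_lt _)
    rw [keyD hgk]
    have : ∀ k < 8, 4 ≤ k → ¬ img (pwD 1) (ix (pt (repsD.getD k 0))) = ix (pt (repsD.getD k 0)) := by decide +kernel
    exact this k hk h4
  · have hk4 : k < 4 := by omega
    interval_cases k
    · change ix (g (pt 23)) ∈ _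
      rw [h23]; decide
    · change ix (g (pt 0)) ∈ _
      rw [h0]; decide
    · exact (d3 _ (ix_lt _) ((keyD hgk _).2 (by decide +kernel)) (n1 _ (by decide)) (n2 _ (by decide))).1
    · exact (d3 _ (ix_lt _) ((keyD hgk _).2 (by decide +kernel)) (n1 _ (by decide)) (n2 _ (by decide))).2

theorem halD12 {g : Equiv.Perm GolayPt} (hg : g ∈ m12) (hgk : g * pm cD = pm cD * g) :
    ∀ k < lvs12.length, ix (g (pt (repsD.getD k 0))) ∈ (lvs12.getD k ([], [])).1 := by
  have key2 : ∀ x : GolayPt, (dodU.testBit (ix (g x)) = true ↔ dodU.testBit (ix x) = true) := by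
    intro x
    have h1 := smul_mem_smul_iff' g (st dodU) x
    rw [show g • st dodU = st dodU from hg.2] at h1
    rw [← mem_st, ← mem_st]; exact h1
  have hlen : lvs12.length = 8 := by decide
  have d' : ∀ k < 8, ∀ q < 24, (!((img (pwD 1) q == q) == (img (pwD 1) (ix (pt (repsD.getD k 0))) == ix (pt (repsD.getD k 0)))) ||
      !(dodU.testBit q == dodU.testBit (ix (pt (repsD.getD k 0)))) || (lvs12.getD k ([], [])).1.contains q) = true := by
    decide +kernel
  have d : ∀ k < 8, ∀ q < 24, ((img (pwD 1) q == q) == (img (pwD 1) (ix (pt (repsD.getD k 0))) == ix (pt (repsD.getD k 0)))) = true →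
      (dodU.testBit q == dodU.testBit (ix (pt (repsD.getD k 0)))) = true → q ∈ (lvs12.getD k ([], [])).1 := by
    intro k hk q hq h1 h2
    have := d' k hk q hq
    rw [h1, h2] at this
    simpa [List.contains_iff_mem] using this
  intro k hk
  rw [hlen] at hk
  apply d k hk _ (ix_lt _)
  · rw [beq_iff_eq, Bool.eq_iff_iff, beq_iff_eq, beq_iff_eq]; exact keyD hgk _
  · rw [beq_iff_eq, Bool.eq_iff_iff]; exact key2 _

theorem sol22 : (solveL pwD tabD lvs22 [[]]).all (fun qs => !pres (cand pwD tabD qs) ||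
    (List.range 5).any (fun j => cand pwD tabD qs == pwD j)) = true := by decide +kernel

theorem sol11 : (solveL pwD tabD lvs12 [[]]).all (fun qs => !pres (cand pwD tabD qs) || !(img (cand pwD tabD qs) 0 == 0) ||
    (List.range 5).any (fun j => cand pwD tabD qs == pwD j)) = true := by decide +kernel

theorem sol12 : (solveL pwD tabD lvs12 [[]]).all (fun qs => !pres (cand pwD tabD qs) ||
    !(comp (cand pwD tabD qs) (cand pwD tabD qs) == idc) ||
    cand pwD tabD qs == idc || cand pwD tabD qs == cZ) = true := by decide +kernel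

theorem ltD : ∀ i < 24, (tabD.getD i (0, 0)).2 < 5 := by decide

theorem cent_D22 {g : Equiv.Perm GolayPt} (hg : g ∈ m22) (h : g * pm cD = pm cD * g) : g ∈ Subgroup.zpowers (pm cD) := by
  obtain ⟨qs, h1, h2⟩ := mem_solveL (t := cD) (t' := cD) tabD_ok ltD (fun j hj => pm_pwD hj) (fun j hj => pm_pwD hj)
    (by decide) lvs22_ok hg.1.1 h (halD22 hg h)
  have h3 := List.all_eq_true.1 sol22 qs h1
  rw [← h2, (pres_iff (valid_codeOf g)).2 (by rw [pm_codeOf]; exact hg.1.1)] at h3
  simp only [Bool.not_true, Bool.false_or, List.any_eq_true, beq_iff_eq, List.mem_range] at h3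
  obtain ⟨j, hj, h4⟩ := h3
  have h5 : g = pm cD ^ j := by rw [← (pm_pwD hj).2, ← h4, pm_codeOf]
  rw [h5]; exact Subgroup.npow_mem_zpowers _ _

theorem cent_D11 {g : Equiv.Perm GolayPt} (hg : g ∈ m11) (h : g * pm cD = pm cD * g) : g ∈ Subgroup.zpowers (pm cD) := by
  have hg12 : g ∈ m12 := hg.1
  obtain ⟨qs, h1, h2⟩ := mem_solveL (t := cD) (t' := cD) tabD_ok ltD (fun j hj => pm_pwD hj) (fun j hj => pm_pwD hj)
    (by decide) lvs12_ok hg12.1 h (halD12 hg12 h)
  have h3 := List.all_eq_true.1 sol11 qs h1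
  have h0 : g (pt 0) = pt 0 := hg.2
  have h0' : img (codeOf g) 0 = 0 := by
    rw [img_codeOf _ (by norm_num), h0]; decide
  rw [← h2, (pres_iff (valid_codeOf g)).2 (by rw [pm_codeOf]; exact hg12.1), h0'] at h3
  simp only [Bool.not_true, Bool.false_or, beq_self_eq_true, List.any_eq_true, beq_iff_eq, List.mem_range] at h3
  obtain ⟨j, hj, h4⟩ := h3
  have h5 : g = pm cD ^ j := by rw [← (pm_pwD hj).2, ← h4, pm_codeOf]
  rw [h5]; exact Subgroup.npow_mem_zpowers _ _

theorem comp_idc_of {g : Equiv.Perm GolayPt} (h : g * g = 1) : comp (codeOf g) (codeOf g) = idc := by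
  have h1 : pm (comp (codeOf g) (codeOf g)) = pm idc := by
    rw [pm_comp (valid_codeOf g) (valid_codeOf g), pm_codeOf, pm_idc, h]
  unfold comp
  have hc : ∀ n ≤ 24, compAux (codeOf g) (codeOf g) n = compAux idc idc n := by
    intro n
    induction n with
    | zero => intro _; rfl
    | succ n ih =>
      intro hn
      have e : img (codeOf g) (img (codeOf g) n) = img idc (img idc n) := by
        have h2 := congrArg (fun f => ix (f (pt n))) h1
        rw [ix_pm (valid_comp (valid_codeOf g) (valid_codeOf g)), ix_pm valid_idc, ix_pt (by omega),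
          img_comp _ _ (by omega)] at h2
        have h3 : ∀ n < 24, img idc n = img idc (img idc n) := by decide +kernel
        rw [h2]; exact h3 n (by omega)
      rw [compAux, compAux, ih (by omega), e]
  rw [hc 24 le_rfl]
  decide +kernel

theorem cent_D12 {g : Equiv.Perm GolayPt} (hg : g ∈ m12) (h : g * pm cD = pm cD * g) (h2 : g * g = 1) (hne : g ≠ 1) :
    g = pm cZ := by
  obtain ⟨qs, h1, h2'⟩ := mem_solveL (t := cD) (t' := cD) tabD_ok ltD (fun j hj => pm_pwD hj) (fun j hj => pm_pwD hj)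
    (by decide) lvs12_ok hg.1 h (halD12 hg h)
  have h3 := List.all_eq_true.1 sol12 qs h1
  rw [← h2', (pres_iff (valid_codeOf g)).2 (by rw [pm_codeOf]; exact hg.1), comp_idc_of h2] at h3
  simp only [Bool.not_true, Bool.false_or, beq_self_eq_true, Bool.or_eq_true, beq_iff_eq] at h3
  rcases h3 with h4 | h4
  · exfalso; apply hne; rw [← pm_codeOf g, h4, pm_idc]
  · rw [← pm_codeOf g, h4]

end Cfsg.Agent.Lib.Golay
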