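import Cfsg.Agent.Lib.Golay.Dodec
import Cfsg.Agent.Lib.Golay.Transport

/-!
Simplicity of the stabilisers of a dodecad and of a dodecad with one of its points.
-/

set_option autoImplicit false

namespace Cfsg.Agent.Lib.Golay

open scoped Pointwise
open Cfsg

theorem extend_seq {s : Finset GolayPt} {n : ℕ} (hn : n ≤ 5) (hs : 5 + n ≤ s.card) {x : ℕ → GolayPt}
    (hxs : ∀ i < n, x i ∈ s) (hx : ∀ i < n, ∀ j < i, x j ≠ x i) :
    ∃ y : ℕ → GolayPt, (∀ i < n, y i = x i) ∧ (∀ i < 5, y i ∈ s) ∧ ∀ i < 5, ∀ j < i, y j ≠ y i := by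
  classical
  have h1 : 5 ≤ (s \ (Finset.range n).image x).card := by
    have h2 := Finset.le_card_sdiff ((Finset.range n).image x) s
    have h3 := Finset.card_image_le (s := Finset.range n) (f := x)
    rw [Finset.card_range] at h3
    omega
  obtain ⟨z, hz1, hz2⟩ := exists_seq5 h1
  refine ⟨fun i => if i < n then x i else z i, ?_, ?_, ?_⟩
  · intro i hi; simp [hi]
  · intro i hi
    simp only
    split_ifs with h
    · exact hxs i h
    · exact (Finset.mem_sdiff.1 (hz1 i hi)).1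
  · intro i hi j hj
    simp only
    split_ifs with h1 h2 h3
    · exact hx i h2 j hj
    · intro e
      have := (Finset.mem_sdiff.1 (hz1 i hi)).2
      apply this
      rw [← e]
      exact Finset.mem_image_of_mem x (Finset.mem_range.2 h1)
    · omega
    · exact hz2 i hi j hj

theorem dod_map5 {d : Finset GolayPt} (hd : d ∈ dodecads) {x y : ℕ → GolayPt}
    (hx : ∀ i < 5, ∀ j < i, x j ≠ x i) (hxd : ∀ i < 5, x i ∈ d)
    (hy : ∀ i < 5, ∀ j < i, y j ≠ y i) (hyd : ∀ i < 5, y i ∈ d) :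
    ∃ g ∈ M24, g • d = d ∧ ∀ i < 5, g (x i) = y i := by
  have emb : ∀ x : ℕ → GolayPt, (∀ i < 5, ∀ j < i, x j ≠ x i) → (∀ i < 5, x i ∈ d) →
      ∃ e : Fin 5 ↪ d, ∀ i : Fin 5, (e i : GolayPt) = x i := by
    intro x hx hxd
    refine ⟨⟨fun i => ⟨x i, hxd i i.2⟩, ?_⟩, fun i => rfl⟩
    intro i j h
    have h1 : x i = x j := congrArg Subtype.val h
    by_contra hne
    rcases lt_or_gt_of_ne hne with h2 | h2
    · exact hx j j.2 i h2 h1
    · exact hx i i.2 j h2 h1.symm
  obtain ⟨e, he⟩ := emb x hx hxd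
  obtain ⟨f, hf⟩ := emb y hy hyd
  obtain ⟨g, hg, _⟩ := dodecad_sharp hd e f
  refine ⟨g, g.2.1, g.2.2, ?_⟩
  intro i hi
  have := hg ⟨i, hi⟩
  rw [he, hf] at this
  exact this

theorem dod_map {d : Finset GolayPt} (hd : d ∈ dodecads) {n : ℕ} (hn : n ≤ 5) {x y : ℕ → GolayPt}
    (hx : ∀ i < n, ∀ j < i, x j ≠ x i) (hxd : ∀ i < n, x i ∈ d)
    (hy : ∀ i < n, ∀ j < i, y j ≠ y i) (hyd : ∀ i < n, y i ∈ d) :
    ∃ g ∈ M24, g • d = d ∧ ∀ i < n, g (x i) = y i := by
  have hc := (mem_dodecads.1 hd).2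
  obtain ⟨x', hx1, hx2, hx3⟩ := extend_seq hn (by omega) hxd hx
  obtain ⟨y', hy1, hy2, hy3⟩ := extend_seq hn (by omega) hyd hy
  obtain ⟨g, hg, hgd, h⟩ := dod_map5 hd hx3 hx2 hy3 hy2
  refine ⟨g, hg, hgd, fun i hi => ?_⟩
  rw [← hx1 i hi, ← hy1 i hi]
  exact h i (by omega)

theorem dod_one {d : Finset GolayPt} (hd : d ∈ dodecads) {x y : GolayPt} (hx : x ∈ d) (hy : y ∈ d) :
    ∃ g ∈ M24, g • d = d ∧ g x = y := by
  obtain ⟨g, hg, h1, h2⟩ := dod_map hd (n := 1) (by norm_num) (x := fun _ => x) (y := fun _ => y)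
    (by intro i hi j hj; omega) (fun _ _ => hx) (by intro i hi j hj; omega) (fun _ _ => hy)
  exact ⟨g, hg, h1, h2 0 (by norm_num)⟩

theorem dod_two {d : Finset GolayPt} (hd : d ∈ dodecads) {x y z : GolayPt} (hx : x ∈ d) (hy : y ∈ d)
    (hz : z ∈ d) (h1 : y ≠ x) (h2 : z ≠ x) : ∃ g ∈ M24, g • d = d ∧ g x = x ∧ g y = z := by
  obtain ⟨g, hg, h3, h4⟩ := dod_map hd (n := 2) (by norm_num) (x := fun i => if i = 0 then x else y)
    (y := fun i => if i = 0 then x else z)
    (by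
      intro i hi j hj
      have : i = 1 ∧ j = 0 := by omega
      obtain ⟨rfl, rfl⟩ := this
      simpa using h1.symm) (by intro i hi; split_ifs <;> assumption)
    (by
      intro i hi j hj
      have : i = 1 ∧ j = 0 := by omega
      obtain ⟨rfl, rfl⟩ := this
      simpa using h2.symm) (by intro i hi; split_ifs <;> assumption)
  exact ⟨g, hg, h3, h4 0 (by norm_num), h4 1 (by norm_num)⟩

theorem dod_three {d : Finset GolayPt} (hd : d ∈ dodecads) {x y z w : GolayPt} (hx : x ∈ d) (hy : y ∈ d)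
    (hz : z ∈ d) (hw : w ∈ d) (h1 : y ≠ x) (h2 : z ≠ x) (h3 : w ≠ x) (h4 : z ≠ y) (h5 : w ≠ y) :
    ∃ g ∈ M24, g • d = d ∧ g x = x ∧ g y = y ∧ g z = w := by
  obtain ⟨g, hg, h6, h7⟩ := dod_map hd (n := 3) (by norm_num)
    (x := fun i => if i = 0 then x else if i = 1 then y else z)
    (y := fun i => if i = 0 then x else if i = 1 then y else w)
    (by
      intro i hi j hj
      have : (i = 1 ∧ j = 0) ∨ (i = 2 ∧ j = 0) ∨ (i = 2 ∧ j = 1) := by omega
      rcases this with ⟨rfl, rfl⟩ | ⟨rfl, rfl⟩ | ⟨rfl, rfl⟩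
      · simpa using h1.symm
      · simpa using h2.symm
      · simpa using h4.symm) (by intro i hi; split_ifs <;> assumption)
    (by
      intro i hi j hj
      have : (i = 1 ∧ j = 0) ∨ (i = 2 ∧ j = 0) ∨ (i = 2 ∧ j = 1) := by omega
      rcases this with ⟨rfl, rfl⟩ | ⟨rfl, rfl⟩ | ⟨rfl, rfl⟩
      · simpa using h1.symm
      · simpa using h3.symm
      · simpa using h5.symm) (by intro i hi; split_ifs <;> assumption)
  exact ⟨g, hg, h6, h7 0 (by norm_num), h7 1 (by norm_num), h7 2 (by norm_num)⟩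

theorem fix_of_fix_dodecad {d : Finset GolayPt} (hd : d ∈ dodecads) {g : Equiv.Perm GolayPt} (hg : g ∈ M24)
    (hgd : g • d = d) (h : ∀ x ∈ d, g x = x) : g = 1 := by
  obtain ⟨x, hx1, hx2⟩ := exists_seq5 (s := d) (n := 5) (by rw [(mem_dodecads.1 hd).2]; norm_num)
  exact eq_one_of_dodecad hd hx2 hx1 hg hgd (fun i hi => h _ (hx1 i hi))

/-- a dodecad invariant under the multiplication by two -/
def dodU : ℕ := 0x5335f

theorem dodU_mem : st dodU ∈ dodecads := (st_mem_dodecads (by decide)).2 (by decide +kernel)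

/-- the standard M12 -/
def m12 : Subgroup (Equiv.Perm GolayPt) := M24 ⊓ MulAction.stabilizer (Equiv.Perm GolayPt) (st dodU)

/-- the standard M11 -/
def m11 : Subgroup (Equiv.Perm GolayPt) := M24 ⊓ MulAction.stabilizer (Equiv.Perm GolayPt) (st dodU) ⊓
  MulAction.stabilizer (Equiv.Perm GolayPt) (pt 0)

theorem pm_mem_stabSet {c : ℕ} (hc : valid c = true) {m : ℕ} (hm : m < 2 ^ 24) :
    (act c m == m) = true ↔ pm c ∈ MulAction.stabilizer (Equiv.Perm GolayPt) (st m) := by
  rw [MulAction.mem_stabilizer_iff, beq_iff_eq, pm_smul_st hc]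
  constructor
  · intro h; rw [h]
  · intro h; exact st_inj (act_lt hc m) hm h

/-- membership test for `m12` -/
def inM12 (c : ℕ) : Bool := act c dodU == dodU && pres c

/-- membership test for `m11` -/
def inM11 (c : ℕ) : Bool := act c dodU == dodU && pres c && img c 0 == 0

theorem inM12_iff {c : ℕ} (hc : valid c = true) : inM12 c = true ↔ pm c ∈ m12 := by
  unfold inM12
  rw [Bool.and_eq_true, pres_iff hc, pm_mem_stabSet hc (by decide)]
  exact and_comm

theorem inM11_iff {c : ℕ} (hc : valid c = true) : inM11 c = true ↔ pm c ∈ m11 := by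
  unfold inM11
  rw [Bool.and_eq_true, Bool.and_eq_true, pres_iff hc, pm_mem_stabSet hc (by decide), pm_mem_stab hc (by norm_num)]
  exact and_congr_left' and_comm

theorem mem_m12_U : pm cU ∈ m12 := (inM12_iff (by decide +kernel)).1 (by decide +kernel)
theorem mem_m11_U : pm cU ∈ m11 := (inM11_iff (by decide +kernel)).1 (by decide +kernel)

theorem card_m12 : Nat.card m12 = 95040 := card_stab_dodecad dodU_mem

theorem card_dod_stab {d : Finset GolayPt} (hd : d ∈ dodecads) {p : GolayPt} (hp : p ∈ d) :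
    Nat.card ↥(M24 ⊓ MulAction.stabilizer (Equiv.Perm GolayPt) d ⊓
      MulAction.stabilizer (Equiv.Perm GolayPt) p) = 7920 := by
  have h := card_eq_orbit_mul (M24 ⊓ MulAction.stabilizer (Equiv.Perm GolayPt) d) p
  rw [orbit_eq_of_forall _ p (d : Set GolayPt) (fun g hg => by
      have h1 := (smul_mem_smul_iff' g d p).2 hp
      rw [show g • d = d from hg.2] at h1
      exact h1) (fun y hy => by
      obtain ⟨g, hg, h1, h2⟩ := dod_one hd hp hy
      exact ⟨g, ⟨hg, h1⟩, h2⟩), Set.ncard_coe_finset, (mem_dodecads.1 hd).2, card_stab_dodecad hd] at h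
  omega

theorem dodPt_mem : pt 0 ∈ st dodU := by decide +kernel

theorem card_m11 : Nat.card m11 = 7920 := card_dod_stab dodU_mem dodPt_mem

/-- allowed images -/
def al12 : List (List ℕ) := [[23], [0], [1, 2, 3, 4, 6, 8, 9, 12, 13, 16, 18], [5, 7, 10, 11, 14, 15, 17, 19, 20, 21, 22]]

theorem hal12 : ∀ g ∈ m12, ∀ k < 11, 0 < k →
    g * pm (pwU 1) = pm (pwU 1) ^ k * g →
      List.Forall₂ (fun r l => ix (g (pt r)) ∈ l) [23, 0, 1, 5] al12 := by
  intro g hg k hk hk0 hgk
  have hfix := fix_iff (by norm_num) pwU_ok fixU_ok hk hk0 hgk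
  have hset : ∀ x, g x ∈ st dodU ↔ x ∈ st dodU := by
    intro x
    have h1 := smul_mem_smul_iff' g (st dodU) x
    rw [show g • st dodU = st dodU from hg.2] at h1
    exact h1
  have key1 : ∀ x : GolayPt, (img (pwU 1) (ix (g x)) = ix (g x) ↔ img (pwU 1) (ix x) = ix x) := by
    intro x
    rw [← ix_pm (by decide +kernel), ← ix_pm (by decide +kernel)]
    constructor
    · intro h; rw [(hfix x).1 (ix_inj h)]
    · intro h; rw [(hfix x).2 (ix_inj h)]
  have key2 : ∀ x : GolayPt, (dodU.testBit (ix (g x)) = true ↔ dodU.testBit (ix x) = true) := by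
    intro x
    rw [← mem_st, ← mem_st]; exact hset x
  have d23 : ∀ q < 24, img (pwU 1) q = q → ¬ dodU.testBit q = true → q ∈ [23] := by decide +kernel
  have d0 : ∀ q < 24, img (pwU 1) q = q → dodU.testBit q = true → q ∈ [0] := by decide +kernel
  have d1 : ∀ q < 24, ¬ img (pwU 1) q = q → dodU.testBit q = true →
    q ∈ [1, 2, 3, 4, 6, 8, 9, 12, 13, 16, 18] := by decide +kernel
  have d5 : ∀ q < 24, ¬ img (pwU 1) q = q → ¬ dodU.testBit q = true →
    q ∈ [5, 7, 10, 11, 14, 15, 17, 19, 20, 21, 22] := by decide +kernel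
  refine List.Forall₂.cons ?_ (List.Forall₂.cons ?_ (List.Forall₂.cons ?_ (List.Forall₂.cons ?_ List.Forall₂.nil)))
  · refine d23 _ (ix_lt _) ((key1 _).2 (by decide +kernel)) (fun h => ?_)
    exact absurd ((key2 _).1 h) (by decide +kernel)
  · exact d0 _ (ix_lt _) ((key1 _).2 (by decide +kernel)) ((key2 _).2 (by decide +kernel))
  · refine d1 _ (ix_lt _) (fun h => ?_) ((key2 _).2 (by decide +kernel))
    exact absurd ((key1 _).1 h) (by decide +kernel)
  · refine d5 _ (ix_lt _) (fun h => ?_) (fun h => ?_)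
    · exact absurd ((key1 _).1 h) (by decide +kernel)
    · exact absurd ((key2 _).1 h) (by decide +kernel)

theorem norm12_data : (normList inM12 11 pwU tabU al12).Nodup ∧
    (normList inM12 11 pwU tabU al12).length = 55 := by decide +kernel

theorem norm11_data : (normList inM11 11 pwU tabU al12).Nodup ∧
    (normList inM11 11 pwU tabU al12).length = 55 := by decide +kernel

theorem isSimple_m12 : IsSimpleGroup m12 := by
  have : Fact (Nat.Prime 11) := ⟨by norm_num⟩
  refine SimpleCrit.isSimple_of_sylow 11 5 (by norm_num) (Subgroup.zpowers (⟨pm cU, mem_m12_U⟩ : m12)) ?_ ?_ ?_ ?_ ?_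
  · rw [Nat.card_zpowers, Subgroup.orderOf_mk, orderOf_U]
  · rw [card_m12]; norm_num
  · rw [card_normalizer_zpowers m12 mem_m12_U (by norm_num) orderOf_U]
    have h := ncard_norm (H := m12) (inH := inM12) (fun c hc => inM12_iff hc) (by norm_num) pwU_ok tabU_ok
      (by decide) hal12 norm12_data.1
    rw [norm12_data.2, pwU_one] at h
    exact h
  · rw [card_m12]; norm_num
  · intro N hN hNb
    refine MultTrans.dvd_card_of_threeTrans (G := m12) (α := GolayPt) (st dodU : Set GolayPt) ?_ ?_ ?_ ?_ 11 ?_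
      (by norm_num) (by norm_num) N hNb
    · intro g x hx
      have h1 := (smul_mem_smul_iff' (g : Equiv.Perm GolayPt) (st dodU) x).2 hx
      rw [show (g : Equiv.Perm GolayPt) • st dodU = st dodU from g.2.2] at h1
      exact h1
    · intro x hx y hy z hz w hw h1 h2 h3 h4 h5
      obtain ⟨g, hg, h6, h7⟩ := dod_three dodU_mem hx hy hz hw h1 h2 h3 h4 h5
      exact ⟨⟨g, hg, h6⟩, h7⟩
    · intro x hx y hy z hz h1 h2
      obtain ⟨g, hg, h6, h7⟩ := dod_two dodU_mem hx hy hz h1 h2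
      exact ⟨⟨g, hg, h6⟩, h7⟩
    · intro g hg
      apply Subtype.ext
      exact fix_of_fix_dodecad dodU_mem g.2.1 g.2.2 hg
    · rw [Set.ncard_coe_finset, (mem_dodecads.1 dodU_mem).2]

theorem isSimple_m11 : IsSimpleGroup m11 := by
  have : Fact (Nat.Prime 11) := ⟨by norm_num⟩
  refine SimpleCrit.isSimple_of_sylow 11 5 (by norm_num) (Subgroup.zpowers (⟨pm cU, mem_m11_U⟩ : m11)) ?_ ?_ ?_ ?_ ?_
  · rw [Nat.card_zpowers, Subgroup.orderOf_mk, orderOf_U]
  · rw [card_m11]; norm_num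
  · rw [card_normalizer_zpowers m11 mem_m11_U (by norm_num) orderOf_U]
    have h := ncard_norm (H := m11) (inH := inM11) (fun c hc => inM11_iff hc) (by norm_num) pwU_ok tabU_ok
      (by decide) (fun g hg => hal12 g hg.1) norm11_data.1
    rw [norm11_data.2, pwU_one] at h
    exact h
  · rw [card_m11]; norm_num
  · intro N hN hNb
    have h := MultTrans.dvd_card_of_twoTrans (G := m11) (α := GolayPt) ((st dodU : Set GolayPt) \ {pt 0})
      ?_ ?_ ?_ N hNb
    · rw [Set.ncard_sdiff_singleton_of_mem (Finset.mem_coe.2 dodPt_mem), Set.ncard_coe_finset,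
        (mem_dodecads.1 dodU_mem).2] at h
      exact h
    · rintro g x ⟨hx, hx0⟩
      have h1 := (smul_mem_smul_iff' (g : Equiv.Perm GolayPt) (st dodU) x).2 hx
      rw [show (g : Equiv.Perm GolayPt) • st dodU = st dodU from g.2.1.2] at h1
      refine ⟨h1, fun h => hx0 ?_⟩
      have h2 : (g : Equiv.Perm GolayPt) (pt 0) = pt 0 := g.2.2
      exact (g : Equiv.Perm GolayPt).injective (Eq.trans h h2.symm)
    · rintro x ⟨hx, hx0⟩ y ⟨hy, hy0⟩ z ⟨hz, hz0⟩ h1 h2
      obtain ⟨g, hg, h6, h7, h8⟩ := dod_three dodU_mem dodPt_mem hx hy hz hx0 hy0 hz0 h1 h2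
      exact ⟨⟨g, ⟨hg, h6⟩, h7⟩, h8⟩
    · intro g hg
      apply Subtype.ext
      apply fix_of_fix_dodecad dodU_mem g.2.1.1 g.2.1.2
      intro x hx
      by_cases hx' : x = pt 0
      · rw [hx']; exact g.2.2
      · exact hg x ⟨hx, hx'⟩

/-! ### transport -/

theorem stabDodEquiv {d : Finset GolayPt} (hd : d ∈ dodecads) :
    Nonempty (↥(MulAction.stabilizer M24 d) ≃* m12) := by
  obtain ⟨g, hg, h⟩ := dodecads_transitive hd dodU_mem
  have e1 : MulAction.stabilizer M24 d ≃* MulAction.stabilizer M24 (st dodU) :=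
    MulAction.stabilizerEquivStabilizer (g := (⟨g, hg⟩ : M24)) h.symm
  have e2 : MulAction.stabilizer M24 (st dodU) ≃* m12 :=
    subgroupOfEquivInf M24 (MulAction.stabilizer _ (st dodU))
  exact ⟨e1.trans e2⟩

theorem exists_map_dodPt {d d' : Finset GolayPt} (hd : d ∈ dodecads) (hd' : d' ∈ dodecads) {p p' : GolayPt}
    (hp : p ∈ d) (hp' : p' ∈ d') : ∃ g ∈ M24, g • d = d' ∧ g p = p' := by
  obtain ⟨g, hg, h⟩ := dodecads_transitive hd hd'
  have h1 : g p ∈ d' := by rw [← h, smul_mem_smul_iff']; exact hp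
  obtain ⟨k, hk, h2, h3⟩ := dod_one hd' h1 hp'
  exact ⟨k * g, M24.mul_mem hk hg, by rw [mul_smul, h, h2], h3⟩

theorem stabDodPtEquiv {d : Finset GolayPt} (hd : d ∈ dodecads) {p : GolayPt} (hp : p ∈ d) :
    Nonempty (↥(MulAction.stabilizer M24 d ⊓ MulAction.stabilizer M24 p) ≃* m11) := by
  obtain ⟨g, hg, h1, h2⟩ := exists_map_dodPt hd dodU_mem hp dodPt_mem
  have e1 := stabPairEquiv (x := d) (y := p) (x' := st dodU) (y' := pt 0) (⟨g, hg⟩ : M24) h1 h2
  have e2 : ↥(MulAction.stabilizer M24 (st dodU) ⊓ MulAction.stabilizer M24 (pt 0)) ≃* m11 :=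
    (subgroupOfEquivInf M24 (MulAction.stabilizer _ (st dodU) ⊓ MulAction.stabilizer _ (pt 0))).trans
      (MulEquiv.subgroupCongr (by rw [m11, inf_assoc]))
  exact ⟨e1.trans e2⟩

end Cfsg.Agent.Lib.Golay
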