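import Cfsg.Agent.Lib.Golay.M24

/-!
Transitivity properties of the group of the length-24 code.
-/

set_option autoImplicit false

namespace Cfsg.Agent.Lib.Golay

open scoped Pointwise
open Cfsg

theorem extend_map {k : ℕ} (hk : k < 7) (x : ℕ → GolayPt) {g : Equiv.Perm GolayPt} (hg : g ∈ M24)
    (hgx : ∀ i < k, g (pt (bpt i)) = x i) (hx : g.symm (x k) ∈ st (omask k)) :
    ∃ g' ∈ M24, ∀ i < k + 1, g' (pt (bpt i)) = x i := by
  obtain ⟨h, hh, e⟩ := exists_chain_map hk hx
  refine ⟨g * h, M24.mul_mem hg hh.1, ?_⟩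
  intro i hi
  rw [Equiv.Perm.mul_apply]
  by_cases hik : i = k
  · subst hik; rw [e, Equiv.apply_symm_apply]
  · have hb : ∀ k < 7, ∀ i < k, pt (bpt i) ∈ st (bmask k) := by decide +kernel
    rw [hh.2 _ (hb k hk i (by omega))]
    exact hgx i (by omega)

/-- every sequence of five distinct points is the image of the first five base points -/
theorem exists_map5 (x : ℕ → GolayPt) (hx : ∀ i < 5, ∀ j < i, x j ≠ x i) :
    ∀ k ≤ 5, ∃ g ∈ M24, ∀ i < k, g (pt (bpt i)) = x i := by
  intro k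
  induction k with
  | zero => intro _; exact ⟨1, M24.one_mem, fun i hi => absurd hi (Nat.not_lt_zero i)⟩
  | succ k ih =>
    intro hk
    obtain ⟨g, hg, hgx⟩ := ih (by omega)
    refine extend_map (by omega) x hg hgx ?_
    have h1 : ∀ k < 5, ∀ p : GolayPt, (∀ i < k, p ≠ pt (bpt i)) → p ∈ st (omask k) := by decide +kernel
    apply h1 k (by omega)
    intro i hi h
    rw [Equiv.symm_apply_eq, hgx i hi] at h
    exact hx k (by omega) i hi h.symm

/-- the standard octad through five base points is moved to the octad through the images -/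
theorem smul_oct0 {x : ℕ → GolayPt} {g : Equiv.Perm GolayPt} (hg : g ∈ M24)
    (hgx : ∀ i < 5, g (pt (bpt i)) = x i) (hx : ∀ i < 5, ∀ j < i, x j ≠ x i)
    {o : Finset GolayPt} (ho : o ∈ octads) (hxo : ∀ i < 5, x i ∈ o) : g • st oct0 = o := by
  apply octad_eq (smul_mem_octads hg oct0_mem) ho
  have h1 : ∀ i < 5, pt (bpt i) ∈ st oct0 := by decide +kernel
  have h2 : (Finset.range 5).image x ⊆ g • st oct0 ∩ o := by
    intro p hp
    rw [Finset.mem_image] at hp
    obtain ⟨i, hi, rfl⟩ := hp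
    rw [Finset.mem_range] at hi
    rw [Finset.mem_inter]
    refine ⟨?_, hxo i hi⟩
    rw [← hgx i hi, smul_mem_smul_iff']
    exact h1 i hi
  have h3 : ((Finset.range 5).image x).card = 5 := by
    rw [Finset.card_image_of_injOn, Finset.card_range]
    intro i hi j hj hij
    simp only [Finset.coe_range, Set.mem_Iio] at hi hj
    by_contra hne
    rcases Nat.lt_or_gt_of_ne hne with h | h
    · exact hx j hj i h hij
    · exact hx i hi j h hij.symm
  rw [← h3]; exact Finset.card_le_card h2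

/-- five distinct points of a set with at least five elements -/
theorem exists_seq5 {s : Finset GolayPt} {n : ℕ} (hs : n ≤ s.card) :
    ∃ x : ℕ → GolayPt, (∀ i < n, x i ∈ s) ∧ ∀ i < n, ∀ j < i, x j ≠ x i := by
  obtain ⟨t, hts, ht⟩ := Finset.exists_subset_card_eq hs
  let e := (Finset.equivFinOfCardEq ht).symm
  refine ⟨fun i => if h : i < n then (e ⟨i, h⟩ : GolayPt) else none, ?_, ?_⟩
  · intro i hi
    simp only [hi, dif_pos]
    exact hts (e ⟨i, hi⟩).2
  · intro i hi j hj h
    have hj' : j < n := by omega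
    simp only [hi, hj', dif_pos] at h
    have := e.injective (Subtype.ext h)
    simp only [Fin.mk.injEq] at this
    omega

theorem octads_transitive_aux {o : Finset GolayPt} (ho : o ∈ octads) :
    ∃ g ∈ M24, g • st oct0 = o := by
  obtain ⟨x, hx1, hx2⟩ := exists_seq5 (n := 5) (s := o) (by rw [(mem_octads.1 ho).2]; norm_num)
  obtain ⟨g, hg, hgx⟩ := exists_map5 x hx2 5 le_rfl
  exact ⟨g, hg, smul_oct0 hg hgx hx2 ho hx1⟩

theorem octads_transitive {o o' : Finset GolayPt} (ho : o ∈ octads) (ho' : o' ∈ octads) :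
    ∃ g ∈ M24, g • o = o' := by
  obtain ⟨g, hg, e⟩ := octads_transitive_aux ho
  obtain ⟨h, hh, e'⟩ := octads_transitive_aux ho'
  refine ⟨h * g⁻¹, M24.mul_mem hh (M24.inv_mem hg), ?_⟩
  rw [mul_smul, ← e, inv_smul_smul, e']

/-- seven points in general position: the sixth outside the octad `o` through the first five, the seventh in it -/
theorem exists_map7 (x : ℕ → GolayPt) (hx : ∀ i < 5, ∀ j < i, x j ≠ x i)
    {o : Finset GolayPt} (ho : o ∈ octads) (hxo : ∀ i < 5, x i ∈ o) (h5 : x 5 ∉ o) (h6 : x 6 ∈ o)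
    (h6' : ∀ i < 5, x i ≠ x 6) : ∃ g ∈ M24, ∀ i < 7, g (pt (bpt i)) = x i := by
  obtain ⟨g, hg, hgx⟩ := exists_map5 x hx 5 le_rfl
  have hgo := smul_oct0 hg hgx hx ho hxo
  obtain ⟨g1, hg1, hgx1⟩ := extend_map (by norm_num) x hg hgx (by
    have h : g.symm (x 5) ∉ st oct0 := by
      rw [← mem_smul_iff, hgo]; exact h5
    have h1 : ∀ p : GolayPt, p ∉ st oct0 → p ∈ st (omask 5) := by decide +kernel
    exact h1 _ h)
  have hgo1 := smul_oct0 hg1 (fun i hi => hgx1 i (by omega)) hx ho hxo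
  refine extend_map (by norm_num) x hg1 hgx1 ?_
  have h : g1.symm (x 6) ∈ st oct0 := by
    rw [← mem_smul_iff, hgo1]; exact h6
  have h1 : ∀ p : GolayPt, p ∈ st oct0 → (∀ i < 5, p ≠ pt (bpt i)) → p ∈ st (omask 6) := by
    decide +kernel
  apply h1 _ h
  intro i hi e
  rw [Equiv.symm_apply_eq, hgx1 i (by omega)] at e
  exact h6' i hi e.symm

/-- five distinct points and a point outside their octad -/
theorem exists_map6 (x : ℕ → GolayPt) (hx : ∀ i < 5, ∀ j < i, x j ≠ x i)
    {o : Finset GolayPt} (ho : o ∈ octads) (hxo : ∀ i < 5, x i ∈ o) (h5 : x 5 ∉ o) :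
    ∃ g ∈ M24, ∀ i < 6, g (pt (bpt i)) = x i := by
  obtain ⟨g, hg, hgx⟩ := exists_map5 x hx 5 le_rfl
  have hgo := smul_oct0 hg hgx hx ho hxo
  exact extend_map (by norm_num) x hg hgx (by
    have h : g.symm (x 5) ∉ st oct0 := by
      rw [← mem_smul_iff, hgo]; exact h5
    have h1 : ∀ p : GolayPt, p ∉ st oct0 → p ∈ st (omask 5) := by decide +kernel
    exact h1 _ h)

/-- an element of the group fixing seven points in general position is trivial -/
theorem eq_one_of_fixes7 (x : ℕ → GolayPt) (hx : ∀ i < 5, ∀ j < i, x j ≠ x i)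
    {o : Finset GolayPt} (ho : o ∈ octads) (hxo : ∀ i < 5, x i ∈ o) (h5 : x 5 ∉ o) (h6 : x 6 ∈ o)
    (h6' : ∀ i < 5, x i ≠ x 6) {g : Equiv.Perm GolayPt} (hg : g ∈ M24) (hfix : ∀ i < 7, g (x i) = x i) :
    g = 1 := by
  obtain ⟨h, hh, hhx⟩ := exists_map7 x hx ho hxo h5 h6 h6'
  have hc : h⁻¹ * g * h ∈ chain 7 := by
    refine ⟨M24.mul_mem (M24.mul_mem (M24.inv_mem hh) hg) hh, ?_⟩
    have hb : ∀ p : GolayPt, p ∈ st (bmask 7) → ∃ i < 7, p = pt (bpt i) := by decide +kernel
    intro p hp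
    obtain ⟨i, hi, rfl⟩ := hb p hp
    rw [Equiv.Perm.mul_apply, Equiv.Perm.mul_apply, hhx i hi, hfix i hi, ← hhx i hi]
    exact h.symm_apply_apply _
  rw [chain_seven, Subgroup.mem_bot] at hc
  have : g = h * (h⁻¹ * g * h) * h⁻¹ := by group
  rw [this, hc]; group

/-- the group of the length-24 code is 5-transitive: version with sequences -/
theorem exists_map_seq5 (x y : ℕ → GolayPt) (hx : ∀ i < 5, ∀ j < i, x j ≠ x i)
    (hy : ∀ i < 5, ∀ j < i, y j ≠ y i) : ∃ g ∈ M24, ∀ i < 5, g (x i) = y i := by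
  obtain ⟨g, hg, hgx⟩ := exists_map5 x hx 5 le_rfl
  obtain ⟨h, hh, hhy⟩ := exists_map5 y hy 5 le_rfl
  refine ⟨h * g⁻¹, M24.mul_mem hh (M24.inv_mem hg), fun i hi => ?_⟩
  rw [Equiv.Perm.mul_apply, ← hgx i hi]
  show h (g.symm (g _)) = _
  rw [Equiv.symm_apply_apply, hhy i hi]

theorem isMultiplyPretransitive5 : MulAction.IsMultiplyPretransitive M24 GolayPt 5 := by
  rw [MulAction.isMultiplyPretransitive_iff]
  intro x y
  obtain ⟨g, hg, h⟩ := exists_map_seq5 (fun i => if h : i < 5 then x ⟨i, h⟩ else none)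
    (fun i => if h : i < 5 then y ⟨i, h⟩ else none) (by
      intro i hi j hj h
      have hj' : j < 5 := by omega
      simp only [hi, hj', dif_pos] at h
      have := x.injective h
      simp only [Fin.mk.injEq] at this
      omega) (by
      intro i hi j hj h
      have hj' : j < 5 := by omega
      simp only [hi, hj', dif_pos] at h
      have := y.injective h
      simp only [Fin.mk.injEq] at this
      omega)
  refine ⟨⟨g, hg⟩, ?_⟩
  ext i : 1
  have := h i.1 i.2
  simp only [i.2, dif_pos, Fin.eta] at this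
  exact this

end Cfsg.Agent.Lib.Golay
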