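import Cfsg.Agent.Lib.Golay.SlpData
import Cfsg.Agent.Lib.Golay.Trans

/-!
Straight-line programs in permutation codes; generation of the group of the length-24 code.
-/

set_option autoImplicit false

namespace Cfsg.Agent.Lib.Golay

open scoped Pointwise
open Cfsg

/-- check of the steps of a straight-line program; `n` is the index of the next element -/
def slpOK (els : List ℕ) : ℕ → List (ℕ × ℕ × ℕ) → Bool
  | _, [] => true
  | n, (t, a, b) :: l =>
    (if t == 0 then comp (els.getD a 0) (els.getD b 0) == els.getD n 0
      else comp (els.getD a 0) (els.getD n 0) == idc) &&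
    Nat.blt a n && Nat.blt b n && valid (els.getD n 0) && slpOK els (n + 1) l

theorem slpOK_spec {els : List ℕ} {H : Subgroup (Equiv.Perm GolayPt)} (l : List (ℕ × ℕ × ℕ)) {n : ℕ}
    (h : slpOK els n l = true)
    (h0 : ∀ i < n, valid (els.getD i 0) = true ∧ pm (els.getD i 0) ∈ H) :
    ∀ i < n + l.length, valid (els.getD i 0) = true ∧ pm (els.getD i 0) ∈ H := by
  induction l generalizing n with
  | nil => simpa using h0
  | cons s l ih =>
    obtain ⟨t, a, b⟩ := s
    simp only [slpOK, Bool.and_eq_true] at h
    obtain ⟨⟨⟨⟨h1, h2⟩, h3⟩, h4⟩, h5⟩ := h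
    rw [Nat.blt_eq] at h2 h3
    have key : pm (els.getD n 0) ∈ H := by
      by_cases ht : (t == 0) = true
      · rw [if_pos ht, beq_iff_eq] at h1
        rw [← h1, pm_comp (h0 a h2).1 (h0 b h3).1]
        exact H.mul_mem (h0 a h2).2 (h0 b h3).2
      · rw [if_neg ht, beq_iff_eq] at h1
        have h6 := pm_comp (h0 a h2).1 h4
        rw [h1, pm_idc] at h6
        have h7 : pm (els.getD n 0) = (pm (els.getD a 0))⁻¹ := by
          rw [eq_comm, inv_eq_iff_mul_eq_one]; exact h6.symm
        rw [h7]; exact H.inv_mem (h0 a h2).2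
    have h8 : ∀ i < n + 1, valid (els.getD i 0) = true ∧ pm (els.getD i 0) ∈ H := by
      intro i hi
      by_cases hin : i = n
      · subst hin; exact ⟨h4, key⟩
      · exact h0 i (by omega)
    have h9 := ih h5 h8
    intro i hi
    apply h9
    rw [List.length_cons] at hi
    omega

/-- a subgroup containing transversals of the stabiliser chain contains the whole group -/
theorem le_of_chain {H : Subgroup (Equiv.Perm GolayPt)}
    (h : ∀ k < 7, ∀ p ∈ st (omask k), ∃ g ∈ H, g ∈ chain k ∧ g (pt (bpt k)) = p) : M24 ≤ H := by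
  have key : ∀ j ≤ 7, chain (7 - j) ≤ H := by
    intro j
    induction j with
    | zero => intro _; rw [Nat.sub_zero, chain_seven]; exact bot_le
    | succ j ih =>
      intro hj g hg
      have hk : 7 - (j + 1) < 7 := by omega
      obtain ⟨x, hx, hx', e⟩ := h _ hk _ (chain_maps_to hk hg)
      have h1 : x⁻¹ * g ∈ chain (7 - (j + 1) + 1) := by
        rw [chain_succ hk, Subgroup.mem_inf, MulAction.mem_stabilizer_iff]
        refine ⟨Subgroup.mul_mem _ (Subgroup.inv_mem _ hx') hg, ?_⟩
        show x.symm (g _) = _
        rw [← e, Equiv.symm_apply_apply]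
      have h2 : 7 - (j + 1) + 1 = 7 - j := by omega
      rw [h2] at h1
      have h3 := H.mul_mem hx (ih (by omega) h1)
      rwa [mul_inv_cancel_left] at h3
  have h1 := key 7 le_rfl
  rwa [Nat.sub_self, chain_zero] at h1

theorem slp_valid3 : ∀ i < 3, valid (slpEls.getD i 0) = true := by decide +kernel

theorem slp_ok : slpOK slpEls 3 slpSteps = true := by decide +kernel

theorem slp_len : 3 + slpSteps.length = slpEls.length := by decide +kernel

/-- each level of the program covers the basic orbit -/
theorem slp_covers : ∀ k < 7, ∀ i < 24, (omask k).testBit i = true →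
    ∃ j ∈ slpLev.getD k [], j < slpEls.length ∧ img (slpEls.getD j 0) (bpt k) = i := by decide +kernel

theorem slp_fixes : ∀ k < 7, ∀ j ∈ slpLev.getD k [],
    ((List.range 24).all (fun i => !(bmask k).testBit i || img (slpEls.getD j 0) i == i)) = true := by
  decide +kernel

theorem cT_pres : pres cT = true := by decide +kernel
theorem cS_pres : pres cS = true := by decide +kernel
theorem cD_pres : pres cD = true := by decide +kernel
theorem cU_pres : pres cU = true := by decide +kernel

/-- generation by the translation, the inversion and the cube twist -/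
theorem closure_TSD : Subgroup.closure {pm cT, pm cS, pm cD} = M24 := by
  apply le_antisymm
  · rw [Subgroup.closure_le]
    intro g hg
    simp only [Set.mem_insert_iff, Set.mem_singleton_iff] at hg
    rcases hg with rfl | rfl | rfl
    · exact pm_mem_M24 cT_pres
    · exact pm_mem_M24 cS_pres
    · exact pm_mem_M24 cD_pres
  · apply le_of_chain
    have hall := slpOK_spec (H := Subgroup.closure {pm cT, pm cS, pm cD}) slpSteps slp_ok (by
      intro i hi
      refine ⟨slp_valid3 i hi, ?_⟩
      have e0 : slpEls.getD 0 0 = cT := by decide +kernel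
      have e1 : slpEls.getD 1 0 = cS := by decide +kernel
      have e2 : slpEls.getD 2 0 = cD := by decide +kernel
      apply Subgroup.subset_closure
      interval_cases i
      · rw [e0]; simp
      · rw [e1]; simp
      · rw [e2]; simp)
    have hle : Subgroup.closure {pm cT, pm cS, pm cD} ≤ M24 := by
      rw [Subgroup.closure_le]
      intro g hg
      simp only [Set.mem_insert_iff, Set.mem_singleton_iff] at hg
      rcases hg with rfl | rfl | rfl
      · exact pm_mem_M24 cT_pres
      · exact pm_mem_M24 cS_pres
      · exact pm_mem_M24 cD_pres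
    intro k hk p hp
    rw [mem_st] at hp
    obtain ⟨j, hj, hj', e⟩ := slp_covers k hk (ix p) (ix_lt p) hp
    have h1 := hall j (by rw [slp_len]; exact hj')
    refine ⟨pm (slpEls.getD j 0), h1.2, ⟨hle h1.2, ?_⟩, ?_⟩
    · intro q hq
      apply ix_inj
      rw [ix_pm h1.1]
      have h2 := slp_fixes k hk j hj
      rw [List.all_eq_true] at h2
      have h3 := h2 (ix q) (List.mem_range.2 (ix_lt q))
      rw [mem_st] at hq
      simpa [hq] using h3
    · rw [pm_pt h1.1 (bpt_lt k hk), e, pt_ix]

theorem T_eq : Equiv.optionCongr (Equiv.addRight (1 : ZMod 23)) = pm cT := by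
  have h : ∀ p : GolayPt, Equiv.optionCongr (Equiv.addRight (1 : ZMod 23)) p = pt (img cT (ix p)) := by
    decide +kernel
  ext p : 1
  rw [h p, pm_apply (pres_valid cT_pres)]

theorem S_eq : Cfsg.projInv = pm cS := by
  have h : ∀ p : GolayPt, Cfsg.projInv p = pt (img cS (ix p)) := by decide +kernel
  ext p : 1
  rw [h p, pm_apply (pres_valid cS_pres)]

theorem D_eq : Cfsg.cubeTwist = pm cD := by
  have h : ∀ p : GolayPt, Cfsg.cubeTwistFun p = pt (img cD (ix p)) := by decide +kernel
  ext p : 1
  rw [pm_apply (pres_valid cD_pres), ← h p]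
  rfl

theorem U_eq (u : (ZMod 23)ˣ) (hu : u = Units.mk 2 12 (by decide) (by decide)) :
    Equiv.optionCongr (Units.mulLeft u) = pm cU := by
  subst hu
  have h : ∀ p : GolayPt, Equiv.optionCongr (Units.mulLeft (Units.mk (2 : ZMod 23) 12 (by decide) (by decide))) p
      = pt (img cU (ix p)) := by decide +kernel
  ext p : 1
  rw [h p, pm_apply (pres_valid cU_pres)]

end Cfsg.Agent.Lib.Golay
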