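import Cfsg.Agent.Lib.OutCrit
import Cfsg.Agent.Lib.Golay.Slp
import Cfsg.Agent.Lib.Golay.SimpleD
import Cfsg.Agent.Lib.Golay.LeechP23

/-! Outer automorphisms of the group of the length-24 code. -/

set_option autoImplicit false

namespace Cfsg.Agent.Lib.Golay

open Cfsg
open Cfsg.Agent.Lib

/-- evaluation of a positive word on permutation codes -/
def evc (w : List ℕ) (c : ℕ → ℕ) : ℕ := w.foldr (fun k a => comp (c k) a) idc

theorem evc_spec {c : ℕ → ℕ} (w : List ℕ) (h : ∀ i ∈ w, valid (c i) = true) :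
    valid (evc w c) = true ∧ pm (evc w c) = OutCrit.ev w (fun i => pm (c i)) := by
  induction w with
  | nil => exact ⟨valid_idc, pm_idc⟩
  | cons k w ih =>
    obtain ⟨h1, h2⟩ := ih (fun i hi => h i (List.mem_cons_of_mem _ hi))
    have h3 := h k List.mem_cons_self
    refine ⟨valid_comp h3 h1, ?_⟩
    change pm (comp (c k) (evc w c)) = _
    rw [pm_comp h3 h1, h2]
    simp [OutCrit.ev]

def moves (c : ℕ) : Bool := (List.range 24).any (fun i => !(img c i == i))

theorem pt_inj' {i j : ℕ} (hi : i < 24) (hj : j < 24) (h : pt i = pt j) : i = j := by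
  have := congrArg ix h
  rwa [ix_pt hi, ix_pt hj] at this

theorem ne_one_of_moves {c : ℕ} (hv : valid c = true) (h : moves c = true) : pm c ≠ 1 := by
  intro h1
  unfold moves at h
  rw [List.any_eq_true] at h
  obtain ⟨i, hi, h2⟩ := h
  rw [List.mem_range] at hi
  have h3 : pm c (pt i) = pt (img c i) := pm_pt hv hi
  rw [h1] at h3
  have h4 := pt_inj' hi (valid_lt hv hi) h3
  rw [← h4] at h2
  simp at h2

theorem hom_eq_of_closure {P N : Type*} [Group P] [Group N] {H : Subgroup P} {s : Set P} (hs : Subgroup.closure s = H)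
    (f g : H →* N) (h : ∀ x (hx : x ∈ H), x ∈ s → f ⟨x, hx⟩ = g ⟨x, hx⟩) : ∀ x, f x = g x := by
  have h1 : Subgroup.closure s ≤ (f.eqLocus g).map H.subtype := by
    rw [Subgroup.closure_le]
    intro x hx
    have hxH : x ∈ H := by rw [← hs]; exact Subgroup.subset_closure hx
    exact ⟨⟨x, hxH⟩, h x hxH hx, rfl⟩
  rintro ⟨x, hx⟩
  obtain ⟨y, hy, hyx⟩ := h1 (hs ▸ hx)
  have : y = ⟨x, hx⟩ := Subtype.ext hyx
  rw [← this]; exact hy

theorem hal24 : ∀ g ∈ M24, g * pm cU = pm cU * g →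
      List.Forall₂ (fun r l => ix (g (pt r)) ∈ l) [23, 0, 1, 5] [[23, 0], [23, 0], mvU, mvU] := by
  intro g _ hgk
  have hfix := fix_iff (p := 11) (pw := pwU) (by norm_num) pwU_ok fixU_ok (k := 1) (by norm_num) (by norm_num)
    (g := g) (by rw [pwU_one, pow_one]; exact hgk)
  have key1 : ∀ x : GolayPt, (img (pwU 1) (ix (g x)) = ix (g x) ↔ img (pwU 1) (ix x) = ix x) := by
    intro x
    rw [← ix_pm (by decide +kernel), ← ix_pm (by decide +kernel)]
    constructor
    · intro h; rw [(hfix x).1 (ix_inj h)]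
    · intro h; rw [(hfix x).2 (ix_inj h)]
  have d0 : ∀ q < 24, img (pwU 1) q = q → q ∈ [23, 0] := by decide +kernel
  have d1 : ∀ q < 24, ¬ img (pwU 1) q = q → q ∈ mvU := by decide +kernel
  refine List.Forall₂.cons ?_ (List.Forall₂.cons ?_ (List.Forall₂.cons ?_ (List.Forall₂.cons ?_ List.Forall₂.nil)))
  · exact d0 _ (ix_lt _) ((key1 _).2 (by decide +kernel))
  · exact d0 _ (ix_lt _) ((key1 _).2 (by decide +kernel))
  · refine d1 _ (ix_lt _) (fun h => ?_)
    exact absurd ((key1 _).1 h) (by decide +kernel)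
  · refine d1 _ (ix_lt _) (fun h => ?_)
    exact absurd ((key1 _).1 h) (by decide +kernel)

theorem centU_data : ∀ c ∈ solList pres cU cU pwU tabU [[23, 0], [23, 0], mvU, mvU], ∃ j < 11, c = pwU j := by
  decide +kernel

theorem cent_U {g : Equiv.Perm GolayPt} (hg : g ∈ M24) (h : g * pm cU = pm cU * g) : g ∈ Subgroup.zpowers (pm cU) := by
  obtain ⟨hp1, _⟩ := pwOK_spec (p := 11) (by norm_num) pwU_ok
  rw [pwU_one] at hp1
  have h1 := (mem_solList (inH := pres) (H := M24) (t := cU) (t' := cU) (pw := pwU) (pw' := pwU) (P := 11)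
    (fun c hc => pres_iff hc) (by decide +kernel) (by decide +kernel) tabU_ok (by decide +kernel) hp1 hp1 hal24 g).1 ⟨hg, h⟩
  obtain ⟨j, hj, h2⟩ := centU_data _ h1
  have h3 : g = pm cU ^ j := by
    rw [← pm_codeOf g, h2, (hp1 j hj).2]
  rw [h3]
  exact Subgroup.npow_mem_zpowers _ _

theorem cent_T {g : Equiv.Perm GolayPt} (h : g * pm cT = pm cT * g) : g ∈ Subgroup.zpowers (pm cT) := by
  have h1 : pm cT (g (pt 23)) = g (pt 23) := by
    rw [← Equiv.Perm.mul_apply, ← h, Equiv.Perm.mul_apply, pm_pt (by decide +kernel) (by norm_num)]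
    rfl
  have h2 : ∀ p : GolayPt, img cT (ix p) = ix p → ix p = 23 := by decide +kernel
  have h3 : g (pt 23) = pt 23 := by
    apply ix_inj
    rw [h2 _ (by rw [← ix_pm (by decide +kernel), h1])]
    decide
  obtain ⟨j, hj⟩ := perm_comm (τ := g) h3 h
  rw [hj]
  exact Subgroup.npow_mem_zpowers _ _

theorem rel_UT : pm cU * pm cT = pm cT ^ 2 * pm cU := by
  rw [pow_two, ← pm_comp (by decide +kernel) (by decide +kernel), ← pm_comp (by decide +kernel) (by decide +kernel),
    ← pm_comp (by decide +kernel) (by decide +kernel)]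
  congr 1

theorem rel_DU : pm cD * pm cU = pm cU ^ 3 * pm cD := by
  rw [pow_succ, pow_two, ← pm_comp (by decide +kernel) (by decide +kernel),
    ← pm_comp (by decide +kernel) (by decide +kernel), ← pm_comp (by decide +kernel) (by decide +kernel),
    ← pm_comp (by decide +kernel) (by decide +kernel)]
  congr 1

theorem rel_SU : pm cS * pm cU = pm cU ^ 10 * pm cS := by
  obtain ⟨hp1, _⟩ := pwOK_spec (p := 11) (by norm_num) pwU_ok
  have h := (hp1 10 (by norm_num)).2
  rw [pwU_one] at h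
  rw [← h, ← pm_comp (by decide +kernel) (by decide +kernel), ← pm_comp (by decide +kernel) (by decide +kernel)]
  congr 1

theorem gen23 : ∀ k < 23, k ≠ 0 → ∃ i < 23, (2 ^ i * k) % 23 = 1 ∨ (2 ^ i * k) % 23 = 22 := by decide +kernel
theorem shift23 : ∀ j < 23, ∃ i < 23, (i + j) % 23 = (2 * i) % 23 := by decide +kernel
theorem gen11 : ∀ k < 11, k ≠ 0 → ∃ i < 11, (3 ^ i * k) % 11 = 1 ∨ (3 ^ i * k) % 11 = 10 := by decide +kernel
theorem shift11 : ∀ j < 11, ∃ i < 11, (i + j) % 11 = (3 * i) % 11 := by decide +kernel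

/-- codes of the possible images of the three generators -/
def opt24 (e i j : ℕ) (k : ℕ) : ℕ :=
  if k = 0 then pwT (if e = 0 then 1 else 22) else if k = 1 then comp (pwU i) cS else comp (pwU j) cD

def w24a : List ℕ := [1, 0, 1, 0, 2, 2, 2, 1, 1, 0, 1, 0, 2, 2, 2, 1, 1, 0, 1, 0, 2, 2, 2, 1, 1, 0, 1, 0, 2, 2, 2, 1, 1, 0, 1, 0, 2, 2, 2, 1]
def w24b : List ℕ := [2, 0, 2, 0, 2, 0, 2, 0, 2, 0, 2, 0]

theorem chk24 : ∀ e < 2, ∀ i < 11, ∀ j < 11, ((e == 0 && i == 0 && j == 0) ||
    moves (evc w24a (opt24 e i j)) || moves (evc w24b (opt24 e i j))) = true := by decide +kernel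

theorem opt24_valid : ∀ e < 2, ∀ i < 11, ∀ j < 11, ∀ k < 3, valid (opt24 e i j k) = true := by decide +kernel

theorem w24_triv : evc w24a (opt24 0 0 0) = idc ∧ evc w24b (opt24 0 0 0) = idc := by decide +kernel

theorem mem_zpowers_sub {P : Type*} [Group P] {H : Subgroup P} {x y : H} (h : (x : P) ∈ Subgroup.zpowers (y : P)) :
    x ∈ Subgroup.zpowers y := by
  obtain ⟨k, hk⟩ := h
  exact ⟨k, Subtype.ext (by simpa using hk)⟩

theorem pm_pwT {j : ℕ} (hj : j < 23) : valid (pwT j) = true ∧ pm (pwT j) = pm cT ^ j := by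
  obtain ⟨hp1, _⟩ := pwOK_spec (p := 23) (by norm_num) pwT_ok
  rw [pwT_one] at hp1
  exact hp1 j hj

theorem pm_pwU {j : ℕ} (hj : j < 11) : valid (pwU j) = true ∧ pm (pwU j) = pm cU ^ j := by
  obtain ⟨hp1, _⟩ := pwOK_spec (p := 11) (by norm_num) pwU_ok
  rw [pwU_one] at hp1
  exact hp1 j hj

theorem pm_pwT22 : pm (pwT 22) = (pm cT)⁻¹ := by
  rw [(pm_pwT (by norm_num)).2, eq_comm, inv_eq_iff_mul_eq_one, ← pow_succ']
  have := pow_orderOf_eq_one (pm cT)
  rwa [orderOf_T] at this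

theorem pm_pwU10 : pm (pwU 10) = (pm cU)⁻¹ := by
  rw [(pm_pwU (by norm_num)).2, eq_comm, inv_eq_iff_mul_eq_one, ← pow_succ']
  have := pow_orderOf_eq_one (pm cU)
  rwa [orderOf_U] at this

/-- a relation among codes excludes a family of images -/
theorem rel_excl {H : Subgroup (Equiv.Perm GolayPt)} (β : H →* H) (g0 : ℕ → H) {n : ℕ} {o o' : ℕ → ℕ}
    (h0 : ∀ k < n, valid (o k) = true ∧ pm (o k) = (g0 k : Equiv.Perm GolayPt))
    (h1 : ∀ k < n, valid (o' k) = true ∧ pm (o' k) = (β (g0 k) : Equiv.Perm GolayPt))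
    {w : List ℕ} (hw : ∀ k ∈ w, k < n) (ht : evc w o = idc) : moves (evc w o') = false := by
  by_contra hc
  rw [Bool.not_eq_false] at hc
  obtain ⟨h2, h3⟩ := evc_spec (c := o') w (fun i hi => (h1 i (hw i hi)).1)
  obtain ⟨h4, h5⟩ := evc_spec (c := o) w (fun i hi => (h0 i (hw i hi)).1)
  apply ne_one_of_moves h2 hc
  have e1 : OutCrit.ev w (fun i => pm (o i)) = OutCrit.ev w (fun i => H.subtype (g0 i)) := by
    unfold OutCrit.ev
    congr 1
    exact List.map_congr_left (fun i hi => (h0 i (hw i hi)).2)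
  have e2 : OutCrit.ev w (fun i => pm (o' i)) = OutCrit.ev w (fun i => H.subtype (β (g0 i))) := by
    unfold OutCrit.ev
    congr 1
    exact List.map_congr_left (fun i hi => (h1 i (hw i hi)).2)
  rw [ht, pm_idc, e1, ← OutCrit.map_ev] at h5
  have h6 : OutCrit.ev w g0 = 1 := Subtype.ext h5.symm
  rw [h3, e2, ← OutCrit.map_ev H.subtype, ← OutCrit.map_ev β, h6, map_one, map_one]

theorem out_M24 : Nat.card (Out ↥M24) = 1 := by
  apply OutCrit.card_out_one
  intro α
  set T : M24 := ⟨pm cT, mem_M24_T⟩ with hTd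
  set U : M24 := ⟨pm cU, mem_M24_U⟩ with hUd
  set S : M24 := ⟨pm cS, pm_mem_M24 cS_pres⟩ with hSd
  set D : M24 := ⟨pm cD, pm_mem_M24 cD_pres⟩ with hDd
  have hT23 : orderOf T = 23 := by rw [hTd, Subgroup.orderOf_mk, orderOf_T]
  have hU11 : orderOf U = 11 := by rw [hUd, Subgroup.orderOf_mk, orderOf_U]
  obtain ⟨c, hcT, hcU⟩ := OutCrit.normalise (p := 23) (by norm_num) (u := T) (d := U) (m := 2)
    hT23
    (fun g hg => mem_zpowers_sub (cent_T (congrArg Subtype.val hg)))
    (by rw [card_M24]; norm_num) (Subtype.ext rel_UT) gen23 shift23 α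
  refine ⟨c, ?_⟩
  set β : M24 →* M24 := (MulAut.conj c * α).toMonoidHom with hβ
  have hβa : ∀ x, β x = c * α x * c⁻¹ := fun x => rfl
  simp only [← hβa] at hcT hcU ⊢
  have hCU : ∀ g : M24, g * U = U * g → g ∈ Subgroup.zpowers U := fun g hg =>
    mem_zpowers_sub (cent_U g.2 (congrArg Subtype.val hg))
  have hDU : D * U = U ^ 3 * D := Subtype.ext rel_DU
  have hSU : S * U = U ^ 10 * S := Subtype.ext rel_SU
  obtain ⟨j, hj, hjD⟩ := OutCrit.eq_pow_mul (p := 11) (by norm_num) (u := U) (g := D) (e := β D) (m := 3)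
    hU11 hCU hDU (by
      have := congrArg β hDU
      rwa [map_mul, map_mul, map_pow, hcU] at this)
  obtain ⟨i, hi, hiS⟩ := OutCrit.eq_pow_mul (p := 11) (by norm_num) (u := U) (g := S) (e := β S) (m := 10)
    hU11 hCU hSU (by
      have := congrArg β hSU
      rwa [map_mul, map_mul, map_pow, hcU] at this)
  have he : ∃ e < 2, pm (pwT (if e = 0 then 1 else 22)) = (β T : Equiv.Perm GolayPt) := by
    rcases hcT with h | h
    · refine ⟨0, by norm_num, ?_⟩
      rw [if_pos rfl, h, pwT_one]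
    · refine ⟨1, by norm_num, ?_⟩
      rw [if_neg (by norm_num), h, pm_pwT22]; rfl
  obtain ⟨e, he, heT⟩ := he
  set g0 : ℕ → M24 := fun k => if k = 0 then T else if k = 1 then S else D with hg0
  have h0 : ∀ k < 3, valid (opt24 0 0 0 k) = true ∧ pm (opt24 0 0 0 k) = (g0 k : Equiv.Perm GolayPt) := by
    intro k hk
    refine ⟨opt24_valid 0 (by norm_num) 0 (by norm_num) 0 (by norm_num) k hk, ?_⟩
    have hu0 := (pm_pwU (j := 0) (by norm_num))
    rw [pow_zero] at hu0
    interval_cases k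
    · exact congrArg pm pwT_one
    · change pm (comp (pwU 0) cS) = pm cS
      rw [pm_comp hu0.1 (pres_valid cS_pres), hu0.2, one_mul]
    · change pm (comp (pwU 0) cD) = pm cD
      rw [pm_comp hu0.1 (pres_valid cD_pres), hu0.2, one_mul]
  have h1 : ∀ k < 3, valid (opt24 e i j k) = true ∧ pm (opt24 e i j k) = (β (g0 k) : Equiv.Perm GolayPt) := by
    intro k hk
    refine ⟨opt24_valid e he i hi j hj k hk, ?_⟩
    interval_cases k
    · exact heT
    · change pm (comp (pwU i) cS) = (β S : Equiv.Perm GolayPt)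
      rw [pm_comp (pm_pwU hi).1 (pres_valid cS_pres), (pm_pwU hi).2, hiS]; rfl
    · change pm (comp (pwU j) cD) = (β D : Equiv.Perm GolayPt)
      rw [pm_comp (pm_pwU hj).1 (pres_valid cD_pres), (pm_pwU hj).2, hjD]; rfl
  have ha := rel_excl β g0 h0 h1 (w := w24a) (by decide) w24_triv.1
  have hb := rel_excl β g0 h0 h1 (w := w24b) (by decide) w24_triv.2
  have hc := chk24 e he i hi j hj
  rw [ha, hb] at hc
  simp only [Bool.or_false, Bool.and_eq_true, beq_iff_eq] at hc
  obtain ⟨⟨rfl, rfl⟩, rfl⟩ := hc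
  have hT : β T = T := by
    rcases hcT with h | h
    · exact h
    · apply Subtype.ext
      rw [← heT, if_pos rfl, pwT_one]
  rw [pow_zero, one_mul] at hiS hjD
  apply hom_eq_of_closure closure_TSD β (MonoidHom.id M24)
  rintro x hx (rfl | rfl | rfl)
  · exact hT
  · exact hiS
  · exact hjD

end Cfsg.Agent.Lib.Golay
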