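import Cfsg.Agent.Lib.Golay.Octads

/-!
Explicit permutations of the 24 points, encoded by numbers in base 32, and membership in the group of the code.
-/

set_option autoImplicit false

namespace Cfsg.Agent.Lib.Golay

open scoped Pointwise
open Cfsg

/-- image of the index `i` under the permutation coded by `c` -/
def img (c i : ℕ) : ℕ := (c >>> (5 * i)) &&& 31

/-- union of the images of the indices below `n` -/
def imgMask (c : ℕ) : ℕ → ℕ
  | 0 => 0
  | n + 1 => imgMask c n ||| (1 <<< img c n)

/-- validity of a permutation code -/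
def valid (c : ℕ) : Bool := (List.range 24).all (fun i => Nat.blt (img c i) 24) && imgMask c 24 == 0xffffff

theorem valid_lt {c : ℕ} (h : valid c = true) {i : ℕ} (hi : i < 24) : img c i < 24 := by
  unfold valid at h
  rw [Bool.and_eq_true, List.all_eq_true] at h
  have := h.1 i (List.mem_range.2 hi)
  rwa [Nat.blt_eq] at this

theorem testBit_imgMask (c n j : ℕ) : (imgMask c n).testBit j = true ↔ ∃ i < n, img c i = j := by
  induction n with
  | zero => simp [imgMask]
  | succ n ih =>
    simp only [imgMask, Nat.testBit_or, Bool.or_eq_true, ih, Nat.one_shiftLeft, Nat.testBit_two_pow,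
      decide_eq_true_eq]
    constructor
    · rintro (⟨i, hi, h⟩ | h)
      · exact ⟨i, by omega, h⟩
      · exact ⟨n, by omega, h⟩
    · rintro ⟨i, hi, h⟩
      by_cases e : i = n
      · subst e; exact Or.inr h
      · exact Or.inl ⟨i, by omega, h⟩

theorem valid_surj {c : ℕ} (h : valid c = true) {j : ℕ} (hj : j < 24) : ∃ i < 24, img c i = j := by
  unfold valid at h
  rw [Bool.and_eq_true, beq_iff_eq] at h
  rw [← testBit_imgMask, h.2]
  revert j; decide

/-- the map on points given by a code -/
def pmFun (c : ℕ) (p : GolayPt) : GolayPt := pt (img c (ix p))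

theorem pmFun_surj {c : ℕ} (h : valid c = true) : Function.Surjective (pmFun c) := by
  intro p
  obtain ⟨i, hi, e⟩ := valid_surj h (ix_lt p)
  exact ⟨pt i, by rw [pmFun, ix_pt hi, e, pt_ix]⟩

/-- the permutation of a code (the identity when the code is not valid) -/
noncomputable def pm (c : ℕ) : Equiv.Perm GolayPt :=
  if h : valid c = true then Equiv.ofBijective (pmFun c) (Finite.surjective_iff_bijective.1 (pmFun_surj h)) else 1

theorem pm_apply {c : ℕ} (h : valid c = true) (p : GolayPt) : pm c p = pt (img c (ix p)) := by
  rw [pm, dif_pos h]; rfl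

theorem ix_pm {c : ℕ} (h : valid c = true) (p : GolayPt) : ix (pm c p) = img c (ix p) := by
  rw [pm_apply h, ix_pt (valid_lt h (ix_lt p))]

theorem pm_pt {c : ℕ} (h : valid c = true) {i : ℕ} (hi : i < 24) : pm c (pt i) = pt (img c i) := by
  rw [pm_apply h, ix_pt hi]

/-- image of a mask under a permutation code, lowest `n` bits -/
def actAux (c m : ℕ) : ℕ → ℕ
  | 0 => 0
  | n + 1 => actAux c m n ||| (((m >>> n) &&& 1) <<< img c n)

/-- image of a mask under a permutation code -/
def act (c m : ℕ) : ℕ := actAux c m 24

theorem testBit_bit_shift (m n k j : ℕ) :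
    (((m >>> n) &&& 1) <<< k).testBit j = (decide (k = j) && m.testBit n) := by
  rw [Nat.testBit_shiftLeft]
  by_cases h : k = j
  · subst h
    simp only [ge_iff_le, le_refl, decide_true, Bool.true_and, Nat.sub_self]
    rw [Nat.testBit_and, Nat.testBit_shiftRight]
    simp
  · by_cases h2 : k ≤ j
    · have h3 : (1 : ℕ).testBit (j - k) = false := by
        have : j - k ≠ 0 := by omega
        cases hjk : j - k with
        | zero => omega
        | succ x => exact Nat.testBit_lt_two_pow (by
            calc 1 < 2 ^ 1 := by norm_num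
              _ ≤ 2 ^ (x + 1) := Nat.pow_le_pow_right (by norm_num) (by omega))
      rw [Nat.testBit_and, h3]
      simp [h]
    · simp [h, h2]

theorem testBit_actAux (c m n j : ℕ) :
    (actAux c m n).testBit j = true ↔ ∃ i < n, m.testBit i = true ∧ img c i = j := by
  induction n with
  | zero => simp [actAux]
  | succ n ih =>
    simp only [actAux, Nat.testBit_or, Bool.or_eq_true, ih, testBit_bit_shift, Bool.and_eq_true,
      decide_eq_true_eq]
    constructor
    · rintro (⟨i, hi, h1, h2⟩ | ⟨h1, h2⟩)
      · exact ⟨i, by omega, h1, h2⟩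
      · exact ⟨n, by omega, h2, h1⟩
    · rintro ⟨i, hi, h1, h2⟩
      by_cases e : i = n
      · subst e; exact Or.inr ⟨h2, h1⟩
      · exact Or.inl ⟨i, by omega, h1, h2⟩

theorem mem_smul_iff (g : Equiv.Perm GolayPt) (s : Finset GolayPt) (p : GolayPt) :
    p ∈ g • s ↔ g.symm p ∈ s := by
  rw [← Finset.inv_smul_mem_iff]
  rfl

theorem smul_mem_smul_iff' (g : Equiv.Perm GolayPt) (s : Finset GolayPt) (p : GolayPt) :
    g p ∈ g • s ↔ p ∈ s := by
  rw [mem_smul_iff, Equiv.symm_apply_apply]

theorem pm_smul_st {c : ℕ} (h : valid c = true) (m : ℕ) : pm c • st m = st (act c m) := by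
  ext p
  obtain ⟨q, rfl⟩ := (pm c).surjective p
  rw [smul_mem_smul_iff', mem_st, mem_st, act, testBit_actAux, ix_pm h]
  constructor
  · intro hq
    exact ⟨ix q, ix_lt q, hq, rfl⟩
  · rintro ⟨i, hi, h1, h2⟩
    have : pm c (pt i) = pm c q := by
      apply ix_inj
      rw [ix_pm h, ix_pm h, ix_pt hi, h2]
    have := (pm c).injective this
    rw [← this, ix_pt hi]; exact h1

theorem mk_smul {c : ℕ} (h : valid c = true) (s : Finset GolayPt) : mk (pm c • s) = act c (mk s) := by
  conv_lhs => rw [← st_mk s]
  rw [pm_smul_st h, mk_st]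
  refine Nat.lt_of_testBit 24 ?_ (by decide) ?_
  · by_contra hb
    rw [Bool.not_eq_false, act, testBit_actAux] at hb
    obtain ⟨i, hi, _, e⟩ := hb
    have := valid_lt h hi
    omega
  · intro j hj
    rw [Nat.testBit_two_pow_of_ne (by omega)]
    by_contra hb
    rw [Bool.not_eq_false, act, testBit_actAux] at hb
    obtain ⟨i, hi, _, e⟩ := hb
    have := valid_lt h hi
    omega

theorem smul_symmDiff (g : Equiv.Perm GolayPt) (s t : Finset GolayPt) :
    g • symmDiff s t = symmDiff (g • s) (g • t) := by
  ext p
  simp only [mem_smul_iff, Finset.mem_symmDiff]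

/-- a permutation maps every word to a word -/
theorem mem_M24_iff {g : Equiv.Perm GolayPt} : g ∈ M24 ↔ ∀ s, IsWord s → IsWord (g • s) := by
  have hset : supports (golayCode : Set (GolayPt → ZMod 2)) = {s | IsWord s} := by
    ext s; exact isWord_iff.symm
  unfold M24 setSystemAut
  rw [MulAction.mem_stabilizer_iff, hset]
  constructor
  · intro h s hs
    have : g • s ∈ g • {s | IsWord s} := Set.smul_mem_smul_set hs
    rw [h] at this; exact this
  · intro h
    have hsub : g • {s : Finset GolayPt | IsWord s} ⊆ {s | IsWord s} := by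
      rintro _ ⟨s, hs, rfl⟩
      exact h s hs
    apply Set.eq_of_subset_of_ncard_le hsub
    rw [Set.ncard_smul_set]

theorem IsWord.smul {g : Equiv.Perm GolayPt} (hg : g ∈ M24) {s : Finset GolayPt} (hs : IsWord s) :
    IsWord (g • s) := mem_M24_iff.1 hg s hs

theorem smul_mem_octads {g : Equiv.Perm GolayPt} (hg : g ∈ M24) {s : Finset GolayPt} (hs : s ∈ octads) :
    g • s ∈ octads := by
  rw [mem_octads] at *
  exact ⟨hs.1.smul hg, by rw [Finset.card_smul_finset]; exact hs.2⟩

theorem smul_mem_dodecads {g : Equiv.Perm GolayPt} (hg : g ∈ M24) {s : Finset GolayPt}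
    (hs : s ∈ dodecads) : g • s ∈ dodecads := by
  rw [mem_dodecads] at *
  exact ⟨hs.1.smul hg, by rw [Finset.card_smul_finset]; exact hs.2⟩

/-- test that a permutation code preserves the code -/
def pres (c : ℕ) : Bool := valid c && rows.all (fun r => inCode (act c r))

theorem pres_valid {c : ℕ} (h : pres c = true) : valid c = true := by
  unfold pres at h; rw [Bool.and_eq_true] at h; exact h.1

theorem isWord_comb (c : ℕ) : IsWord (st (comb c)) := (isWord_st (comb_lt c)).2 (inCode_comb c)

/-- induction principle for words: closed under symmetric difference and holding on the rows -/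
theorem word_induction {P : Finset GolayPt → Prop} (h0 : P ∅)
    (hadd : ∀ s t, P s → P t → P (symmDiff s t)) (hrow : ∀ i < 12, P (st (comb (2 ^ i))))
    {s : Finset GolayPt} (hs : IsWord s) : P s := by
  obtain ⟨c, hc, e⟩ := inCode_iff_exists.1 hs
  rw [← st_mk s, e]
  have key : ∀ n ≤ 12, P (st (comb (c % 2 ^ n))) := by
    intro n
    induction n with
    | zero =>
      intro _
      have : comb (c % 2 ^ 0) = 0 := by rw [pow_zero, Nat.mod_one]; decide +kernel
      rw [this, st_zero]; exact h0
    | succ n ih =>
      intro hn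
      have h1 : c % 2 ^ (n + 1) = (c % 2 ^ n) ^^^ (if c.testBit n then 2 ^ n else 0) := by
        apply Nat.eq_of_testBit_eq
        intro i
        by_cases hb : c.testBit n
        · rw [if_pos hb]
          simp only [Nat.testBit_mod_two_pow, Nat.testBit_xor, Nat.testBit_two_pow]
          by_cases hi : i = n
          · subst hi; simp [hb]
          · have h2 : (i < n + 1) ↔ (i < n) := by omega
            have h3 : ¬ n = i := fun h => hi h.symm
            simp [h2, h3]
        · rw [if_neg hb]
          simp only [Nat.testBit_mod_two_pow, Nat.testBit_xor]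
          by_cases hi : i = n
          · subst hi; simp [hb]
          · have h2 : (i < n + 1) ↔ (i < n) := by omega
            simp [h2]
      rw [h1, comb_xor, st_xor]
      refine hadd _ _ (ih (by omega)) ?_
      split_ifs
      · exact hrow n (by omega)
      · have : comb 0 = 0 := by decide +kernel
        rw [this, st_zero]; exact h0
  have := key 12 le_rfl
  rwa [Nat.mod_eq_of_lt (by simpa using hc)] at this

theorem rows_eq : ∀ i < 12, comb (2 ^ i) = rows.getD i 0 := by
  have h : ∀ i ∈ List.range 12, comb (2 ^ i) = rows.getD i 0 := by decide +kernel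
  exact fun i hi => h i (List.mem_range.2 hi)

theorem pm_mem_M24 {c : ℕ} (h : pres c = true) : pm c ∈ M24 := by
  rw [mem_M24_iff]
  intro s hs
  refine word_induction (P := fun s => IsWord (pm c • s)) ?_ ?_ ?_ hs
  · rw [Finset.smul_finset_empty, ← st_zero, isWord_st (by norm_num)]; exact inCode_zero
  · intro a b ha hb
    simp only [smul_symmDiff]
    exact ha.symmDiff hb
  · intro i hi
    have hv := pres_valid h
    unfold pres at h
    rw [Bool.and_eq_true, List.all_eq_true] at h
    show IsWord (pm c • st (comb (2 ^ i)))
    rw [pm_smul_st hv, rows_eq i hi]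
    have h2 := h.2 (rows.getD i 0) (by
      have h3 : ∀ i < 12, rows.getD i 0 ∈ rows := by decide
      exact h3 i hi)
    exact (isWord_st (inCode_lt h2)).2 h2

/-- composition of permutation codes, lowest `n` entries (first `d`, then `c`) -/
def compAux (c d : ℕ) : ℕ → ℕ
  | 0 => 0
  | n + 1 => compAux c d n ||| (img c (img d n) <<< (5 * n))

/-- composition of permutation codes (first `d`, then `c`) -/
def comp (c d : ℕ) : ℕ := compAux c d 24

theorem img_lt (c i : ℕ) : img c i < 32 := Nat.lt_of_le_of_lt Nat.and_le_right (by norm_num)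

theorem compAux_lt (c d n : ℕ) : compAux c d n < 2 ^ (5 * n) := by
  induction n with
  | zero => simp [compAux]
  | succ n ih =>
    simp only [compAux]
    apply Nat.or_lt_two_pow
    · exact lt_of_lt_of_le ih (Nat.pow_le_pow_right (by norm_num) (by omega))
    · rw [Nat.shiftLeft_eq]
      calc img c (img d n) * 2 ^ (5 * n) < 32 * 2 ^ (5 * n) :=
            Nat.mul_lt_mul_of_pos_right (img_lt _ _) (by positivity)
        _ = 2 ^ (5 * (n + 1)) := by rw [show 5 * (n + 1) = 5 + 5 * n by ring, pow_add]; norm_num

theorem img_compAux (c d : ℕ) : ∀ n i, i < n → img (compAux c d n) i = img c (img d i) := by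
  intro n
  induction n with
  | zero => intro i hi; omega
  | succ n ih =>
    intro i hi
    have hlt := compAux_lt c d n
    simp only [compAux]
    apply Nat.eq_of_testBit_eq
    intro j
    rw [img, Nat.testBit_and, Nat.testBit_shiftRight, Nat.testBit_or, Nat.testBit_shiftLeft]
    by_cases hin : i = n
    · subst hin
      have h1 : (compAux c d i).testBit (5 * i + j) = false :=
        Nat.testBit_lt_two_pow (lt_of_lt_of_le hlt (Nat.pow_le_pow_right (by norm_num) (by omega)))
      rw [h1]
      simp only [Bool.false_or, ge_iff_le, Nat.le_add_right, decide_true, Bool.true_and,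
        Nat.add_sub_cancel_left]
      by_cases hj : j < 5
      · have : Nat.testBit 31 j = true := by
          have h5 : ∀ j < 5, Nat.testBit 31 j = true := by decide
          exact h5 j hj
        rw [this, Bool.and_true]
      · have h2 : (img c (img d i)).testBit j = false :=
          Nat.testBit_lt_two_pow (lt_of_lt_of_le (img_lt _ _) (by
            calc 32 = 2 ^ 5 := by norm_num
              _ ≤ 2 ^ j := Nat.pow_le_pow_right (by norm_num) (by omega)))
        rw [h2, Bool.false_and]
    · have hlt' : i < n := by omega
      rw [← ih i hlt']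
      by_cases hj : j < 5
      · have : ¬ 5 * n ≤ 5 * i + j := by omega
        simp only [ge_iff_le, this, decide_false, Bool.false_and, Bool.or_false]
        rw [img, Nat.testBit_and, Nat.testBit_shiftRight]
      · have : Nat.testBit 31 j = false :=
          Nat.testBit_lt_two_pow (lt_of_lt_of_le (by norm_num : 31 < 2 ^ 5)
            (Nat.pow_le_pow_right (by norm_num) (by omega)))
        rw [this, Bool.and_false]
        symm
        rw [img, Nat.testBit_and, this, Bool.and_false]

theorem img_comp (c d : ℕ) {i : ℕ} (hi : i < 24) : img (comp c d) i = img c (img d i) :=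
  img_compAux c d 24 i hi

theorem valid_comp {c d : ℕ} (hc : valid c = true) (hd : valid d = true) : valid (comp c d) = true := by
  unfold valid
  rw [Bool.and_eq_true, List.all_eq_true, beq_iff_eq]
  constructor
  · intro i hi
    rw [List.mem_range] at hi
    rw [Nat.blt_eq, img_comp _ _ hi]
    exact valid_lt hc (valid_lt hd hi)
  · apply Nat.eq_of_testBit_eq
    intro j
    by_cases hj : j < 24
    · have h1 : Nat.testBit 0xffffff j = true := by revert j; decide
      rw [h1, testBit_imgMask]
      obtain ⟨k, hk, e⟩ := valid_surj hc hj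
      obtain ⟨i, hi, e'⟩ := valid_surj hd hk
      exact ⟨i, hi, by rw [img_comp _ _ hi, e', e]⟩
    · have h1 : Nat.testBit 0xffffff j = false :=
        Nat.testBit_lt_two_pow (lt_of_lt_of_le (by norm_num : 0xffffff < 2 ^ 24)
            (Nat.pow_le_pow_right (by norm_num) (by omega)))
      rw [h1]
      by_contra hb
      rw [Bool.not_eq_false, testBit_imgMask] at hb
      obtain ⟨i, hi, e⟩ := hb
      rw [img_comp _ _ hi] at e
      have := valid_lt hc (valid_lt hd hi)
      omega

theorem pm_comp {c d : ℕ} (hc : valid c = true) (hd : valid d = true) : pm (comp c d) = pm c * pm d := by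
  ext p : 1
  apply ix_inj
  rw [ix_pm (valid_comp hc hd), Equiv.Perm.mul_apply, ix_pm hc, ix_pm hd, img_comp _ _ (ix_lt p)]

/-- the code of the identity -/
def idc : ℕ := 0xbdab49ca307b9ac5a928398a418820

theorem valid_idc : valid idc = true := by decide +kernel

theorem pm_idc : pm idc = 1 := by
  have h : ∀ i ∈ List.range 24, img idc i = i := by decide +kernel
  ext p : 1
  apply ix_inj
  rw [ix_pm valid_idc, Equiv.Perm.one_apply]
  exact h _ (List.mem_range.2 (ix_lt p))

theorem pm_ext {c d : ℕ} (hc : valid c = true) (hd : valid d = true)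
    (h : (List.range 24).all (fun i => img c i == img d i) = true) : pm c = pm d := by
  rw [List.all_eq_true] at h
  ext p : 1
  apply ix_inj
  rw [ix_pm hc, ix_pm hd]
  exact beq_iff_eq.1 (h _ (List.mem_range.2 (ix_lt p)))

end Cfsg.Agent.Lib.Golay
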