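import Cfsg.Agent.Lib.Golay.Search
import Cfsg.Agent.Lib.Golay.Sets

/-!
Restriction homomorphisms to invariant finite sets.
-/

set_option autoImplicit false

namespace Cfsg.Agent.Lib.Golay

open scoped Pointwise
open Cfsg

section general

variable {G X : Type*} [Group G] [MulAction G X]

/-- action of a subgroup on an invariant finite set -/
def restrHom (H : Subgroup G) (E : Finset X) (hE : ∀ g ∈ H, ∀ x ∈ E, g • x ∈ E) : H →* Equiv.Perm E where
  toFun g := ⟨fun x => ⟨(g : G) • (x : X), hE g g.2 x x.2⟩,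
    fun x => ⟨(g : G)⁻¹ • (x : X), hE _ (H.inv_mem g.2) x x.2⟩,
    fun x => Subtype.ext (inv_smul_smul _ _), fun x => Subtype.ext (smul_inv_smul _ _)⟩
  map_one' := by
    ext x
    show ((1 : G) • (x : X)) = x
    rw [one_smul]
  map_mul' g h := by
    ext x
    show ((g : G) * (h : G)) • (x : X) = (g : G) • (h : G) • (x : X)
    rw [mul_smul]

theorem restrHom_apply (H : Subgroup G) (E : Finset X) (hE : ∀ g ∈ H, ∀ x ∈ E, g • x ∈ E) (g : H) (x : E) :
    ((restrHom H E hE g x : E) : X) = (g : G) • (x : X) := rfl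

theorem mem_ker_restrHom (H : Subgroup G) (E : Finset X) (hE : ∀ g ∈ H, ∀ x ∈ E, g • x ∈ E) (g : H) :
    g ∈ (restrHom H E hE).ker ↔ ∀ x ∈ E, (g : G) • x = x := by
  rw [MonoidHom.mem_ker]
  constructor
  · intro h x hx
    have := congrArg (fun e : Equiv.Perm E => ((e ⟨x, hx⟩ : E) : X)) h
    exact this
  · intro h
    ext x
    exact h x x.2

theorem card_eq_range_mul_ker {H K : Type*} [Group H] [Group K] (f : H →* K) :
    Nat.card H = Nat.card f.range * Nat.card f.ker := by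
  rw [← Subgroup.index_ker, mul_comm]
  exact (Subgroup.card_mul_index f.ker).symm

/-- the kernel of the restriction homomorphism as a set of elements of `G` -/
theorem card_ker_restrHom (H : Subgroup G) (E : Finset X) (hE : ∀ g ∈ H, ∀ x ∈ E, g • x ∈ E) :
    Nat.card (restrHom H E hE).ker = {g : G | g ∈ H ∧ ∀ x ∈ E, g • x = x}.ncard := by
  rw [← Nat.card_coe_set_eq]
  apply Nat.card_congr
  refine ⟨fun g => ⟨(g : H), (g : H).2, (mem_ker_restrHom H E hE _).1 g.2⟩,
    fun g => ⟨⟨g, g.2.1⟩, (mem_ker_restrHom H E hE _).2 g.2.2⟩, fun g => rfl, fun g => rfl⟩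

/-- surjectivity of the restriction by counting -/
theorem restrHom_surjective [Finite G] (H : Subgroup G) (E : Finset X) (hE : ∀ g ∈ H, ∀ x ∈ E, g • x ∈ E) {n k : ℕ}
    (hn : E.card = n) (hk : {g : G | g ∈ H ∧ ∀ x ∈ E, g • x = x}.ncard = k) (hkp : 0 < k)
    (hH : Nat.card H = n.factorial * k) : Function.Surjective (restrHom H E hE) := by
  rw [← MonoidHom.range_eq_top]
  apply Subgroup.eq_top_of_card_eq
  have h := card_eq_range_mul_ker (restrHom H E hE)
  rw [card_ker_restrHom, hk, hH] at h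
  have hc : Nat.card (Equiv.Perm E) = n.factorial := by
    rw [Nat.card_perm, Nat.card_eq_fintype_card, Fintype.card_coe, hn]
  rw [hc]
  exact (Nat.eq_of_mul_eq_mul_right hkp h).symm

/-- isomorphism with a symmetric group -/
theorem equiv_perm_of (H : Subgroup G) (E : Finset X) (hE : ∀ g ∈ H, ∀ x ∈ E, g • x ∈ E) {n : ℕ} (hn : E.card = n)
    (hinj : ∀ g ∈ H, (∀ x ∈ E, g • x = x) → g = 1) (hsurj : Function.Surjective (restrHom H E hE)) :
    Nonempty (H ≃* Equiv.Perm (Fin n)) := by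
  have h1 : Function.Injective (restrHom H E hE) := by
    rw [← MonoidHom.ker_eq_bot_iff, eq_bot_iff]
    intro g hg
    rw [mem_ker_restrHom] at hg
    exact Subgroup.mem_bot.2 (Subtype.ext (hinj g g.2 hg))
  exact ⟨(MulEquiv.ofBijective _ ⟨h1, hsurj⟩).trans (Equiv.permCongrHom (E.equivFinOfCardEq hn))⟩

end general

theorem fixes_iff_set {g : Equiv.Perm GolayPt} {E : Finset GolayPt} :
    (∀ x ∈ E, g • x = x) ↔ ∀ x ∈ E, g x = x := Iff.rfl

/-- pointwise stabilisers of sets containing the first five base points -/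
theorem ncard_fixes {F n : ℕ} (hF : bmask 5 &&& F = bmask 5) (hnd : (list48.filter (fun c => fixesB c F)).Nodup)
    (hlen : (list48.filter (fun c => fixesB c F)).length = n) : {g | g ∈ M24 ∧ Fixes g F}.ncard = n := by
  rw [← hlen]
  refine ncard_eq_length hnd (fun c hc => (list48_spec c (List.mem_filter.1 hc).1).2) ?_
  intro g
  rw [List.mem_filter]
  constructor
  · rintro ⟨h1, h2⟩
    have h5 : g ∈ chain 5 := by
      refine ⟨h1, fun p hp => h2 p ?_⟩
      rw [← hF, st_and, Finset.mem_inter] at hp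
      exact hp.2
    obtain ⟨c, hc, hcv, rfl⟩ := mem_chain5 h5
    rw [(list48_spec c hc).2]
    exact ⟨hc, (fixesB_iff hcv _).2 h2⟩
  · rintro ⟨h1, h2⟩
    have h3 := (fixesB_iff (valid_codeOf g) _).1 h2
    have h4 := list48_mem_chain _ h1
    rw [pm_codeOf] at h3 h4
    exact ⟨h4.1, h3⟩

/-- conjugation invariance of the number of elements fixing a set pointwise -/
theorem ncard_fix_conj {E : Finset GolayPt} {k : Equiv.Perm GolayPt} (hk : k ∈ M24) {F : ℕ} (h : k • E = st F) :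
    {g | g ∈ M24 ∧ ∀ p ∈ E, g p = p}.ncard = {g | g ∈ M24 ∧ Fixes g F}.ncard := by
  have : {g | g ∈ M24 ∧ Fixes g F} = (fun g => k * g * k⁻¹) '' {g | g ∈ M24 ∧ ∀ p ∈ E, g p = p} := by
    ext g
    constructor
    · rintro ⟨h1, h2⟩
      refine ⟨k⁻¹ * g * k, ⟨M24.mul_mem (M24.mul_mem (M24.inv_mem hk) h1) hk, ?_⟩, by group⟩
      intro p hp
      rw [Equiv.Perm.mul_apply, Equiv.Perm.mul_apply, h2 (k p)]
      · exact k.symm_apply_apply p
      · rw [← h]; exact (smul_mem_smul_iff' k E p).2 hp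
    · rintro ⟨x, ⟨h1, h2⟩, rfl⟩
      refine ⟨M24.mul_mem (M24.mul_mem hk h1) (M24.inv_mem hk), ?_⟩
      intro p hp
      rw [← h, mem_smul_iff] at hp
      rw [Equiv.Perm.mul_apply, Equiv.Perm.mul_apply]
      show k (x (k.symm p)) = p
      rw [h2 _ hp, Equiv.apply_symm_apply]
  rw [this, Set.ncard_image_of_injective]
  intro a b hab
  exact mul_left_cancel (mul_right_cancel hab)

/-- an enumeration of a set by a sequence -/
theorem exists_enum {E : Finset GolayPt} {n : ℕ} (hE : E.card = n) : ∃ x : ℕ → GolayPt, (∀ i < n, x i ∈ E) ∧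
    (∀ i < n, ∀ j < i, x j ≠ x i) ∧ ∀ p ∈ E, ∃ i < n, x i = p := by
  obtain ⟨x, hx1, hx2⟩ := exists_seq5 (s := E) (n := n) (by rw [hE])
  refine ⟨x, hx1, hx2, ?_⟩
  have h1 : (Finset.range n).image x ⊆ E := by
    intro p hp
    obtain ⟨i, hi, rfl⟩ := Finset.mem_image.1 hp
    exact hx1 i (Finset.mem_range.1 hi)
  have h2 : ((Finset.range n).image x).card = n := by
    rw [Finset.card_image_of_injOn, Finset.card_range]
    intro i hi j hj hij
    simp only [Finset.coe_range, Set.mem_Iio] at hi hj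
    by_contra hne
    rcases Nat.lt_or_gt_of_ne hne with h | h
    · exact hx2 j hj i h hij
    · exact hx2 i hi j h hij.symm
  have h3 := Finset.eq_of_subset_of_card_le h1 (by rw [h2, hE])
  intro p hp
  rw [← h3] at hp
  obtain ⟨i, hi, e⟩ := Finset.mem_image.1 hp
  exact ⟨i, Finset.mem_range.1 hi, e⟩

/-- every permutation of a six-element set is induced -/
theorem six_perm {E : Finset GolayPt} (hE : E.card = 6) (σ : Equiv.Perm E) : ∃ g ∈ M24, ∀ p : E, g p = σ p := by
  obtain ⟨x, hx1, hx2, hx3⟩ := exists_enum hE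
  let y : ℕ → GolayPt := fun i => if h : i < 6 then (σ ⟨x i, hx1 i h⟩ : GolayPt) else none
  have hy : ∀ i (h : i < 6), y i = σ ⟨x i, hx1 i h⟩ := fun i h => by simp only [y, h, dif_pos]
  have hy1 : ∀ i < 6, y i ∈ E := fun i hi => by rw [hy i hi]; exact (σ _).2
  have hy2 : ∀ i < 6, ∀ j < i, y j ≠ y i := by
    intro i hi j hj h
    rw [hy i hi, hy j (by omega)] at h
    have := congrArg Subtype.val (σ.injective (Subtype.ext h))
    exact hx2 i hi j hj this
  have hy3 : ∀ p ∈ E, ∃ i < 6, y i = p := by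
    intro p hp
    obtain ⟨i, hi, e⟩ := hx3 (σ.symm ⟨p, hp⟩) (σ.symm ⟨p, hp⟩).2
    refine ⟨i, hi, ?_⟩
    rw [hy i hi]
    have : (⟨x i, hx1 i hi⟩ : E) = σ.symm ⟨p, hp⟩ := Subtype.ext e
    rw [this, Equiv.apply_symm_apply]
  have hfin : ∀ g : Equiv.Perm GolayPt, (∀ i < 6, g (x i) = y i) → ∀ p : E, g p = σ p := by
    intro g hg p
    obtain ⟨i, hi, e⟩ := hx3 p p.2
    rw [← e, hg i hi, hy i hi]
    congr 2
    exact Subtype.ext e
  have h5x : ∀ i < 5, ∀ j < i, x j ≠ x i := fun i hi j hj => hx2 i (by omega) j hj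
  have h5y : ∀ i < 5, ∀ j < i, y j ≠ y i := fun i hi j hj => hy2 i (by omega) j hj
  by_cases ho : ∃ o ∈ octads, E ⊆ o
  · obtain ⟨o, ho, hEo⟩ := ho
    obtain ⟨g, hg, g1, g2, -⟩ := six_in h5x h5y ho ho (fun i hi => hEo (hx1 i (by omega)))
      (fun i hi => hEo (hy1 i (by omega))) (hEo (hx1 5 (by norm_num))) (hEo (hy1 5 (by norm_num)))
      (fun i hi => hx2 5 (by norm_num) i hi) (fun i hi => hy2 5 (by norm_num) i hi)
    refine ⟨g, hg, hfin g ?_⟩
    intro i hi
    by_cases h : i = 5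
    · subst h; exact g2
    · exact g1 i (by omega)
  · have hoct : ∀ z : ℕ → GolayPt, (∀ i < 6, z i ∈ E) → (∀ i < 6, ∀ j < i, z j ≠ z i) → (∀ p ∈ E, ∃ i < 6, z i = p) →
        ∃ o ∈ octads, (∀ i < 5, z i ∈ o) ∧ z 5 ∉ o := by
      intro z hz1 hz2 hz3
      have hc : ((Finset.range 5).image z).card = 5 := by
        rw [Finset.card_image_of_injOn, Finset.card_range]
        intro i hi j hj hij
        simp only [Finset.coe_range, Set.mem_Iio] at hi hj
        by_contra hne
        rcases Nat.lt_or_gt_of_ne hne with h | h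
        · exact hz2 j (by omega) i h hij
        · exact hz2 i (by omega) j h hij.symm
      have hS := (steiner.2 ((Finset.range 5).image z) hc)
      obtain ⟨o, ⟨ho1, ho2⟩, -⟩ := hS
      refine ⟨o, ho1, fun i hi => ho2 (Finset.mem_image_of_mem z (Finset.mem_range.2 hi)), ?_⟩
      intro h
      apply ho
      refine ⟨o, ho1, ?_⟩
      intro p hp
      obtain ⟨i, hi, rfl⟩ := hz3 p hp
      by_cases h5 : i = 5
      · subst h5; exact h
      · exact ho2 (Finset.mem_image_of_mem z (Finset.mem_range.2 (by omega)))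
    obtain ⟨o, ho1, ho2, ho3⟩ := hoct x hx1 hx2 hx3
    obtain ⟨o', ho1', ho2', ho3'⟩ := hoct y hy1 hy2 hy3
    obtain ⟨g, hg, g1, g2, -⟩ := six_out h5x h5y ho1 ho1' ho2 ho2' ho3 ho3'
    refine ⟨g, hg, hfin g ?_⟩
    intro i hi
    by_cases h : i = 5
    · subst h; exact g2
    · exact g1 i (by omega)

end Cfsg.Agent.Lib.Golay
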