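import Cfsg.Agent.Lib.Golay.Misc

/-!
Backtrack enumeration of subgroups (and other subsets) of the group of the length-24 code.
-/

set_option autoImplicit false

namespace Cfsg.Agent.Lib.Golay

open scoped Pointwise
open Cfsg

/-- backtrack search below the partial product `p`, with `n` levels to go -/
def srch (test : ℕ → Bool) (cut : ℕ → ℕ → Bool) : ℕ → ℕ → List ℕ
  | 0, p => if test p then [p] else []
  | n + 1, p => (tr (6 - n)).flatMap (fun a => let q := comp p a
      if cut (6 - n) (img q (bpt (6 - n))) then srch test cut n q else [])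

theorem chain_step {k : ℕ} (hk : k < 7) {g : Equiv.Perm GolayPt} (hg : g ∈ chain k) :
    ∃ a ∈ tr k, (pm a)⁻¹ * g ∈ chain (k + 1) := by
  have h1 := chain_maps_to hk hg
  rw [mem_st] at h1
  obtain ⟨a, ha, e⟩ := orbit_covered k hk _ (ix_lt _) h1
  have hav := pres_valid (trOK_spec (tr_ok k hk) ha).1
  have hac : pm a ∈ chain k := pm_mem_chain hk ha
  refine ⟨a, ha, ?_⟩
  rw [chain_succ hk, Subgroup.mem_inf, MulAction.mem_stabilizer_iff]
  refine ⟨Subgroup.mul_mem _ (Subgroup.inv_mem _ hac) hg, ?_⟩
  show (pm a).symm (g _) = _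
  rw [Equiv.symm_apply_eq, pm_pt hav (bpt_lt k hk), e, pt_ix]

theorem mem_srch {S : Set (Equiv.Perm GolayPt)} {test : ℕ → Bool} {cut : ℕ → ℕ → Bool}
    (htest : ∀ c, valid c = true → pm c ∈ S → test c = true)
    (hcut : ∀ g ∈ S, ∀ k < 7, cut k (ix (g (pt (bpt k)))) = true) :
    ∀ n ≤ 7, ∀ p, valid p = true → ∀ g ∈ S, (pm p)⁻¹ * g ∈ chain (7 - n) →
      ∃ c ∈ srch test cut n p, valid c = true ∧ pm c = g := by
  intro n
  induction n with
  | zero =>
    intro _ p hp g hg h
    rw [Nat.sub_zero, chain_seven, Subgroup.mem_bot, inv_mul_eq_one] at h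
    refine ⟨p, ?_, hp, h⟩
    unfold srch
    rw [if_pos (htest p hp (by rw [h]; exact hg))]
    exact List.mem_singleton.2 rfl
  | succ n ih =>
    intro hn p hp g hg h
    have e : 7 - (n + 1) = 6 - n := by omega
    rw [e] at h
    have hk : 6 - n < 7 := by omega
    obtain ⟨a, ha, h1⟩ := chain_step hk h
    have hav := pres_valid (trOK_spec (tr_ok _ hk) ha).1
    have e2 : 6 - n + 1 = 7 - n := by omega
    have h2 : (pm (comp p a))⁻¹ * g ∈ chain (7 - n) := by
      rw [← e2, pm_comp hp hav, mul_inv_rev, mul_assoc]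
      exact h1
    have hqv := valid_comp hp hav
    obtain ⟨c, hc, hcv, hcg⟩ := ih (by omega) (comp p a) hqv g hg h2
    refine ⟨c, ?_, hcv, hcg⟩
    unfold srch
    rw [List.mem_flatMap]
    refine ⟨a, ha, ?_⟩
    have h3 : cut (6 - n) (img (comp p a) (bpt (6 - n))) = true := by
      have h4 : g (pt (bpt (6 - n))) = pm (comp p a) (pt (bpt (6 - n))) := by
        have hb : ∀ k < 7, pt (bpt k) ∈ st (bmask (k + 1)) := by decide +kernel
        have h5 := h2.2 (pt (bpt (6 - n))) (by rw [← e2]; exact hb _ hk)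
        have h6 : g = pm (comp p a) * ((pm (comp p a))⁻¹ * g) := by group
        conv_lhs => rw [h6]
        rw [Equiv.Perm.mul_apply, h5]
      rw [← ix_pt (n := bpt (6 - n)) (bpt_lt _ hk), ← ix_pm hqv, ← h4]
      exact hcut g hg _ hk
    simp only [h3, if_true]
    exact hc

theorem srch_spec {test : ℕ → Bool} {cut : ℕ → ℕ → Bool} : ∀ n ≤ 7, ∀ p, valid p = true → pm p ∈ M24 →
    codeOf (pm p) = p → ∀ c ∈ srch test cut n p, valid c = true ∧ test c = true ∧ pm c ∈ M24 ∧ codeOf (pm c) = c := by
  intro n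
  induction n with
  | zero =>
    intro _ p hp hm hcan c hc
    unfold srch at hc
    split_ifs at hc with h
    · rw [List.mem_singleton] at hc
      rw [hc]; exact ⟨hp, h, hm, hcan⟩
    · exact absurd hc List.not_mem_nil
  | succ n ih =>
    intro hn p hp hm hcan c hc
    unfold srch at hc
    rw [List.mem_flatMap] at hc
    obtain ⟨a, ha, hc⟩ := hc
    have hk : 6 - n < 7 := by omega
    have hap := (trOK_spec (tr_ok _ hk) ha).1
    have hav := pres_valid hap
    dsimp only at hc
    split_ifs at hc with h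
    · exact ih (by omega) (comp p a) (valid_comp hp hav)
        (by rw [pm_comp hp hav]; exact M24.mul_mem hm (pm_mem_M24 hap)) (codeOf_pm_comp hp hav) c hc
    · exact absurd hc List.not_mem_nil

theorem codeOf_idc : codeOf (pm idc) = idc := by
  have : idc = comp idc idc := by decide +kernel
  rw [this, codeOf_pm_comp valid_idc valid_idc]

/-- all elements of a set `S ⊆ M24` are found by the search -/
theorem mem_srch_iff {S : Set (Equiv.Perm GolayPt)} (hS : ∀ g ∈ S, g ∈ M24) {test : ℕ → Bool} {cut : ℕ → ℕ → Bool}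
    (htest : ∀ c, valid c = true → pm c ∈ M24 → (pm c ∈ S ↔ test c = true))
    (hcut : ∀ g ∈ S, ∀ k < 7, cut k (ix (g (pt (bpt k)))) = true) (g : Equiv.Perm GolayPt) :
    g ∈ S ↔ codeOf g ∈ srch test cut 7 idc := by
  constructor
  · intro hg
    obtain ⟨c, hc, hcv, rfl⟩ := mem_srch (S := S) (test := test) (cut := cut)
      (fun c hc h => (htest c hc (hS _ h)).1 h) hcut 7 le_rfl idc valid_idc g hg (by
        rw [pm_idc, inv_one, one_mul]; show g ∈ chain 0; rw [chain_zero]; exact hS g hg)
    have h1 := srch_spec (test := test) (cut := cut) 7 le_rfl idc valid_idc (by rw [pm_idc]; exact M24.one_mem)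
      codeOf_idc c hc
    rw [h1.2.2.2]; exact hc
  · intro h
    have h1 := srch_spec (test := test) (cut := cut) 7 le_rfl idc valid_idc (by rw [pm_idc]; exact M24.one_mem)
      codeOf_idc _ h
    have h2 := (htest _ h1.1 h1.2.2.1).2 h1.2.1
    rw [pm_codeOf] at h2
    exact h2

theorem srch_can {test : ℕ → Bool} {cut : ℕ → ℕ → Bool} : ∀ c ∈ srch test cut 7 idc, codeOf (pm c) = c :=
  fun c hc => (srch_spec (test := test) (cut := cut) 7 le_rfl idc valid_idc (by rw [pm_idc]; exact M24.one_mem)
      codeOf_idc c hc).2.2.2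

theorem srch_valid {test : ℕ → Bool} {cut : ℕ → ℕ → Bool} : ∀ c ∈ srch test cut 7 idc, valid c = true :=
  fun c hc => (srch_spec (test := test) (cut := cut) 7 le_rfl idc valid_idc (by rw [pm_idc]; exact M24.one_mem)
      codeOf_idc c hc).1

theorem ncard_srch {S : Set (Equiv.Perm GolayPt)} (hS : ∀ g ∈ S, g ∈ M24) {test : ℕ → Bool} {cut : ℕ → ℕ → Bool}
    (htest : ∀ c, valid c = true → pm c ∈ M24 → (pm c ∈ S ↔ test c = true))
    (hcut : ∀ g ∈ S, ∀ k < 7, cut k (ix (g (pt (bpt k)))) = true) (hnd : (srch test cut 7 idc).Nodup) :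
    S.ncard = (srch test cut 7 idc).length :=
  ncard_eq_length hnd srch_can (fun g => mem_srch_iff hS htest hcut g)

/-- the cut for prescribed images of the first four base points: a list of allowed images for each -/
def cutL (l : List (List ℕ)) (k i : ℕ) : Bool := match l[k]? with
  | some a => a.contains i
  | none => true

theorem commute_pm {c d : ℕ} (hc : valid c = true) (hd : valid d = true) :
    pm c * pm d = pm d * pm c ↔ comp c d = comp d c := by
  rw [← pm_comp hc hd, ← pm_comp hd hc]
  constructor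
  · intro h
    rw [← codeOf_pm_comp hc hd, ← codeOf_pm_comp hd hc, h]
  · intro h; rw [h]

theorem pm_mul_eq {a b c d : ℕ} (ha : valid a = true) (hb : valid b = true) (hc : valid c = true) (hd : valid d = true) :
    pm a * pm b = pm c * pm d ↔ comp a b = comp c d := by
  rw [← pm_comp ha hb, ← pm_comp hc hd]
  constructor
  · intro h
    rw [← codeOf_pm_comp ha hb, ← codeOf_pm_comp hc hd, h]
  · intro h; rw [h]

end Cfsg.Agent.Lib.Golay
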