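import Cfsg.Agent.Lib.Golay.OrbUse
import Cfsg.Agent.Lib.Golay.Restr
import Cfsg.Agent.Lib.Golay.Elem

/-!
Structure of the stabiliser of a sextet.
-/

set_option autoImplicit false

namespace Cfsg.Agent.Lib.Golay

open scoped Pointwise
open Cfsg Finset

/-- elements fixing every tetrad of a sextet -/
def KS (S : Finset (Finset GolayPt)) : Set (Equiv.Perm GolayPt) := {g | g ∈ M24 ∧ ∀ t ∈ S, g • t = t}

/-- test for `KS` -/
def testK (c : ℕ) : Bool := sx0.all (fun t => act c t == t)

/-- the list for `KS` of the standard sextet -/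
def listK : List ℕ := srch testK (cutL [[23, 0, 1, 2], [23, 0, 1, 2], [23, 0, 1, 2], [23, 0, 1, 2], [3, 5, 14, 17],
  [4, 13, 16, 22], [3, 5, 14, 17]]) 7 idc

theorem mem_fs {l : List ℕ} {s : Finset GolayPt} : s ∈ fs l ↔ ∃ m ∈ l, st m = s := by
  unfold fs; simp

theorem sx0_lt : ∀ t ∈ sx0, t < 2 ^ 24 := by decide

theorem testK_iff {c : ℕ} (hc : valid c = true) : testK c = true ↔ ∀ t ∈ fs sx0, pm c • t = t := by
  unfold testK
  rw [List.all_eq_true]
  constructor
  · intro h t ht
    obtain ⟨m, hm, rfl⟩ := mem_fs.1 ht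
    have := h m hm
    rw [beq_iff_eq] at this
    rw [pm_smul_st hc, this]
  · intro h t ht
    have := h _ (mem_fs.2 ⟨t, ht, rfl⟩)
    rw [pm_smul_st hc] at this
    rw [beq_iff_eq]
    exact st_inj (act_lt hc _) (sx0_lt t ht) this

theorem mem_KS0 (g : Equiv.Perm GolayPt) : g ∈ KS (fs sx0) ↔ codeOf g ∈ listK := by
  apply mem_srch_iff (fun g hg => hg.1)
  · intro c hc hm
    rw [testK_iff hc]
    exact ⟨fun h => h.2, fun h => ⟨hm, h⟩⟩
  · rintro g ⟨hg, h⟩ k hk
    have key : ∀ t ∈ sx0, ∀ p : GolayPt, p ∈ st t → g p ∈ st t := by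
      intro t ht p hp
      have h1 := (smul_mem_smul_iff' g (st t) p).2 hp
      rw [h _ (mem_fs.2 ⟨t, ht, rfl⟩)] at h1
      exact h1
    have k1 : ∀ p : GolayPt, p ∈ st 0x800007 → [23, 0, 1, 2].contains (ix p) = true := by decide +kernel
    have k2 : ∀ p : GolayPt, p ∈ st 0x24028 → [3, 5, 14, 17].contains (ix p) = true := by decide +kernel
    have k3 : ∀ p : GolayPt, p ∈ st 0x412010 → [4, 13, 16, 22].contains (ix p) = true := by decide +kernel
    interval_cases k
    · exact k1 _ (key 0x800007 (by decide) _ (by decide +kernel))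
    · exact k1 _ (key 0x800007 (by decide) _ (by decide +kernel))
    · exact k1 _ (key 0x800007 (by decide) _ (by decide +kernel))
    · exact k1 _ (key 0x800007 (by decide) _ (by decide +kernel))
    · exact k2 _ (key 0x24028 (by decide) _ (by decide +kernel))
    · exact k3 _ (key 0x412010 (by decide) _ (by decide +kernel))
    · exact k2 _ (key 0x24028 (by decide) _ (by decide +kernel))

theorem listK_data : listK.Nodup ∧ listK.length = 192 := by decide +kernel

theorem listN_data : (listK.filter (fun c => comp c c == idc)).Nodup ∧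
    (listK.filter (fun c => comp c c == idc)).length = 64 ∧
    (listK.filter (fun c => comp c c == idc)).all (fun a => (listK.filter (fun c => comp c c == idc)).all
      (fun b => comp (comp a b) (comp a b) == idc)) = true := by decide +kernel

theorem ncard_KS0 : (KS (fs sx0)).ncard = 192 := by
  rw [← listK_data.2]
  exact ncard_eq_length listK_data.1 srch_can mem_KS0

/-- elements of `KS` of square one -/
def NS (S : Finset (Finset GolayPt)) : Set (Equiv.Perm GolayPt) := {g | g ∈ KS S ∧ g * g = 1}

theorem mem_NS0 (g : Equiv.Perm GolayPt) : g ∈ NS (fs sx0) ↔ codeOf g ∈ listK.filter (fun c => comp c c == idc) := by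
  rw [List.mem_filter, beq_iff_eq, ← sq_iff (valid_codeOf g), ← mem_KS0, pm_codeOf]
  rfl

end Cfsg.Agent.Lib.Golay
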