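import Cfsg.Agent.Lib.Golay.SextetStruct

/-!
Structure of the stabiliser of a sextet: general sextets.
-/

set_option autoImplicit false

namespace Cfsg.Agent.Lib.Golay

open scoped Pointwise
open Cfsg Finset

theorem NS0_mul {g h : Equiv.Perm GolayPt} (hg : g ∈ NS (fs sx0)) (hh : h ∈ NS (fs sx0)) : g * h ∈ NS (fs sx0) := by
  refine ⟨⟨M24.mul_mem hg.1.1 hh.1.1, fun t ht => by rw [mul_smul, hh.1.2 t ht, hg.1.2 t ht]⟩, ?_⟩
  have h1 := listN_data.2.2
  rw [List.all_eq_true] at h1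
  have h2 := h1 _ ((mem_NS0 g).1 hg)
  rw [List.all_eq_true] at h2
  have h3 := h2 _ ((mem_NS0 h).1 hh)
  rw [beq_iff_eq, ← sq_iff (valid_comp (valid_codeOf g) (valid_codeOf h)), pm_comp (valid_codeOf g) (valid_codeOf h),
    pm_codeOf, pm_codeOf] at h3
  exact h3

theorem ncard_NS0 : (NS (fs sx0)).ncard = 64 := by
  rw [← listN_data.2.1]
  exact ncard_eq_length listN_data.1 (fun c hc => srch_can c (List.mem_filter.1 hc).1) mem_NS0

theorem KS_conj {S : Finset (Finset GolayPt)} {k : Equiv.Perm GolayPt} (hk : k ∈ M24) {g : Equiv.Perm GolayPt} :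
    k * g * k⁻¹ ∈ KS (k • S) ↔ g ∈ KS S := by
  constructor
  · rintro ⟨h1, h2⟩
    refine ⟨?_, ?_⟩
    · have : g = k⁻¹ * (k * g * k⁻¹) * k := by group
      rw [this]; exact M24.mul_mem (M24.mul_mem (M24.inv_mem hk) h1) hk
    · intro t ht
      have := h2 (k • t) (smul_mem_smul_finset ht)
      rw [mul_smul, mul_smul, inv_smul_smul] at this
      exact smul_left_cancel _ this
  · rintro ⟨h1, h2⟩
    refine ⟨M24.mul_mem (M24.mul_mem hk h1) (M24.inv_mem hk), ?_⟩
    intro t ht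
    obtain ⟨u, hu, rfl⟩ := mem_smul_finset.1 ht
    rw [mul_smul, mul_smul, inv_smul_smul, h2 u hu]

theorem NS_conj {S : Finset (Finset GolayPt)} {k : Equiv.Perm GolayPt} (hk : k ∈ M24) {g : Equiv.Perm GolayPt} :
    k * g * k⁻¹ ∈ NS (k • S) ↔ g ∈ NS S := by
  unfold NS
  rw [Set.mem_setOf_eq, Set.mem_setOf_eq, KS_conj hk]
  apply and_congr_right
  intro _
  have e : k * g * k⁻¹ * (k * g * k⁻¹) = k * (g * g) * k⁻¹ := by group
  rw [e]
  constructor
  · intro h
    have : g * g = k⁻¹ * (k * (g * g) * k⁻¹) * k := by group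
    rw [this, h]; group
  · intro h; rw [h]; group

theorem ncard_conj {A B : Set (Equiv.Perm GolayPt)} {k : Equiv.Perm GolayPt} (h : ∀ g, k * g * k⁻¹ ∈ B ↔ g ∈ A) :
    B.ncard = A.ncard := by
  have : B = (fun g => k * g * k⁻¹) '' A := by
    ext g
    constructor
    · intro hg
      refine ⟨k⁻¹ * g * k, ?_, by group⟩
      rw [← h]
      have : k * (k⁻¹ * g * k) * k⁻¹ = g := by group
      rw [this]; exact hg
    · rintro ⟨x, hx, rfl⟩; exact (h x).2 hx
  rw [this, Set.ncard_image_of_injective]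
  intro a b hab
  exact mul_left_cancel (mul_right_cancel hab)

theorem ncard_KS {S : Finset (Finset GolayPt)} (hS : S ∈ sextets) : (KS S).ncard = 192 := by
  obtain ⟨k, hk, rfl⟩ := sextets_std hS
  rw [ncard_conj (fun g => KS_conj hk), ncard_KS0]

theorem ncard_NS {S : Finset (Finset GolayPt)} (hS : S ∈ sextets) : (NS S).ncard = 64 := by
  obtain ⟨k, hk, rfl⟩ := sextets_std hS
  rw [ncard_conj (fun g => NS_conj hk), ncard_NS0]

theorem NS_mul {S : Finset (Finset GolayPt)} (hS : S ∈ sextets) {g h : Equiv.Perm GolayPt} (hg : g ∈ NS S)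
    (hh : h ∈ NS S) : g * h ∈ NS S := by
  obtain ⟨k, hk, rfl⟩ := sextets_std hS
  have h1 : ∀ x, x ∈ NS (k • fs sx0) → k⁻¹ * x * k ∈ NS (fs sx0) := by
    intro x hx
    rw [← NS_conj hk]
    have : k * (k⁻¹ * x * k) * k⁻¹ = x := by group
    rw [this]; exact hx
  have h2 := NS0_mul (h1 g hg) (h1 h hh)
  rw [← NS_conj hk] at h2
  have : k * (k⁻¹ * g * k * (k⁻¹ * h * k)) * k⁻¹ = g * h := by group
  rw [this] at h2
  exact h2

theorem card_stab_sextet {S : Finset (Finset GolayPt)} (hS : S ∈ sextets) :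
    Nat.card ↥(MulAction.stabilizer M24 S) = 138240 := by
  have h := card_eq_orbit_mul M24 S
  rw [orbit_sextet hS, ncard_sextets, card_M24] at h
  rw [card_inf_stab]
  omega

/-- the stabiliser of a sextet induces all permutations of its tetrads -/
theorem sextet_perm {S : Finset (Finset GolayPt)} (hS : S ∈ sextets) (e : Equiv.Perm ↥S) :
    ∃ g ∈ MulAction.stabilizer M24 S, ∀ t : ↥S, (g : Equiv.Perm GolayPt) • (t : Finset GolayPt) =
      ((e t : ↥S) : Finset GolayPt) := by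
  have hinv : ∀ g ∈ MulAction.stabilizer M24 S, ∀ t ∈ S, g • t ∈ S := by
    intro g hg t ht
    have h1 : g • S = S := hg
    rw [← h1]; exact smul_mem_smul_finset ht
  have hs := restrHom_surjective (MulAction.stabilizer M24 S) S hinv (n := 6) (k := 192) hS.1 (by
    rw [← ncard_KS hS]
    apply Set.ncard_congr (fun (g : M24) _ => (g : Equiv.Perm GolayPt))
    · rintro g ⟨h1, h2⟩
      exact ⟨g.2, h2⟩
    · intro a b _ _ h; exact Subtype.ext h
    · rintro g ⟨h1, h2⟩
      refine ⟨⟨g, h1⟩, ⟨?_, h2⟩, rfl⟩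
      show (⟨g, h1⟩ : M24) • S = S
      apply Finset.eq_of_subset_of_card_le
      · intro t ht
        obtain ⟨u, hu, rfl⟩ := mem_smul_finset.1 ht
        have : (⟨g, h1⟩ : M24) • u = u := h2 u hu
        rw [this]; exact hu
      · rw [card_smul_finset]) (by norm_num) (by rw [card_stab_sextet hS]; decide)
  obtain ⟨g, hg⟩ := hs e
  refine ⟨g, g.2, fun t => ?_⟩
  rw [← hg]
  rfl

end Cfsg.Agent.Lib.Golay
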