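import Cfsg.Agent.Lib.Golay.Trans

/-!
Stabilisers in the group of the length-24 code: translation between subgroups of `M24` and of the symmetric group,
orders of stabilisers of few points and of an octad.
-/

set_option autoImplicit false

namespace Cfsg.Agent.Lib.Golay

open scoped Pointwise
open Cfsg

section General

variable {G : Type*} [Group G]

theorem card_subgroupOf (H K : Subgroup G) : Nat.card ↥(K.subgroupOf H) = Nat.card ↥(H ⊓ K) := by
  refine Nat.card_congr ⟨fun g => ⟨(g : H), (g : H).2, Subgroup.mem_subgroupOf.1 g.2⟩,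
    fun g => ⟨⟨(g : G), g.2.1⟩, Subgroup.mem_subgroupOf.2 g.2.2⟩, ?_, ?_⟩
  · intro g; rfl
  · intro g; rfl

/-- the subgroup `K.subgroupOf H` is isomorphic to the intersection -/
def subgroupOfEquivInf (H K : Subgroup G) : ↥(K.subgroupOf H) ≃* ↥(H ⊓ K) where
  toFun g := ⟨(g : H), (g : H).2, Subgroup.mem_subgroupOf.1 g.2⟩
  invFun g := ⟨⟨(g : G), g.2.1⟩, Subgroup.mem_subgroupOf.2 g.2.2⟩
  left_inv _ := rfl
  right_inv _ := rfl
  map_mul' _ _ := rfl

theorem stabilizer_subgroup_eq {X : Type*} [MulAction G X] (H : Subgroup G) (x : X) :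
    MulAction.stabilizer H x = (MulAction.stabilizer G x).subgroupOf H := by
  ext g; rfl

theorem subgroupOf_inf (H K L : Subgroup G) : K.subgroupOf H ⊓ L.subgroupOf H = (K ⊓ L).subgroupOf H := by
  ext g; rfl

theorem orbit_eq_of_forall {X : Type*} [MulAction G X] (H : Subgroup G) (x : X) (S : Set X)
    (h1 : ∀ g ∈ H, g • x ∈ S) (h2 : ∀ y ∈ S, ∃ g ∈ H, g • x = y) : MulAction.orbit H x = S := by
  ext y
  constructor
  · rintro ⟨g, rfl⟩; exact h1 g g.2
  · intro hy
    obtain ⟨g, hg, rfl⟩ := h2 y hy
    exact ⟨⟨g, hg⟩, rfl⟩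

end General

theorem card_M24_stab_octad {o : Finset GolayPt} (ho : o ∈ octads) :
    Nat.card ↥(M24 ⊓ MulAction.stabilizer (Equiv.Perm GolayPt) o) = 322560 := by
  have h := card_eq_orbit_mul M24 o
  rw [orbit_eq_of_forall M24 o octads (fun g hg => smul_mem_octads hg ho)
    (fun y hy => octads_transitive ho hy), octads_ncard, card_M24] at h
  omega

/-- pointwise stabilisers of at most five points -/
theorem exists_map_fix {n : ℕ} (hn : n < 5) (x : ℕ → GolayPt) (hx : ∀ i < n, ∀ j < i, x j ≠ x i)
    {a b : GolayPt} (ha : ∀ i < n, x i ≠ a) (hb : ∀ i < n, x i ≠ b) :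
    ∃ g ∈ M24, (∀ i < n, g (x i) = x i) ∧ g a = b := by
  -- extend the sequences to five points
  have hext : ∀ c : GolayPt, (∀ i < n, x i ≠ c) → ∃ y : ℕ → GolayPt, (∀ i < n, y i = x i) ∧ y n = c ∧
      ∀ i < 5, ∀ j < i, y j ≠ y i := by
    intro c hc
    let s : Finset GolayPt := (insert c ((Finset.range n).image x))ᶜ
    have hs : 5 ≤ s.card := by
      have h1 : (insert c ((Finset.range n).image x)).card ≤ 5 := by
        refine le_trans (Finset.card_insert_le _ _) ?_
        have := Finset.card_image_le (s := Finset.range n) (f := x)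
        rw [Finset.card_range] at this
        omega
      rw [Finset.card_compl, card_golayPt]
      omega
    obtain ⟨z, hz1, hz2⟩ := exists_seq5 hs
    refine ⟨fun i => if i < n then x i else if i = n then c else z i, ?_, ?_, ?_⟩
    · intro i hi; simp [hi]
    · simp
    · intro i hi j hj
      have hzi : ∀ i < 5, z i ≠ c ∧ ∀ k < n, x k ≠ z i := by
        intro i hi
        have := hz1 i hi
        rw [Finset.mem_compl, Finset.mem_insert, not_or] at this
        refine ⟨this.1, fun k hk e => this.2 ?_⟩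
        rw [← e]
        exact Finset.mem_image_of_mem x (Finset.mem_range.2 hk)
      simp only
      split_ifs with h1 h2 h3 h4 h5 h6
      all_goals first
        | omega
        | exact hx i (by omega) j hj
        | exact hc j (by omega)
        | exact (hzi i hi).2 j (by omega)
        | exact (hzi i hi).1.symm
        | exact hz2 i hi j hj
  obtain ⟨y, hy1, hy2, hy3⟩ := hext a ha
  obtain ⟨z, hz1, hz2, hz3⟩ := hext b hb
  obtain ⟨g, hg, h⟩ := exists_map_seq5 y z hy3 hz3
  refine ⟨g, hg, ?_, ?_⟩
  · intro i hi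
    have := h i (by omega)
    rw [hy1 i hi, hz1 i hi] at this; exact this
  · have := h n hn
    rw [hy2, hz2] at this; exact this

theorem card_M24_stab1 (p : GolayPt) :
    Nat.card ↥(M24 ⊓ MulAction.stabilizer (Equiv.Perm GolayPt) p) = 10200960 := by
  have h := card_eq_orbit_mul M24 p
  have h24 : (Set.univ : Set GolayPt).ncard = 24 := by
    rw [Set.ncard_univ, Nat.card_eq_fintype_card, card_golayPt]
  rw [orbit_eq_of_forall M24 p Set.univ (fun g hg => Set.mem_univ _) (fun y _ => by
    obtain ⟨g, hg, _, h⟩ := exists_map_fix (n := 0) (by norm_num) (fun _ => p) (by simp) (a := p) (b := y)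
      (by simp) (by simp)
    exact ⟨g, hg, h⟩), h24, card_M24] at h
  omega

theorem card_M24_stab2 {p q : GolayPt} (hpq : p ≠ q) :
    Nat.card ↥(M24 ⊓ MulAction.stabilizer (Equiv.Perm GolayPt) p ⊓
      MulAction.stabilizer (Equiv.Perm GolayPt) q) = 443520 := by
  have h := card_eq_orbit_mul (M24 ⊓ MulAction.stabilizer (Equiv.Perm GolayPt) p) q
  have h23 : ({p}ᶜ : Set GolayPt).ncard = 23 := by
    rw [Set.ncard_compl, Set.ncard_singleton, Nat.card_eq_fintype_card, card_golayPt]
  rw [orbit_eq_of_forall _ q {p}ᶜ (fun g hg => by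
      intro h
      rw [Set.mem_singleton_iff] at h
      have h1 : g p = p := hg.2
      exact hpq (g.injective (h1.trans h.symm)))
    (fun y hy => by
      obtain ⟨g, hg, h1, h⟩ := exists_map_fix (n := 1) (by norm_num) (fun _ => p) (by
          intro i hi j hj; omega) (a := q) (b := y)
        (fun i _ => hpq) (fun i _ => fun h => hy (by rw [h]; rfl))
      exact ⟨g, ⟨hg, h1 0 (by norm_num)⟩, h⟩), h23, card_M24_stab1] at h
  omega

end Cfsg.Agent.Lib.Golay
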